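import Cfsg.Agent.Perm.BurnsideMinimal
import Mathlib.GroupTheory.Perm.Sign
import Mathlib.GroupTheory.Sylow

/-!
Doubly transitive groups of degree `2` modulo `4`: the minimal normal subgroup is simple and
doubly transitive.
-/

set_option autoImplicit false

namespace CfsgLib.DegTwoModFour

open MulAction

section Small

variable {G : Type*} [Group G] [Finite G]

/-- Sylow conjugacy inside a subgroup, in the ambient group. -/
theorem exists_conj (p : ℕ) [Fact p.Prime] {H P Q : Subgroup G} (hP : P ≤ H) (hQ : Q ≤ H)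
    (cP : Nat.card P = p ^ (Nat.card H).factorization p)
    (cQ : Nat.card Q = p ^ (Nat.card H).factorization p) :
    ∃ h ∈ H, P.map (MulAut.conj h).toMonoidHom = Q := by
  let P' : Sylow p H := Sylow.ofCard (P.subgroupOf H) (by
    rw [Nat.card_congr (Subgroup.subgroupOfEquivOfLe hP).toEquiv]; exact cP)
  let Q' : Sylow p H := Sylow.ofCard (Q.subgroupOf H) (by
    rw [Nat.card_congr (Subgroup.subgroupOfEquivOfLe hQ).toEquiv]; exact cQ)
  obtain ⟨h, hh⟩ := MulAction.exists_smul_eq H P' Q'
  refine ⟨h, h.2, ?_⟩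
  have h1 : (Q' : Subgroup H).map H.subtype = Q := by
    rw [show (Q' : Subgroup H) = Q.subgroupOf H from Sylow.coe_ofCard _ _,
      Subgroup.map_subgroupOf_eq_of_le hQ]
  rw [← h1, ← hh,
    show (↑(h • P') : Subgroup H) = (P' : Subgroup H).map (MulAut.conj h).toMonoidHom from rfl,
    show (P' : Subgroup H) = P.subgroupOf H from Sylow.coe_ofCard _ _, Subgroup.map_map,
    show H.subtype.comp (MulAut.conj h).toMonoidHom =
      (MulAut.conj (h : G)).toMonoidHom.comp H.subtype from rfl,
    ← Subgroup.map_map, Subgroup.map_subgroupOf_eq_of_le hP]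

/-- A group of order twice an odd number: the elements of odd order form a subgroup of index 2. -/
theorem exists_odd_subgroup {Y : Type*} [Group Y] [Finite Y] (h2 : 2 ∣ Nat.card Y)
    (h4 : ¬ 4 ∣ Nat.card Y) :
    ∃ O : Subgroup Y, O.index = 2 ∧ Odd (Nat.card O) ∧ ∀ y, y ∈ O ↔ Odd (orderOf y) := by
  classical
  cases nonempty_fintype Y
  have : Fact (Nat.Prime 2) := ⟨Nat.prime_two⟩
  obtain ⟨u, hu⟩ := exists_prime_orderOf_dvd_card' 2 h2
  let φ : Y →* ℤˣ := Equiv.Perm.sign.comp (MulAction.toPermHom Y Y)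
  have hu1 : φ u = -1 := by
    have hu2 : u * u = 1 := by rw [← pow_two, ← hu, pow_orderOf_eq_one]
    have huf : ∀ y : Y, u * y ≠ y := fun y h => by
      rw [mul_eq_right.1 h, orderOf_one] at hu; omega
    let σ : Equiv.Perm Y := MulAction.toPermHom Y Y u
    have hσ2 : σ ^ 2 = 1 := by
      rw [← map_pow, pow_two, hu2, map_one]
    have hsupp : σ.support = Finset.univ := by
      ext y; simp only [Equiv.Perm.mem_support, Finset.mem_univ, iff_true]; exact huf y
    have hσ1 : σ ≠ 1 := fun h => huf 1 (by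
      have := Equiv.congr_fun h 1
      exact this)
    have hall : ∀ n ∈ σ.cycleType, n = 2 := fun n hn => by
      have h1 := Equiv.Perm.dvd_of_mem_cycleType hn
      have h2' : orderOf σ = 2 := orderOf_eq_prime hσ2 hσ1
      rw [h2'] at h1
      have := Equiv.Perm.two_le_of_mem_cycleType hn
      have := Nat.le_of_dvd two_pos h1
      omega
    have hsum : σ.cycleType.sum = Nat.card Y := by
      rw [Equiv.Perm.sum_cycleType, hsupp, Finset.card_univ, Nat.card_eq_fintype_card]
    have hrep := Multiset.eq_replicate_card.2 hall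
    rw [hrep, Multiset.sum_replicate, smul_eq_mul] at hsum
    show Equiv.Perm.sign σ = -1
    rw [Equiv.Perm.sign_of_cycleType, hrep, Multiset.sum_replicate, Multiset.card_replicate,
      smul_eq_mul]
    apply Odd.neg_one_pow
    obtain ⟨k, hk⟩ : Odd (Multiset.card σ.cycleType) := by
      rcases Nat.even_or_odd (Multiset.card σ.cycleType) with ⟨k, hk⟩ | h
      · exact absurd ⟨k, by omega⟩ h4
      · exact h
    exact ⟨Multiset.card σ.cycleType + k, by omega⟩
  have hodd : ∀ y, Odd (orderOf y) → φ y = 1 := fun y ⟨k, hk⟩ => by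
    have h1 : φ y ^ orderOf y = 1 := by rw [← map_pow, pow_orderOf_eq_one, map_one]
    rcases Int.units_eq_one_or (φ y) with h | h
    · exact h
    · rw [h, Odd.neg_one_pow ⟨k, hk⟩] at h1
      exact h.trans h1
  have hidx : φ.ker.index = 2 := by
    rw [Subgroup.index_ker, show φ.range = ⊤ from top_unique fun z _ => ?_, Subgroup.card_top,
      Nat.card_eq_fintype_card]
    · rfl
    · rcases Int.units_eq_one_or z with rfl | rfl
      · exact ⟨1, map_one φ⟩
      · exact ⟨u, hu1⟩
  have hc : Odd (Nat.card φ.ker) := by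
    have h := φ.ker.card_mul_index
    rw [hidx] at h
    rcases Nat.even_or_odd (Nat.card φ.ker) with ⟨k, hk⟩ | h'
    · exact absurd ⟨k, by omega⟩ h4
    · exact h'
  refine ⟨φ.ker, hidx, hc, fun y => ⟨fun hy => ?_, hodd y⟩⟩
  have h := orderOf_dvd_natCard (⟨y, hy⟩ : φ.ker)
  rw [← Subgroup.orderOf_coe] at h
  exact hc.of_dvd_nat h

end Small

variable {G : Type*} [Group G] [Finite G] {Ω : Type*} [Finite Ω] [MulAction G Ω]

/-- The two-point stabilisers in a normal subgroup all have the same order. -/
theorem card_pair_eq (h2 : IsMultiplyPretransitive G Ω 2) (M : Subgroup G) [M.Normal]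
    {a b c d : Ω} (h : a ≠ b) (h' : c ≠ d) :
    Nat.card (M ⊓ stabilizer G a ⊓ stabilizer G b : Subgroup G) =
      Nat.card (M ⊓ stabilizer G c ⊓ stabilizer G d : Subgroup G) := by
  obtain ⟨g, rfl, rfl⟩ := CfsgLib.BurnsideMinimal.two_trans h2 h h'
  have e : (M ⊓ stabilizer G a ⊓ stabilizer G b).map (MulAut.conj g).toMonoidHom =
      M ⊓ stabilizer G (g • a) ⊓ stabilizer G (g • b) := by
    rw [stabilizer_smul_eq_stabilizer_map_conj, stabilizer_smul_eq_stabilizer_map_conj,
      Subgroup.map_inf _ _ _ (MulAut.conj g).injective,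
      Subgroup.map_inf _ _ _ (MulAut.conj g).injective]
    congr 2
    ext x
    constructor
    · rintro ⟨m, hm, rfl⟩
      exact ‹M.Normal›.conj_mem m hm g
    · intro hx
      exact ⟨g⁻¹ * x * g, by simpa using ‹M.Normal›.conj_mem x hx g⁻¹, by simp [mul_assoc]⟩
  rw [← e, Subgroup.card_map_of_injective (MulAut.conj g).injective]

variable [FaithfulSMul G Ω]

/-- A transitive normal subgroup of a doubly transitive group of degree `2` modulo `4` is doubly
transitive. -/
theorem two_transitive (h2 : IsMultiplyPretransitive G Ω 2) (hn : Nat.card Ω % 4 = 2)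
    (M : Subgroup G) [M.Normal] [IsPretransitive M Ω] : IsMultiplyPretransitive M Ω 2 := by
  classical
  have : Fact (Nat.Prime 2) := ⟨Nat.prime_two⟩
  cases nonempty_fintype Ω
  have key : ∀ (a b c : Ω), b ≠ a → c ≠ a → ∃ m : G, m ∈ M ∧ m • a = a ∧ m • b = c := by
    intro a
    set H : Subgroup G := M ⊓ stabilizer G a with hH
    set v := (Nat.card H).factorization 2 with hv
    obtain ⟨P₀⟩ := (Sylow.nonempty : Nonempty (Sylow 2 H))
    set P : Subgroup G := (P₀ : Subgroup H).map H.subtype with hPdef
    have hPH : P ≤ H := Subgroup.map_subtype_le _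
    have hPc : Nat.card P = 2 ^ v := by
      rw [hPdef, Subgroup.card_map_of_injective H.subtype_injective, Sylow.card_eq_multiplicity]
    have hP2 : IsPGroup 2 P := IsPGroup.of_card hPc
    set F : Set Ω := {x | ∀ p ∈ P, p • x = x} with hF
    have hFfix : (fixedPoints P Ω) = F := by
      ext x
      exact ⟨fun h p hp => h ⟨p, hp⟩, fun h p => h p p.2⟩
    have haF : a ∈ F := fun p hp => (hPH hp).2
    have hFeven : 2 ∣ Nat.card F := by
      have h := hP2.card_modEq_card_fixedPoints Ω
      rw [hFfix, Nat.ModEq] at h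
      omega
    obtain ⟨f, hfF, hfa⟩ : ∃ f, f ∈ F ∧ f ≠ a := by
      by_contra h
      push Not at h
      have : F = {a} := Set.eq_singleton_iff_unique_mem.2 ⟨haF, h⟩
      rw [this, Nat.card_coe_set_eq, Set.ncard_singleton] at hFeven
      omega
    -- Sylow in every relevant stabiliser
    have hpair : ∀ x y : Ω, x ≠ y →
        (Nat.card (M ⊓ stabilizer G x ⊓ stabilizer G y : Subgroup G)).factorization 2 = v := by
      intro x y hxy
      rw [card_pair_eq h2 M hxy hfa.symm]
      set K : Subgroup G := M ⊓ stabilizer G a ⊓ stabilizer G f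
      have hKH : K ≤ H := inf_le_left
      have hPK : P ≤ K := fun p hp => ⟨hPH hp, hfF p hp⟩
      refine le_antisymm ((Nat.factorization_le_iff_dvd Nat.card_pos.ne' Nat.card_pos.ne').2
        (Subgroup.card_dvd_of_le hKH) 2) ?_
      refine (Nat.prime_two.pow_dvd_iff_le_factorization Nat.card_pos.ne').1 ?_
      rw [← hPc]
      exact Subgroup.card_dvd_of_le hPK
    have hone : ∀ x : Ω, Nat.card (M ⊓ stabilizer G x : Subgroup G) * Nat.card Ω = Nat.card M := by
      intro x
      have e : Nat.card (M ⊓ stabilizer G x : Subgroup G) = Nat.card (stabilizer M x) :=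
        Nat.card_congr
          { toFun := fun g => ⟨⟨g, g.2.1⟩, g.2.2⟩
            invFun := fun g => ⟨g.1, g.1.2, g.2⟩
            left_inv := fun _ => rfl
            right_inv := fun _ => rfl }
      rw [e, ← index_stabilizer_of_transitive M x, Subgroup.card_mul_index]
    -- the normaliser of `P` acting on `F`
    let Z : Subgroup G := Subgroup.normalizer (P : Set G)
    have hFinv : ∀ z ∈ Z, ∀ x ∈ F, z • x ∈ F := by
      intro z hz x hx p hp
      have h := hx (z⁻¹ * p * z) (by
        have := (Subgroup.mem_normalizer_iff.1 (inv_mem hz) p).1 hp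
        simpa using this)
      rw [mul_smul, mul_smul, inv_smul_eq_iff] at h
      exact h
    let π : Z →* Equiv.Perm F :=
      { toFun := fun z =>
          { toFun := fun x => ⟨(z : G) • (x : Ω), hFinv z z.2 x x.2⟩
            invFun := fun x => ⟨(z : G)⁻¹ • (x : Ω), hFinv _ (inv_mem z.2) x x.2⟩
            left_inv := fun x => Subtype.ext (inv_smul_smul _ _)
            right_inv := fun x => Subtype.ext (smul_inv_smul _ _) }
        map_one' := by ext x; exact one_smul G (x : Ω)
        map_mul' := fun y z => by ext x; exact mul_smul (y : G) (z : G) (x : Ω) }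
    -- `Z` is doubly transitive on `F`
    have hZ2 : ∀ x y x' y' : F, x ≠ y → x' ≠ y' → ∃ z : Z, π z x = x' ∧ π z y = y' := by
      intro x y x' y' hxy hxy'
      have hne : (x : Ω) ≠ y := fun h => hxy (Subtype.ext h)
      have hne' : (x' : Ω) ≠ y' := fun h => hxy' (Subtype.ext h)
      obtain ⟨g, hgx, hgy⟩ := CfsgLib.BurnsideMinimal.two_trans h2 hne hne'
      set K : Subgroup G := M ⊓ stabilizer G (x' : Ω) ⊓ stabilizer G (y' : Ω)
      have hP' : P.map (MulAut.conj g).toMonoidHom ≤ K := by
        rintro _ ⟨p, hp, rfl⟩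
        refine ⟨⟨‹M.Normal›.conj_mem p (hPH hp).1 g, ?_⟩, ?_⟩
        · show (g * p * g⁻¹) • (x' : Ω) = x'
          rw [← hgx, ← mul_smul, inv_mul_cancel_right, mul_smul, x.2 p hp]
        · show (g * p * g⁻¹) • (y' : Ω) = y'
          rw [← hgy, ← mul_smul, inv_mul_cancel_right, mul_smul, y.2 p hp]
      have hPK : P ≤ K := fun p hp => ⟨⟨(hPH hp).1, x'.2 p hp⟩, y'.2 p hp⟩
      obtain ⟨k, hk, hkP⟩ := exists_conj 2 hP' hPK
        (by rw [Subgroup.card_map_of_injective (MulAut.conj g).injective, hPc,
          hpair _ _ hne'])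
        (by rw [hPc, hpair _ _ hne'])
      have hz : k * g ∈ Z := by
        rw [Subgroup.map_map] at hkP
        rw [Subgroup.mem_normalizer_iff]
        intro p
        constructor
        · intro hp
          refine hkP.le ⟨p, hp, ?_⟩
          simp [mul_assoc]
        · intro hp
          obtain ⟨q, hq, hqe⟩ := hkP.ge hp
          rwa [← (MulAut.conj (k * g)).injective (show MulAut.conj (k * g) q =
            MulAut.conj (k * g) p by simpa [mul_assoc] using hqe)]
      refine ⟨⟨k * g, hz⟩, Subtype.ext ?_, Subtype.ext ?_⟩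
      · show (k * g) • (x : Ω) = x'
        rw [mul_smul, hgx]; exact hk.1.2
      · show (k * g) • (y : Ω) = y'
        rw [mul_smul, hgy]; exact hk.2
    let X : Subgroup Z := M.subgroupOf Z
    have hXtrans : ∀ x y : F, ∃ z : Z, z ∈ X ∧ π z x = y := by
      intro x y
      obtain ⟨m, hm⟩ := exists_smul_eq M (x : Ω) (y : Ω)
      set K : Subgroup G := M ⊓ stabilizer G (y : Ω)
      have hK2 : (Nat.card K).factorization 2 = v := by
        have := hone (y : Ω)
        rw [← hone a] at this
        have hpos : 0 < Nat.card Ω := Nat.card_pos_iff.2 ⟨⟨a⟩, inferInstance⟩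
        rw [hv, Nat.eq_of_mul_eq_mul_right hpos this]
      have hP' : P.map (MulAut.conj (m : G)).toMonoidHom ≤ K := by
        rintro _ ⟨p, hp, rfl⟩
        refine ⟨‹M.Normal›.conj_mem p (hPH hp).1 _, ?_⟩
        show ((m : G) * p * (m : G)⁻¹) • (y : Ω) = y
        rw [← hm, Subgroup.smul_def, ← mul_smul, inv_mul_cancel_right, mul_smul, x.2 p hp]
      have hPK : P ≤ K := fun p hp => ⟨(hPH hp).1, y.2 p hp⟩
      obtain ⟨k, hk, hkP⟩ := exists_conj 2 hP' hPK
        (by rw [Subgroup.card_map_of_injective (MulAut.conj (m : G)).injective, hPc, hK2])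
        (by rw [hPc, hK2])
      have hz : k * (m : G) ∈ Z := by
        rw [Subgroup.map_map] at hkP
        rw [Subgroup.mem_normalizer_iff]
        intro p
        constructor
        · intro hp
          refine hkP.le ⟨p, hp, ?_⟩
          simp [mul_assoc]
        · intro hp
          obtain ⟨q, hq, hqe⟩ := hkP.ge hp
          rwa [← (MulAut.conj (k * (m : G))).injective (show MulAut.conj (k * (m : G)) q =
            MulAut.conj (k * (m : G)) p by simpa [mul_assoc] using hqe)]
      refine ⟨⟨k * m, hz⟩, mul_mem hk.1 m.2, Subtype.ext ?_⟩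
      show (k * (m : G)) • (x : Ω) = y
      rw [mul_smul, show (m : G) • (x : Ω) = y from hm]
      exact hk.2
    let Y : Subgroup (Equiv.Perm F) := X.map π
    have hYtrans : IsPretransitive Y F := ⟨fun x y => by
      obtain ⟨z, hz, he⟩ := hXtrans x y
      exact ⟨⟨π z, z, hz, rfl⟩, he⟩⟩
    have hY2 : 2 ∣ Nat.card Y := hFeven.trans
      (index_stabilizer_of_transitive Y (⟨a, haF⟩ : F) ▸ Subgroup.index_dvd_card _)
    have hY4 : ¬ 4 ∣ Nat.card Y := by
      intro h4
      have hPZ : P ≤ Z := Subgroup.le_normalizer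
      have hker : Nat.card P ∣ Nat.card (π.comp X.subtype).ker := by
        let i : P →* (π.comp X.subtype).ker :=
          { toFun := fun p => ⟨⟨⟨p, hPZ p.2⟩, (hPH p.2).1⟩, by
              rw [MonoidHom.mem_ker]; ext x; exact x.2 p p.2⟩
            map_one' := rfl
            map_mul' := fun _ _ => rfl }
        exact Subgroup.card_dvd_of_injective i fun p q h => Subtype.ext
          (congrArg (fun t : (π.comp X.subtype).ker => (((t : X) : Z) : G)) h)
      have hrange : Nat.card Y = Nat.card (π.comp X.subtype).range := by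
        rw [MonoidHom.range_comp, Subgroup.range_subtype]
      have hX : Nat.card Y * Nat.card (π.comp X.subtype).ker = Nat.card X := by
        rw [hrange, ← Subgroup.index_ker, mul_comm, Subgroup.card_mul_index]
      have hXM : Nat.card X ∣ Nat.card M := by
        let i : X →* M :=
          { toFun := fun x => ⟨((x : Z) : G), x.2⟩
            map_one' := rfl
            map_mul' := fun _ _ => rfl }
        exact Subgroup.card_dvd_of_injective i fun p q h => Subtype.ext (Subtype.ext
          (congrArg (fun t : M => (t : G)) h))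
      have h1 : 4 * 2 ^ v ∣ Nat.card M :=
        (mul_dvd_mul h4 (hPc ▸ hker)).trans (hX ▸ hXM)
      rw [← hone a] at h1
      obtain ⟨k, hk⟩ : ∃ k, Nat.card H = 2 ^ v * k ∧ ¬ 2 ∣ k := ⟨_,
        (Nat.ordProj_mul_ordCompl_eq_self _ 2).symm,
        Nat.not_dvd_ordCompl Nat.prime_two Nat.card_pos.ne'⟩
      rw [hk.1, mul_comm 4, mul_assoc] at h1
      have h2' := (mul_dvd_mul_iff_left (pow_ne_zero v two_ne_zero)).1 h1
      have hcop : Nat.Coprime 4 k := by
        rw [show 4 = 2 ^ 2 by rfl]
        exact Nat.Coprime.pow_left 2 ((Nat.prime_two.coprime_iff_not_dvd).2 hk.2)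
      have := Nat.mod_eq_zero_of_dvd (hcop.dvd_of_dvd_mul_left h2')
      omega
    obtain ⟨O, hOi, hOodd, hOmem⟩ := exists_odd_subgroup hY2 hY4
    have hO : O = ⊥ := by
      by_contra hne
      obtain ⟨o, ho1⟩ := (Subgroup.ne_bot_iff_exists_ne_one.1 hne)
      obtain ⟨x₀, hx₀⟩ : ∃ x₀ : F, ((o : Y) : Equiv.Perm F) x₀ ≠ x₀ := by
        by_contra hall
        push Not at hall
        exact ho1 (Subtype.ext (Subtype.ext (Equiv.ext hall)))
      have hOtrans : IsPretransitive O F := ⟨fun x y => by
        by_cases hxy : x = y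
        · exact ⟨1, by rw [hxy, one_smul]⟩
        obtain ⟨z, hz1, hz2⟩ := hZ2 x₀ (((o : Y) : Equiv.Perm F) x₀) x y hx₀.symm hxy
        have hmem : π z * ((o : Y) : Equiv.Perm F) * (π z)⁻¹ ∈ Y := by
          obtain ⟨w, hw, hwe⟩ := (o : Y).2
          refine ⟨z * w * z⁻¹, ?_, by rw [map_mul, map_mul, map_inv, hwe]⟩
          exact ‹M.Normal›.conj_mem _ hw _
        have hmemO : (⟨_, hmem⟩ : Y) ∈ O := by
          rw [hOmem, ← Subgroup.orderOf_coe]
          have h1 := (hOmem (o : Y)).1 o.2
          rw [← Subgroup.orderOf_coe] at h1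
          exact (show orderOf (MulAut.conj (π z) ((o : Y) : Equiv.Perm F)) =
            orderOf ((o : Y) : Equiv.Perm F) from orderOf_injective
              (MulAut.conj (π z)).toMonoidHom (MulAut.conj (π z)).injective _) ▸ h1
        refine ⟨⟨_, hmemO⟩, ?_⟩
        show (π z * ((o : Y) : Equiv.Perm F) * (π z)⁻¹) x = y
        rw [← hz1, Equiv.Perm.mul_apply, Equiv.Perm.mul_apply, Equiv.Perm.inv_def,
          Equiv.symm_apply_apply, hz2]⟩
      have h := hFeven.trans (index_stabilizer_of_transitive O (⟨a, haF⟩ : F) ▸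
        Subgroup.index_dvd_card (stabilizer O (⟨a, haF⟩ : F)))
      obtain ⟨k, hk⟩ := hOodd
      omega
    have hYcard : Nat.card Y = 2 := by
      have h := O.card_mul_index
      rw [hO, Subgroup.card_bot, ← hO, hOi, one_mul] at h
      exact h.symm
    have hF2 : ∀ x ∈ F, x = a ∨ x = f := by
      intro x hx
      by_contra hne
      push Not at hne
      have h1 : Nat.card F ≤ 2 := by
        rw [← hYcard]
        exact Nat.le_of_dvd Nat.card_pos (index_stabilizer_of_transitive Y (⟨a, haF⟩ : F) ▸
          Subgroup.index_dvd_card _)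
      have h2' : ({a, f, x} : Finset Ω).card ≤ Nat.card F := by
        rw [Nat.card_coe_set_eq, ← Set.ncard_coe_finset]
        refine Set.ncard_le_ncard ?_ (Set.toFinite _)
        intro y hy
        simp only [Finset.coe_insert, Finset.coe_singleton, Set.mem_insert_iff,
          Set.mem_singleton_iff] at hy
        rcases hy with rfl | rfl | rfl <;> assumption
      rw [Finset.card_insert_of_notMem (by simp [hfa.symm, hne.1.symm]),
        Finset.card_pair hne.2.symm] at h2'
      omega
    -- every suborbit contains `f`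
    have horb : ∀ b, b ≠ a → f ∈ orbit H b := by
      intro b hb
      have hPHgroup : IsPGroup 2 (P.subgroupOf H) :=
        hP2.of_equiv (Subgroup.subgroupOfEquivOfLe hPH).symm
      have hodd : ¬ 2 ∣ Nat.card (orbit H b) := by
        intro h2d
        have hst : Nat.card (stabilizer H b) =
            Nat.card (M ⊓ stabilizer G a ⊓ stabilizer G b : Subgroup G) := Nat.card_congr
          { toFun := fun g => ⟨((g : H) : G), (g : H).2, g.2⟩
            invFun := fun g => ⟨⟨g.1, g.2.1⟩, g.2.2⟩
            left_inv := fun _ => rfl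
            right_inv := fun _ => rfl }
        have h1 : Nat.card (orbit H b) * Nat.card (stabilizer H b) = Nat.card H := by
          rw [Nat.card_congr (orbitEquivQuotientStabilizer H b),
            ← Subgroup.card_eq_card_quotient_mul_card_subgroup]
        have h3 : 2 ^ v ∣ Nat.card (stabilizer H b) := by
          rw [hst, ← hpair a b hb.symm]
          exact Nat.ordProj_dvd _ 2
        have h4 := mul_dvd_mul h2d h3
        rw [h1, ← pow_succ'] at h4
        have := (Nat.prime_two.pow_dvd_iff_le_factorization Nat.card_pos.ne').1 h4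
        omega
      obtain ⟨⟨y, hy⟩, hyfix⟩ := hPHgroup.nonempty_fixed_point_of_prime_not_dvd_card _ hodd
      have hyF : y ∈ F := fun p hp =>
        congrArg Subtype.val (hyfix ⟨⟨p, hPH hp⟩, hp⟩)
      rcases hF2 y hyF with rfl | rfl
      · obtain ⟨h, hh⟩ := hy
        refine absurd ?_ hb
        rw [← inv_smul_smul h b, show h • b = y from hh]
        exact (h⁻¹ : H).2.2
      · exact hy
    intro b c hb hc
    obtain ⟨h, hh⟩ := horb b hb
    obtain ⟨k, hk⟩ := horb c hc
    refine ⟨((k⁻¹ * h : H) : G), (k⁻¹ * h : H).2.1, (k⁻¹ * h : H).2.2, ?_⟩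
    show (k⁻¹ * h) • b = c
    rw [mul_smul, show h • b = f from hh, inv_smul_eq_iff]
    exact hk.symm
  rw [is_two_pretransitive_iff]
  intro a b c d hab hcd
  obtain ⟨m, hm⟩ := exists_smul_eq M a c
  obtain ⟨m', hm', hma, hmb⟩ := key c (m • b) d (fun h => hab (smul_left_cancel m (hm.trans h.symm))) hcd.symm
  refine ⟨⟨m', hm'⟩ * m, ?_, ?_⟩
  · rw [mul_smul, hm]; exact hma
  · rw [mul_smul]; exact hmb

theorem main (h2 : IsMultiplyPretransitive G Ω 2) (hn : Nat.card Ω % 4 = 2) (hn2 : 2 < Nat.card Ω) :
    ∃ M : Subgroup G, M.Normal ∧ M ≠ ⊥ ∧ (∀ N : Subgroup G, N.Normal → N ≠ ⊥ → M ≤ N) ∧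
      IsSimpleGroup M ∧ IsMultiplyPretransitive M Ω 2 ∧
      Subgroup.centralizer (M : Set G) = ⊥ := by
  classical
  have : Nonempty Ω := (Nat.card_pos_iff.1 (by omega)).1
  have hGbot : (⊤ : Subgroup G) ≠ ⊥ := by
    intro h
    obtain ⟨a⟩ := ‹Nonempty Ω›
    have : Nontrivial Ω := Finite.one_lt_card_iff_nontrivial.1 (by omega)
    obtain ⟨b, hb⟩ := exists_ne a
    obtain ⟨g, hg, -⟩ := CfsgLib.BurnsideMinimal.two_trans h2 hb.symm hb
    have : g = 1 := (Subgroup.mem_bot).1 (h ▸ Subgroup.mem_top g)
    rw [this, one_smul] at hg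
    exact hb hg.symm
  obtain ⟨M, ⟨hMn, hMne⟩, hmin⟩ := Set.Finite.exists_minimal
    (Set.toFinite {N : Subgroup G | N.Normal ∧ N ≠ ⊥}) ⟨⊤, inferInstance, hGbot⟩
  have hmin' : ∀ N : Subgroup G, N.Normal → N ≤ M → N = ⊥ ∨ N = M := fun N hN hle => by
    by_cases h : N = ⊥
    · exact Or.inl h
    · exact Or.inr (le_antisymm hle (hmin ⟨hN, h⟩ hle))
  have : IsPreprimitive G Ω := isPreprimitive_of_is_two_pretransitive h2
  have hMt : IsPretransitive M Ω := CfsgLib.PermBasic.isPretransitive_of_normal M hMne
  obtain ⟨a⟩ := ‹Nonempty Ω›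
  have hnab : ¬ IsMulCommutative M := by
    intro hab
    have hreg : stabilizer M a = ⊥ := by
      refine (Subgroup.eq_bot_iff_forall _).2 fun g hg => Subtype.ext ?_
      refine FaithfulSMul.eq_of_smul_eq_smul (α := Ω) fun x => ?_
      obtain ⟨m, rfl⟩ := exists_smul_eq M a x
      show (g : M) • m • a = (1 : G) • m • a
      rw [← mul_smul, hab.is_comm.comm g m, mul_smul, show g • a = a from hg, one_smul]
    have hcard : Nat.card M = Nat.card Ω := by
      rw [← index_stabilizer_of_transitive M a, hreg, Subgroup.index_bot]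
    rcases CfsgLib.BurnsideMinimal.main h2 M hMne hmin' with ⟨-, ⟨p, hp, hexp⟩, -⟩ | ⟨hs, -⟩
    · have : Fact p.Prime := ⟨hp⟩
      obtain ⟨k, hk⟩ := (IsPGroup.iff_card (p := p) (G := M)).1
        (fun n => ⟨1, Subtype.ext (by simpa using hexp n n.2)⟩)
      rw [hk] at hcard
      rw [← hcard] at hn hn2
      rcases Nat.eq_zero_or_pos k with rfl | hkpos
      · simp at hn
      · rcases hp.eq_two_or_odd with rfl | hodd
        · rcases (show k = 1 ∨ 2 ≤ k by omega) with rfl | hk2
          · simp at hn2
          · have := Nat.mod_eq_zero_of_dvd (pow_dvd_pow 2 hk2)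
            omega
        · have := (Nat.odd_iff.1 ((Nat.odd_iff.2 hodd).pow (n := k)))
          omega
    · let _ : CommGroup M := { (inferInstance : Group M) with mul_comm := hab.is_comm.comm }
      have hp := IsSimpleGroup.prime_card (α := M)
      rw [hcard] at hp
      rcases hp.eq_two_or_odd with h | h <;> omega
  have hsimple : IsSimpleGroup M := by
    rcases CfsgLib.BurnsideMinimal.main h2 M hMne hmin' with ⟨h, -⟩ | ⟨h, -⟩
    · exact absurd h hnab
    · exact h
  have hcent : Subgroup.centralizer (M : Set G) = ⊥ := by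
    by_contra hC
    have : (Subgroup.centralizer (M : Set G)).Normal := inferInstance
    have hCt : IsPretransitive (Subgroup.centralizer (M : Set G)) Ω :=
      CfsgLib.PermBasic.isPretransitive_of_normal _ hC
    have hreg := CfsgLib.PermBasic.semiregular_of_le_centralizer
      (Subgroup.centralizer (M : Set G)) M
      (fun m hm => Subgroup.mem_centralizer_iff.2 fun c hc =>
        ((Subgroup.mem_centralizer_iff.1 hc) m hm).symm) a
    exact hnab (CfsgLib.BurnsideMinimal.abelian_of_regular h2 M hMne a hreg)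
  refine ⟨M, hMn, hMne, fun N hN hNne => ?_, hsimple, two_transitive h2 hn M, hcent⟩
  rcases hmin' (N ⊓ M) inferInstance inf_le_right with h | h
  · exfalso
    apply hNne
    rw [eq_bot_iff, ← hcent]
    exact CfsgLib.PermBasic.le_centralizer_of_inf_eq_bot h
  · exact inf_eq_right.1 h

end CfsgLib.DegTwoModFour
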