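/-
Sharply 3-transitive groups: counting elements of order 2 and 3 fixing two given points.
-/
import Mathlib

set_option autoImplicit false

namespace CfsgLib.SharplyThree

open MulAction Finset

variable {G α : Type*} [Group G] [MulAction G α]

theorem eq_one_of_three (hsharp : ∀ x : Fin 3 ↪ α, stabilizer G x = ⊥) {a b c : α} (hab : a ≠ b)
    (hac : a ≠ c) (hbc : b ≠ c) {g : G} (ha : g • a = a) (hb : g • b = b) (hc : g • c = c) :
    g = 1 := by
  let x : Fin 3 ↪ α := ⟨![a, b, c], by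
    intro i j h
    fin_cases i <;> fin_cases j <;> simp_all [hab.symm, hac.symm, hbc.symm]⟩
  have hg : g ∈ stabilizer G x := by
    rw [mem_stabilizer_iff]
    ext i
    fin_cases i <;> simpa [x]
  rwa [hsharp, Subgroup.mem_bot] at hg

theorem eq_of_three (hsharp : ∀ x : Fin 3 ↪ α, stabilizer G x = ⊥) {a b c : α} (hab : a ≠ b)
    (hac : a ≠ c) (hbc : b ≠ c) {g k : G} (ha : g • a = k • a) (hb : g • b = k • b)
    (hc : g • c = k • c) : g = k := by
  have := eq_one_of_three hsharp hab hac hbc (g := k⁻¹ * g)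
    (by rw [mul_smul, ha, inv_smul_smul]) (by rw [mul_smul, hb, inv_smul_smul])
    (by rw [mul_smul, hc, inv_smul_smul])
  exact (inv_mul_eq_one.mp this).symm

/-- Two fixed points of `g ≠ 1` are all the fixed points. -/
theorem fixed_two (hsharp : ∀ x : Fin 3 ↪ α, stabilizer G x = ⊥) {a b : α} (hab : a ≠ b) {g : G}
    (hg : g ≠ 1) (ha : g • a = a) (hb : g • b = b) {w : α} (hw : g • w = w) : w = a ∨ w = b := by
  by_contra h
  push Not at h
  exact hg (eq_one_of_three hsharp hab h.1.symm h.2.symm ha hb hw)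

/-- A fibre bound gives a bound on the elements of order `r` fixing two points. -/
theorem count [Fintype α] [Finite G] (h3 : IsMultiplyPretransitive G α 3)
    (h2 : IsMultiplyPretransitive G α 2)
    (hsharp : ∀ x : Fin 3 ↪ α, stabilizer G x = ⊥) {a b c : α} (hab : a ≠ b) (hac : a ≠ c)
    (hbc : b ≠ c) (r m : ℕ) (f : α × α × α → G → α × α × α)
    (hf : ∀ x y z : α, x ≠ y → x ≠ z → y ≠ z → ∀ g : G, g ^ r = 1 → g ≠ 1 → g • x = x →
      g • y = y → (f (x, y, z) g).1 ≠ (f (x, y, z) g).2.1 ∧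
        (f (x, y, z) g).1 ≠ (f (x, y, z) g).2.2 ∧ (f (x, y, z) g).2.1 ≠ (f (x, y, z) g).2.2)
    (hfib : ∀ w : α × α × α, ∀ S : Finset ((α × α × α) × G),
      (∀ e ∈ S, e.1.1 ≠ e.1.2.1 ∧ e.1.1 ≠ e.1.2.2 ∧ e.1.2.1 ≠ e.1.2.2 ∧ e.2 ^ r = 1 ∧ e.2 ≠ 1 ∧
        e.2 • e.1.1 = e.1.1 ∧ e.2 • e.1.2.1 = e.1.2.1 ∧ f e.1 e.2 = w) → S.card ≤ m) :
    Nat.card {g : G // g ^ r = 1 ∧ g ≠ 1 ∧ g • a = a ∧ g • b = b} ≤ m := by
  classical
  have := h3
  have : Fintype G := Fintype.ofFinite G
  let T : α → α → Finset G := fun x y =>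
    Finset.univ.filter fun g => g ^ r = 1 ∧ g ≠ 1 ∧ g • x = x ∧ g • y = y
  let Q : Finset (α × α × α) :=
    Finset.univ.filter fun q => q.1 ≠ q.2.1 ∧ q.1 ≠ q.2.2 ∧ q.2.1 ≠ q.2.2
  let P : Finset ((α × α × α) × G) :=
    (Q ×ˢ (Finset.univ : Finset G)).filter fun e => e.2 ∈ T e.1.1 e.1.2.1
  have hT : ∀ x y : α, x ≠ y → (T x y).card = (T a b).card := by
    intro x y hxy
    obtain ⟨k, k0, k1⟩ := is_two_pretransitive_iff.mp h2 hab hxy
    refine (Finset.card_nbij' (fun g => k * g * k⁻¹) (fun g => k⁻¹ * g * k) ?_ ?_ ?_ ?_).symm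
    · intro g hg
      obtain ⟨h1, h1', h2, h3⟩ := (Finset.mem_filter.mp hg).2
      refine Finset.mem_filter.mpr ⟨Finset.mem_univ _, ?_, ?_, ?_, ?_⟩
      · rw [conj_pow, h1, mul_one, mul_inv_cancel]
      · exact fun h => h1' (conj_eq_one_iff.mp h)
      · rw [← k0, mul_smul, mul_smul, inv_smul_smul, h2]
      · rw [← k1, mul_smul, mul_smul, inv_smul_smul, h3]
    · intro g hg
      obtain ⟨h1, h1', h2, h3⟩ := (Finset.mem_filter.mp hg).2
      refine Finset.mem_filter.mpr ⟨Finset.mem_univ _, ?_, ?_, ?_, ?_⟩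
      · show (k⁻¹ * g * k) ^ r = 1
        have e : k⁻¹ * g * k = k⁻¹ * g * (k⁻¹)⁻¹ := by rw [inv_inv]
        rw [e, conj_pow, h1, mul_one, mul_inv_cancel]
      · intro h
        change k⁻¹ * g * k = 1 at h
        refine h1' ?_
        calc g = k * (k⁻¹ * g * k) * k⁻¹ := by group
          _ = 1 := by rw [h, mul_one, mul_inv_cancel]
      · rw [mul_smul, mul_smul, k0, h2, ← k0, inv_smul_smul]
      · rw [mul_smul, mul_smul, k1, h3, ← k1, inv_smul_smul]
    · intro g _; simp [mul_assoc]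
    · intro g _; simp [mul_assoc]
  have hP : P.card = Q.card * (T a b).card := by
    have e : P.card = ∑ q ∈ Q, (T q.1 q.2.1).card := by
      rw [← Finset.card_sigma]
      refine Finset.card_nbij' (fun e => ⟨e.1, e.2⟩) (fun e => (e.1, e.2)) ?_ ?_ ?_ ?_
      · intro e he
        obtain ⟨h1, h2⟩ := Finset.mem_filter.mp he
        exact Finset.mem_sigma.mpr ⟨(Finset.mem_product.mp h1).1, h2⟩
      · intro e he
        obtain ⟨h1, h2⟩ := Finset.mem_sigma.mp he
        exact Finset.mem_filter.mpr ⟨Finset.mem_product.mpr ⟨h1, Finset.mem_univ _⟩, h2⟩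
      · intro e _; rfl
      · intro e _; rfl
    rw [e, Finset.sum_congr rfl fun q hq => hT q.1 q.2.1 (Finset.mem_filter.mp hq).2.1,
      Finset.sum_const, smul_eq_mul]
  have hle : P.card ≤ m * Q.card := by
    refine Finset.card_le_mul_card_image_of_maps_to (f := fun e => f e.1 e.2) ?_ m ?_
    · intro e he
      obtain ⟨h1, h2⟩ := Finset.mem_filter.mp he
      obtain ⟨q1, q2, q3⟩ := (Finset.mem_filter.mp (Finset.mem_product.mp h1).1).2
      obtain ⟨g1, g1', g2, g3⟩ := (Finset.mem_filter.mp h2).2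
      exact Finset.mem_filter.mpr
        ⟨Finset.mem_univ _, hf e.1.1 e.1.2.1 e.1.2.2 q1 q2 q3 e.2 g1 g1' g2 g3⟩
    · intro w _
      refine hfib w _ fun e he => ?_
      obtain ⟨he1, he2⟩ := Finset.mem_filter.mp he
      obtain ⟨h1, h2⟩ := Finset.mem_filter.mp he1
      obtain ⟨q1, q2, q3⟩ := (Finset.mem_filter.mp (Finset.mem_product.mp h1).1).2
      obtain ⟨g1, g1', g2, g3⟩ := (Finset.mem_filter.mp h2).2
      exact ⟨q1, q2, q3, g1, g1', g2, g3, he2⟩
  have hQ : 0 < Q.card :=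
    Finset.card_pos.mpr ⟨(a, b, c), Finset.mem_filter.mpr ⟨Finset.mem_univ _, hab, hac, hbc⟩⟩
  have hT' : Nat.card {g : G // g ^ r = 1 ∧ g ≠ 1 ∧ g • a = a ∧ g • b = b} = (T a b).card := by
    rw [Nat.card_eq_fintype_card, Fintype.card_subtype]
  rw [hT']
  rw [hP, mul_comm] at hle
  exact Nat.le_of_mul_le_mul_right hle hQ

/-- A two-point stabiliser has at most two elements of order three. -/
theorem card_three_le [Fintype α] [Finite G] (h3 : IsMultiplyPretransitive G α 3)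
    (h2 : IsMultiplyPretransitive G α 2)
    (hsharp : ∀ x : Fin 3 ↪ α, stabilizer G x = ⊥) {a b c : α} (hab : a ≠ b) (hac : a ≠ c)
    (hbc : b ≠ c) : Nat.card {g : G // g ^ 3 = 1 ∧ g ≠ 1 ∧ g • a = a ∧ g • b = b} ≤ 2 := by
  classical
  refine count h3 h2 hsharp hab hac hbc 3 2 (fun q g => (q.2.2, g • q.2.2, g • g • q.2.2)) ?_ ?_
  · intro x y z hxy hxz hyz g hg hg1 hgx hgy
    have hz : g • z ≠ z := fun h => by
      rcases fixed_two hsharp hxy hg1 hgx hgy h with rfl | rfl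
      · exact hxz rfl
      · exact hyz rfl
    have h3' : g • g • g • z = z := by
      rw [smul_smul, smul_smul, show g * g * g = g ^ 3 by simp [pow_succ, mul_assoc], hg, one_smul]
    refine ⟨hz.symm, fun h => ?_, fun h => hz (smul_left_cancel g h).symm⟩
    simp only at h
    rw [← h] at h3'
    exact hz h3'
  · intro w S hS
    rcases S.eq_empty_or_nonempty with rfl | ⟨e₀, he₀⟩
    · simp
    obtain ⟨h0xy, h0xz, h0yz, h0g, h0g1, h0x, h0y, h0w⟩ := hS e₀ he₀
    obtain ⟨⟨x₀, y₀, z₀⟩, g₀⟩ := e₀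
    simp only at *
    refine le_trans (Finset.card_le_card (t := {((x₀, y₀, z₀), g₀), ((y₀, x₀, z₀), g₀)}) ?_)
      (Finset.card_le_two)
    rintro ⟨⟨x, y, z⟩, g⟩ he
    obtain ⟨hxy, hxz, hyz, hg, hg1, hx, hy, hw⟩ := hS _ he
    simp only at *
    rw [← hw] at h0w
    simp only [Prod.mk.injEq] at h0w
    obtain ⟨rfl, e1, e2⟩ := h0w
    have hz : g • z₀ ≠ z₀ := fun h => by
      rcases fixed_two hsharp hxy hg1 hx hy h with rfl | rfl
      · exact hxz rfl
      · exact hyz rfl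
    have hd : z₀ ≠ g • g • z₀ := by
      intro h
      have h3' : g • g • g • z₀ = z₀ := by
        rw [smul_smul, smul_smul, show g * g * g = g ^ 3 by simp [pow_succ, mul_assoc], hg, one_smul]
      rw [← h] at h3'
      exact hz h3'
    have hgg : g₀ = g := by
      refine eq_of_three hsharp hz.symm hd (fun h => hz (smul_left_cancel g h).symm) e1 ?_ ?_
      · rw [e1] at e2
        exact e2
      · rw [e1] at e2
        have A : g • g • g • z₀ = z₀ := by
          rw [smul_smul, smul_smul, show g * g * g = g ^ 3 by simp [pow_succ, mul_assoc], hg,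
            one_smul]
        have B : g₀ • g₀ • g₀ • z₀ = z₀ := by
          rw [smul_smul, smul_smul, show g₀ * g₀ * g₀ = g₀ ^ 3 by simp [pow_succ, mul_assoc], h0g,
            one_smul]
        rw [e1, e2] at B
        rw [A, B]
    subst hgg
    have hx' := fixed_two hsharp h0xy h0g1 h0x h0y hx
    have hy' := fixed_two hsharp h0xy h0g1 h0x h0y hy
    rcases hx' with rfl | rfl <;> rcases hy' with rfl | rfl <;> simp_all

/-- A two-point stabiliser has at most one involution. -/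
theorem card_involution_le [Fintype α] [Finite G] (h3 : IsMultiplyPretransitive G α 3)
    (h2 : IsMultiplyPretransitive G α 2)
    (hsharp : ∀ x : Fin 3 ↪ α, stabilizer G x = ⊥) {a b c : α} (hab : a ≠ b) (hac : a ≠ c)
    (hbc : b ≠ c) : Nat.card {g : G // g ^ 2 = 1 ∧ g ≠ 1 ∧ g • a = a ∧ g • b = b} ≤ 1 := by
  classical
  refine count h3 h2 hsharp hab hac hbc 2 1 (fun q g => (q.2.2, g • q.2.2, q.1)) ?_ ?_
  · intro x y z hxy hxz hyz g hg hg1 hgx hgy
    have hz : g • z ≠ z := fun h => by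
      rcases fixed_two hsharp hxy hg1 hgx hgy h with rfl | rfl
      · exact hxz rfl
      · exact hyz rfl
    refine ⟨hz.symm, hxz.symm, fun h => ?_⟩
    simp only at h
    rw [← hgx] at h
    exact hxz (smul_left_cancel g h).symm
  · intro w S hS
    refine Finset.card_le_one.mpr ?_
    rintro ⟨⟨x, y, z⟩, g⟩ he ⟨⟨x₀, y₀, z₀⟩, g₀⟩ he₀
    obtain ⟨hxy, hxz, hyz, hg, hg1, hx, hy, hw⟩ := hS _ he
    obtain ⟨h0xy, h0xz, h0yz, h0g, h0g1, h0x, h0y, h0w⟩ := hS _ he₀
    simp only at *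
    rw [← hw] at h0w
    simp only [Prod.mk.injEq] at h0w
    obtain ⟨rfl, e1, rfl⟩ := h0w
    have hz : g • z₀ ≠ z₀ := fun h => by
      rcases fixed_two hsharp hxy hg1 hx hy h with rfl | rfl
      · exact hxz rfl
      · exact hyz rfl
    have A : g • g • z₀ = z₀ := by rw [smul_smul, ← sq, hg, one_smul]
    have B : g₀ • g₀ • z₀ = z₀ := by rw [smul_smul, ← sq, h0g, one_smul]
    have hgg : g₀ = g := by
      refine eq_of_three hsharp hz.symm h0xz.symm ?_ e1 ?_ (h0x.trans hx.symm)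
      · intro h
        exact h0xz (smul_left_cancel g (hx.trans h.symm))
      · rw [e1] at B
        rw [A, B]
    subst hgg
    rcases fixed_two hsharp hxy hg1 hx hy h0y with rfl | rfl
    · exact absurd rfl h0xy
    · rfl

end CfsgLib.SharplyThree
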