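/-
Basic lemmas on transitive, semiregular and primitive permutation groups.
-/
import Mathlib.GroupTheory.GroupAction.Primitive
import Mathlib.GroupTheory.Perm.Basic
import Mathlib.GroupTheory.Subgroup.Centralizer
import Mathlib.GroupTheory.Commutator.Basic
import Mathlib.GroupTheory.Perm.Subgroup
import Mathlib.Algebra.Group.Subgroup.Ker

set_option autoImplicit false

namespace CfsgLib.PermBasic

open MulAction

variable {G α : Type*} [Group G] [MulAction G α]

/-- An element commuting with a transitive subgroup and fixing a point acts trivially. -/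
theorem eq_one_of_commute_of_fix [FaithfulSMul G α] (T : Subgroup G) [IsPretransitive T α]
    {c : G} (hc : ∀ t ∈ T, t * c = c * t) {a : α} (ha : c • a = a) : c = 1 := by
  apply eq_of_smul_eq_smul (α := α)
  intro x
  obtain ⟨⟨t, ht⟩, htx⟩ := exists_smul_eq T a x
  have htx' : t • a = x := htx
  rw [one_smul, ← htx', ← mul_smul, ← hc t ht, mul_smul, ha]

/-- A subgroup centralizing a transitive subgroup is semiregular. -/
theorem semiregular_of_le_centralizer [FaithfulSMul G α] (T C : Subgroup G) [IsPretransitive T α]
    (hC : C ≤ Subgroup.centralizer (T : Set G)) (a : α) : stabilizer C a = ⊥ := by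
  rw [eq_bot_iff]
  rintro ⟨c, hc⟩ hca
  rw [Subgroup.mem_bot, ← Subtype.coe_inj]
  exact eq_one_of_commute_of_fix T (fun t ht => Subgroup.mem_centralizer_iff.mp (hC hc) t ht)
    (mem_stabilizer_iff.mp hca)

/-- A semiregular subgroup containing a transitive subgroup equals it. -/
theorem eq_of_semiregular_of_transitive_le {T C : Subgroup G} [IsPretransitive T α] (hTC : T ≤ C)
    (a : α) (hC : stabilizer C a = ⊥) : C = T := by
  refine le_antisymm (fun c hc => ?_) hTC
  obtain ⟨⟨t, ht⟩, hta⟩ := exists_smul_eq T a (c • a)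
  have hta' : t • a = c • a := hta
  have : (⟨t⁻¹ * c, C.mul_mem (C.inv_mem (hTC ht)) hc⟩ : C) ∈ stabilizer C a := by
    rw [mem_stabilizer_iff]
    change (t⁻¹ * c) • a = a
    rw [mul_smul, ← hta', inv_smul_smul]
  rw [hC, Subgroup.mem_bot] at this
  have : t⁻¹ * c = 1 := congrArg Subtype.val this
  rw [inv_mul_eq_one] at this
  exact this ▸ ht

/-- A regular subgroup is equinumerous with the set. -/
theorem card_eq_of_regular (T : Subgroup G) [IsPretransitive T α] (a : α)
    (hT : stabilizer T a = ⊥) : Nat.card T = Nat.card α := by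
  refine Nat.card_congr (Equiv.ofBijective (fun t : T => t • a) ⟨?_, ?_⟩)
  · intro s t h
    have : t⁻¹ * s ∈ stabilizer T a := by
      rw [mem_stabilizer_iff, mul_smul]
      exact inv_smul_eq_iff.mpr h
    rw [hT, Subgroup.mem_bot, inv_mul_eq_one] at this
    exact this.symm
  · exact fun x => exists_smul_eq T a x

/-- The image in the ambient group of a subgroup of a subgroup acts in the same way. -/
theorem isPretransitive_map_subtype {H : Subgroup G} (M : Subgroup H) [hM : IsPretransitive M α] :
    IsPretransitive (M.map H.subtype) α :=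
  ⟨fun x y => by
    obtain ⟨m, hm⟩ := hM.exists_smul_eq x y
    exact ⟨⟨_, Subgroup.mem_map_of_mem _ m.2⟩, hm⟩⟩

/-- Normal subgroups intersecting trivially centralize each other. -/
theorem le_centralizer_of_inf_eq_bot {M N : Subgroup G} [M.Normal] [N.Normal] (h : M ⊓ N = ⊥) :
    M ≤ Subgroup.centralizer (N : Set G) :=
  fun m hm => Subgroup.mem_centralizer_iff.mpr fun n hn =>
    (Subgroup.commute_of_normal_of_disjoint M N ‹_› ‹_› (disjoint_iff.mpr h) m n hm hn).symm

/-- Distinct minimal normal subgroups meet trivially. -/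
theorem inf_eq_bot_of_minimal {M N : Subgroup G} [M.Normal] [N.Normal]
    (hMmin : ∀ L : Subgroup G, L.Normal → L ≤ M → L = ⊥ ∨ L = M)
    (hNmin : ∀ L : Subgroup G, L.Normal → L ≤ N → L = ⊥ ∨ L = N) (hMN : M ≠ N) : M ⊓ N = ⊥ := by
  rcases hMmin (M ⊓ N) inferInstance inf_le_left with h | h
  · exact h
  · rcases hNmin (M ⊓ N) inferInstance inf_le_right with h' | h'
    · exact h'
    · exact absurd (h.symm.trans h') hMN

/-- A non-trivial normal subgroup of a faithful primitive group is transitive. -/
theorem isPretransitive_of_normal [IsPreprimitive G α] [FaithfulSMul G α] (N : Subgroup G)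
    [N.Normal] (hN : N ≠ ⊥) : IsPretransitive N α := by
  apply IsQuasiPreprimitive.isPretransitive_of_normal (G := G)
  intro h
  apply hN
  rw [eq_bot_iff]
  intro n hn
  rw [Subgroup.mem_bot]
  apply eq_of_smul_eq_smul (α := α)
  intro x
  have : x ∈ fixedPoints N α := h ▸ Set.mem_univ x
  simpa using this ⟨n, hn⟩

/-- Stabilizers of points of a transitive action are conjugate. -/
theorem stabilizer_smul_mem_iff (g h : G) (a : α) :
    h ∈ stabilizer G (g • a) ↔ g⁻¹ * h * g ∈ stabilizer G a := by
  rw [mem_stabilizer_iff, mem_stabilizer_iff, mul_smul, mul_smul, inv_smul_eq_iff]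

end CfsgLib.PermBasic
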