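/-
Finite sharply 2-transitive groups: the fixed-point-free elements together with the identity form a
regular normal elementary abelian subgroup.
-/
import Mathlib.GroupTheory.GroupAction.MultipleTransitivity
import Mathlib.GroupTheory.GroupAction.Quotient
import Mathlib.GroupTheory.GroupAction.ConjAct
import Mathlib.GroupTheory.Perm.Cycle.Type
import Mathlib.GroupTheory.Sylow
import Cfsg.Agent.Perm.Basic

set_option autoImplicit false

namespace CfsgLib.SharplyTwo

open MulAction

variable {G α : Type*} [Group G] [MulAction G α]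

theorem eq_one_of_two_fixed (hsharp : ∀ x : Fin 2 ↪ α, stabilizer G x = ⊥) {a b : α} (hab : a ≠ b)
    {g : G} (ha : g • a = a) (hb : g • b = b) : g = 1 := by
  let x : Fin 2 ↪ α := ⟨![a, b], by
    intro i j h
    fin_cases i <;> fin_cases j <;> simp_all [hab.symm]⟩
  have hg : g ∈ stabilizer G x := by
    rw [mem_stabilizer_iff]
    ext i
    fin_cases i <;> simpa [x]
  rwa [hsharp, Subgroup.mem_bot] at hg

theorem finite_of_sharp [Finite α] (hsharp : ∀ x : Fin 2 ↪ α, stabilizer G x = ⊥) {a b : α}
    (hab : a ≠ b) : Finite G :=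
  Finite.of_injective (fun g : G => (g • a, g • b)) fun g h e => by
    simp only [Prod.mk.injEq] at e
    have := eq_one_of_two_fixed hsharp hab (g := h⁻¹ * g) (by rw [mul_smul, e.1, inv_smul_smul])
      (by rw [mul_smul, e.2, inv_smul_smul])
    rw [inv_mul_eq_one] at this
    exact this.symm

theorem card_stabilizer [Finite α] [h2 : IsMultiplyPretransitive G α 2]
    (hsharp : ∀ x : Fin 2 ↪ α, stabilizer G x = ⊥) {a b : α} (hab : a ≠ b) :
    Nat.card (stabilizer G a) = Nat.card α - 1 := by
  have h1 : Nat.card (stabilizer G a) = Nat.card ({a}ᶜ : Set α) := by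
    refine Nat.card_congr (Equiv.ofBijective
      (fun g : stabilizer G a => (⟨(g : G) • b, fun h => hab ?_⟩ : ({a}ᶜ : Set α))) ⟨?_, ?_⟩)
    · exact smul_left_cancel (g : G) ((mem_stabilizer_iff.mp g.2).trans (h.symm : a = (g : G) • b))
    · intro g k h
      have h' : (g : G) • b = (k : G) • b := congrArg Subtype.val h
      have := eq_one_of_two_fixed hsharp hab (g := (k : G)⁻¹ * g)
        (by rw [mul_smul, mem_stabilizer_iff.mp g.2, inv_smul_eq_iff, mem_stabilizer_iff.mp k.2])
        (by rw [mul_smul, h', inv_smul_smul])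
      rw [inv_mul_eq_one] at this
      exact Subtype.ext this.symm
    · rintro ⟨c, hc⟩
      obtain ⟨g, hga, hgb⟩ := is_two_pretransitive_iff.mp h2 hab (Ne.symm hc)
      exact ⟨⟨g, mem_stabilizer_iff.mpr hga⟩, Subtype.ext hgb⟩
  rw [h1, Nat.card_coe_set_eq, Set.ncard_compl, Set.ncard_singleton]

/-- The structure theorem for finite sharply 2-transitive groups. -/
theorem exists_kernel [Finite α] [h2 : IsMultiplyPretransitive G α 2]
    (hsharp : ∀ x : Fin 2 ↪ α, stabilizer G x = ⊥) (hn : 2 ≤ Nat.card α) :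
    ∃ (p j : ℕ) (K : Subgroup G), p.Prime ∧ 1 ≤ j ∧ Nat.card α = p ^ j ∧
      (∀ g : G, g ∈ K ↔ g = 1 ∨ ∀ a : α, g • a ≠ a) ∧ K.Normal ∧
      (∀ x ∈ K, ∀ y ∈ K, x * y = y * x) ∧ (∀ x ∈ K, x ^ p = 1) ∧
      IsPretransitive K α ∧ (∀ a : α, stabilizer K a = ⊥) ∧ Nat.card K = p ^ j ∧
      Nat.card G = p ^ j * (p ^ j - 1) := by
  classical
  have : Nontrivial α := Finite.one_lt_card_iff_nontrivial.mp (by omega)
  obtain ⟨a₀, b₀, hab₀⟩ := exists_pair_ne α
  have hG : Finite G := finite_of_sharp hsharp hab₀
  have : Fintype G := Fintype.ofFinite G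
  have : Fintype α := Fintype.ofFinite α
  have ht : IsPretransitive G α := isPretransitive_of_is_two_pretransitive
  set n := Nat.card α with hn'
  have hcardG : Nat.card G = n * (n - 1) := by
    rw [← Subgroup.card_mul_index (stabilizer G a₀), card_stabilizer hsharp hab₀,
      index_stabilizer_of_transitive, mul_comm]
  let D : Finset G := Finset.univ.filter fun g => ∀ a : α, g • a ≠ a
  have hD : D.card = n - 1 := by
    have hburn := sum_card_fixedBy_eq_card_orbits_mul_card_group G α
    have horb : Fintype.card (orbitRel.Quotient G α) = 1 := by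
      refine Fintype.card_eq_one_iff.mpr ⟨Quotient.mk'' a₀, fun q => ?_⟩
      induction q using Quotient.inductionOn' with
      | h x => exact Quotient.sound' (exists_smul_eq G a₀ x)
    rw [horb, one_mul, ← Nat.card_eq_fintype_card (α := G), hcardG] at hburn
    have hterm : ∀ g ∈ (Finset.univ : Finset G), Fintype.card (fixedBy α g) + (if g ∈ D then 1 else 0) =
        1 + (if g = 1 then n - 1 else 0) := by
      intro g _
      by_cases hg1 : g = 1
      · subst hg1
        have : (1 : G) ∉ D := by
          simp only [D, Finset.mem_filter, not_and, not_forall, not_not]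
          exact fun _ => ⟨a₀, one_smul G a₀⟩
        rw [if_neg this, if_pos rfl, ← Nat.card_eq_fintype_card, Nat.card_coe_set_eq,
          fixedBy_one_eq_univ, Set.ncard_univ, add_zero]
        omega
      · rw [if_neg hg1, add_zero]
        by_cases hgD : g ∈ D
        · rw [if_pos hgD, Nat.add_eq_right, Fintype.card_eq_zero_iff]
          exact ⟨fun x => (Finset.mem_filter.mp hgD).2 x.1 x.2⟩
        · rw [if_neg hgD, add_zero]
          simp only [D, Finset.mem_filter, Finset.mem_univ, true_and, not_forall, not_not] at hgD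
          obtain ⟨a, ha⟩ := hgD
          refine Fintype.card_eq_one_iff.mpr ⟨⟨a, ha⟩, fun x => Subtype.ext ?_⟩
          by_contra hne
          exact hg1 (eq_one_of_two_fixed hsharp hne x.2 ha)
    have hsum := Finset.sum_congr rfl hterm
    rw [Finset.sum_add_distrib, Finset.sum_add_distrib, hburn, Finset.sum_ite_mem,
      Finset.univ_inter, Finset.sum_ite_eq', if_pos (Finset.mem_univ _)] at hsum
    simp only [Finset.sum_const, smul_eq_mul, mul_one, Finset.card_univ] at hsum
    rw [← Nat.card_eq_fintype_card, hcardG] at hsum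
    omega
  have hfree : ∀ d ∈ D, ∀ c : G, c * d = d * c → ∀ a : α, c • a = a → c = 1 := by
    intro d hd c hc a ha
    refine eq_one_of_two_fixed hsharp ((Finset.mem_filter.mp hd).2 a).symm ha ?_
    rw [← mul_smul, hc, mul_smul, ha]
  have hD1 : ∀ d ∈ D, d ≠ 1 := fun d hd h =>
    (Finset.mem_filter.mp hd).2 a₀ (h ▸ one_smul G a₀)
  have hcent : ∀ d ∈ D, Nat.card (Subgroup.centralizer ({d} : Set G)) = n ∧
      (∀ e ∈ D, IsConj d e) ∧
      (∀ g : G, g ∈ Subgroup.centralizer ({d} : Set G) ↔ g = 1 ∨ ∀ a : α, g • a ≠ a) := by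
    intro d hd
    set C := Subgroup.centralizer ({d} : Set G) with hC
    have hmem : ∀ c, c ∈ C ↔ c * d = d * c := fun c => by
      rw [hC, Subgroup.mem_centralizer_singleton_iff]
    have hle : Nat.card C ≤ n := by
      refine Nat.card_le_card_of_injective (fun c : C => (c : G) • a₀) fun c e h => ?_
      have := hfree d hd ((e⁻¹ * c : C) : G) ((hmem _).mp (e⁻¹ * c).2) a₀ (by
        simp only [Subgroup.coe_mul, Subgroup.coe_inv, mul_smul] at h ⊢
        rw [h, inv_smul_smul])
      exact (inv_mul_eq_one.mp (Subtype.ext this : (e⁻¹ * c : C) = 1)).symm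
    let cl : Finset G := Finset.univ.filter (IsConj d)
    have hsub : cl ⊆ D := by
      intro e he
      obtain ⟨g, rfl⟩ := isConj_iff.mp (Finset.mem_filter.mp he).2
      refine Finset.mem_filter.mpr ⟨Finset.mem_univ _, fun a ha => ?_⟩
      refine (Finset.mem_filter.mp hd).2 (g⁻¹ • a) ?_
      rw [mul_smul, mul_smul] at ha
      exact eq_inv_smul_iff.mpr ha
    have hcl : cl.card * Nat.card C = n * (n - 1) := by
      rw [← hcardG, ← Subgroup.card_mul_index C, mul_comm]
      congr 1
      have e := Subgroup.centralizer_eq_comap_stabilizer (g := d)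
      rw [hC, e]
      have hidx := index_stabilizer (ConjAct G) d
      erw [Subgroup.index_comap_of_surjective _ (f := (ConjAct.toConjAct (G := G)).toMonoidHom) (ConjAct.toConjAct (G := G)).surjective]
      rw [hidx,
        ConjAct.orbit_eq_carrier_conjClasses, ← Set.ncard_coe_finset]
      congr 1
      ext e
      rw [ConjClasses.mem_carrier_iff_mk_eq, ConjClasses.mk_eq_mk_iff_isConj, Finset.mem_coe]
      exact ⟨fun h => ((Finset.mem_filter.mp h).2).symm,
        fun h => Finset.mem_filter.mpr ⟨Finset.mem_univ _, h.symm⟩⟩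
    have hclle := (Finset.card_le_card hsub).trans hD.le
    have hpos : 0 < n * (n - 1) := Nat.mul_pos (by omega) (by omega)
    have hCn : Nat.card C = n := by
      by_contra hne
      have : Nat.card C < n := lt_of_le_of_ne hle hne
      have : cl.card * Nat.card C < (n - 1) * n :=
        lt_of_le_of_lt (Nat.mul_le_mul_right _ hclle) (Nat.mul_lt_mul_of_pos_left this (by omega))
      rw [hcl, mul_comm] at this
      exact lt_irrefl _ this
    have hclD : cl = D := by
      refine Finset.eq_of_subset_of_card_le hsub ?_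
      rw [hCn, mul_comm] at hcl
      have := Nat.eq_of_mul_eq_mul_left (by omega) hcl
      omega
    refine ⟨hCn, fun e he => (Finset.mem_filter.mp (hclD ▸ he)).2, ?_⟩
    have hsub' : (Finset.univ.filter (· ∈ C)) ⊆ insert 1 D := by
      intro c hc
      by_cases h1 : c = 1
      · exact h1 ▸ Finset.mem_insert_self 1 D
      · exact Finset.mem_insert_of_mem (Finset.mem_filter.mpr ⟨Finset.mem_univ _, fun a ha =>
          h1 (hfree d hd c ((hmem c).mp (Finset.mem_filter.mp hc).2) a ha)⟩)
    have heq : (Finset.univ.filter (· ∈ C)) = insert 1 D := by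
      refine Finset.eq_of_subset_of_card_le hsub' ?_
      rw [← Fintype.card_subtype, ← Nat.card_eq_fintype_card, hCn]
      exact (Finset.card_insert_le _ _).trans (by omega)
    intro g
    have := Finset.ext_iff.mp heq g
    simpa [D] using this
  obtain ⟨d₀, hd₀⟩ : D.Nonempty := Finset.card_pos.mp (by omega)
  obtain ⟨hK, hconj, hKmem⟩ := hcent d₀ hd₀
  set K := Subgroup.centralizer ({d₀} : Set G)
  have hnorm : K.Normal := ⟨fun x hx g => by
    rw [hKmem] at hx ⊢
    rcases hx with rfl | hx
    · exact Or.inl (by rw [mul_one, mul_inv_cancel])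
    · refine Or.inr fun a ha => hx (g⁻¹ • a) ?_
      rw [mul_smul, mul_smul] at ha
      exact eq_inv_smul_iff.mpr ha⟩
  have hcomm : ∀ x ∈ K, ∀ y ∈ K, x * y = y * x := by
    intro x hx y hy
    rcases (hKmem x).mp hx with rfl | hxD
    · simp
    · have hxm : x ∈ D := Finset.mem_filter.mpr ⟨Finset.mem_univ _, hxD⟩
      exact (Subgroup.mem_centralizer_singleton_iff.mp
        (((hcent x hxm).2.2 y).mpr ((hKmem y).mp hy))).symm
  obtain ⟨p, hp, hpn⟩ := Nat.exists_prime_and_dvd (show n ≠ 1 by omega)
  have : Fact p.Prime := ⟨hp⟩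
  obtain ⟨x, hx⟩ := exists_prime_orderOf_dvd_card' (G := K) p (hK ▸ hpn)
  have hx1 : (x : G) ≠ 1 := fun h => by
    rw [show x = 1 from Subtype.ext h, orderOf_one] at hx
    exact hp.one_lt.ne hx
  have hxm : (x : G) ∈ D := Finset.mem_filter.mpr
    ⟨Finset.mem_univ _, ((hKmem _).mp x.2).resolve_left hx1⟩
  have hexp : ∀ y ∈ K, y ^ p = 1 := by
    intro y hy
    rcases (hKmem y).mp hy with rfl | hyD
    · exact one_pow p
    · obtain ⟨g, rfl⟩ := isConj_iff.mp
        ((hcent x hxm).2.1 y (Finset.mem_filter.mpr ⟨Finset.mem_univ _, hyD⟩))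
      rw [conj_pow, ← Subgroup.coe_pow, ← hx, pow_orderOf_eq_one, Subgroup.coe_one, mul_one,
        mul_inv_cancel]
  have hpg : IsPGroup p K := fun y => ⟨1, Subtype.ext (by rw [pow_one]; exact hexp y y.2)⟩
  obtain ⟨j, hj⟩ := IsPGroup.iff_card.mp hpg
  have hreg : ∀ a : α, stabilizer K a = ⊥ := fun a => by
    rw [eq_bot_iff]
    rintro ⟨k, hk⟩ hka
    rw [Subgroup.mem_bot]
    exact Subtype.ext (((hKmem k).mp hk).resolve_right fun h => h a hka)
  have htrans : IsPretransitive K α := by
    refine ⟨fun u v => ?_⟩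
    have hinj : Function.Injective fun k : K => k • u := fun s t h => by
      have : t⁻¹ * s ∈ stabilizer K u := by
        rw [mem_stabilizer_iff, mul_smul]
        exact inv_smul_eq_iff.mpr h
      rw [hreg, Subgroup.mem_bot, inv_mul_eq_one] at this
      exact this.symm
    exact ((Nat.bijective_iff_injective_and_card _).mpr ⟨hinj, hK⟩).2 v
  have hj1 : 1 ≤ j := by
    rcases Nat.eq_zero_or_pos j with rfl | h
    · simp only [pow_zero] at hj; omega
    · exact h
  exact ⟨p, j, K, hp, hj1, hK.symm.trans hj, hKmem, hnorm, hcomm, hexp, htrans, hreg, hj,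
    by rw [hcardG, ← hj, hK]⟩

/-- The kernel is the unique Sylow `p`-subgroup. -/
theorem sylow_eq [Finite G] {p j : ℕ} [Fact p.Prime] {K : Subgroup G} [K.Normal] (hj : 1 ≤ j)
    (hK : Nat.card K = p ^ j) (hG : Nat.card G = p ^ j * (p ^ j - 1)) (P : Sylow p G) :
    (P : Subgroup G) = K := by
  have hidx : ¬ p ∣ K.index := by
    have := K.card_mul_index
    rw [hK, hG] at this
    rw [Nat.eq_of_mul_eq_mul_left (pow_pos (Fact.out : p.Prime).pos j) this]
    intro h
    have h2 : p ∣ p ^ j := dvd_pow_self p (by omega)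
    have h1 : 1 ≤ p ^ j := Nat.one_le_pow _ _ (Fact.out : p.Prime).pos
    have := Nat.dvd_sub h2 h
    rw [Nat.sub_sub_self h1] at this
    exact (Fact.out : p.Prime).one_lt.ne' (Nat.dvd_one.mp this)
  let Q : Sylow p G := (IsPGroup.of_card hK).toSylow hidx
  have : Subsingleton (Sylow p G) := by
    have := Sylow.unique_of_normal Q ‹K.Normal›
    infer_instance
  rw [Subsingleton.elim P Q]
  rfl

end CfsgLib.SharplyTwo
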