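/-
Sharply 3-transitive groups: the data attached to an involution interchanging two points.
-/
import Cfsg.Agent.Perm.SharplyThree
import Cfsg.Agent.Perm.SharplyTwo
import Mathlib

set_option autoImplicit false

namespace CfsgLib.SharplyThree

open MulAction

variable {G α : Type*} [Group G] [MulAction G α]

/-- Any two triples of distinct points correspond. -/
theorem exists_map (h3 : IsMultiplyPretransitive G α 3) {a b c x y z : α} (hab : a ≠ b) (hac : a ≠ c)
    (hbc : b ≠ c) (hxy : x ≠ y) (hxz : x ≠ z) (hyz : y ≠ z) :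
    ∃ g : G, g • a = x ∧ g • b = y ∧ g • c = z := by
  let u : Fin 3 ↪ α := ⟨![a, b, c], by
    intro i j h
    fin_cases i <;> fin_cases j <;> simp_all [hab.symm, hac.symm, hbc.symm]⟩
  let v : Fin 3 ↪ α := ⟨![x, y, z], by
    intro i j h
    fin_cases i <;> fin_cases j <;> simp_all [hxy.symm, hxz.symm, hyz.symm]⟩
  obtain ⟨s, hs⟩ := exists_smul_eq G u v
  exact ⟨s, congrArg (fun e : Fin 3 ↪ α => e 0) hs, congrArg (fun e : Fin 3 ↪ α => e 1) hs,
    congrArg (fun e : Fin 3 ↪ α => e 2) hs⟩

/-- An element `s` interchanging `a, b` and fixing `c` exists. -/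
theorem exists_swap (h3 : IsMultiplyPretransitive G α 3) {a b c : α} (hab : a ≠ b) (hac : a ≠ c)
    (hbc : b ≠ c) : ∃ s : G, s • a = b ∧ s • b = a ∧ s • c = c :=
  exists_map h3 hab hac hbc hab.symm hbc hac

theorem swap_sq (hsharp : ∀ x : Fin 3 ↪ α, stabilizer G x = ⊥) {a b c : α} (hab : a ≠ b)
    (hac : a ≠ c) (hbc : b ≠ c) {s : G} (hsa : s • a = b) (hsb : s • b = a) (hsc : s • c = c) :
    s * s = 1 := by
  refine eq_one_of_three hsharp hab hac hbc ?_ ?_ ?_
  · rw [mul_smul, hsa, hsb]
  · rw [mul_smul, hsb, hsa]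
  · rw [mul_smul, hsc, hsc]

theorem conj_mem_pair {a b : α} {s : G} (hsa : s • a = b) (hsb : s • b = a) (hs2 : s * s = 1)
    {g : G} (hg : g ∈ stabilizer G a ⊓ stabilizer G b) :
    s * g * s⁻¹ ∈ stabilizer G a ⊓ stabilizer G b := by
  have ga : g • a = a := hg.1
  have gb : g • b = b := hg.2
  refine ⟨?_, ?_⟩
  · show (s * g * s⁻¹) • a = a
    rw [inv_eq_of_mul_eq_one_right hs2, mul_smul, mul_smul, hsa, gb, hsb]
  · show (s * g * s⁻¹) • b = b
    rw [inv_eq_of_mul_eq_one_right hs2, mul_smul, mul_smul, hsb, ga, hsa]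

/-- Elements of the two-point stabiliser centralised by the swap send `c` to a fixed point of it. -/
theorem smul_fixed {a b c : α} {s : G} (hsc : s • c = c) {g : G}
    (hg : g ∈ stabilizer G a ⊓ stabilizer G b) (hcomm : s * g * s⁻¹ = g) :
    s • (g • c) = g • c := by
  rw [smul_smul, mul_inv_eq_iff_eq_mul.mp hcomm, mul_smul, hsc]

/-- In odd degree the swap has only one fixed point, so centralises no element but the identity. -/
theorem centralizer_trivial [Fintype α] [Finite G] (hodd : Odd (Fintype.card α))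
    (hsharp : ∀ x : Fin 3 ↪ α, stabilizer G x = ⊥) {a b c : α} (hab : a ≠ b) (hac : a ≠ c)
    (hbc : b ≠ c) {s : G} (hsa : s • a = b) (hsb : s • b = a) (hsc : s • c = c) {g : G}
    (hg : g ∈ stabilizer G a ⊓ stabilizer G b) (hcomm : s * g * s⁻¹ = g) : g = 1 := by
  classical
  by_contra hne
  have hfix := smul_fixed hsc hg hcomm
  have hgc : g • c ≠ c := fun h => hne (eq_one_of_three hsharp hab hac hbc hg.1 hg.2 h)
  have hs1 : s ≠ 1 := fun h => hab (by rw [← hsa, h, one_smul])
  haveI : Fact (Nat.Prime 2) := ⟨Nat.prime_two⟩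
  have hp : IsPGroup 2 (Subgroup.zpowers s) := by
    refine IsPGroup.of_card (n := 1) ?_
    rw [Nat.card_zpowers, pow_one]
    exact orderOf_eq_prime (by rw [sq, swap_sq hsharp hab hac hbc hsa hsb hsc]) hs1
  have hset : MulAction.fixedPoints (Subgroup.zpowers s) α = {c, g • c} := by
    ext w
    rw [mem_fixedPoints]
    constructor
    · intro h
      have hw : s • w = w := h ⟨s, Subgroup.mem_zpowers s⟩
      rcases fixed_two hsharp (Ne.symm hgc) hs1 hsc hfix hw with e | e
      · exact Or.inl e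
      · exact Or.inr e
    · rintro (rfl | rfl) ⟨t, i, rfl⟩
      · exact (mem_stabilizer_iff.mp (zpow_mem (mem_stabilizer_iff.mpr hsc) i) :)
      · exact (mem_stabilizer_iff.mp (zpow_mem (mem_stabilizer_iff.mpr hfix) i) :)
  have h := hp.card_modEq_card_fixedPoints α
  have h2 : Nat.card (MulAction.fixedPoints (Subgroup.zpowers s) α) = 2 := by
    rw [hset, Nat.card_coe_set_eq, Set.ncard_pair (Ne.symm hgc)]
  rw [h2, Nat.card_eq_fintype_card] at h
  have := Nat.odd_iff.mp hodd
  unfold Nat.ModEq at h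
  omega

/-- A fixed-point-free involutory automorphism of a finite group inverts it. -/
theorem inv_of_fixed_free {H : Type*} [Group H] [Finite H] (σ : H →* H) (hσσ : ∀ h, σ (σ h) = h)
    (hfree : ∀ h, σ h = h → h = 1) : ∀ h, σ h = h⁻¹ := by
  have hinj : Function.Injective fun h : H => h⁻¹ * σ h := by
    intro x y e
    simp only at e
    refine mul_inv_eq_one.mp (hfree _ ?_)
    rw [map_mul, map_inv]
    calc σ x * (σ y)⁻¹ = x * (x⁻¹ * σ x) * (σ y)⁻¹ := by group
      _ = x * (y⁻¹ * σ y) * (σ y)⁻¹ := by rw [e]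
      _ = x * y⁻¹ := by group
  intro h
  obtain ⟨v, rfl⟩ := (Finite.injective_iff_bijective.mp hinj).2 h
  rw [map_mul, map_inv, hσσ, mul_inv_rev, inv_inv]

end CfsgLib.SharplyThree
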