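/-
A sharply 3-transitive group with an abelian two-point stabiliser, inverted by the swapping
involution, is PGL(2, q).
-/
import Cfsg.Agent.Perm.SharplyThreeSetup
import Cfsg.Agent.Perm.SharplyTwo
import Cfsg.Agent.Dickson.Moebius
import Mathlib

set_option autoImplicit false

namespace CfsgLib.SharplyThree

open MulAction

/-- A commutative group with a semiregular transitive abelian group of automorphisms is the
additive group of a field. -/
theorem exists_field {V H : Type*} [AddCommGroup V] [Finite V] [Group H] [DistribMulAction H V]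
    (F : Type) [Field F] [Finite F] (hcard : Nat.card V = Nat.card F)
    (hcomm : ∀ x y : H, x * y = y * x) (v₁ : V) (hv₁ : v₁ ≠ 0)
    (htr : ∀ v : V, v ≠ 0 → ∃ h : H, h • v₁ = v) :
    ∃ ψ : V ≃+ F, ψ v₁ = 1 ∧ ∀ (h : H) (v : V), ψ (h • v) = ψ (h • v₁) * ψ v := by
  classical
  let E : V → V →+ V := fun v =>
    if hv : v = 0 then 0 else DistribSMul.toAddMonoidHom V (htr v hv).choose
  have hE1 : ∀ v, E v v₁ = v := by
    intro v
    by_cases hv : v = 0
    · simp [E, hv]
    · simp only [E, dif_neg hv]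
      exact (htr v hv).choose_spec
  have hEc : ∀ v (h : H) w, E v (h • w) = h • E v w := by
    intro v h w
    by_cases hv : v = 0
    · simp [E, hv]
    · simp only [E, dif_neg hv]
      show (htr v hv).choose • h • w = h • (htr v hv).choose • w
      rw [smul_smul, smul_smul, hcomm]
  have huniq : ∀ (F₁ F₂ : V →+ V), (∀ (h : H) w, F₁ (h • w) = h • F₁ w) →
      (∀ (h : H) w, F₂ (h • w) = h • F₂ w) → F₁ v₁ = F₂ v₁ → ∀ w, F₁ w = F₂ w := by
    intro F₁ F₂ h1 h2 e w
    by_cases hw : w = 0
    · rw [hw, map_zero, map_zero]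
    · obtain ⟨h, rfl⟩ := htr w hw
      rw [h1, h2, e]
  have hEh : ∀ (h : H) w, E (h • v₁) w = h • w := fun h =>
    huniq (E (h • v₁)) (DistribSMul.toAddMonoidHom V h) (hEc _)
      (fun k w => by show h • k • w = k • h • w; rw [smul_smul, smul_smul, hcomm]) (hE1 _)
  have hsym : ∀ v w, E v w = E w v := by
    intro v w
    by_cases hw : w = 0
    · simp [E, hw]
    · obtain ⟨h, rfl⟩ := htr w hw
      rw [hEc, hE1, hEh]
  have hadd : ∀ u v w, E (u + v) w = E u w + E v w := by
    intro u v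
    refine huniq (E (u + v)) (E u + E v) (hEc _) (fun h w => ?_) ?_
    · simp [hEc, smul_add]
    · simp [hE1]
  have hassoc : ∀ u v w, E (E u v) w = E u (E v w) := by
    intro u v
    refine huniq (E (E u v)) ((E u).comp (E v)) (hEc _) (fun h w => ?_) ?_
    · simp [hEc]
    · simp [hE1]
  letI R : CommRing V :=
    { (inferInstance : AddCommGroup V) with
      mul := fun v w => E v w
      one := v₁
      mul_assoc := hassoc
      mul_comm := hsym
      left_distrib := fun u v w => map_add (E u) v w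
      right_distrib := hadd
      zero_mul := fun w => by show E 0 w = 0; simp [E]
      mul_zero := fun v => map_zero (E v)
      one_mul := fun w => by show E v₁ w = w; rw [hsym, hE1]
      mul_one := fun v => hE1 v }
  have hfield : IsField V :=
    { exists_pair_ne := ⟨0, v₁, hv₁.symm⟩
      mul_comm := hsym
      mul_inv_cancel := fun {v} hv => by
        obtain ⟨h, rfl⟩ := htr v hv
        exact ⟨h⁻¹ • v₁, show E (h • v₁) (h⁻¹ • v₁) = v₁ by rw [hEh, smul_inv_smul]⟩ }
  letI : Field V := hfield.toField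
  haveI : Fintype V := Fintype.ofFinite _
  haveI : Fintype F := Fintype.ofFinite _
  let ψ : V ≃+* F := FiniteField.ringEquivOfCardEq
    (by simpa [Nat.card_eq_fintype_card] using hcard)
  refine ⟨ψ.toAddEquiv, map_one ψ, fun h v => ?_⟩
  show ψ (h • v) = ψ (h • v₁) * ψ v
  rw [← map_mul ψ]
  exact congrArg ψ (hEh h v).symm

open CfsgLib.Dickson OnePoint

/-- Field coordinates on the points. -/
structure Coords (G : Type*) {α : Type*} [Group G] [MulAction G α] (a b c : α)
    (F : Type) [Field F] [DecidableEq F] (e : OnePoint F → α) : Prop where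
  bij : Function.Bijective e
  infty : e ∞ = a
  zero : e ((0 : F) : OnePoint F) = b
  one : e ((1 : F) : OnePoint F) = c
  transl : ∀ t : F, ∃ g : G, ∀ x, g • e x = e (aff 1 t • x)
  scale : ∀ h ∈ stabilizer G a ⊓ stabilizer G b, ∃ u : Fˣ, ∀ x, h • e x = e (aff u 0 • x)
  scale_surj : ∀ u : Fˣ, ∃ h ∈ stabilizer G a ⊓ stabilizer G b, ∀ x, h • e x = e (aff u 0 • x)

theorem exists_coords {G α : Type*} [Group G] [MulAction G α] [Fintype α] [Finite G]
    (h3 : IsMultiplyPretransitive G α 3) (hsharp : ∀ x : Fin 3 ↪ α, stabilizer G x = ⊥) {a b c : α}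
    (hab : a ≠ b) (hac : a ≠ c) (hbc : b ≠ c)
    (hHc : ∀ x ∈ stabilizer G a ⊓ stabilizer G b, ∀ y ∈ stabilizer G a ⊓ stabilizer G b,
      x * y = y * x)
    (F : Type) [Field F] [DecidableEq F] [Finite F] (hF : Nat.card F + 1 = Fintype.card α) :
    ∃ e : OnePoint F → α, Coords G a b c F e := by
  classical
  haveI := h3
  have hn : 3 ≤ Fintype.card α := by
    have := Finset.card_le_univ ({a, b, c} : Finset α)
    rwa [Finset.card_eq_three.mpr ⟨a, b, c, hab, hac, hbc, rfl⟩] at this
  haveI h2 : IsMultiplyPretransitive G α 2 :=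
    isMultiplyPretransitive_of_le' (α := α) (n := 3) (by norm_num) (by
      rw [ENat.card_eq_coe_fintype_card]; exact_mod_cast hn)
  haveI : IsPretransitive G α := isPretransitive_of_is_two_pretransitive
  let Ga : Subgroup G := stabilizer G a
  let H : Subgroup G := stabilizer G a ⊓ stabilizer G b
  have hHcomm : ∀ x y : H, x * y = y * x := fun x y => Subtype.ext (hHc x x.2 y y.2)
  haveI : IsMultiplyPretransitive Ga (SubMulAction.ofStabilizer G a) 2 :=
    SubMulAction.ofStabilizer.isMultiplyPretransitive.mp h3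
  let Ω := SubMulAction.ofStabilizer G a
  have hsharpΩ : ∀ x : Fin 2 ↪ Ω, stabilizer Ga x = ⊥ := by
    intro x
    rw [eq_bot_iff]
    intro g hg
    rw [Subgroup.mem_bot]
    exact Subtype.ext (eq_one_of_three hsharp (a := a) (b := (x 0 : α)) (c := (x 1 : α))
      (fun h => (x 0).2 h.symm) (fun h => (x 1).2 h.symm)
      (fun h => absurd (x.injective (Subtype.ext h)) (by decide)) (mem_stabilizer_iff.mp g.2)
      (congrArg (fun e : Fin 2 ↪ Ω => ((e 0 : Ω) : α)) (mem_stabilizer_iff.mp hg))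
      (congrArg (fun e : Fin 2 ↪ Ω => ((e 1 : Ω) : α)) (mem_stabilizer_iff.mp hg)))
  have hΩcard : Nat.card Ω + 1 = Fintype.card α := by
    rw [← Nat.card_eq_fintype_card (α := α)]
    have h1 := Nat.card_congr (Equiv.Set.sumCompl ({a} : Set α))
    rw [Nat.card_sum, Nat.card_coe_set_eq, Set.ncard_singleton] at h1
    rw [← h1, add_comm]
    rfl
  obtain ⟨p, j, K, hp, -, hj, hKmem, hKn, hKcomm, -, hKtr, hKfree, hKcard, -⟩ :=
    CfsgLib.SharplyTwo.exists_kernel hsharpΩ (by omega)
  let b' : Ω := ⟨b, fun h => hab (Set.mem_singleton_iff.mp h).symm⟩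
  let c' : Ω := ⟨c, fun h => hac (Set.mem_singleton_iff.mp h).symm⟩
  let V := Additive K
  letI : AddCommGroup V :=
    { (inferInstance : AddGroup (Additive K)) with
      add_comm := fun x y => Subtype.ext (hKcomm _ x.toMul.2 _ y.toMul.2) }
  let ι : H →* Ga := Subgroup.inclusion inf_le_left
  let φ : H →* MulAut K := (MulAut.conjNormal : Ga →* MulAut K).comp ι
  letI : DistribMulAction H V :=
    { smul := fun h v => Additive.ofMul (φ h v.toMul)
      one_smul := fun v => by
        show Additive.ofMul (φ 1 v.toMul) = v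
        rw [map_one]; rfl
      mul_smul := fun h k v => by
        show Additive.ofMul (φ (h * k) v.toMul) = Additive.ofMul (φ h (φ k v.toMul))
        rw [map_mul]; rfl
      smul_zero := fun h => congrArg Additive.ofMul (map_one (φ h))
      smul_add := fun h v w => congrArg Additive.ofMul (map_mul (φ h) v.toMul w.toMul) }
  -- coordinates
  let pt : V → α := fun v => (v.toMul : Ga) • b
  have hpt_ne : ∀ v, pt v ≠ a := fun v h =>
    hab (smul_left_cancel ((v.toMul : Ga) : G)
      (((mem_stabilizer_iff.mp (v.toMul : Ga).2).trans h.symm)))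
  have hptΩ : ∀ v : V, pt v = (((v.toMul : Ga) • b' : Ω) : α) := fun v => rfl
  have hpt_inj : Function.Injective pt := by
    intro v w h
    have e : (v.toMul : K) • b' = (w.toMul : K) • b' := Subtype.ext h
    have e2 : w.toMul⁻¹ * v.toMul ∈ stabilizer K b' := by
      rw [mem_stabilizer_iff, mul_smul, e, inv_smul_smul]
    rw [hKfree b', Subgroup.mem_bot, inv_mul_eq_one] at e2
    exact congrArg Additive.ofMul e2.symm
  have hpt_surj : ∀ x : α, x ≠ a → ∃ v, pt v = x := by
    intro x hx
    haveI := hKtr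
    obtain ⟨k, hk⟩ := exists_smul_eq K b' (⟨x, fun h => hx (Set.mem_singleton_iff.mp h)⟩ : Ω)
    exact ⟨Additive.ofMul k, congrArg Subtype.val hk⟩
  obtain ⟨v₁, hv₁⟩ := hpt_surj c hac.symm
  have hv₁0 : v₁ ≠ 0 := by
    rintro rfl
    exact hbc (by rw [← hv₁]; exact (one_smul G b).symm)
  have hHpt : ∀ (h : H) (v : V), pt (h • v) = (h : G) • pt v := by
    intro h v
    show ((ι h * (v.toMul : Ga) * (ι h)⁻¹ : Ga) : G) • b = (h : G) • ((v.toMul : Ga) : G) • b
    have hb : (h : G)⁻¹ • b = b := inv_smul_eq_iff.mpr (mem_stabilizer_iff.mp h.2.2).symm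
    simp only [Subgroup.coe_mul, Subgroup.coe_inv, mul_smul]
    show (h : G) • _ • (h : G)⁻¹ • b = _
    rw [hb]
  have htr : ∀ v : V, v ≠ 0 → ∃ h : H, h • v₁ = v := by
    intro v hv
    have hvb : pt v ≠ b := fun h => hv (hpt_inj (h.trans (one_smul G b).symm))
    have hva := hpt_ne v
    obtain ⟨g, hga, hgb, hgc⟩ := exists_map h3 hab hac hbc hab hva.symm hvb.symm
    refine ⟨⟨g, mem_stabilizer_iff.mpr hga, mem_stabilizer_iff.mpr hgb⟩, hpt_inj ?_⟩
    rw [hHpt, hv₁]
    exact hgc
  have hVcard : Nat.card V = Nat.card F := by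
    show Nat.card K = _
    rw [hKcard, ← hj]
    omega
  haveI : Finite V := inferInstanceAs (Finite K)
  obtain ⟨ψ, hone, hψ⟩ := exists_field F hVcard hHcomm v₁ hv₁0 htr
  let e : OnePoint F → α := fun x => x.elim a fun t => pt (ψ.symm t)
  have e_inf : e ∞ = a := rfl
  have e_coe : ∀ t : F, e (t : OnePoint F) = pt (ψ.symm t) := fun t => rfl
  have e_surj : ∀ x : α, ∃ z, e z = x := by
    intro x
    by_cases hx : x = a
    · exact ⟨∞, hx.symm⟩
    · obtain ⟨v, rfl⟩ := hpt_surj x hx
      exact ⟨(ψ v : F), by rw [e_coe, ψ.symm_apply_apply]⟩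
  have e_inj : Function.Injective e := by
    intro x y h
    cases x with
    | infty =>
      cases y with
      | infty => rfl
      | coe t => exact absurd h.symm (hpt_ne _)
    | coe t =>
      cases y with
      | infty => exact absurd h (hpt_ne _)
      | coe t' => exact congrArg _ (ψ.symm.injective (hpt_inj h))
  have e0 : e ((0 : F) : OnePoint F) = b := by
    rw [e_coe, map_zero]
    exact one_smul G b
  have e1 : e ((1 : F) : OnePoint F) = c := by rw [e_coe, ← hone, ψ.symm_apply_apply, hv₁]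
  have hscale : ∀ (h : H) (hu : ψ (h • v₁) ≠ 0), ∀ x, (h : G) • e x = e (aff (Units.mk0 _ hu) 0 • x) := by
    intro h hu x
    cases x with
    | infty => rw [aff_smul_infty, e_inf]; exact mem_stabilizer_iff.mp h.2.1
    | coe t =>
      rw [aff_smul_coe, e_coe, e_coe, add_zero, Units.val_mk0, ← hHpt]
      congr 1
      rw [eq_comm, ψ.symm_apply_eq, hψ h (ψ.symm t), ψ.apply_symm_apply]
  refine ⟨e, ⟨e_inj, e_surj⟩, e_inf, e0, e1, fun t => ?_, fun h hh => ?_, fun u => ?_⟩
  · refine ⟨(((ψ.symm t).toMul : Ga) : G), fun x => ?_⟩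
    cases x with
    | infty => rw [aff_smul_infty, e_inf]; exact mem_stabilizer_iff.mp (((ψ.symm t).toMul : K) : Ga).2
    | coe r =>
      rw [aff_smul_coe, e_coe, e_coe, Units.val_one, one_mul, map_add, add_comm]
      exact (mul_smul (((ψ.symm t).toMul : Ga) : G) (((ψ.symm r).toMul : Ga) : G) b).symm
  · have hu : ψ ((⟨h, hh⟩ : H) • v₁) ≠ 0 := by
      rw [map_ne_zero_iff _ ψ.injective]
      intro h0
      apply hv₁0
      rw [← inv_smul_smul (⟨h, hh⟩ : H) v₁, h0]
      exact smul_zero _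
    exact ⟨_, hscale ⟨h, hh⟩ hu⟩
  · obtain ⟨h, hh⟩ := htr (ψ.symm u) ((map_ne_zero_iff _ ψ.symm.injective).mpr u.ne_zero)
    have hh' : ψ (h • v₁) = u := by rw [hh, ψ.apply_symm_apply]
    refine ⟨h, h.2, fun x => ?_⟩
    rw [hscale h (by rw [hh']; exact u.ne_zero), show Units.mk0 _ _ = u from Units.ext hh']

/-- Recognition from coordinates in which the swap is inversion. -/
theorem nonempty_mulEquiv_of_coords {G α : Type*} [Group G] [MulAction G α]
    [FaithfulSMul G α] (h3 : IsMultiplyPretransitive G α 3) {a b c : α} (hab : a ≠ b) (hac : a ≠ c)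
    (hbc : b ≠ c) {s : G} (hsa : s • a = b) (hsb : s • b = a) (hsc : s • c = c)
    (hinv : ∀ h ∈ stabilizer G a ⊓ stabilizer G b, s * h * s⁻¹ = h⁻¹)
    {F : Type} [Field F] [DecidableEq F] {e : OnePoint F → α} (hC : Coords G a b c F e) :
    Nonempty (G ≃* Matrix.ProjGenLinGroup (Fin 2) F) := by
  classical
  haveI := h3
  let S : Subgroup G :=
    { carrier := {g | ∃ m : PGL2 F, ∀ x, e (m • x) = g • e x}
      mul_mem' := by
        rintro g k ⟨m, hm⟩ ⟨m', hm'⟩
        exact ⟨m * m', fun x => by rw [mul_smul, mul_smul, hm, hm']⟩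
      one_mem' := ⟨1, fun x => by rw [one_smul, one_smul]⟩
      inv_mem' := by
        rintro g ⟨m, hm⟩
        refine ⟨m⁻¹, fun x => ?_⟩
        rw [eq_inv_smul_iff, ← hm, smul_inv_smul] }
  have hSs : s ∈ S := by
    refine ⟨mob 0 1 1 0 (by simp), fun x => ?_⟩
    cases x with
    | infty => rw [mob_smul_infty, if_neg one_ne_zero, zero_div, hC.infty, hsa, hC.zero]
    | coe t =>
      rw [mob_smul_coe, zero_mul, zero_add, one_mul, add_zero]
      by_cases ht : t = 0
      · rw [if_pos ht, hC.infty, ht, hC.zero, hsb]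
      · rw [if_neg ht, one_div]
        obtain ⟨h, hh, hx⟩ := hC.scale_surj (Units.mk0 t ht)
        have hc : h • c = e (t : OnePoint F) := by
          rw [← hC.one, hx, aff_smul_coe]; simp
        have hi : h⁻¹ • c = e ((t⁻¹ : F) : OnePoint F) := by
          rw [inv_smul_eq_iff, hx, aff_smul_coe, ← hC.one]
          simp [ht]
        rw [← hc, ← hi, smul_smul, mul_inv_eq_iff_eq_mul.mp (hinv _ hh), mul_smul, hsc]
  have hStop : ∀ g : G, g ∈ S := by
    have hfixa : ∀ g : G, g • a = a → g ∈ S := by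
      intro g hg
      obtain ⟨z, hz⟩ := hC.bij.2 (g • b)
      cases z with
      | infty => exact absurd (smul_left_cancel g (hg.trans (hC.infty.symm.trans hz))) hab
      | coe t =>
        obtain ⟨τ, hτ⟩ := hC.transl t
        have hτa : τ • a = a := by rw [← hC.infty, hτ, aff_smul_infty]
        have hτb : τ • b = g • b := by rw [← hz, ← hC.zero, hτ, aff_smul_coe]; simp
        have h1 : τ⁻¹ * g ∈ stabilizer G a ⊓ stabilizer G b :=
          ⟨mem_stabilizer_iff.mpr (by rw [mul_smul, hg, inv_smul_eq_iff, hτa]),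
            mem_stabilizer_iff.mpr (by rw [mul_smul, inv_smul_eq_iff, hτb])⟩
        obtain ⟨u, hu⟩ := hC.scale _ h1
        have hτS : τ ∈ S := ⟨_, fun x => (hτ x).symm⟩
        have h2S : τ⁻¹ * g ∈ S := ⟨_, fun x => (hu x).symm⟩
        simpa using mul_mem hτS h2S
    intro g
    by_cases hg : g • a = a
    · exact hfixa g hg
    · obtain ⟨z, hz⟩ := hC.bij.2 (g • a)
      cases z with
      | infty => exact absurd (hz.symm.trans hC.infty) hg
      | coe t =>
        obtain ⟨τ, hτ⟩ := hC.transl t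
        have hτb : τ • b = g • a := by rw [← hz, ← hC.zero, hτ, aff_smul_coe]; simp
        have hτS : τ ∈ S := ⟨_, fun x => (hτ x).symm⟩
        have h2 : (τ * s)⁻¹ * g ∈ S := by
          refine hfixa _ ?_
          rw [mul_smul, inv_smul_eq_iff, mul_smul, hsa, hτb]
        have := mul_mem (mul_mem hτS hSs) h2
        rw [mul_inv_cancel_left] at this
        exact this
  let Φ : G → PGL2 F := fun g => (hStop g).choose
  have hΦ : ∀ g x, e (Φ g • x) = g • e x := fun g => (hStop g).choose_spec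
  have hΦu : ∀ g (m : PGL2 F), (∀ x, e (m • x) = g • e x) → Φ g = m := fun g m hm =>
    eq_of_eq3 (hC.bij.1 (by rw [hΦ, hm])) (hC.bij.1 (by rw [hΦ, hm])) (hC.bij.1 (by rw [hΦ, hm]))
  refine ⟨MulEquiv.ofBijective (MonoidHom.mk' Φ fun g k => hΦu _ _ fun x => ?_) ⟨?_, ?_⟩⟩
  · rw [mul_smul, mul_smul, hΦ, hΦ]
  · intro g k hgk
    refine eq_of_smul_eq_smul fun x : α => ?_
    obtain ⟨z, rfl⟩ := hC.bij.2 x
    rw [← hΦ, ← hΦ]
    exact congrArg (fun m : PGL2 F => e (m • z)) hgk
  · intro m
    have hne : ∀ u v : OnePoint F, u ≠ v → e (m • u) ≠ e (m • v) := fun u v huv h =>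
      huv (MulAction.injective m (hC.bij.1 h))
    obtain ⟨g, hga, hgb, hgc⟩ := exists_map h3 hab hac hbc
      (hne ∞ ((0 : F) : OnePoint F) (coe_ne_infty _).symm)
      (hne ∞ ((1 : F) : OnePoint F) (coe_ne_infty _).symm)
      (hne ((0 : F) : OnePoint F) ((1 : F) : OnePoint F) fun h => zero_ne_one (coe_injective h))
    refine ⟨g, eq_of_eq3 (hC.bij.1 ?_) (hC.bij.1 ?_) (hC.bij.1 ?_)⟩
    · show e (Φ g • ∞) = _
      rw [hΦ, hC.infty]
      exact hga
    · show e (Φ g • ((0 : F) : OnePoint F)) = _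
      rw [hΦ, hC.zero]
      exact hgb
    · show e (Φ g • ((1 : F) : OnePoint F)) = _
      rw [hΦ, hC.one]
      exact hgc

/-- The recognition theorem. -/
theorem nonempty_mulEquiv_pgl {G α : Type*} [Group G] [MulAction G α] [Fintype α] [Finite G]
    [FaithfulSMul G α] (h3 : IsMultiplyPretransitive G α 3)
    (hsharp : ∀ x : Fin 3 ↪ α, stabilizer G x = ⊥) {a b c : α} (hab : a ≠ b) (hac : a ≠ c)
    (hbc : b ≠ c) {s : G} (hsa : s • a = b) (hsb : s • b = a) (hsc : s • c = c)
    (hinv : ∀ h ∈ stabilizer G a ⊓ stabilizer G b, s * h * s⁻¹ = h⁻¹)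
    (F : Type) [Field F] [Finite F] (hF : Nat.card F + 1 = Fintype.card α) :
    Nonempty (G ≃* Matrix.ProjGenLinGroup (Fin 2) F) := by
  classical
  obtain ⟨e, hC⟩ := exists_coords h3 hsharp hab hac hbc (fun x hx y hy => by
    have e1 := hinv _ (mul_mem hx hy)
    have e2 : (x * y)⁻¹ = x⁻¹ * y⁻¹ := by
      rw [← hinv x hx, ← hinv y hy, ← e1]
      group
    simpa using congrArg (fun t => t⁻¹) e2) F hF
  exact nonempty_mulEquiv_of_coords h3 hab hac hbc hsa hsb hsc hinv hC

end CfsgLib.SharplyThree
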