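/-
A minimal normal subgroup of a finite group is a direct power of a simple group.
-/
import Mathlib.GroupTheory.NoncommPiCoprod
import Mathlib.Algebra.Group.Shrink
import Mathlib.Logic.Small.Basic
import Mathlib.GroupTheory.FiniteAbelian.Basic
import Mathlib.GroupTheory.SpecificGroups.Cyclic
import Cfsg.Agent.Solvable.Basics
import Cfsg.Agent.ExtPrim.MinNormal

set_option autoImplicit false

namespace CfsgLib.MinimalNormal

open Subgroup CfsgLib.ExtPrim

variable {G : Type*} [Group G]

/-- The set of conjugates of `T`. -/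
def factors (T : Subgroup G) : Set (Subgroup G) :=
  {H | ∃ g : G, ExtPrim.cj g T = H}

theorem self_mem_factors (T : Subgroup G) : T ∈ factors T := ⟨1, cj_one T⟩

variable {N T : Subgroup G}

theorem factors_isFactor [N.Normal] (h : IsFactor N T) {H : Subgroup G} (hH : H ∈ factors T) :
    IsFactor N H := by
  obtain ⟨g, rfl⟩ := hH
  exact h.cj g

theorem factors_le_others {H K : Subgroup G} (hH : H ∈ factors T) (hK : K ∈ factors T)
    (hne : K ≠ H) : K ≤ others H := by
  obtain ⟨g, rfl⟩ := hH
  obtain ⟨k, rfl⟩ := hK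
  have e : ExtPrim.cj k T = ExtPrim.cj (k * g⁻¹) (ExtPrim.cj g T) := by
    rw [cj_cj, inv_mul_cancel_right]
  rw [e] at hne ⊢
  exact cj_le_others hne

theorem factors_commute [N.Normal] (h : IsFactor N T) :
    Pairwise fun H K : factors T => ∀ x y : G, x ∈ (H : Subgroup G) → y ∈ (K : Subgroup G) →
      Commute x y :=
  fun H K hne _ _ hx hy => (factors_isFactor h H.2).commute hx
    (factors_le_others H.2 K.2 (fun e => hne (Subtype.ext e.symm)) hy)

theorem factors_iSupIndep [N.Normal] (h : IsFactor N T) :
    iSupIndep fun H : factors T => (H : Subgroup G) := by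
  intro H
  rw [disjoint_iff, eq_bot_iff, ← (factors_isFactor h H.2).inf_others]
  exact inf_le_inf_left _ (iSup₂_le fun K hK =>
    factors_le_others H.2 K.2 fun e => hK (Subtype.ext e))

theorem factors_iSup [N.Normal] (h : IsFactor N T) :
    ⨆ H : factors T, (H : Subgroup G) = N := by
  refine le_antisymm (iSup_le fun H => (factors_isFactor h H.2).le) ?_
  rw [← h.sup_others]
  refine sup_le (le_iSup (fun H : factors T => (H : Subgroup G)) ⟨T, self_mem_factors T⟩) ?_
  exact iSup₂_le fun g _ => le_iSup (fun H : factors T => (H : Subgroup G)) ⟨_, g, rfl⟩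

theorem isSimpleGroup_iff_of_mulEquiv {A B : Type*} [Group A] [Group B] (e : A ≃* B)
    [IsSimpleGroup A] : IsSimpleGroup B :=
  haveI : Nontrivial B := e.toEquiv.nontrivial_congr.mp inferInstance
  IsSimpleGroup.isSimpleGroup_of_surjective e.toMonoidHom e.surjective

/-- A non-abelian minimal normal subgroup is the internal direct product of the conjugates of a
factor. -/
theorem exists_mulEquiv_pi_of_isFactor [Finite G] [N.Normal] (h : IsFactor N T) :
    ∃ (ι : Type) (_ : Fintype ι) (S : Type) (_ : Group S), Nonempty ι ∧ IsSimpleGroup S ∧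
      ¬ IsMulCommutative S ∧ Nonempty (N ≃* (ι → S)) := by
  classical
  obtain ⟨n, ⟨eι⟩⟩ := Finite.exists_equiv_fin (factors T)
  have : Countable T := Finite.to_countable
  have eS : Shrink.{0} T ≃* T := Shrink.mulEquiv
  have : Fintype (factors T) := Fintype.ofFinite _
  let f := noncommPiCoprod (factors_commute h)
  have hinj : Function.Injective f := injective_noncommPiCoprod_of_iSupIndep (factors_iSupIndep h)
  have hrange : f.range = N := noncommPiCoprod_range.trans (factors_iSup h)
  have e1 : (∀ H : factors T, (H : Subgroup G)) ≃* N :=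
    (MonoidHom.ofInjective hinj).trans (MulEquiv.subgroupCongr hrange)
  have e2 : ∀ H : factors T, Nonempty ((H : Subgroup G) ≃* (Shrink.{0} T)) := fun H => by
    obtain ⟨g, hg⟩ := H.2
    exact ⟨((MulEquiv.subgroupCongr hg.symm).trans
      (T.equivMapOfInjective (MulAut.conj g).toMonoidHom (MulAut.conj g).injective).symm).trans eS.symm⟩
  let e3 : (∀ H : factors T, (H : Subgroup G)) ≃* (factors T → (Shrink.{0} T)) :=
    MulEquiv.piCongrRight fun H => (e2 H).some
  let e4 : (factors T → (Shrink.{0} T)) ≃* (Fin n → (Shrink.{0} T)) :=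
    { Equiv.arrowCongr eι (Equiv.refl ((Shrink.{0} T))) with map_mul' := fun _ _ => rfl }
  refine ⟨Fin n, inferInstance, (Shrink.{0} T), inferInstance, ⟨eι ⟨T, self_mem_factors T⟩⟩, ?_, ?_,
    ⟨(e1.symm.trans e3).trans e4⟩⟩
  · have := h.simple
    exact isSimpleGroup_iff_of_mulEquiv eS.symm
  · intro hc
    exact h.nonab ⟨⟨fun a b => eS.symm.injective (by simp only [map_mul]; exact hc.is_comm.comm _ _)⟩⟩

/-- A minimal normal subgroup of a finite group is a direct power of a simple group. -/
theorem exists_mulEquiv_pi_simple [Finite G] (N : Subgroup G) [N.Normal] (hN : N ≠ ⊥)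
    (hmin : ∀ M : Subgroup G, M.Normal → M ≤ N → M = ⊥ ∨ M = N) :
    ∃ (S : Type) (_ : Group S) (m : ℕ), IsSimpleGroup S ∧ 0 < m ∧ Nonempty (N ≃* (Fin m → S)) := by
  classical
  by_cases hab : IsMulCommutative N
  · have hs : Group.IsSolvable N := by
      letI : CommGroup N := { (inferInstance : Group N) with mul_comm := hab.is_comm.comm }
      infer_instance
    obtain ⟨-, p, hp, hexp, -⟩ := CfsgLib.Solvable.minimal_normal_elementary hN hmin hs
    letI : CommGroup N := { (inferInstance : Group N) with mul_comm := hab.is_comm.comm }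
    obtain ⟨ι, _, n, hn, ⟨e⟩⟩ := CommGroup.equiv_prod_multiplicative_zmod_of_finite N
    have hpn : ∀ i, n i = p := by
      intro i
      let x : ∀ i, Multiplicative (ZMod (n i)) := Pi.mulSingle i (Multiplicative.ofAdd 1)
      have hx : x ^ p = 1 := by
        rw [← e.apply_symm_apply x, ← map_pow,
          show (e.symm x) ^ p = 1 from Subtype.ext (hexp _ (e.symm x).2), map_one]
      have := congrArg (fun f => Multiplicative.toAdd (f i)) hx
      simp only [Pi.pow_apply, x, Pi.mulSingle_eq_same, Pi.one_apply, toAdd_pow, toAdd_ofAdd,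
        toAdd_one, nsmul_one] at this
      rw [ZMod.natCast_eq_zero_iff] at this
      exact ((Nat.dvd_prime hp).mp this).resolve_left (hn i).ne'
    let m := Fintype.card ι
    let e2 : (∀ i, Multiplicative (ZMod (n i))) ≃* (Fin m → Multiplicative (ZMod p)) :=
      (MulEquiv.piCongrRight fun i =>
        (AddEquiv.toMultiplicative (ZMod.ringEquivCongr (hpn i)).toAddEquiv)).trans
        { Equiv.arrowCongr (Fintype.equivFin ι) (Equiv.refl _) with map_mul' := fun _ _ => rfl }
    have : Fact p.Prime := ⟨hp⟩
    refine ⟨Multiplicative (ZMod p), inferInstance, m, ?_, ?_, ⟨e.trans e2⟩⟩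
    · exact isSimpleGroup_of_prime_card (p := p) (by
        rw [Nat.card_congr Multiplicative.toAdd, Nat.card_zmod])
    · refine Nat.pos_of_ne_zero fun hm => hN ?_
      have : IsEmpty ι := Fintype.card_eq_zero_iff.mp hm
      have : Subsingleton N := e.toEquiv.injective.subsingleton
      exact Subgroup.eq_bot_of_subsingleton N
  · obtain ⟨T, hT⟩ := exists_isFactor N hN hmin hab
    obtain ⟨ι, _, S, hS, hne, hsimple, -, ⟨e⟩⟩ := exists_mulEquiv_pi_of_isFactor hT
    refine ⟨S, hS, Fintype.card ι, hsimple, Fintype.card_pos, ⟨e.trans ?_⟩⟩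
    exact { Equiv.arrowCongr (Fintype.equivFin ι) (Equiv.refl S) with map_mul' := fun _ _ => rfl }

end CfsgLib.MinimalNormal
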