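/-
Elements of odd order normalising a 2-group with a single involution.
-/
import Cfsg.Agent.InvChar.UniqueInvolution
import Mathlib

set_option autoImplicit false

namespace CfsgLib.UniqueInvolAut

open Subgroup

variable {G : Type*} [Group G]

theorem units_eq_one {m e : ℕ} {M : Type*} [Monoid M] (u : M) (h1 : u ^ m = 1) (h2 : u ^ e = 1)
    (hco : m.Coprime e) : u = 1 := by
  have := pow_gcd_eq_one.mpr ⟨h1, h2⟩
  simpa [Nat.Coprime.gcd_eq_one hco] using this

/-- Elements of odd order centralise the cyclic 2-groups that they normalise. -/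
theorem commute_of_conj_eq_pow [Finite G] {g a : G} {n r : ℕ} (hn : orderOf a = 2 ^ n)
    (hr : g * a * g⁻¹ = a ^ r) (hodd : Odd (orderOf g)) : Commute g a := by
  rcases Nat.eq_zero_or_pos n with rfl | hn0
  · rw [pow_zero, orderOf_eq_one_iff] at hn
    subst hn
    exact Commute.one_right g
  have hiter : ∀ k : ℕ, g ^ k * a * (g ^ k)⁻¹ = a ^ r ^ k :=
    fun k => CfsgLib.UniqueInvol.pow_conj_pow hr k
  have hpow : a ^ r ^ orderOf g = a ^ 1 := by rw [← hiter, pow_orderOf_eq_one]; simp
  have hmod := pow_eq_pow_iff_modEq.mp hpow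
  rw [hn] at hmod
  have hz : ((r : ZMod (2 ^ n)) ^ orderOf g) = 1 := by
    have := (ZMod.natCast_eq_natCast_iff _ _ _).mpr hmod
    simpa using this
  have hu : IsUnit (r : ZMod (2 ^ n)) :=
    IsUnit.of_pow_eq_one hz (orderOf_pos g).ne'
  obtain ⟨u, hu'⟩ := hu
  have hφ : u ^ (2 ^ n).totient = 1 := ZMod.pow_totient u
  have hz' : u ^ orderOf g = 1 := by
    ext; rw [Units.val_pow_eq_pow_val, hu', hz, Units.val_one]
  have hu1 : u = 1 := by
    refine units_eq_one u hz' hφ ?_
    rw [Nat.totient_prime_pow Nat.prime_two hn0]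
    simpa using Nat.Coprime.pow_right (n - 1) hodd.coprime_two_right
  have : a ^ r = a ^ 1 := by
    rw [pow_eq_pow_iff_modEq, hn, ← ZMod.natCast_eq_natCast_iff, ← hu', hu1]
    simp
  rw [← hr, pow_one] at this
  exact mul_inv_eq_iff_eq_mul.mp this

/-- An element of odd order whose conjugation permutes a four-element set up to a 2-element twist. -/
theorem commute_of_pow {g x : G} [Finite G] (hodd : Odd (orderOf g)) {k : ℕ}
    (h : Commute (g ^ k) x) (h3 : k ∣ 3 * 2 ^ k) : Commute (g ^ 3) x := by
  have hco : (orderOf g).Coprime (2 ^ k) := Nat.Coprime.pow_right k hodd.coprime_two_right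
  obtain ⟨e, he⟩ := h3
  have h' : Commute (g ^ (3 * 2 ^ k)) x := by rw [he, pow_mul]; exact h.pow_left e
  rw [pow_mul] at h'
  obtain ⟨t, ht⟩ := exists_pow_eq_self_of_coprime
    (show (2 ^ k).Coprime (orderOf (g ^ 3)) from
      Nat.Coprime.coprime_dvd_right (orderOf_pow_dvd 3) hco.symm)
  rw [← ht]
  exact h'.pow_left t

/-- An element of odd order normalising a 2-group with one involution: its cube centralises it, and
it centralises it unless that 2-group has order eight. -/
theorem centralizes {R : Subgroup G} [Finite G] (hR : IsPGroup 2 R)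
    (hu : ∀ x ∈ R, ∀ y ∈ R, orderOf x = 2 → orderOf y = 2 → x = y) {g : G}
    (hg : ∀ x ∈ R, g * x * g⁻¹ ∈ R) (hodd : Odd (orderOf g)) :
    (∀ x ∈ R, Commute (g ^ 3) x) ∧ (Nat.card R ≠ 8 → ∀ x ∈ R, Commute g x) := by
  suffices main : (∀ x ∈ R, Commute g x) ∨ (Nat.card R = 8 ∧ ∀ x ∈ R, Commute (g ^ 3) x) by
    rcases main with h | ⟨h8, h⟩
    · exact ⟨fun x hx => (h x hx).pow_left 3, fun _ => h⟩
    · exact ⟨h, fun hne => absurd h8 hne⟩
  have hu' : ∀ x y : R, orderOf x = 2 → orderOf y = 2 → y ∈ zpowers x := by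
    intro x y hx hy
    have : x = y := Subtype.ext (hu x x.2 y y.2 (by rwa [orderOf_coe]) (by rwa [orderOf_coe]))
    exact this ▸ mem_zpowers x
  rcases CfsgLib.UniqueInvol.structure_thm hR hu' with hcyc | ⟨-, a, n, hn2, ha, hidx, hout⟩
  · left
    obtain ⟨a, ha⟩ := hcyc
    obtain ⟨n, hn⟩ := IsPGroup.iff_orderOf.mp hR a
    obtain ⟨r, hr⟩ := (mem_powers_iff_mem_zpowers (x := a)).mpr (ha ⟨_, hg a a.2⟩)
    have hc := commute_of_conj_eq_pow (by rwa [orderOf_coe]) (by
      simpa using (congrArg Subtype.val hr).symm) hodd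
    intro x hx
    obtain ⟨i, hi⟩ := mem_zpowers_iff.mp (ha ⟨x, hx⟩)
    have := congrArg Subtype.val hi
    simp only [SubgroupClass.coe_zpow] at this
    rw [← this]
    exact hc.zpow_right i
  have hcard : Nat.card R = 2 ^ (n + 1) := by
    rw [← card_mul_index (zpowers a), hidx, Nat.card_zpowers, ha, pow_succ]
  rcases Nat.lt_or_ge n 3 with hn | hn
  · -- the quaternion group of order eight
    obtain rfl : n = 2 := by omega
    right
    refine ⟨by rw [hcard]; norm_num, ?_⟩
    let z : R := a ^ 2
    have hz2 : orderOf z = 2 := by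
      show orderOf (a ^ 2) = 2
      rw [orderOf_pow, ha]
      norm_num
    let c : MulAut R :=
      { toFun := fun x => ⟨g * x * g⁻¹, hg x x.2⟩
        invFun := fun x => ⟨g⁻¹ * x * g, by
          obtain ⟨t, ht⟩ := exists_pow_eq_self_of_coprime
            (x := g⁻¹) (n := 1) (Nat.coprime_one_left _)
          have hmem : ∀ k : ℕ, g ^ k * x * (g ^ k)⁻¹ ∈ R := by
            intro k
            induction k with
            | zero => simp
            | succ k ih =>
              have : g ^ (k + 1) * x * (g ^ (k + 1))⁻¹ = g * (g ^ k * x * (g ^ k)⁻¹) * g⁻¹ := by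
                rw [pow_succ']; group
              rw [this]
              exact hg _ ih
          have := hmem (orderOf g - 1)
          rwa [← inv_eq_of_mul_eq_one_right (show g * g ^ (orderOf g - 1) = 1 by
            rw [← pow_succ', Nat.sub_add_cancel (orderOf_pos g), pow_orderOf_eq_one]),
            inv_inv] at this⟩
        left_inv := fun x => Subtype.ext (by simp [mul_assoc])
        right_inv := fun x => Subtype.ext (by simp [mul_assoc])
        map_mul' := fun x y => Subtype.ext (by simp [mul_assoc]) }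
    have hcz : c z = z := by
      refine Subtype.ext (hu _ (c z).2 _ z.2 ?_ ?_)
      · rw [orderOf_coe, MulEquiv.orderOf_eq, hz2]
      · rw [orderOf_coe, hz2]
    have hzc : ∀ x : R, z * x = x * z := by
      intro x
      by_cases hx : x ∈ zpowers a
      · obtain ⟨i, rfl⟩ := hx
        exact ((Commute.refl a).pow_left 2).zpow_right i
      · have h := (hout x hx).2
        show a ^ 2 * x = x * a ^ 2
        norm_num at h
        rw [← h]
        exact ((Commute.refl x).pow_left 2)
    haveI hZn : (zpowers z).Normal := ⟨fun y hy x => by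
      obtain ⟨i, rfl⟩ := hy
      have : Commute x z := (hzc x).symm
      rw [(this.zpow_right i).eq, mul_inv_cancel_right]
      exact ⟨i, rfl⟩⟩
    have hcq : zpowers z ≤ (zpowers z).comap c.toMonoidHom := by
      rw [zpowers_le, mem_comap]
      exact hcz.symm ▸ mem_zpowers z
    have hq : Nat.card (R ⧸ zpowers z) = 4 := by
      have h := card_eq_card_quotient_mul_card_subgroup (zpowers z)
      rw [hcard, Nat.card_zpowers, hz2] at h
      omega
    have hiter : ∀ (k : ℕ) (x : R), ((c ^ k) x : G) = g ^ k * x * (g ^ k)⁻¹ := by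
      intro k
      induction k with
      | zero => intro x; simp
      | succ k ih =>
        intro x
        rw [pow_succ', MulAut.mul_apply, show ((c ((c ^ k) x) : R) : G) =
          g * ((c ^ k) x : G) * g⁻¹ from rfl, ih, pow_succ']
        group
    -- the action on the three non-trivial classes
    let S := {q : R ⧸ zpowers z // q ≠ 1}
    have hS : Nat.card S = 3 := by
      have := Fintype.ofFinite (R ⧸ zpowers z)
      rw [Nat.card_eq_fintype_card] at hq ⊢
      rw [Fintype.card_subtype_compl, Fintype.card_subtype_eq, hq]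
    let cb : R ⧸ zpowers z →* R ⧸ zpowers z := QuotientGroup.map _ _ c.toMonoidHom hcq
    have hcb : Function.Injective cb := by
      rw [injective_iff_map_eq_one]
      intro q
      induction q using QuotientGroup.induction_on with
      | _ x =>
        intro hx
        change ((c x : R) : R ⧸ zpowers z) = 1 at hx
        rw [QuotientGroup.eq_one_iff] at hx ⊢
        obtain ⟨i, hi⟩ := hx
        exact ⟨i, c.injective (by simp only [map_zpow, hcz]; exact hi)⟩
    let π : Equiv.Perm S := Equiv.ofBijective
      (fun q => ⟨cb q.1, fun h => q.2 (hcb (h.trans (map_one cb).symm))⟩)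
      (Finite.injective_iff_bijective.mp fun q q' h => Subtype.ext (hcb (congrArg Subtype.val h)))
    have hπ : π ^ 6 = 1 := by
      have h6 : Nat.card (Equiv.Perm S) = 6 := by rw [Nat.card_perm, hS]; rfl
      rw [← h6]
      exact pow_card_eq_one'
    intro x hx
    refine commute_of_pow hodd (k := 12) ?_ (by norm_num)
    have hq6 : ((c ^ 6) ⟨x, hx⟩ : R ⧸ zpowers z) = ((⟨x, hx⟩ : R) : R ⧸ zpowers z) := by
      by_cases hx1 : ((⟨x, hx⟩ : R) : R ⧸ zpowers z) = 1
      · rw [hx1, QuotientGroup.eq_one_iff]
        rw [QuotientGroup.eq_one_iff] at hx1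
        obtain ⟨i, hi⟩ := hx1
        simp only at hi
        have hfix : ∀ k : ℕ, (c ^ k) z = z := by
          intro k
          induction k with
          | zero => rfl
          | succ k ih => rw [pow_succ', MulAut.mul_apply, ih, hcz]
        refine ⟨i, ?_⟩
        show z ^ i = (c ^ 6) ⟨x, hx⟩
        rw [← hi, map_zpow, hfix]
      · have key : ∀ k : ℕ, ((π ^ k) ⟨_, hx1⟩ : S).1 = (((c ^ k) ⟨x, hx⟩ : R) : R ⧸ zpowers z) := by
          intro k
          induction k with
          | zero => rfl
          | succ k ih =>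
            rw [pow_succ', Equiv.Perm.mul_apply, pow_succ', MulAut.mul_apply]
            show cb _ = _
            rw [ih]
            rfl
        rw [← key 6, hπ]
        rfl
    rw [QuotientGroup.eq] at hq6
    -- the sixth power multiplies by a power of the central involution fixed by it
    obtain ⟨i, hi⟩ := hq6
    simp only at hi
    have hfix : (c ^ 6) (z ^ i) = z ^ i := by
      rw [map_zpow]
      congr 1
      have : ∀ k : ℕ, (c ^ k) z = z := by
        intro k
        induction k with
        | zero => rfl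
        | succ k ih => rw [pow_succ', MulAut.mul_apply, ih, hcz]
      exact this 6
    have h6 : (⟨x, hx⟩ : R) = (c ^ 6) ⟨x, hx⟩ * z ^ i := by rw [hi]; group
    have h12 : (c ^ 12) ⟨x, hx⟩ = (⟨x, hx⟩ : R) := by
      have e := congrArg (fun t : R => (c ^ 6) t) h6
      rw [map_mul, hfix, ← MulAut.mul_apply, ← pow_add] at e
      have e2 : (c ^ 12) ⟨x, hx⟩ = (c ^ 6) ⟨x, hx⟩ * (z ^ i)⁻¹ := by
        rw [e]; group
      have hzi : z ^ i * z ^ i = 1 := by
        rw [← zpow_add, ← orderOf_dvd_iff_zpow_eq_one, hz2]
        exact ⟨i, by ring⟩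
      rw [e2, inv_eq_of_mul_eq_one_right hzi]
      exact h6.symm
    have := congrArg Subtype.val h12
    rw [hiter] at this
    exact mul_inv_eq_iff_eq_mul.mp this
  · -- generalised quaternion of order at least sixteen
    left
    have hord : ∀ x : R, x ∉ zpowers a → orderOf x ∣ 4 := by
      intro x hx
      refine orderOf_dvd_of_pow_eq_one ?_
      rw [show (4 : ℕ) = 2 * 2 from rfl, pow_mul, (hout x hx).2, ← pow_mul, ← pow_succ,
        Nat.sub_add_cancel (by omega), ← ha, pow_orderOf_eq_one]
    have hga : (⟨g * a * g⁻¹, hg a a.2⟩ : R) ∈ zpowers a := by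
      by_contra h
      have h4 := hord _ h
      rw [← orderOf_coe] at h4
      simp only at h4
      rw [← MulAut.conj_apply g (a : G), MulEquiv.orderOf_eq, orderOf_coe, ha] at h4
      have := Nat.le_of_dvd (by norm_num) h4
      have h8 : 2 ^ 3 ≤ 2 ^ n := Nat.pow_le_pow_right (by norm_num) hn
      omega
    obtain ⟨r, hr⟩ := (mem_powers_iff_mem_zpowers (x := a)).mpr hga
    have hc : Commute g (a : G) := commute_of_conj_eq_pow (by rwa [orderOf_coe]) (by
      simpa using (congrArg Subtype.val hr).symm) hodd
    intro x hx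
    by_cases hxa : (⟨x, hx⟩ : R) ∈ zpowers a
    · obtain ⟨i, hi⟩ := hxa
      have := congrArg Subtype.val hi
      simp only [SubgroupClass.coe_zpow] at this
      rw [← this]
      exact hc.zpow_right i
    · -- `g x g⁻¹ = a^i x`
      have hgx : (⟨g * x * g⁻¹, hg x hx⟩ : R) ∉ zpowers a := by
        rintro ⟨i, hi⟩
        apply hxa
        have e := congrArg Subtype.val hi
        simp only [SubgroupClass.coe_zpow] at e
        refine ⟨i, Subtype.ext ?_⟩
        simp only [SubgroupClass.coe_zpow]
        calc (a : G) ^ i = g⁻¹ * (g * (a : G) ^ i) := by group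
          _ = g⁻¹ * ((a : G) ^ i * g) := by rw [(hc.zpow_right i).eq]
          _ = x := by rw [e]; group
      have hmem := (mul_mem_iff_of_index_two hidx (a := (⟨g * x * g⁻¹, hg x hx⟩ : R))
        (b := (⟨x, hx⟩ : R)⁻¹)).mpr (iff_of_false hgx (by rwa [inv_mem_iff]))
      obtain ⟨i, hi⟩ := hmem
      have e : g * x * g⁻¹ = (a : G) ^ i * x := by
        have := congrArg Subtype.val hi
        simp only [SubgroupClass.coe_zpow, Subgroup.coe_mul, Subgroup.coe_inv] at this
        rw [this]; group
      have key : ∀ k : ℕ, g ^ k * x * (g ^ k)⁻¹ = (a : G) ^ (i * k) * x := by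
        intro k
        induction k with
        | zero => simp
        | succ k ih =>
          calc g ^ (k + 1) * x * (g ^ (k + 1))⁻¹ = g * (g ^ k * x * (g ^ k)⁻¹) * g⁻¹ := by
                rw [pow_succ']; group
            _ = (g * (a : G) ^ (i * k)) * x * g⁻¹ := by rw [ih]; group
            _ = ((a : G) ^ (i * k) * g) * x * g⁻¹ := by rw [(hc.zpow_right _).eq]
            _ = (a : G) ^ (i * k) * (g * x * g⁻¹) := by group
            _ = (a : G) ^ (i * k) * ((a : G) ^ i * x) := by rw [e]
            _ = (a : G) ^ (i * (k + 1 : ℕ)) * x := by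
                rw [← mul_assoc, ← zpow_add]; push_cast; ring_nf
      have hm := key (orderOf g)
      rw [pow_orderOf_eq_one, one_mul, inv_one, mul_one] at hm
      have ham : (a : G) ^ (i * orderOf g) = 1 := mul_eq_right.mp hm.symm
      rw [← orderOf_dvd_iff_zpow_eq_one, orderOf_coe, ha] at ham
      have hcop : IsCoprime ((2 ^ n : ℕ) : ℤ) (orderOf g : ℤ) :=
        Nat.isCoprime_iff_coprime.mpr (Nat.Coprime.pow_left n hodd.coprime_two_left)
      have hi0 : (a : G) ^ i = 1 := by
        rw [← orderOf_dvd_iff_zpow_eq_one, orderOf_coe, ha]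
        exact hcop.dvd_of_dvd_mul_right ham
      rw [hi0, one_mul] at e
      exact mul_inv_eq_iff_eq_mul.mp e

end CfsgLib.UniqueInvolAut
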