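/-
A group with an involutory automorphism fixing only the central involution, one subgroup of order
three and one involution, acting fixed point freely with one non-trivial orbit, has a subgroup of
index two.
-/
import Cfsg.Agent.Perm.UniqueInvolutionAut
import Cfsg.Agent.Transfer.Frobenius
import Cfsg.Agent.Transfer.Basic
import Mathlib

set_option autoImplicit false

namespace CfsgLib.SharplyThreeIndex

open Subgroup

universe u

variable {H : Type u} [Group H] [Finite H]

theorem top_of_twisted (σ : MulAut H) {z : H} (hfix : ∀ h, σ h = h → h = 1 ∨ h = z)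
    (hno : ∀ N : Subgroup H, N.index ≠ 2) (K : Subgroup H) (hK : ∀ h, h⁻¹ * σ h ∈ K) : K = ⊤ := by
  classical
  have := Fintype.ofFinite H
  let f : H → H := fun h => h⁻¹ * σ h
  have h1 : (Finset.univ : Finset H).card ≤
      2 * (Finset.univ.filter fun x => x ∈ K : Finset H).card := by
    refine Finset.card_le_mul_card_image_of_maps_to (f := f)
      (fun h _ => Finset.mem_filter.mpr ⟨Finset.mem_univ _, hK h⟩) 2 fun w _ => ?_
    rcases (Finset.univ.filter fun h => f h = w).eq_empty_or_nonempty with he | ⟨k, hk⟩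
    · rw [he]; simp
    refine le_trans (Finset.card_le_card (t := {k, z * k}) fun h hh => ?_) Finset.card_le_two
    have e : h⁻¹ * σ h = k⁻¹ * σ k :=
      (Finset.mem_filter.mp hh).2.trans (Finset.mem_filter.mp hk).2.symm
    have hf : σ (h * k⁻¹) = h * k⁻¹ := by
      rw [map_mul, map_inv]
      calc σ h * (σ k)⁻¹ = h * (h⁻¹ * σ h) * (σ k)⁻¹ := by group
        _ = h * (k⁻¹ * σ k) * (σ k)⁻¹ := by rw [e]
        _ = h * k⁻¹ := by group
    rcases hfix _ hf with h1 | h1
    · simp [mul_inv_eq_one.mp h1]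
    · simp [← h1, mul_assoc]
  have h2 : (Finset.univ.filter fun x => x ∈ K : Finset H).card = Nat.card K := by
    rw [Nat.card_eq_fintype_card, Fintype.card_subtype]
  rw [h2, Finset.card_univ, ← Nat.card_eq_fintype_card, ← card_mul_index K, mul_comm 2] at h1
  have h3 := Nat.le_of_mul_le_mul_left h1 Nat.card_pos
  have h4 : K.index ≠ 0 := index_ne_zero_of_finite
  have := hno K
  exact index_eq_one.mp (by omega)

theorem exists_index_two_of_two_group {X : Type u} [Group X] [Finite X] (hX : IsPGroup 2 X)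
    (hne : Nat.card X ≠ 1) : ∃ N : Subgroup X, N.index = 2 := by
  obtain ⟨k, hk⟩ := IsPGroup.iff_card.mp hX
  have hk0 : k ≠ 0 := by rintro rfl; exact hne (by simpa using hk)
  haveI : Fact (Nat.Prime 2) := ⟨Nat.prime_two⟩
  obtain ⟨N, hN⟩ := Sylow.exists_subgroup_card_pow_prime (G := X) 2
    (n := k - 1) (by rw [hk]; exact pow_dvd_pow 2 (by omega))
  refine ⟨N, ?_⟩
  have h := card_mul_index N
  rw [hN, hk] at h
  have : 2 ^ k = 2 ^ (k - 1) * 2 := by rw [← pow_succ]; congr 1; omega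
  rw [this] at h
  exact Nat.eq_of_mul_eq_mul_left (by positivity) h

/-- A Sylow 3-subgroup of order `3^k` with `N` its normal complement. -/
theorem three_complement (hu3 : ∀ x y : H, orderOf x = 3 → orderOf y = 3 → y ∈ zpowers x)
    (hc : ∀ t : H, orderOf t = 3 → ∀ h : H, h * t = t * h) (P : Sylow 3 H) :
    IsCyclic P ∧ Cfsg.HasNormalPComplement 3 H := by
  haveI : Fact (Nat.Prime 3) := ⟨by norm_num⟩
  have hcyc : IsCyclic P := by
    rcases CfsgLib.UniqueInvol.cyclic_or_quaternion (G := P) P.2 (fun x y hx hy => by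
        obtain ⟨i, hi⟩ := hu3 x y (by rwa [orderOf_coe]) (by rwa [orderOf_coe])
        exact ⟨i, Subtype.ext (by simpa using hi)⟩) with h | ⟨h, -⟩
    · exact h
    · norm_num at h
  refine ⟨hcyc, CfsgLib.TransferBasic.hasNormalPComplement_of_abelian (P := P) inferInstance ?_⟩
  intro g hg hco
  rw [mem_centralizer_iff]
  obtain ⟨⟨a, ha⟩, hgen⟩ := hcyc.exists_generator (α := P)
  obtain ⟨k, hk⟩ := IsPGroup.iff_orderOf.mp P.2 (⟨a, ha⟩ : P)
  rw [← orderOf_coe] at hk
  simp only at hk
  obtain ⟨r, hr⟩ := (mem_powers_iff_mem_zpowers (x := (⟨a, ha⟩ : P))).mpr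
    (hgen ⟨g * a * g⁻¹, (mem_normalizer_iff.mp hg a).mp ha⟩)
  have hr' : g * a * g⁻¹ = a ^ r := by simpa using (congrArg Subtype.val hr).symm
  have hga : Commute g a := by
    rcases Nat.eq_zero_or_pos k with rfl | hk0
    · rw [pow_zero, orderOf_eq_one_iff] at hk
      subst hk
      exact Commute.one_right g
    obtain ⟨l, rfl⟩ : ∃ l, k = l + 1 := ⟨k - 1, by omega⟩
    have ht : orderOf (a ^ 3 ^ l) = 3 := by
      rw [orderOf_pow' a (by positivity), hk, Nat.gcd_eq_right (pow_dvd_pow 3 (Nat.le_succ l)),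
        pow_succ, Nat.mul_div_cancel_left _ (by positivity)]
    have hr3 : a ^ (r * 3 ^ l) = a ^ (3 ^ l) := by
      rw [pow_mul, ← hr', conj_pow, hc _ ht g, mul_inv_cancel_right]
    rw [pow_eq_pow_iff_modEq, hk] at hr3
    have hr1 : (3 : ℤ) ∣ (r : ℤ) - 1 := by
      have h := Nat.modEq_iff_dvd.mp hr3.symm
      push_cast at h
      rw [show (r : ℤ) * 3 ^ l - 3 ^ l = ((r : ℤ) - 1) * 3 ^ l by ring, pow_succ'] at h
      exact Int.dvd_of_mul_dvd_mul_right (by positivity) h
    have hlift : a ^ (r ^ 3 ^ l) = a ^ 1 := by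
      rw [pow_eq_pow_iff_modEq, hk]
      refine Nat.ModEq.symm (Nat.modEq_iff_dvd.mpr ?_)
      push_cast
      simpa using dvd_sub_pow_of_dvd_sub (R := ℤ) (p := 3) (a := (r : ℤ)) (b := 1)
        (by exact_mod_cast hr1) l
    rw [← CfsgLib.UniqueInvol.pow_conj_pow hr', pow_one] at hlift
    have hcm : Commute (g ^ 3 ^ l) a := mul_inv_eq_iff_eq_mul.mp hlift
    obtain ⟨e, he⟩ := exists_pow_eq_self_of_coprime
      (show (3 ^ l).Coprime (orderOf g) from Nat.Coprime.pow_left _ hco.symm)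
    rw [← he]
    exact hcm.pow_left e
  intro y hy
  obtain ⟨i, hi⟩ := hgen ⟨y, hy⟩
  have := congrArg Subtype.val hi
  simp only [SubgroupClass.coe_zpow] at this
  rw [← this]
  exact ((hga.zpow_right i).eq).symm

/-- The structure of a counterexample. -/
theorem structure_of_no_index_two (σ : MulAut H) {z : H} (hz : orderOf z = 2)
    (hσσ : ∀ h, σ (σ h) = h) (hu2 : ∀ x : H, orderOf x = 2 → x = z) (hfix : ∀ h, σ h = h → h = 1 ∨ h = z)
    (hu3 : ∀ x y : H, orderOf x = 3 → orderOf y = 3 → y ∈ zpowers x)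
    (hno : ∀ N : Subgroup H, N.index ≠ 2) :
    (∀ h : H, h * z = z * h) ∧ 3 ∣ Nat.card (center H) ∧ (center H).index ∣ 12 ∧
      ∃ i j : H, i * i = z ∧ j * j = z ∧ j * i * j⁻¹ = i⁻¹ := by
  classical
  haveI : Fact (Nat.Prime 2) := ⟨Nat.prime_two⟩
  haveI : Fact (Nat.Prime 3) := ⟨by norm_num⟩
  have hzc : ∀ h : H, h * z = z * h := fun h => by
    have h1 : h * z * h⁻¹ = z := hu2 _ (by
      rw [← MulAut.conj_apply h z, MulEquiv.orderOf_eq, hz])
    exact mul_inv_eq_iff_eq_mul.mp h1
  -- elements of order three are central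
  have htc : ∀ t : H, orderOf t = 3 → ∀ h : H, h * t = t * h := by
    intro t ht h
    have hpow : ∀ x : H, orderOf x = 3 → x = t ∨ x = t⁻¹ := by
      intro x hx
      obtain ⟨n, hn⟩ := mem_zpowers_iff.mp (hu3 t x ht hx)
      rw [← hn, ← zpow_mod_orderOf, ht]
      have h1 : 0 ≤ n % 3 := Int.emod_nonneg _ (by norm_num)
      have h2 : n % 3 < 3 := Int.emod_lt_of_pos _ (by norm_num)
      have h3 : n % 3 = 0 ∨ n % 3 = 1 ∨ n % 3 = 2 := by omega
      rcases h3 with h3 | h3 | h3
      · exfalso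
        rw [← hn, ← zpow_mod_orderOf, ht] at hx
        norm_num [h3] at hx
      · left; norm_num [h3]
      · right
        norm_num [h3]
        refine eq_inv_of_mul_eq_one_left ?_
        rw [← pow_succ, show 2 + 1 = orderOf t from ht.symm, pow_orderOf_eq_one]
    have hσt : σ t = t⁻¹ := by
      rcases hpow (σ t) (by rw [MulEquiv.orderOf_eq, ht]) with e | e
      · exfalso
        rcases hfix t e with rfl | rfl
        · rw [orderOf_one] at ht; norm_num at ht
        · rw [hz] at ht; norm_num at ht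
      · exact e
    have hK : ∀ h : H, h⁻¹ * σ h ∈ centralizer ({t} : Set H) := by
      intro h
      rw [mem_centralizer_singleton_iff]
      have hc : σ h * t⁻¹ * (σ h)⁻¹ = h * t⁻¹ * h⁻¹ := by
        rw [← hσt, ← map_inv, ← map_mul, ← map_mul]
        rcases hpow (h * t * h⁻¹) (by rw [← MulAut.conj_apply h t, MulEquiv.orderOf_eq, ht])
          with e | e
        · rw [e, hσt, ← conj_inv, e]
        · rw [e, map_inv, hσt, ← conj_inv, e]
      have hc' : σ h * t * (σ h)⁻¹ = h * t * h⁻¹ := by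
        simpa [conj_inv, mul_assoc] using congrArg (fun x => x⁻¹) hc
      calc h⁻¹ * σ h * t = h⁻¹ * (σ h * t * (σ h)⁻¹) * σ h := by group
        _ = h⁻¹ * (h * t * h⁻¹) * σ h := by rw [hc']
        _ = t * (h⁻¹ * σ h) := by group
    have := mem_centralizer_singleton_iff.mp
      ((top_of_twisted σ hfix hno _ hK).symm ▸ mem_top h : h ∈ centralizer ({t} : Set H))
    exact this
  obtain ⟨P₀⟩ := (inferInstance : Nonempty (Sylow 3 H))
  obtain ⟨-, P, N, hNn, hcompl⟩ := three_complement hu3 htc P₀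
  obtain ⟨hPcyc, -⟩ := three_complement hu3 htc P
  have hN3 : (Nat.card N).Coprime 3 := by
    rw [Nat.coprime_comm, Nat.prime_three.coprime_iff_not_dvd]
    intro hd
    obtain ⟨x, hx⟩ := exists_prime_orderOf_dvd_card' (G := N) 3 hd
    obtain ⟨k, hk⟩ := IsPGroup.iff_card.mp P.2
    have h1 : (P : Subgroup H).index = Nat.card N := by
      have hm := card_mul_index (P : Subgroup H)
      rw [← hcompl.card_mul] at hm
      exact Nat.eq_of_mul_eq_mul_left Nat.card_pos (by rw [hm, mul_comm])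
    exact P.not_dvd_index (h1 ▸ hd)
  -- elements prime to three lie in `N`
  have hquot : ∀ x : H, (orderOf x).Coprime 3 → x ∈ N := by
    intro x hx
    rw [← QuotientGroup.eq_one_iff (N := N)]
    have hidx : N.index = Nat.card P := hcompl.symm.index_eq_card
    obtain ⟨k, hk⟩ := IsPGroup.iff_card.mp P.2
    have hd : orderOf (x : H ⧸ N) ∣ 3 ^ k := by
      rw [← hk, ← hidx, index]
      exact orderOf_dvd_natCard _
    have hd2 : orderOf (x : H ⧸ N) ∣ orderOf x := orderOf_map_dvd (QuotientGroup.mk' N) x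
    rw [← orderOf_eq_one_iff]
    exact Nat.eq_one_of_dvd_coprimes (Nat.Coprime.pow_right k hx) hd2 hd
  -- `N` has a normal 2-complement
  have hLC : CfsgLib.Fusion.LocalCondition 2 N := by
    intro R hR g hg hco
    rw [mem_centralizer_iff]
    intro y hy
    let R' : Subgroup H := R.map N.subtype
    have hR' : IsPGroup 2 R' := hR.map _
    have hodd : Odd (orderOf (g : H)) := by
      rw [orderOf_coe]
      exact Nat.coprime_two_right.mp hco
    have hnorm : ∀ x ∈ R', (g : H) * x * (g : H)⁻¹ ∈ R' := by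
      rintro x ⟨x', hx', rfl⟩
      exact ⟨g * x' * g⁻¹, (mem_normalizer_iff.mp hg x').mp hx', by simp⟩
    have h3 := (CfsgLib.UniqueInvolAut.centralizes hR'
      (fun x _ y _ hx hy => (hu2 x hx).trans (hu2 y hy).symm) hnorm hodd).1 _ ⟨y, hy, rfl⟩
    have hg3 : (3 : ℕ).Coprime (orderOf (g : H)) := by
      rw [orderOf_coe, Nat.coprime_comm]
      exact Nat.Coprime.coprime_dvd_left (orderOf_dvd_natCard _) hN3
    obtain ⟨e, he⟩ := exists_pow_eq_self_of_coprime hg3
    have := h3.pow_left e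
    rw [he] at this
    exact Subtype.ext this.eq.symm
  obtain ⟨Q₁, W₁, hW₁n, hW₁⟩ := CfsgLib.Fusion.hasNormalPComplement_of_localCondition hLC
  have hW₁odd : ¬ 2 ∣ Nat.card W₁ := by
    intro hd
    have h1 : (Q₁ : Subgroup N).index = Nat.card W₁ := by
      have hm := card_mul_index (Q₁ : Subgroup N)
      rw [← hW₁.card_mul] at hm
      exact Nat.eq_of_mul_eq_mul_left Nat.card_pos (by rw [hm, mul_comm])
    exact Q₁.not_dvd_index (h1 ▸ hd)
  let W : Subgroup H := W₁.map N.subtype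
  have hWcard : Nat.card W = Nat.card W₁ :=
    card_map_of_injective N.subtype_injective
  -- `W` consists of the elements of order prime to six
  have hWmem : ∀ x : H, x ∈ W ↔ (orderOf x).Coprime 6 := by
    intro x
    constructor
    · intro hx
      refine Nat.Coprime.coprime_dvd_left (Subgroup.orderOf_dvd_natCard _ hx) ?_
      rw [hWcard, show (6 : ℕ) = 2 * 3 from rfl]
      exact Nat.Coprime.mul_right (Nat.coprime_comm.mp (Nat.prime_two.coprime_iff_not_dvd.mpr hW₁odd))
        (Nat.Coprime.coprime_dvd_left (card_subgroup_dvd_card W₁) hN3)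
    · intro hx
      have hxN : x ∈ N := hquot x (hx.coprime_dvd_right (by norm_num))
      refine ⟨⟨x, hxN⟩, ?_, rfl⟩
      rw [SetLike.mem_coe, ← QuotientGroup.eq_one_iff (N := W₁)]
      obtain ⟨k, hk⟩ := IsPGroup.iff_card.mp Q₁.2
      have hd : orderOf ((⟨x, hxN⟩ : N) : N ⧸ W₁) ∣ 2 ^ k := by
        rw [← hk, ← hW₁.symm.index_eq_card, index]
        exact orderOf_dvd_natCard _
      have hd2 : orderOf ((⟨x, hxN⟩ : N) : N ⧸ W₁) ∣ orderOf x := by
        refine (orderOf_map_dvd (QuotientGroup.mk' W₁) (⟨x, hxN⟩ : N)).trans ?_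
        rw [← orderOf_coe (⟨x, hxN⟩ : N)]
      rw [← orderOf_eq_one_iff]
      exact Nat.eq_one_of_dvd_coprimes
        (Nat.Coprime.pow_right k (hx.coprime_dvd_right (by norm_num : 2 ∣ 6))) hd2 hd
  have hWn : ∀ w ∈ W, ∀ h : H, h * w * h⁻¹ ∈ W := fun w hw h => by
    rw [hWmem] at hw ⊢
    rwa [← MulAut.conj_apply h w, MulEquiv.orderOf_eq]
  have hWσ : ∀ w ∈ W, σ w ∈ W := fun w hw => by
    rw [hWmem] at hw ⊢
    rwa [MulEquiv.orderOf_eq]
  have hzW : z ∉ W := fun h => by
    rw [hWmem, hz] at h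
    norm_num at h
  -- `σ` inverts `W`
  have hinj : Function.Injective
      (fun w : W => (⟨(w : H)⁻¹ * σ w, mul_mem (inv_mem w.2) (hWσ _ w.2)⟩ : W)) := by
    intro w w' e
    have e' : (w : H)⁻¹ * σ w = (w' : H)⁻¹ * σ w' := congrArg Subtype.val e
    have hf : σ ((w : H) * (w' : H)⁻¹) = (w : H) * (w' : H)⁻¹ := by
      rw [map_mul, map_inv]
      calc σ w * (σ w')⁻¹ = w * ((w : H)⁻¹ * σ w) * (σ w')⁻¹ := by group
        _ = w * ((w' : H)⁻¹ * σ w') * (σ w')⁻¹ := by rw [e']
        _ = w * (w' : H)⁻¹ := by group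
    rcases hfix _ hf with h | h
    · exact Subtype.ext (mul_inv_eq_one.mp h)
    · exact absurd (h ▸ mul_mem w.2 (inv_mem w'.2)) hzW
  have hsurj := (Finite.injective_iff_bijective.mp hinj).2
  have hWc : ∀ w ∈ W, ∀ h : H, h * w = w * h := by
    have hinv : ∀ w ∈ W, σ w = w⁻¹ := by
      intro w hw
      obtain ⟨v, hv⟩ := hsurj ⟨w, hw⟩
      have e : (v : H)⁻¹ * σ v = w := congrArg Subtype.val hv
      rw [← e, map_mul, map_inv, hσσ, mul_inv_rev, inv_inv]
    intro w hw h
    have hK : ∀ h : H, h⁻¹ * σ h ∈ centralizer (W : Set H) := by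
      intro h
      rw [mem_centralizer_iff]
      intro v hv
      have e : σ h * v * (σ h)⁻¹ = h * v * h⁻¹ := by
        have h1 := hinv _ (hWn v⁻¹ (inv_mem hv) h)
        rw [map_mul, map_mul, map_inv σ h, hinv _ (inv_mem hv), inv_inv] at h1
        rw [h1]
        group
      calc v * (h⁻¹ * σ h) = h⁻¹ * (h * v * h⁻¹) * σ h := by group
        _ = h⁻¹ * (σ h * v * (σ h)⁻¹) * σ h := by rw [e]
        _ = h⁻¹ * σ h * v := by group
    exact (mem_centralizer_iff.mp
      ((top_of_twisted σ hfix hno _ hK).symm ▸ mem_top h : h ∈ centralizer (W : Set H)) w hw).symm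
  -- `W` is central, so the Sylow 2-subgroup of `N` is normal
  have hWcN : ∀ w ∈ W₁, ∀ y : N, y * w = w * y := fun w hw y =>
    Subtype.ext (hWc w ⟨w, hw, rfl⟩ y)
  let Q : Subgroup H := (Q₁ : Subgroup N).map N.subtype
  have hQp : IsPGroup 2 Q := Q₁.2.map _
  have hQmem : ∀ x : H, x ∈ Q ↔ ∃ k, orderOf x = 2 ^ k := by
    intro x
    constructor
    · intro hx
      obtain ⟨k, hk⟩ := IsPGroup.iff_orderOf.mp hQp ⟨x, hx⟩
      exact ⟨k, by simpa [← orderOf_coe] using hk⟩
    · rintro ⟨k, hk⟩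
      have hxN : x ∈ N := hquot x (by rw [hk]; exact Nat.Coprime.pow_left k (by norm_num))
      obtain ⟨⟨⟨w, hw⟩, ⟨y, hy⟩⟩, e⟩ := hW₁.2 ⟨x, hxN⟩
      simp only at e
      obtain ⟨l, hl⟩ := IsPGroup.iff_orderOf.mp Q₁.2 ⟨y, hy⟩
      rw [← orderOf_coe] at hl
      simp only at hl
      have hcomm : Commute w y := (hWcN w hw y).symm
      have e1 : w = (⟨x, hxN⟩ : N) * y⁻¹ := by rw [← e]; group
      have hcx : Commute (⟨x, hxN⟩ : N) y := by rw [← e]; exact hcomm.mul_left (Commute.refl y)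
      have hd : orderOf w ∣ 2 ^ (k + l) := by
        rw [e1, orderOf_dvd_iff_pow_eq_one, (hcx.inv_right).mul_pow, pow_add,
          pow_mul, mul_comm, pow_mul]
        rw [show (⟨x, hxN⟩ : N) ^ 2 ^ k = 1 by
          exact Subtype.ext (by rw [SubgroupClass.coe_pow, ← hk]; exact pow_orderOf_eq_one x)]
        rw [inv_pow, ← hl, pow_orderOf_eq_one]
        simp
      have hd' : orderOf w ∣ Nat.card W₁ := Subgroup.orderOf_dvd_natCard _ hw
      have hw1 : w = 1 := orderOf_eq_one_iff.mp (Nat.eq_one_of_dvd_coprimes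
        (Nat.Coprime.pow_left _ (Nat.prime_two.coprime_iff_not_dvd.mpr hW₁odd)) hd hd')
      rw [hw1, one_mul] at e
      exact ⟨y, hy, congrArg Subtype.val e⟩
  have hQn : ∀ y ∈ Q, ∀ h : H, h * y * h⁻¹ ∈ Q := fun y hy h => by
    rw [hQmem] at hy ⊢
    rwa [← MulAut.conj_apply h y, MulEquiv.orderOf_eq]
  obtain ⟨⟨x, hxP⟩, hxgen⟩ := hPcyc.exists_generator (α := P)
  have hxord : orderOf x = Nat.card P := by
    exact (orderOf_coe (⟨x, hxP⟩ : P)).trans (orderOf_eq_card_of_forall_mem_zpowers hxgen)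
  obtain ⟨k, hk⟩ := IsPGroup.iff_card.mp P.2
  have hxodd : Odd (orderOf x) := by rw [hxord, hk]; exact Odd.pow (by decide)
  have hdec : ∀ h : H, ∃ w ∈ W, ∃ y ∈ Q, ∃ i : ℤ, h = w * y * x ^ i := by
    intro h
    obtain ⟨⟨⟨n, hn⟩, ⟨q, hq⟩⟩, e⟩ := hcompl.2 h
    obtain ⟨⟨⟨w, hw⟩, ⟨y, hy⟩⟩, e'⟩ := hW₁.2 ⟨n, hn⟩
    obtain ⟨i, hi⟩ := hxgen ⟨q, hq⟩
    refine ⟨(w : H), ⟨w, hw, rfl⟩, (y : H), ⟨y, hy, rfl⟩, i, ?_⟩
    have hi' : x ^ i = q := by simpa using congrArg Subtype.val hi
    have e1 := congrArg Subtype.val e'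
    simp only [Subgroup.coe_mul] at e e1
    rw [hi', ← e, ← e1]
  obtain ⟨hx3, hx8⟩ := CfsgLib.UniqueInvolAut.centralizes hQp
    (fun a _ b _ ha hb => (hu2 a ha).trans (hu2 b hb).symm) (fun y hy => hQn y hy x) hxodd
  have hzQ : z ∈ Q := (hQmem z).mpr ⟨1, by simpa using hz⟩
  have hcardH : Nat.card H = Nat.card W * Nat.card Q * 3 ^ k := by
    rw [hWcard, card_map_of_injective N.subtype_injective, hW₁.card_mul, ← hk, hcompl.card_mul]
  -- `x` does not centralise `Q`
  have hxQ : ¬ ∀ y ∈ Q, Commute x y := by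
    intro hcx
    have hK : ∀ y ∈ Q, ∀ h : H, ∃ v ∈ Q, h * y * h⁻¹ = v * y * v⁻¹ := by
      intro y hy h
      obtain ⟨w, hw, v, hv, i, rfl⟩ := hdec h
      refine ⟨v, hv, ?_⟩
      calc w * v * x ^ i * y * (w * v * x ^ i)⁻¹ = w * v * (x ^ i * y) * (x ^ i)⁻¹ * v⁻¹ * w⁻¹ := by
            group
        _ = w * v * (y * x ^ i) * (x ^ i)⁻¹ * v⁻¹ * w⁻¹ := by rw [((hcx y hy).zpow_left i).eq]
        _ = w * (v * y * v⁻¹) * w⁻¹ := by group
        _ = v * y * v⁻¹ := by rw [← hWc w hw (v * y * v⁻¹)]; group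
    obtain ⟨R₁, hR₁⟩ := exists_index_two_of_two_group hQp
      (fun h => by
        have : Q = ⊥ := eq_bot_of_card_eq _ h
        rw [this, mem_bot] at hzQ
        rw [hzQ, orderOf_one] at hz
        norm_num at hz)
    haveI : R₁.Normal := normal_of_index_eq_two hR₁
    let R : Subgroup H := R₁.map Q.subtype
    let K : Subgroup H := W ⊔ zpowers x
    haveI : K.Normal := by
      constructor
      intro m hm h
      have hmc : ∀ y ∈ Q, y * m = m * y := by
        have : K ≤ centralizer (Q : Set H) := sup_le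
          (fun w hw => mem_centralizer_iff.mpr fun y _ => hWc w hw y)
          ((zpowers_le).mpr (mem_centralizer_iff.mpr fun y hy => (hcx y hy).symm.eq))
        exact fun y hy => mem_centralizer_iff.mp (this hm) y hy
      obtain ⟨w, hw, v, hv, i, rfl⟩ := hdec h
      have hxi : x ^ i ∈ K := mem_sup_right (zpow_mem (mem_zpowers x) i)
      have hwK : w ∈ K := mem_sup_left hw
      have hm' : x ^ i * m * (x ^ i)⁻¹ ∈ K := mul_mem (mul_mem hxi hm) (inv_mem hxi)
      have hcomm : v * (x ^ i * m * (x ^ i)⁻¹) = x ^ i * m * (x ^ i)⁻¹ * v := by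
        calc v * (x ^ i * m * (x ^ i)⁻¹) = (v * x ^ i) * m * (x ^ i)⁻¹ := by group
          _ = x ^ i * (v * m) * (x ^ i)⁻¹ := by rw [← ((hcx v hv).zpow_left i).eq]; group
          _ = x ^ i * (m * v) * (x ^ i)⁻¹ := by rw [hmc v hv]
          _ = x ^ i * m * ((x ^ i) ⁻¹ * v) := by
              rw [← (((hcx v hv).zpow_left i).inv_left).eq.symm]; group
          _ = x ^ i * m * (x ^ i)⁻¹ * v := by group
      have e : w * v * x ^ i * m * (w * v * x ^ i)⁻¹ = w * (x ^ i * m * (x ^ i)⁻¹) * w⁻¹ := by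
        calc w * v * x ^ i * m * (w * v * x ^ i)⁻¹
            = w * (v * (x ^ i * m * (x ^ i)⁻¹)) * v⁻¹ * w⁻¹ := by group
          _ = w * (x ^ i * m * (x ^ i)⁻¹ * v) * v⁻¹ * w⁻¹ := by rw [hcomm]
          _ = w * (x ^ i * m * (x ^ i)⁻¹) * w⁻¹ := by group
      rw [e]
      exact mul_mem (mul_mem hwK hm') (inv_mem hwK)
    haveI : R.Normal := by
      constructor
      rintro r ⟨r', hr', rfl⟩ h
      obtain ⟨v, hv, e⟩ := hK r' r'.2 h
      exact ⟨⟨v, hv⟩ * r' * ⟨v, hv⟩⁻¹, Normal.conj_mem inferInstance r' hr' _, by simpa using e.symm⟩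
    have hKodd : Odd (Nat.card K) := by
      have hle : K ≤ centralizer (Q : Set H) := sup_le
        (fun w hw => mem_centralizer_iff.mpr fun y _ => hWc w hw y)
        ((zpowers_le).mpr (mem_centralizer_iff.mpr fun y hy => (hcx y hy).symm.eq))
      rw [Nat.odd_iff, ← Nat.two_dvd_ne_zero]
      intro hd
      obtain ⟨t, ht⟩ := exists_prime_orderOf_dvd_card' (G := K) 2 hd
      rw [← orderOf_coe] at ht
      obtain ⟨w, hw, j, hj, e⟩ : ∃ w ∈ W, ∃ j : H, j ∈ zpowers x ∧ (t : H) = w * j := by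
        have ht' : (t : H) ∈ ((W ⊔ zpowers x : Subgroup H) : Set H) := t.2
        haveI : W.Normal := ⟨fun w hw h => hWn w hw h⟩
        rw [normal_mul] at ht'
        obtain ⟨w, hw, j, hj, e⟩ := Set.mem_mul.mp ht'
        exact ⟨w, hw, j, hj, e.symm⟩
      have hcomm : Commute w j := (hWc w hw j).symm
      have hodd : Odd (orderOf w * orderOf j) := by
        refine Odd.mul ?_ ?_
        · refine Odd.of_dvd_nat ?_ (Subgroup.orderOf_dvd_natCard _ hw)
          rw [hWcard, Nat.odd_iff, ← Nat.two_dvd_ne_zero]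
          exact hW₁odd
        · exact hxodd.of_dvd_nat (orderOf_dvd_of_mem_zpowers hj)
      have := hodd.of_dvd_nat (hcomm.orderOf_mul_dvd_lcm.trans (Nat.lcm_dvd_mul _ _))
      rw [← e, ht] at this
      norm_num at this
    -- the preimage of `R` has index two
    have htop : K ⊔ Q = ⊤ := by
      rw [eq_top_iff]
      intro h _
      obtain ⟨w, hw, v, hv, i, rfl⟩ := hdec h
      exact mul_mem (mul_mem (mem_sup_left (mem_sup_left hw)) (mem_sup_right hv))
        (mem_sup_left (mem_sup_right (zpow_mem (mem_zpowers x) i)))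
    have hdisj : (K ⊔ R) ⊓ Q = R := by
      refine le_antisymm ?_ (le_inf le_sup_right (map_subtype_le R₁))
      intro y hy
      obtain ⟨hy1, hy2⟩ := mem_inf.mp hy
      rw [← SetLike.mem_coe, normal_mul] at hy1
      obtain ⟨m, hm, r, hr, rfl⟩ := Set.mem_mul.mp hy1
      have hmQ : m ∈ Q := by simpa using mul_mem hy2 (inv_mem (map_subtype_le R₁ hr))
      have hm1 : m = 1 := by
        have h1 : orderOf m ∣ Nat.card K := Subgroup.orderOf_dvd_natCard _ hm
        obtain ⟨l, hl⟩ := (hQmem m).mp hmQ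
        rw [← orderOf_eq_one_iff]
        exact Nat.eq_one_of_dvd_coprimes (Nat.Coprime.pow_left l hKodd.coprime_two_left)
          (dvd_of_eq hl) h1
      rw [hm1, one_mul]
      exact hr
    refine hno (K ⊔ R) ?_
    haveI : (K ⊔ R).Normal := sup_normal K R
    have h1 : (K ⊔ R).relIndex Q = R.relIndex Q := by
      rw [← inf_relIndex_right, hdisj]
    rw [← relIndex_top_right, ← top_le_iff.mp (htop.ge.trans (sup_le_sup_right le_sup_left Q))]
    rw [sup_comm (K ⊔ R) Q, relIndex_sup_right, h1]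
    rw [relIndex, subgroupOf, comap_map_eq_self_of_injective Q.subtype_injective, hR₁]
  have hQ8 : Nat.card Q = 8 := by
    by_contra h
    exact hxQ fun y hy => hx8 h y hy
  -- the central subgroup
  have hWZ : W ≤ center H := fun w hw => mem_center_iff.mpr (hWc w hw)
  have hzZ : z ∈ center H := mem_center_iff.mpr hzc
  have hxZ : x ^ 3 ∈ center H := by
    refine mem_center_iff.mpr fun h => ?_
    obtain ⟨w, hw, v, hv, i, rfl⟩ := hdec h
    have hc : Commute (x ^ 3) (w * v * x ^ i) :=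
      (Commute.mul_right (Commute.mul_right (hWc w hw (x ^ 3)) (hx3 v hv))
        (((Commute.refl x).pow_left 3).zpow_right i))
    exact hc.eq.symm
  have hk1 : 1 ≤ k := by
    by_contra hk0
    have : k = 0 := by omega
    subst this
    refine hxQ fun y hy => ?_
    rw [show x = 1 from orderOf_eq_one_iff.mp (by rw [hxord, hk, pow_zero])]
    exact Commute.one_left y
  obtain ⟨l, rfl⟩ : ∃ l, k = l + 1 := ⟨k - 1, by omega⟩
  have hd3 : 3 ∣ Nat.card (center H) := by
    have ht : orderOf (x ^ 3 ^ l) = 3 := by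
      rw [orderOf_pow' x (by positivity), hxord, hk, Nat.gcd_eq_right (pow_dvd_pow 3 (Nat.le_succ l)),
        pow_succ, Nat.mul_div_cancel_left _ (by positivity)]
    rw [← ht]
    exact Subgroup.orderOf_dvd_natCard _ (mem_center_iff.mpr (htc _ ht))
  refine ⟨hzc, hd3, ?_, ?_⟩
  · have h2 : 2 ∣ Nat.card (center H) := hz ▸ Subgroup.orderOf_dvd_natCard _ hzZ
    have hx' : 3 ^ l ∣ Nat.card (center H) := by
      have : orderOf (x ^ 3) = 3 ^ l := by
        rw [orderOf_pow' x (by norm_num), hxord, hk, Nat.gcd_eq_right (dvd_pow_self 3 (by omega)),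
          pow_succ, Nat.mul_div_cancel _ (by norm_num)]
      exact this ▸ Subgroup.orderOf_dvd_natCard _ hxZ
    have hW' : Nat.card W ∣ Nat.card (center H) := card_dvd_of_le hWZ
    have hco1 : (Nat.card W).Coprime 2 := by
      rw [hWcard, Nat.coprime_comm]
      exact Nat.prime_two.coprime_iff_not_dvd.mpr hW₁odd
    have hco2 : (Nat.card W * 2).Coprime (3 ^ l) := by
      refine Nat.Coprime.pow_right l (Nat.Coprime.mul_left ?_ (by norm_num))
      rw [hWcard]
      exact Nat.Coprime.coprime_dvd_left (card_subgroup_dvd_card W₁) hN3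
    obtain ⟨c, hc⟩ := hco2.mul_dvd_of_dvd_of_dvd (hco1.mul_dvd_of_dvd_of_dvd hW' h2) hx'
    have h := card_mul_index (center H)
    rw [hcardH, hQ8, hc] at h
    refine Dvd.intro_left c (Nat.eq_of_mul_eq_mul_left
      (show 0 < Nat.card W * 2 * 3 ^ l from
        Nat.mul_pos (Nat.mul_pos Nat.card_pos two_pos) (pow_pos (by norm_num) l)) ?_)
    calc Nat.card W * 2 * 3 ^ l * (c * (center H).index)
        = Nat.card W * 2 * 3 ^ l * c * (center H).index := by ring
      _ = Nat.card W * 2 * 3 ^ l * 12 := by rw [h]; ring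
  · have hu' : ∀ a b : Q, orderOf a = 2 → orderOf b = 2 → b ∈ zpowers a := by
      intro a b ha hb
      have : a = b := Subtype.ext ((hu2 a (by rwa [orderOf_coe])).trans
        (hu2 b (by rwa [orderOf_coe])).symm)
      exact this ▸ mem_zpowers a
    rcases CfsgLib.UniqueInvol.structure_thm hQp hu' with hcyc | ⟨-, a, n, hn2, ha, hidx, hout⟩
    · exfalso
      apply hxQ
      obtain ⟨⟨a, haQ⟩, hgen⟩ := hcyc.exists_generator (α := Q)
      obtain ⟨r, hr⟩ := (mem_powers_iff_mem_zpowers (x := (⟨a, haQ⟩ : Q))).mpr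
        (hgen ⟨_, hQn a haQ x⟩)
      obtain ⟨n, hn⟩ := (hQmem a).mp haQ
      have hc := CfsgLib.UniqueInvolAut.commute_of_conj_eq_pow hn
        (by simpa using (congrArg Subtype.val hr).symm) hxodd
      intro y hy
      obtain ⟨i, hi⟩ := hgen ⟨y, hy⟩
      have := congrArg Subtype.val hi
      simp only [SubgroupClass.coe_zpow] at this
      rw [← this]
      exact hc.zpow_right i
    · obtain rfl : n = 2 := by
        have h := card_mul_index (zpowers a)
        rw [hidx, Nat.card_zpowers, ha, hQ8] at h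
        exact Nat.pow_right_injective (le_refl 2) (show 2 ^ n = 2 ^ 2 by omega)
      obtain ⟨g, hg⟩ : ∃ g : Q, g ∉ zpowers a := by
        by_contra h
        push Not at h
        rw [(eq_top_iff' _).mpr h, index_top] at hidx
        norm_num at hidx
      obtain ⟨h1, h2⟩ := hout g hg
      have hz' : (a : H) ^ 2 = z := by
        refine hu2 _ ?_
        rw [orderOf_pow' _ (by norm_num), orderOf_coe, ha]
        norm_num
      refine ⟨(a : H), (g : H), by rw [← sq, hz'], ?_, ?_⟩
      · have := congrArg Subtype.val h2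
        norm_num at this
        rw [← sq, this, hz']
      · simpa using congrArg Subtype.val h1

theorem arith {Z c m : ℕ} (h3 : 3 ∣ Z) (h12 : c ∣ 12) (hpos : 0 < Z)
    (h : Z * c + 1 = (Z * m + 1) * (Z * m + 1)) : False := by
  obtain ⟨t, rfl⟩ := h3
  have hc : c = m * (3 * t * m + 2) :=
    Nat.eq_of_mul_eq_mul_left hpos (by linarith [h])
  have hd : 3 * t * m + 2 ∣ 12 := (hc ▸ dvd_mul_left _ _).trans h12
  rcases Nat.eq_zero_or_pos m with rfl | hm
  · simp [hc] at h12
  have ht : 0 < t := by omega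
  have hlt : 3 * t * m + 2 ≤ 12 := Nat.le_of_dvd (by norm_num) hd
  have htm : 0 < t * m := Nat.mul_pos ht hm
  rw [mul_assoc] at hd hlt
  generalize t * m = y at hd hlt htm
  have : y ≤ 3 := by omega
  interval_cases y <;> norm_num at hd

/-- No such group acts freely with a single orbit on a group of exponent `p`. -/
theorem false_of_action {V : Type*} [CommGroup V] [Finite V] {p : ℕ} [hp : Fact p.Prime]
    (hexp : ∀ v : V, v ^ p = 1) (φ : H →* MulAut V)
    (hfree : ∀ h : H, h ≠ 1 → ∀ v : V, v ≠ 1 → φ h v ≠ v)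
    (hcard : Nat.card V = Nat.card H + 1) {z : H} (hz : orderOf z = 2)
    (hzc : ∀ h : H, h * z = z * h) (h3 : 3 ∣ Nat.card (center H)) (h12 : (center H).index ∣ 12)
    {i j : H} (hi : i * i = z) (hj : j * j = z) (hij : j * i * j⁻¹ = i⁻¹) : False := by
  classical
  have hz1 : z ≠ 1 := fun h => by rw [h, orderOf_one] at hz; norm_num at hz
  have hzz : z * z = 1 := by rw [← sq, ← hz, pow_orderOf_eq_one]
  have hHeven : 2 ∣ Nat.card H := hz ▸ orderOf_dvd_natCard z
  have hV2 : 2 ≤ Nat.card V := by have := Nat.card_pos (α := H); omega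
  obtain ⟨e, he⟩ := IsPGroup.iff_card.mp (show IsPGroup p V from fun v => ⟨1, by simpa using hexp v⟩)
  have hp2 : p ≠ 2 := by
    rintro rfl
    have he0 : e ≠ 0 := by rintro rfl; simp at he; omega
    have := dvd_pow_self 2 he0
    omega
  have hodd : Odd p := hp.out.odd_of_ne_two hp2
  have hzv : ∀ v : V, φ z v = v⁻¹ := by
    intro v
    refine eq_inv_of_mul_eq_one_left ?_
    by_contra hne
    refine hfree z hz1 _ hne ?_
    rw [map_mul, ← MulAut.mul_apply, ← map_mul, hzz, map_one, MulAut.one_apply, mul_comm]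
  -- squaring is injective
  obtain ⟨d, hd⟩ := hodd
  have hhalf : ∀ v : V, (v ^ (d + 1)) ^ 2 = v := by
    intro v
    rw [← pow_mul, show (d + 1) * 2 = p + 1 by omega, pow_succ, hexp, one_mul]
  obtain ⟨u, w, huw⟩ := ZMod.sq_add_sq p (-1 : ZMod p)
  let I := φ i
  let J := φ j
  have hjii : j * i = z * (i * j) := by
    have e1 : i⁻¹ = z * i := by
      refine inv_eq_of_mul_eq_one_right ?_
      rw [← mul_assoc, hzc i, mul_assoc, hi, hzz]
    calc j * i = j * i * j⁻¹ * j := by group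
      _ = z * (i * j) := by rw [hij, e1, mul_assoc]
  have hII : ∀ v : V, I (I v) = v⁻¹ := fun v => by
    show φ i (φ i v) = _
    rw [← MulAut.mul_apply, ← map_mul, hi, hzv]
  have hJJ : ∀ v : V, J (J v) = v⁻¹ := fun v => by
    show φ j (φ j v) = _
    rw [← MulAut.mul_apply, ← map_mul, hj, hzv]
  have hJI : ∀ v : V, J (I v) = (I (J v))⁻¹ := fun v => by
    show φ j (φ i v) = (φ i (φ j v))⁻¹
    rw [← MulAut.mul_apply, ← map_mul, hjii, map_mul, MulAut.mul_apply, hzv, map_mul,
      MulAut.mul_apply]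
  let n : V → V := fun v => I v ^ u.val * J v ^ w.val
  have hn_mul : ∀ a b, n (a * b) = n a * n b := fun a b => by
    show I (a * b) ^ u.val * J (a * b) ^ w.val = _
    rw [map_mul, map_mul, mul_pow, mul_pow, mul_mul_mul_comm]
  have hn_inv : ∀ a, n a⁻¹ = (n a)⁻¹ := fun a => by
    show I a⁻¹ ^ u.val * J a⁻¹ ^ w.val = _
    rw [map_inv, map_inv, inv_pow, inv_pow, mul_inv]
  have huw' : p ∣ u.val * u.val + w.val * w.val + 1 := by
    rw [← ZMod.natCast_eq_zero_iff]
    push_cast
    rw [ZMod.natCast_zmod_val, ZMod.natCast_zmod_val, ← sq, ← sq, huw, neg_add_cancel]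
  have hnn : ∀ v, n (n v) = v := by
    intro v
    show I (I v ^ u.val * J v ^ w.val) ^ u.val * J (I v ^ u.val * J v ^ w.val) ^ w.val = v
    rw [map_mul, map_mul, map_pow, map_pow, map_pow, map_pow, hII, hJJ, hJI]
    obtain ⟨c, hc⟩ := huw'
    have hv1 : v ^ (u.val * u.val + w.val * w.val + 1) = 1 := by rw [hc, pow_mul, hexp, one_pow]
    have : (v⁻¹) ^ (u.val * u.val) * (v⁻¹) ^ (w.val * w.val) = v := by
      rw [← pow_add, inv_pow]
      exact inv_eq_of_mul_eq_one_right (by rw [← pow_succ]; exact hv1)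
    simp only [mul_pow, ← pow_mul, inv_pow] at this ⊢
    rw [mul_comm w.val u.val]
    calc _ = ((v ^ (u.val * u.val))⁻¹ * (v ^ (w.val * w.val))⁻¹) *
        ((I (J v)) ^ (u.val * w.val) * ((I (J v)) ^ (u.val * w.val))⁻¹) := by
          ac_rfl
      _ = v := by rw [mul_inv_cancel, mul_one, this]
  -- `K = ij` anticommutes with `n`
  let K := φ (i * j)
  have hK : ∀ v, K v = I (J v) := fun v => by
    show φ (i * j) v = _
    rw [map_mul, MulAut.mul_apply]
  have hIK : ∀ v, I (K v) = (K (I v))⁻¹ := fun v => by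
    rw [hK, hK, hJI, map_inv, inv_inv]
  have hJK : ∀ v, J (K v) = (K (J v))⁻¹ := fun v => by
    rw [hK, hK, hJI]
  have hanti : ∀ v, n (K v) = (K (n v))⁻¹ := fun v => by
    show I (K v) ^ u.val * J (K v) ^ w.val = (K (I v ^ u.val * J v ^ w.val))⁻¹
    rw [hIK, hJK, map_mul, map_pow, map_pow, mul_inv, inv_pow, inv_pow]
  let Vp := {v : V // n v = v}
  let Vm := {v : V // n v = v⁻¹}
  let e1 : Vp ≃ Vm :=
    { toFun := fun v => ⟨K v.1, by rw [hanti, v.2]⟩
      invFun := fun v => ⟨K.symm v.1, by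
        apply K.injective
        have := hanti (K.symm v.1)
        rw [MulEquiv.apply_symm_apply, v.2] at this
        rw [MulEquiv.apply_symm_apply]
        exact (inv_inj.mp this).symm⟩
      left_inv := fun v => Subtype.ext (K.symm_apply_apply v.1)
      right_inv := fun v => Subtype.ext (K.apply_symm_apply v.1) }
  have hsplit : Nat.card V = Nat.card Vp * Nat.card Vm := by
    rw [← Nat.card_prod]
    refine Nat.card_congr
      { toFun := fun v => (⟨v * n v, by rw [hn_mul, hnn, mul_comm]⟩,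
          ⟨v * (n v)⁻¹, by rw [hn_mul, hn_inv, hnn, mul_inv, inv_inv, mul_comm]⟩)
        invFun := fun x => (x.1.1 * x.2.1) ^ (d + 1)
        left_inv := fun v => ?_
        right_inv := fun x => ?_ }
    · show (v * n v * (v * (n v)⁻¹)) ^ (d + 1) = v
      rw [show v * n v * (v * (n v)⁻¹) = v ^ 2 by rw [mul_mul_mul_comm, mul_inv_cancel, mul_one, sq],
        ← pow_mul, mul_comm, pow_mul, hhalf]
    · obtain ⟨⟨a, ha⟩, ⟨b, hb⟩⟩ := x
      have hnp : n ((a * b) ^ (d + 1)) = (a * b⁻¹) ^ (d + 1) := by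
        let nh : V →* V := MonoidHom.mk' n hn_mul
        show nh ((a * b) ^ (d + 1)) = _
        rw [map_pow, map_mul]
        show (n a * n b) ^ _ = _
        rw [ha, hb]
      refine Prod.ext (Subtype.ext ?_) (Subtype.ext ?_)
      · show (a * b) ^ (d + 1) * n ((a * b) ^ (d + 1)) = a
        rw [hnp, ← mul_pow, mul_mul_mul_comm, mul_inv_cancel, mul_one, ← sq, ← pow_mul, mul_comm,
          pow_mul, hhalf]
      · show (a * b) ^ (d + 1) * (n ((a * b) ^ (d + 1)))⁻¹ = b
        rw [hnp, ← inv_pow, ← mul_pow, mul_inv, inv_inv, mul_mul_mul_comm, mul_inv_cancel, one_mul,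
          ← sq, ← pow_mul, mul_comm, pow_mul, hhalf]
  rw [← Nat.card_congr e1] at hsplit
  -- the centre acts freely on `Vp` minus the identity
  have hZc : ∀ (c : center H) (v : V), n (φ c v) = φ c (n v) := fun c v => by
    have h : ∀ (g : H) (v : V), φ g (φ c v) = φ c (φ g v) := fun g v => by
      rw [← MulAut.mul_apply, ← map_mul, (mem_center_iff.mp c.2 g), map_mul, MulAut.mul_apply]
    show φ i (φ c v) ^ u.val * φ j (φ c v) ^ w.val = φ c (φ i v ^ u.val * φ j v ^ w.val)
    rw [h, h, map_mul, map_pow, map_pow]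
  let X := {v : V // n v = v ∧ v ≠ 1}
  let act : MulAction (center H) X :=
    { smul := fun c v => ⟨φ c v.1, by rw [hZc, v.2.1], fun h => v.2.2 (by
        exact (map_eq_one_iff _ (φ c).injective).mp h)⟩
      one_smul := fun v => Subtype.ext (by show φ (1 : H) v.1 = v.1; rw [map_one]; rfl)
      mul_smul := fun c c' v => Subtype.ext (by
        show φ ((c : H) * c') v.1 = φ c (φ c' v.1); rw [map_mul]; rfl) }
  have hfreeX : ∀ v : X, MulAction.stabilizer (center H) v = ⊥ := by
    intro v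
    rw [eq_bot_iff]
    intro c hc
    rw [mem_bot]
    by_contra hne
    exact hfree c (fun h => hne (Subtype.ext h)) v.1 v.2.2
      (congrArg Subtype.val (MulAction.mem_stabilizer_iff.mp hc))
  have hX : Nat.card (center H) ∣ Nat.card X := by
    rw [Nat.card_congr (MulAction.selfEquivOrbitsQuotientProd hfreeX), Nat.card_prod]
    exact dvd_mul_left _ _
  have hXVp : Nat.card X + 1 = Nat.card Vp := by
    have hn1 : n 1 = 1 := by show I 1 ^ u.val * J 1 ^ w.val = 1; simp
    have hc1 : Nat.card X = Nat.card {v : Vp // v ≠ ⟨1, hn1⟩} :=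
      Nat.card_congr
        { toFun := fun v => ⟨⟨v.1, v.2.1⟩, fun h => v.2.2 (congrArg Subtype.val h)⟩
          invFun := fun v => ⟨v.1.1, v.1.2, fun h => v.2 (Subtype.ext h)⟩
          left_inv := fun v => rfl
          right_inv := fun v => rfl }
    have := Fintype.ofFinite Vp
    rw [hc1, Nat.card_eq_fintype_card, Nat.card_eq_fintype_card, Fintype.card_subtype_compl,
      Fintype.card_subtype_eq]
    have := Fintype.card_pos_iff.mpr (⟨⟨1, hn1⟩⟩ : Nonempty Vp)
    omega
  obtain ⟨m, hm⟩ := hX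
  have hH := card_mul_index (center H)
  rw [← hXVp, hm, hcard, ← hH] at hsplit
  have hpos : 0 < Nat.card (center H) := Nat.card_pos
  exact arith h3 h12 hpos hsplit

end CfsgLib.SharplyThreeIndex
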