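/-
Sharply 3-transitive groups of even degree: a two-point stabiliser has a subgroup of index two that
is invariant under an involution interchanging the two points.
-/
import Cfsg.Agent.Perm.SharplyThree
import Cfsg.Agent.Perm.SharplyTwo
import Cfsg.Agent.Perm.SharplyThreeIndexTwo
import Mathlib

set_option autoImplicit false

namespace CfsgLib.SharplyThree

open MulAction

universe u

theorem exists_invariant_index_two {H : Type u} [Group H] {σ : MulAut H} (hσσ : ∀ h, σ (σ h) = h)
    {N : Subgroup H} (hN : N.index = 2) :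
    ∃ M : Subgroup H, M.index = 2 ∧ ∀ m ∈ M, σ m ∈ M := by
  by_cases hs : ∀ m ∈ N, σ m ∈ N
  · exact ⟨N, hN, hs⟩
  push Not at hs
  obtain ⟨m₀, hm₀, hm₀'⟩ := hs
  have hadd : ∀ x y, (σ (x * y) ∈ N ↔ (σ x ∈ N ↔ σ y ∈ N)) := fun x y => by
    rw [map_mul, Subgroup.mul_mem_iff_of_index_two hN]
  let M : Subgroup H :=
    { carrier := {x | x ∈ N ↔ σ x ∈ N}
      mul_mem' := by
        intro x y hx hy
        simp only [Set.mem_setOf_eq] at *
        rw [Subgroup.mul_mem_iff_of_index_two hN, hadd, hx, hy]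
      one_mem' := by simp [one_mem]
      inv_mem' := by
        intro x hx
        simp only [Set.mem_setOf_eq, map_inv, inv_mem_iff] at *
        exact hx }
  refine ⟨M, Subgroup.index_eq_two_iff.mpr ⟨m₀, fun b => ?_⟩, fun m hm => ?_⟩
  · show Xor (b * m₀ ∈ N ↔ σ (b * m₀) ∈ N) (b ∈ N ↔ σ b ∈ N)
    rw [Subgroup.mul_mem_iff_of_index_two hN, hadd]
    simp only [hm₀, hm₀', iff_true, iff_false]
    by_cases h1 : b ∈ N <;> by_cases h2 : σ b ∈ N <;> simp [h1, h2, Xor]
  · show σ m ∈ N ↔ σ (σ m) ∈ N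
    rw [hσσ]
    exact Iff.symm hm

variable {G : Type*} {α : Type*} [Group G] [MulAction G α]

/-- The statement for the two-point stabiliser. -/
theorem main [Fintype α] [Finite G] (heven : Even (Fintype.card α)) (h6 : 6 ≤ Fintype.card α)
    (h3 : IsMultiplyPretransitive G α 3) (hsharp : ∀ x : Fin 3 ↪ α, stabilizer G x = ⊥)
    {a b c : α} (hab : a ≠ b) (hac : a ≠ c) (hbc : b ≠ c) (s : G) (hsa : s • a = b)
    (hsb : s • b = a) (hsc : s • c = c) :
    ∃ N : Subgroup G, N ≤ stabilizer G a ⊓ stabilizer G b ∧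
      (N.subgroupOf (stabilizer G a ⊓ stabilizer G b)).Normal ∧
      N.relIndex (stabilizer G a ⊓ stabilizer G b) = 2 ∧ ∀ n ∈ N, s * n * s⁻¹ ∈ N := by
  classical
  haveI : Fact (Nat.Prime 2) := ⟨Nat.prime_two⟩
  haveI := h3
  have h2 : IsMultiplyPretransitive G α 2 :=
    isMultiplyPretransitive_of_le' (α := α) (n := 3) (by norm_num) (by
      rw [ENat.card_eq_coe_fintype_card]; exact_mod_cast (by omega : 3 ≤ Fintype.card α))
  let H : Subgroup G := stabilizer G a ⊓ stabilizer G b
  have hmemH : ∀ g : G, g ∈ H ↔ g • a = a ∧ g • b = b := fun g => Iff.rfl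
  have hs2 : s * s = 1 := by
    refine eq_one_of_three hsharp hab hac hbc ?_ ?_ ?_
    · rw [mul_smul, hsa, hsb]
    · rw [mul_smul, hsb, hsa]
    · rw [mul_smul, hsc, hsc]
  have hsinv : s⁻¹ = s := inv_eq_of_mul_eq_one_right hs2
  have hsH : ∀ g ∈ H, s * g * s⁻¹ ∈ H := by
    intro g hg
    obtain ⟨ga, gb⟩ := (hmemH g).mp hg
    rw [hmemH, hsinv, mul_smul, mul_smul, mul_smul, mul_smul, hsa, gb, hsb, ga, hsa]
    exact ⟨rfl, rfl⟩
  let σ : MulAut H :=
    { toFun := fun h => ⟨s * h * s⁻¹, hsH _ h.2⟩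
      invFun := fun h => ⟨s * h * s⁻¹, hsH _ h.2⟩
      left_inv := fun h => Subtype.ext (by
        show s * (s * h * s⁻¹) * s⁻¹ = h
        rw [hsinv, ← mul_assoc, ← mul_assoc, hs2, one_mul, mul_assoc, hs2, mul_one])
      right_inv := fun h => Subtype.ext (by
        show s * (s * h * s⁻¹) * s⁻¹ = h
        rw [hsinv, ← mul_assoc, ← mul_assoc, hs2, one_mul, mul_assoc, hs2, mul_one])
      map_mul' := fun x y => Subtype.ext (by
        show s * ((x : G) * y) * s⁻¹ = (s * x * s⁻¹) * (s * y * s⁻¹)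
        group) }
  have hσσ : ∀ h, σ (σ h) = h := fun h => Subtype.ext (by
    show s * (s * h * s⁻¹) * s⁻¹ = h
    rw [hsinv, ← mul_assoc, ← mul_assoc, hs2, one_mul, mul_assoc, hs2, mul_one])
  suffices hN : ∃ N : Subgroup H, N.index = 2 by
    obtain ⟨N, hN⟩ := hN
    obtain ⟨M, hM, hMσ⟩ := exists_invariant_index_two hσσ hN
    have e : (M.map H.subtype).subgroupOf H = M :=
      Subgroup.comap_map_eq_self_of_injective H.subtype_injective M
    refine ⟨M.map H.subtype, Subgroup.map_subtype_le M, ?_, ?_, ?_⟩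
    · show ((M.map H.subtype).subgroupOf H).Normal
      rw [e]
      exact Subgroup.normal_of_index_eq_two hM
    · show (M.map H.subtype).relIndex H = 2
      rw [Subgroup.relIndex, e, hM]
    · rintro n ⟨m, hm, rfl⟩
      exact ⟨σ m, hMσ m hm, rfl⟩
  -- the action of a point stabiliser on the other points
  let Ga : Subgroup G := stabilizer G a
  let Ω := SubMulAction.ofStabilizer G a
  have hΩcard : Nat.card Ω + 1 = Fintype.card α := by
    rw [← Nat.card_eq_fintype_card (α := α)]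
    have h1 := Nat.card_congr (Equiv.Set.sumCompl ({a} : Set α))
    rw [Nat.card_sum, Nat.card_coe_set_eq, Set.ncard_singleton] at h1
    rw [← h1, add_comm]
    rfl
  haveI : IsMultiplyPretransitive Ga Ω 2 := by
    have : IsPretransitive G α := isPretransitive_of_is_two_pretransitive
    exact SubMulAction.ofStabilizer.isMultiplyPretransitive.mp h3
  have hsharpΩ : ∀ x : Fin 2 ↪ Ω, stabilizer Ga x = ⊥ := by
    intro x
    rw [eq_bot_iff]
    intro g hg
    rw [Subgroup.mem_bot]
    refine Subtype.ext (eq_one_of_three hsharp (a := a) (b := (x 0 : α)) (c := (x 1 : α))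
      (fun h => (x 0).2 h.symm) (fun h => (x 1).2 h.symm)
      (fun h => absurd (x.injective (Subtype.ext h)) (by decide)) (mem_stabilizer_iff.mp g.2) ?_ ?_)
    · exact congrArg (fun e : Fin 2 ↪ Ω => ((e 0 : Ω) : α)) (mem_stabilizer_iff.mp hg)
    · exact congrArg (fun e : Fin 2 ↪ Ω => ((e 1 : Ω) : α)) (mem_stabilizer_iff.mp hg)
  obtain ⟨p, j, K, hp, -, hj, hKmem, hKn, hKcomm, hKexp, hKtr, hKfree, hKcard, -⟩ :=
    CfsgLib.SharplyTwo.exists_kernel hsharpΩ (by omega)
  let b' : Ω := ⟨b, fun h => hab (Set.mem_singleton_iff.mp h).symm⟩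
  let c' : Ω := ⟨c, fun h => hac (Set.mem_singleton_iff.mp h).symm⟩
  have hb'c' : b' ≠ c' := fun h => hbc (congrArg Subtype.val h)
  have hHcard : Nat.card H + 2 = Fintype.card α := by
    have h1 := CfsgLib.SharplyTwo.card_stabilizer hsharpΩ hb'c'
    have e : Nat.card (stabilizer Ga b') = Nat.card H :=
      Nat.card_congr
        { toFun := fun g => ⟨(g.1 : G), g.1.2,
            mem_stabilizer_iff.mpr (congrArg Subtype.val (mem_stabilizer_iff.mp g.2))⟩
          invFun := fun h => ⟨⟨h.1, h.2.1⟩,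
            mem_stabilizer_iff.mpr (Subtype.ext (mem_stabilizer_iff.mp h.2.2))⟩
          left_inv := fun g => rfl
          right_inv := fun h => rfl }
    omega
  have hHeven : 2 ∣ Nat.card H := by
    obtain ⟨t, ht⟩ := heven
    exact ⟨t - 1, by omega⟩
  obtain ⟨z, hz⟩ := exists_prime_orderOf_dvd_card' (G := H) 2 hHeven
  have hinvT : Nat.card {g : G // g ^ 2 = 1 ∧ g ≠ 1 ∧ g • a = a ∧ g • b = b} ≤ 1 :=
    card_involution_le h3 h2 hsharp hab hac hbc
  haveI := Finite.card_le_one_iff_subsingleton.mp hinvT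
  have hof : ∀ x : H, ∀ r : ℕ, r ≠ 1 → orderOf x = r →
      ((x : G) ^ r = 1 ∧ (x : G) ≠ 1 ∧ (x : G) • a = a ∧ (x : G) • b = b) := by
    intro x r hr1 hx
    refine ⟨?_, fun h => hr1 ?_, ((hmemH _).mp x.2).1, ((hmemH _).mp x.2).2⟩
    · rw [← hx, ← Subgroup.orderOf_coe, pow_orderOf_eq_one]
    · rw [← hx, ← Subgroup.orderOf_coe, h, orderOf_one]
  have hu2 : ∀ x : H, orderOf x = 2 → x = z := fun x hx => by
    have := Subsingleton.elim
      (⟨x, hof x 2 (by norm_num) hx⟩ : {g : G // g ^ 2 = 1 ∧ g ≠ 1 ∧ g • a = a ∧ g • b = b})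
      ⟨z, hof z 2 (by norm_num) hz⟩
    exact Subtype.ext (congrArg Subtype.val this :)
  have hu3 : ∀ x y : H, orderOf x = 3 → orderOf y = 3 → y ∈ Subgroup.zpowers x := by
    intro x y hx hy
    by_contra hyx
    let S := {g : G // g ^ 3 = 1 ∧ g ≠ 1 ∧ g • a = a ∧ g • b = b}
    have hxi : orderOf x⁻¹ = 3 := by rw [orderOf_inv, hx]
    have h01 : x ≠ x⁻¹ := fun h => by
      have : x ^ 2 = 1 := by rw [sq]; exact mul_eq_one_iff_eq_inv.mpr h
      have := orderOf_dvd_of_pow_eq_one this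
      rw [hx] at this
      norm_num at this
    have h02 : x ≠ y := fun h => hyx (h ▸ Subgroup.mem_zpowers x)
    have h12 : x⁻¹ ≠ y := fun h => hyx (h ▸ inv_mem (Subgroup.mem_zpowers x))
    let e : Fin 3 → H := ![x, x⁻¹, y]
    have he : Function.Injective e := by
      intro i k
      fin_cases i <;> fin_cases k <;> simp [e, h01, h02, h12, h01.symm, h02.symm, h12.symm]
    have heo : ∀ i, orderOf (e i) = 3 := by
      intro i
      fin_cases i <;> simp [e, hx, hy]
    let f : Fin 3 → S := fun i => ⟨e i, hof (e i) 3 (by norm_num) (heo i)⟩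
    have hinj : Function.Injective f := fun i k h =>
      he (Subtype.ext (congrArg (fun t : S => (t : G)) h))
    have hle := card_three_le h3 h2 hsharp hab hac hbc
    have hge := Nat.card_le_card_of_injective f hinj
    rw [Nat.card_fin] at hge
    exact absurd (hge.trans hle) (by norm_num)
  have hs1 : s ≠ 1 := fun h => hab (by rw [← hsa, h, one_smul])
  have hfixs : ∀ h : H, σ h = h → h ≠ 1 → (h : G) • c ≠ c ∧ s • ((h : G) • c) = (h : G) • c := by
    intro h hh h1
    have e : s * h * s⁻¹ = h := congrArg Subtype.val hh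
    refine ⟨fun hc => h1 (Subtype.ext
      (eq_one_of_three hsharp hab hac hbc ((hmemH _).mp h.2).1 ((hmemH _).mp h.2).2 hc)), ?_⟩
    rw [smul_smul, mul_inv_eq_iff_eq_mul.mp e, mul_smul, hsc]
  have hfix : ∀ h : H, σ h = h → h = 1 ∨ h = z := by
    intro h hh
    by_cases h1 : h = 1
    · exact Or.inl h1
    right
    have hz1 : z ≠ 1 := fun e => by rw [e, orderOf_one] at hz; norm_num at hz
    have hσz : σ z = z := hu2 _ (by rw [MulEquiv.orderOf_eq, hz])
    obtain ⟨hc1, hc2⟩ := hfixs h hh h1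
    obtain ⟨hd1, hd2⟩ := hfixs z hσz hz1
    refine Subtype.ext (eq_of_three hsharp hab hac hbc ?_ ?_ ?_)
    · rw [((hmemH _).mp h.2).1, ((hmemH _).mp z.2).1]
    · rw [((hmemH _).mp h.2).2, ((hmemH _).mp z.2).2]
    · rcases fixed_two hsharp (Ne.symm hd1) hs1 hsc hd2 hc2 with e | e
      · exact absurd e hc1
      · exact e
  by_contra hno
  push Not at hno
  obtain ⟨hzc, hd3, h12, i, j', hi, hj', hij⟩ :=
    CfsgLib.SharplyThreeIndex.structure_of_no_index_two σ hz hσσ hu2 hfix hu3 hno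
  haveI : Fact p.Prime := ⟨hp⟩
  letI : CommGroup K :=
    { (inferInstance : Group K) with
      mul_comm := fun x y => Subtype.ext (hKcomm x x.2 y y.2) }
  let φ : H →* MulAut K :=
    (MulAut.conjNormal : Ga →* MulAut K).comp (Subgroup.inclusion (inf_le_left : H ≤ Ga))
  refine CfsgLib.SharplyThreeIndex.false_of_action (V := K) (p := p)
    (fun v => Subtype.ext (by simpa using hKexp v v.2)) φ ?_ ?_ hz hzc hd3 h12 hi hj' hij
  · intro h h1 v hv1 hfixv
    let h' : Ga := Subgroup.inclusion (inf_le_left : H ≤ Ga) h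
    have hhb : h' • b' = b' := Subtype.ext ((hmemH _).mp h.2).2
    have e : h' * (v : Ga) * h'⁻¹ = v := congrArg Subtype.val hfixv
    have hne : (v : Ga) • b' ≠ b' := by
      rcases (hKmem (v : Ga)).mp v.2 with hv | hv
      · exact absurd (Subtype.ext hv) hv1
      · exact hv b'
    have hfix2 : h' • ((v : Ga) • b') = (v : Ga) • b' := by
      rw [smul_smul, mul_inv_eq_iff_eq_mul.mp e, mul_smul, hhb]
    have := CfsgLib.SharplyTwo.eq_one_of_two_fixed hsharpΩ hne hfix2 hhb
    exact h1 (Subtype.ext (congrArg Subtype.val this :))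
  · rw [hKcard, ← hj]
    omega

end CfsgLib.SharplyThree
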