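/-
Sharply 3-transitive groups of degree `p^f + 1`, `p` odd and `f` odd.
-/
import Cfsg.Agent.Perm.SharplyThreePGL
import Cfsg.Agent.Perm.SharplyThreeMain
import Cfsg.Agent.Perm.UniqueInvolutionAut
import Cfsg.Agent.Invol.SmallSylow
import Mathlib

set_option autoImplicit false

namespace CfsgLib.SharplyThree

open MulAction

universe u v

/-- In odd dimension no bijective map anticommutes with another one. -/
theorem false_of_anticommute {H : Type u} [Group H] {M : Type v} [AddCommGroup M] {p f : ℕ}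
    [Fact p.Prime] [Module (ZMod p) M] [Finite M] (hp2 : p ≠ 2) (hf : Odd f)
    (hM : Nat.card M = p ^ f) (L : H → (M →ₗ[ZMod p] M)) (hL : ∀ g h, L g ∘ₗ L h = L (g * h))
    (hinjL : ∀ g, Function.Injective (L g)) {a b b' : H}
    (hne : ∀ x, L b x = L b' x → x = 0) (hab : a * b = b' * a) (hba : a * b' = b * a) : False := by
  have hinj : Function.Injective (L b - L b') := by
    rw [← LinearMap.ker_eq_bot, LinearMap.ker_eq_bot']
    intro x hx
    rw [LinearMap.sub_apply, sub_eq_zero] at hx
    exact hne x hx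
  have hanti : L a ∘ₗ (L b - L b') = (-1 : ZMod p) • ((L b - L b') ∘ₗ L a) := by
    simp only [LinearMap.comp_sub, LinearMap.sub_comp, hL, hab, hba, smul_sub, neg_smul,
      one_smul, neg_sub_neg]
  have hd := congrArg LinearMap.det hanti
  haveI : Module.Finite (ZMod p) M := Module.Finite.of_finite
  have hrank : Module.finrank (ZMod p) M = f := by
    have h := Module.natCard_eq_pow_finrank (K := ZMod p) (V := M)
    rw [hM, Nat.card_zmod] at h
    exact (Nat.pow_right_injective (Fact.out (p := p.Prime)).two_le h).symm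
  rw [LinearMap.det_comp, LinearMap.det_smul, LinearMap.det_comp, hrank, hf.neg_one_pow] at hd
  have h0 : ∀ g : M →ₗ[ZMod p] M, Function.Injective g → LinearMap.det g ≠ 0 :=
    fun g hg h => by
      have := LinearMap.bot_lt_ker_of_det_eq_zero h
      rw [LinearMap.ker_eq_bot.mpr hg] at this
      exact lt_irrefl _ this
  have h2 : (2 : ZMod p) * (LinearMap.det (L a) * LinearMap.det (L b - L b')) = 0 := by
    linear_combination hd
  rcases mul_eq_zero.mp h2 with h | h
  · have h' : ((2 : ℕ) : ZMod p) = 0 := by exact_mod_cast h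
    rw [ZMod.natCast_eq_zero_iff] at h'
    exact hp2 ((Nat.prime_dvd_prime_iff_eq Fact.out Nat.prime_two).mp h')
  · exact mul_ne_zero (h0 _ (hinjL a)) (h0 _ hinj) h

/-- The multiplicative form for a fixed-point-free action. -/
theorem false_of_twist {H : Type u} [Group H] {V : Type v} [CommGroup V] [Finite V] {p f : ℕ}
    [Fact p.Prime] (hp2 : p ≠ 2) (hf : Odd f) (hV : Nat.card V = p ^ f) (hexp : ∀ v : V, v ^ p = 1)
    (φ : H →* MulAut V) (hfree : ∀ h : H, h ≠ 1 → ∀ v : V, v ≠ 1 → φ h v ≠ v) {a b b' : H}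
    (hab : a * b = b' * a) (hba : a * b' = b * a) (hne : b ≠ b') : False := by
  letI : Module (ZMod p) (Additive V) :=
    AddCommGroup.zmodModule (fun v => congrArg Additive.ofMul (hexp v.toMul))
  refine false_of_anticommute (M := Additive V) hp2 hf hV
    (fun h => (MonoidHom.toAdditive (φ h).toMonoidHom).toZModLinearMap p) (fun g h => ?_) (fun g => ?_)
    (fun x hx => ?_) hab hba
  · refine LinearMap.ext fun x => ?_
    show Additive.ofMul (φ g (φ h x.toMul)) = Additive.ofMul (φ (g * h) x.toMul)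
    rw [map_mul]; rfl
  · exact fun x y h => congrArg Additive.ofMul
      ((φ g).injective (show φ g x.toMul = φ g y.toMul from h) :)
  · by_contra hx0
    have hx' : φ b x.toMul = φ b' x.toMul := hx
    refine hfree (b'⁻¹ * b) (fun h => hne (inv_mul_eq_one.mp h).symm) x.toMul
      (fun h => hx0 (congrArg Additive.ofMul h)) ?_
    rw [map_mul, MulAut.mul_apply, hx', map_inv, MulAut.inv_apply_self]

variable {G : Type u} {α : Type v} [Group G] [MulAction G α]

/-- The two-point stabiliser acts without fixed points on the kernel of a point stabiliser. -/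
theorem exists_pair_action [Fintype α] [Finite G] (h3 : IsMultiplyPretransitive G α 3)
    (hsharp : ∀ x : Fin 3 ↪ α, stabilizer G x = ⊥) {a b c : α} (hab : a ≠ b) (hac : a ≠ c)
    (hbc : b ≠ c) :
    ∃ (p j : ℕ) (K : Subgroup (stabilizer G a))
      (φ : ↥(stabilizer G a ⊓ stabilizer G b) →* MulAut K),
      p.Prime ∧ Nat.card K = p ^ j ∧ Fintype.card α = p ^ j + 1 ∧
      (∀ x ∈ K, ∀ y ∈ K, x * y = y * x) ∧ (∀ x ∈ K, x ^ p = 1) ∧
      (∀ h, h ≠ 1 → ∀ v : K, v ≠ 1 → φ h v ≠ v) ∧
      Nat.card ↥(stabilizer G a ⊓ stabilizer G b) + 2 = Fintype.card α := by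
  classical
  haveI := h3
  have hn : 3 ≤ Fintype.card α := by
    have := Finset.card_le_univ ({a, b, c} : Finset α)
    rwa [Finset.card_eq_three.mpr ⟨a, b, c, hab, hac, hbc, rfl⟩] at this
  haveI h2 : IsMultiplyPretransitive G α 2 :=
    isMultiplyPretransitive_of_le' (α := α) (n := 3) (by norm_num) (by
      rw [ENat.card_eq_coe_fintype_card]; exact_mod_cast hn)
  haveI : IsPretransitive G α := isPretransitive_of_is_two_pretransitive
  let Ga : Subgroup G := stabilizer G a
  let H : Subgroup G := stabilizer G a ⊓ stabilizer G b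
  haveI : IsMultiplyPretransitive Ga (SubMulAction.ofStabilizer G a) 2 :=
    SubMulAction.ofStabilizer.isMultiplyPretransitive.mp h3
  let Ω := SubMulAction.ofStabilizer G a
  have hsharpΩ : ∀ x : Fin 2 ↪ Ω, stabilizer Ga x = ⊥ := by
    intro x
    rw [eq_bot_iff]
    intro g hg
    rw [Subgroup.mem_bot]
    exact Subtype.ext (eq_one_of_three hsharp (a := a) (b := (x 0 : α)) (c := (x 1 : α))
      (fun h => (x 0).2 h.symm) (fun h => (x 1).2 h.symm)
      (fun h => absurd (x.injective (Subtype.ext h)) (by decide)) (mem_stabilizer_iff.mp g.2)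
      (congrArg (fun e : Fin 2 ↪ Ω => ((e 0 : Ω) : α)) (mem_stabilizer_iff.mp hg))
      (congrArg (fun e : Fin 2 ↪ Ω => ((e 1 : Ω) : α)) (mem_stabilizer_iff.mp hg)))
  have hΩcard : Nat.card Ω + 1 = Fintype.card α := by
    rw [← Nat.card_eq_fintype_card (α := α)]
    have h1 := Nat.card_congr (Equiv.Set.sumCompl ({a} : Set α))
    rw [Nat.card_sum, Nat.card_coe_set_eq, Set.ncard_singleton] at h1
    rw [← h1, add_comm]
    rfl
  obtain ⟨p, j, K, hp, -, hj, hKmem, hKn, hKcomm, hKexp, hKtr, hKfree, hKcard, -⟩ :=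
    CfsgLib.SharplyTwo.exists_kernel hsharpΩ (by omega)
  let b' : Ω := ⟨b, fun h => hab (Set.mem_singleton_iff.mp h).symm⟩
  let c' : Ω := ⟨c, fun h => hac (Set.mem_singleton_iff.mp h).symm⟩
  have hb'c' : b' ≠ c' := fun h => hbc (congrArg Subtype.val h)
  have hHcard : Nat.card H + 2 = Fintype.card α := by
    have h1 := CfsgLib.SharplyTwo.card_stabilizer hsharpΩ hb'c'
    have e : Nat.card (stabilizer Ga b') = Nat.card H :=
      Nat.card_congr
        { toFun := fun g => ⟨(g.1 : G), g.1.2,
            mem_stabilizer_iff.mpr (congrArg Subtype.val (mem_stabilizer_iff.mp g.2))⟩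
          invFun := fun h => ⟨⟨h.1, h.2.1⟩,
            mem_stabilizer_iff.mpr (Subtype.ext (mem_stabilizer_iff.mp h.2.2))⟩
          left_inv := fun g => rfl
          right_inv := fun h => rfl }
    omega
  let φ : H →* MulAut K :=
    (MulAut.conjNormal : Ga →* MulAut K).comp (Subgroup.inclusion (inf_le_left : H ≤ Ga))
  refine ⟨p, j, K, φ, hp, hKcard, by omega, hKcomm, hKexp, ?_, hHcard⟩
  intro h h1 v hv1 hfixv
  let h' : Ga := Subgroup.inclusion (inf_le_left : H ≤ Ga) h
  have hhb : h' • b' = b' := Subtype.ext h.2.2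
  have e : h' * (v : Ga) * h'⁻¹ = v := congrArg Subtype.val hfixv
  have hne : (v : Ga) • b' ≠ b' := by
    rcases (hKmem (v : Ga)).mp v.2 with hv | hv
    · exact absurd (Subtype.ext hv) hv1
    · exact hv b'
  have hfix2 : h' • ((v : Ga) • b') = (v : Ga) • b' := by
    rw [smul_smul, mul_inv_eq_iff_eq_mul.mp e, mul_smul, hhb]
  have := CfsgLib.SharplyTwo.eq_one_of_two_fixed hsharpΩ hne hfix2 hhb
  exact h1 (Subtype.ext (congrArg Subtype.val this :))

/-- If squares centralising an element implies centralising it, the group is abelian. -/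
theorem comm_of_sq {H : Type u} [Group H] [Finite H] {z : H} (heven : Even (Nat.card H))
    (hu2 : ∀ x : H, orderOf x = 2 → x = z)
    (htw : ∀ a b : H, a * a * b = b * (a * a) → a * b = b * a)
    (σ : MulAut H) (hσσ : ∀ h, σ (σ h) = h) (hfix : ∀ h, σ h = h → h = 1 ∨ h = z) :
    ∀ x y : H, x * y = y * x := by
  classical
  haveI : Fact (Nat.Prime 2) := ⟨Nat.prime_two⟩
  obtain ⟨T⟩ := (inferInstance : Nonempty (Sylow 2 H))
  have hTcyc : IsCyclic T := by
    rcases CfsgLib.UniqueInvol.structure_thm (G := T) T.2 (fun x y hx hy => by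
        have : x = y := Subtype.ext ((hu2 x (by rwa [Subgroup.orderOf_coe])).trans
          (hu2 y (by rwa [Subgroup.orderOf_coe])).symm)
        exact this ▸ Subgroup.mem_zpowers x) with h | ⟨-, a, n, hn2, ha, hidx, hout⟩
    · exact h
    · exfalso
      obtain ⟨g, hg⟩ : ∃ g : T, g ∉ Subgroup.zpowers a := by
        by_contra h
        push Not at h
        rw [(Subgroup.eq_top_iff' _).mpr h, Subgroup.index_top] at hidx
        norm_num at hidx
      obtain ⟨h1, h2⟩ := hout g hg
      have hc : g * g * a = a * (g * g) := by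
        rw [← sq, h2]; exact ((Commute.refl a).pow_left _).eq
      have := htw (g : H) (a : H) (congrArg Subtype.val hc :)
      have hga : g * a = a * g := Subtype.ext this
      have : orderOf a ∣ 2 := by
        refine orderOf_dvd_of_pow_eq_one ?_
        have h3 : a = a⁻¹ := (mul_inv_eq_iff_eq_mul.mpr hga).symm.trans h1
        rw [sq]
        exact mul_eq_one_iff_eq_inv.mpr h3
      rw [ha] at this
      have := Nat.le_of_dvd two_pos this
      have : 2 ^ 2 ≤ 2 ^ n := Nat.pow_le_pow_right two_pos hn2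
      omega
  have hmin : (Nat.card H).minFac = 2 := (Nat.minFac_eq_two_iff _).mpr heven.two_dvd
  have hnorm : Subgroup.normalizer ((T : Subgroup H) : Set H) ≤
      Subgroup.centralizer ((T : Subgroup H) : Set H) := by
    haveI := hTcyc
    exact IsCyclic.normalizer_le_centralizer (P := T) (hmin.symm ▸ rfl) hTcyc
  let W : Subgroup H := (MonoidHom.transferSylow T hnorm).ker
  have hW : W.IsComplement' (T : Subgroup H) := MonoidHom.ker_transferSylow_isComplement' T hnorm
  have hWn : W.Normal := inferInstance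
  have hWodd : ¬ 2 ∣ Nat.card W := by
    intro hd
    have h1 : (T : Subgroup H).index = Nat.card W := by
      have hm := Subgroup.card_mul_index (T : Subgroup H)
      rw [← hW.card_mul] at hm
      exact Nat.eq_of_mul_eq_mul_left Nat.card_pos (by rw [hm, mul_comm])
    exact T.not_dvd_index (h1 ▸ hd)
  have hWmem : ∀ x : H, x ∈ W ↔ (orderOf x).Coprime 2 := by
    intro x
    constructor
    · intro hx
      exact Nat.Coprime.coprime_dvd_left (Subgroup.orderOf_dvd_natCard _ hx)
        (Nat.coprime_comm.mp (Nat.prime_two.coprime_iff_not_dvd.mpr hWodd))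
    · intro hx
      rw [← QuotientGroup.eq_one_iff (N := W)]
      obtain ⟨k, hk⟩ := IsPGroup.iff_card.mp T.2
      have hd : orderOf (x : H ⧸ W) ∣ 2 ^ k := by
        rw [← hk, ← hW.symm.index_eq_card, Subgroup.index]
        exact orderOf_dvd_natCard _
      rw [← orderOf_eq_one_iff]
      exact Nat.eq_one_of_dvd_coprimes (Nat.Coprime.pow_right k hx)
        (orderOf_map_dvd (QuotientGroup.mk' W) x) hd
  have hσW : ∀ w ∈ W, σ w ∈ W := fun w hw => by
    rw [hWmem] at hw ⊢
    rwa [MulEquiv.orderOf_eq]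
  let τ : W →* W := MonoidHom.mk' (fun w => ⟨σ w, hσW _ w.2⟩)
    (fun x y => Subtype.ext (map_mul σ (x : H) y))
  have hτ : ∀ w : W, τ w = w⁻¹ := inv_of_fixed_free τ (fun w => Subtype.ext (hσσ w)) fun w hw => by
    rcases hfix w (congrArg Subtype.val hw) with h | h
    · exact Subtype.ext h
    · by_contra hw1
      have h2 := Subgroup.orderOf_dvd_natCard _ w.2
      have hz2 : orderOf (w : H) = 2 := by
        obtain ⟨t, ht⟩ := exists_prime_orderOf_dvd_card' (G := H) 2 heven.two_dvd
        rw [h, ← hu2 t ht, ht]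
      rw [hz2] at h2
      exact hWodd h2
  have hinv : ∀ w ∈ W, σ w = w⁻¹ := fun w hw => congrArg Subtype.val (hτ ⟨w, hw⟩)
  have hWcomm : ∀ x ∈ W, ∀ y ∈ W, x * y = y * x := fun x hx y hy => by
    have := hinv _ (mul_mem hx hy)
    rw [map_mul, hinv x hx, hinv y hy, mul_inv_rev] at this
    simpa using congrArg (fun t => t⁻¹) this.symm
  -- the centraliser of `W` has index at most two, and squares centralise `W`
  let C : Subgroup H := Subgroup.centralizer (W : Set H)
  have hC : ∀ h : H, h⁻¹ * σ h ∈ C := by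
    intro h
    rw [Subgroup.mem_centralizer_iff]
    intro w hw
    have e : σ h * w * (σ h)⁻¹ = h * w * h⁻¹ := by
      have h1 := hinv _ (hWn.conj_mem w⁻¹ (inv_mem hw) h)
      rw [map_mul, map_mul, map_inv σ h, hinv _ (inv_mem hw), inv_inv] at h1
      rw [h1]
      group
    calc w * (h⁻¹ * σ h) = h⁻¹ * (h * w * h⁻¹) * σ h := by group
      _ = h⁻¹ * (σ h * w * (σ h)⁻¹) * σ h := by rw [e]
      _ = h⁻¹ * σ h * w := by group
  have hidx : C.index ≤ 2 := by
    have := Fintype.ofFinite H
    have h1 : (Finset.univ : Finset H).card ≤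
        2 * (Finset.univ.filter fun x => x ∈ C : Finset H).card := by
      refine Finset.card_le_mul_card_image_of_maps_to (f := fun h => h⁻¹ * σ h)
        (fun h _ => Finset.mem_filter.mpr ⟨Finset.mem_univ _, hC h⟩) 2 fun w _ => ?_
      rcases (Finset.univ.filter fun h => h⁻¹ * σ h = w).eq_empty_or_nonempty with he | ⟨k, hk⟩
      · rw [he]; simp
      refine le_trans (Finset.card_le_card (t := {k, z * k}) fun h hh => ?_) Finset.card_le_two
      have e : h⁻¹ * σ h = k⁻¹ * σ k :=
        (Finset.mem_filter.mp hh).2.trans (Finset.mem_filter.mp hk).2.symm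
      have hf : σ (h * k⁻¹) = h * k⁻¹ := by
        rw [map_mul, map_inv]
        calc σ h * (σ k)⁻¹ = h * (h⁻¹ * σ h) * (σ k)⁻¹ := by group
          _ = h * (k⁻¹ * σ k) * (σ k)⁻¹ := by rw [e]
          _ = h * k⁻¹ := by group
      rcases hfix _ hf with h1 | h1
      · simp [mul_inv_eq_one.mp h1]
      · simp [← h1, mul_assoc]
    have h2 : (Finset.univ.filter fun x => x ∈ C : Finset H).card = Nat.card C := by
      rw [Nat.card_eq_fintype_card, Fintype.card_subtype]
    rw [h2, Finset.card_univ, ← Nat.card_eq_fintype_card, ← Subgroup.card_mul_index C,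
      mul_comm 2] at h1
    exact Nat.le_of_mul_le_mul_left h1 Nat.card_pos
  have hsqC : ∀ h : H, h * h ∈ C := by
    intro h
    have h0 : C.index ≠ 0 := Subgroup.index_ne_zero_of_finite
    have h1 : C.index = 1 ∨ C.index = 2 := by omega
    rcases h1 with h1 | h1
    · rw [Subgroup.index_eq_one.mp h1]; exact Subgroup.mem_top _
    · exact Subgroup.mul_self_mem_of_index_two h1 h
  have hWcent : ∀ h : H, ∀ w ∈ W, h * w = w * h := fun h w hw =>
    htw h w (Subgroup.mem_centralizer_iff.mp (hsqC h) w hw).symm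
  intro x y
  obtain ⟨⟨⟨w, hw⟩, ⟨t, ht⟩⟩, rfl⟩ := hW.2 x
  obtain ⟨⟨⟨w', hw'⟩, ⟨t', ht'⟩⟩, rfl⟩ := hW.2 y
  have htt : Commute t t' := by
    haveI := hTcyc
    exact congrArg Subtype.val ((IsMulCommutative.is_comm (M := T)).comm ⟨t, ht⟩ ⟨t', ht'⟩)
  have hww : Commute w w' := hWcomm w hw w' hw'
  have h1 : Commute t w' := hWcent t w' hw'
  have h2 : Commute w t' := (hWcent t' w hw).symm
  show w * t * (w' * t') = w' * t' * (w * t)
  exact ((hww.mul_right h2).mul_left (h1.mul_right htt)).eq

open CfsgLib.Dickson OnePoint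

/-- For the coordinates of a sharply 3-transitive group of degree `q + 1 > 10`, `q` odd, with the
swap inverting squares, it inverts everything. -/
theorem twist_impossible {F : Type} [Field F] [DecidableEq F] [Finite F] (h2 : (2 : F) ≠ 0)
    (hneg : IsSquare (-1 : F)) {ν : F} (hν : ¬ IsSquare ν)
    (key : ∀ x : F, ¬ IsSquare x → IsSquare (x + 1) → x + 1 ≠ 0 → x * x = x + 1) :
    Nat.card F ≤ 9 := by
  classical
  have := Fintype.ofFinite F
  have hν0 : ν ≠ 0 := fun e => hν (e ▸ IsSquare.zero)
  let T : Finset F := Finset.univ.filter fun a => a * a + ν * a - ν * ν = 0 ∧ a ≠ 0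
  have hT : T.card ≤ 2 := by
    rcases T.eq_empty_or_nonempty with h | ⟨a₀, ha₀⟩
    · simp [h]
    refine le_trans (Finset.card_le_card (t := {a₀, -ν - a₀}) fun a ha => ?_) Finset.card_le_two
    have e1 := (Finset.mem_filter.mp ha).2.1
    have e0 := (Finset.mem_filter.mp ha₀).2.1
    have : (a - a₀) * (a + a₀ + ν) = 0 := by linear_combination e1 - e0
    rcases mul_eq_zero.mp this with h | h
    · simp [sub_eq_zero.mp h]
    · simp [show a = -ν - a₀ by linear_combination h]
  let f : F → F := fun t => ((ν / t - t) / 2) ^ 2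
  have hmaps : ∀ t ∈ (Finset.univ.filter fun t : F => t ≠ 0), f t ∈ T := by
    intro t ht
    have ht0 : t ≠ 0 := (Finset.mem_filter.mp ht).2
    have hv : ν / t - t ≠ 0 := by
      intro h
      refine hν ⟨t, ?_⟩
      field_simp at h
      linear_combination h
    have hu : ν / t + t ≠ 0 := by
      intro h
      obtain ⟨r, hr⟩ := hneg
      refine hν ⟨r * t, ?_⟩
      field_simp at h
      linear_combination h - t ^ 2 * hr.symm
    have ha0 : f t ≠ 0 := pow_ne_zero 2 (div_ne_zero hv h2)
    have hs : ν + f t = ((ν / t + t) / 2) ^ 2 := by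
      simp only [f]; field_simp; ring
    have hx1 : ν / f t + 1 = (((ν / t + t) / 2) / ((ν / t - t) / 2)) ^ 2 := by
      rw [div_pow _ (((ν / t - t) / 2)) 2, ← hs]
      show ν / f t + 1 = (ν + f t) / f t
      field_simp
    have hx : ¬ IsSquare (ν / f t) := by
      rintro ⟨r, hr⟩
      refine hν ⟨r * ((ν / t - t) / 2), ?_⟩
      rw [div_eq_iff ha0] at hr
      simp only [f] at hr
      linear_combination hr
    have hk := key _ hx ⟨_, by rw [hx1, sq]⟩ (by
      rw [hx1]; exact pow_ne_zero 2 (div_ne_zero (div_ne_zero hu h2) (div_ne_zero hv h2)))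
    refine Finset.mem_filter.mpr ⟨Finset.mem_univ _, ?_, ha0⟩
    field_simp at hk
    linear_combination -hk
  have hfib : ∀ a ∈ T, ((Finset.univ.filter fun t : F => t ≠ 0).filter fun t => f t = a).card ≤ 4 := by
    intro a _
    rcases ((Finset.univ.filter fun t : F => t ≠ 0).filter fun t => f t = a).eq_empty_or_nonempty
      with h | ⟨t₀, ht₀⟩
    · simp [h]
    refine le_trans (Finset.card_le_card (t := {t₀, -t₀, ν / t₀, -(ν / t₀)}) fun t ht => ?_)
      Finset.card_le_four
    simp only [Finset.mem_filter, Finset.mem_univ, true_and] at ht ht₀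
    obtain ⟨ht0, ht⟩ := ht
    obtain ⟨h00, ht₀⟩ := ht₀
    have h := ht.trans ht₀.symm
    simp only [f] at h
    rcases sq_eq_sq_iff_eq_or_eq_neg.mp h with h | h
    · field_simp at h
      have : (t - t₀) * (t * t₀ + ν) = 0 := by linear_combination -h
      rcases mul_eq_zero.mp this with e | e
      · simp [sub_eq_zero.mp e]
      · simp [show t = -(ν / t₀) by field_simp; linear_combination e]
    · field_simp at h
      have : (t + t₀) * (t * t₀ - ν) = 0 := by linear_combination -h
      rcases mul_eq_zero.mp this with e | e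
      · simp [show t = -t₀ by linear_combination e]
      · simp [show t = ν / t₀ by field_simp; linear_combination e]
  have hle := Finset.card_le_mul_card_image_of_maps_to hmaps 4 hfib
  rw [Finset.filter_ne' Finset.univ (0 : F), Finset.card_erase_of_mem (Finset.mem_univ _),
    Finset.card_univ, ← Nat.card_eq_fintype_card] at hle
  omega

/-- The main theorem for `q = p^f`, `f` odd. -/
theorem exists_pgl_odd [Fintype α] [Finite G] [FaithfulSMul G α] {p f : ℕ} (hp : p.Prime)
    (hp2 : p ≠ 2) (hf : Odd f) (hα : Fintype.card α = p ^ f + 1)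
    (h3 : IsMultiplyPretransitive G α 3) (hsharp : ∀ x : Fin 3 ↪ α, stabilizer G x = ⊥)
    (F : Type) [Field F] [Finite F] (hF : Nat.card F = p ^ f) :
    Nonempty (G ≃* Matrix.ProjGenLinGroup (Fin 2) F) := by
  classical
  haveI := Fact.mk hp
  have hp3 : 3 ≤ p ^ f := by
    have h1 : p ^ 1 ≤ p ^ f := Nat.pow_le_pow_right hp.pos hf.pos
    rw [pow_one] at h1
    have := hp.two_le
    omega
  obtain ⟨u⟩ := Function.Embedding.nonempty_of_card_le (α := Fin 3) (β := α)
    (by rw [Fintype.card_fin, hα]; omega)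
  obtain ⟨a, b, c, hab, hac, hbc⟩ : ∃ a b c : α, a ≠ b ∧ a ≠ c ∧ b ≠ c :=
    ⟨u 0, u 1, u 2, u.injective.ne (by decide), u.injective.ne (by decide),
      u.injective.ne (by decide)⟩
  obtain ⟨s, hsa, hsb, hsc⟩ := exists_swap h3 hab hac hbc
  have hs2 := swap_sq hsharp hab hac hbc hsa hsb hsc
  obtain ⟨p', j, K, φ, hp', hKcard, hj, hKcomm, hKexp, hfree, hHcard⟩ :=
    exists_pair_action h3 hsharp hab hac hbc
  have hpp : p = p' := by
    have e : p' ^ j = p ^ f := by omega
    have hj0 : j ≠ 0 := by rintro rfl; simp at e; omega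
    have h1 : p' ∣ p ^ f := e ▸ dvd_pow_self p' hj0
    exact ((Nat.prime_dvd_prime_iff_eq hp' hp).mp (hp'.dvd_of_dvd_pow h1)).symm
  subst hpp
  have hVf : Nat.card K = p ^ f := by omega
  letI : CommGroup K :=
    { (inferInstance : Group K) with mul_comm := fun x y => Subtype.ext (hKcomm x x.2 y y.2) }
  let H : Subgroup G := stabilizer G a ⊓ stabilizer G b
  have hHeven : Even (Nat.card H) := by
    rw [Nat.even_iff]
    have h1 : p ^ f % 2 = 1 := Nat.odd_iff.mp ((hp.odd_of_ne_two hp2).pow)
    have h2 : Nat.card H + 2 = p ^ f + 1 := hHcard.trans hα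
    omega
  haveI : Fact (Nat.Prime 2) := ⟨Nat.prime_two⟩
  obtain ⟨z, hz⟩ := exists_prime_orderOf_dvd_card' (G := H) 2 hHeven.two_dvd
  haveI := h3
  have hn : 3 ≤ Fintype.card α := by omega
  have h2 : IsMultiplyPretransitive G α 2 :=
    isMultiplyPretransitive_of_le' (α := α) (n := 3) (by norm_num) (by
      rw [ENat.card_eq_coe_fintype_card]; exact_mod_cast hn)
  haveI := Finite.card_le_one_iff_subsingleton.mp (card_involution_le h3 h2 hsharp hab hac hbc)
  have hu2 : ∀ x : H, orderOf x = 2 → x = z := by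
    have hof : ∀ x : H, orderOf x = 2 →
        ((x : G) ^ 2 = 1 ∧ (x : G) ≠ 1 ∧ (x : G) • a = a ∧ (x : G) • b = b) := fun x hx =>
      ⟨by rw [← hx, ← Subgroup.orderOf_coe, pow_orderOf_eq_one], fun h => by
        rw [← Subgroup.orderOf_coe, h, orderOf_one] at hx; norm_num at hx, x.2.1, x.2.2⟩
    intro x hx
    have := Subsingleton.elim
      (⟨x, hof x hx⟩ : {g : G // g ^ 2 = 1 ∧ g ≠ 1 ∧ g • a = a ∧ g • b = b}) ⟨z, hof z hz⟩
    exact Subtype.ext (congrArg Subtype.val this :)
  let σ : MulAut H :=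
    { toFun := fun h => ⟨s * h * s⁻¹, conj_mem_pair hsa hsb hs2 h.2⟩
      invFun := fun h => ⟨s * h * s⁻¹, conj_mem_pair hsa hsb hs2 h.2⟩
      left_inv := fun h => Subtype.ext (by
        show s * (s * h * s⁻¹) * s⁻¹ = h
        rw [inv_eq_of_mul_eq_one_right hs2, ← mul_assoc, ← mul_assoc, hs2, one_mul, mul_assoc, hs2,
          mul_one])
      right_inv := fun h => Subtype.ext (by
        show s * (s * h * s⁻¹) * s⁻¹ = h
        rw [inv_eq_of_mul_eq_one_right hs2, ← mul_assoc, ← mul_assoc, hs2, one_mul, mul_assoc, hs2,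
          mul_one])
      map_mul' := fun x y => Subtype.ext (by
        show s * ((x : G) * y) * s⁻¹ = (s * x * s⁻¹) * (s * y * s⁻¹)
        group) }
  have hσσ : ∀ h, σ (σ h) = h := σ.left_inv
  have hs1 : s ≠ 1 := fun h => hab (by rw [← hsa, h, one_smul])
  have hσz : σ z = z := hu2 _ (by rw [MulEquiv.orderOf_eq, hz])
  have hz1 : z ≠ 1 := fun e => by rw [e, orderOf_one] at hz; norm_num at hz
  have hfixs : ∀ h : H, σ h = h → h ≠ 1 → (h : G) • c ≠ c ∧ s • ((h : G) • c) = (h : G) • c := by
    intro h hh h1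
    exact ⟨fun hc => h1 (Subtype.ext (eq_one_of_three hsharp hab hac hbc h.2.1 h.2.2 hc)),
      smul_fixed hsc h.2 (congrArg Subtype.val hh)⟩
  have hfix : ∀ h : H, σ h = h → h = 1 ∨ h = z := by
    intro h hh
    by_cases h1 : h = 1
    · exact Or.inl h1
    right
    obtain ⟨hc1, hc2⟩ := hfixs h hh h1
    obtain ⟨hd1, hd2⟩ := hfixs z hσz hz1
    refine Subtype.ext (eq_of_three hsharp hab hac hbc ?_ ?_ ?_)
    · exact (mem_stabilizer_iff.mp h.2.1).trans (mem_stabilizer_iff.mp z.2.1).symm
    · exact (mem_stabilizer_iff.mp h.2.2).trans (mem_stabilizer_iff.mp z.2.2).symm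
    · rcases fixed_two hsharp (Ne.symm hd1) hs1 hsc hd2 hc2 with e | e
      · exact absurd e hc1
      · exact e
  have htw : ∀ x y : H, x * x * y = y * (x * x) → x * y = y * x := by
    intro x y hxy
    by_contra hne
    refine false_of_twist (p := p) (f := f) hp2 hf hVf (fun v => Subtype.ext (by
      simpa using hKexp v v.2)) φ hfree (a := x) (b := y) (b' := x * y * x⁻¹) (by group) ?_
      fun h => hne (mul_inv_eq_iff_eq_mul.mp h.symm)
    calc x * (x * y * x⁻¹) = x * x * y * x⁻¹ := by group
      _ = y * (x * x) * x⁻¹ := by rw [hxy]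
      _ = y * x := by group
  have hcomm := comm_of_sq hHeven hu2 htw σ hσσ hfix
  have hHc : ∀ x ∈ H, ∀ y ∈ H, x * y = y * x := fun x hx y hy =>
    congrArg Subtype.val (hcomm ⟨x, hx⟩ ⟨y, hy⟩)
  obtain ⟨e, hC⟩ := exists_coords h3 hsharp hab hac hbc hHc F (by rw [hF, hα])
  refine nonempty_mulEquiv_of_coords h3 hab hac hbc hsa hsb hsc ?_ hC
  by_contra hnot
  push Not at hnot
  obtain ⟨g₀, hg₀, hg₀'⟩ := hnot
  -- `ψ h = h σ(h)` is a homomorphism into `{1, z}`
  have hψ : ∀ h : H, h * σ h = 1 ∨ h * σ h = z := fun h =>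
    hfix _ (by rw [map_mul, hσσ, hcomm])
  have hψ0 : (⟨g₀, hg₀⟩ : H) * σ ⟨g₀, hg₀⟩ = z := by
    refine (hψ _).resolve_left fun h => hg₀' ?_
    exact congrArg Subtype.val (inv_eq_of_mul_eq_one_right h).symm
  -- scalars
  have hU : ∀ h : H, ∃ u : Fˣ, ∀ x, (h : G) • e x = e (aff u 0 • x) := fun h => hC.scale _ h.2
  choose U hU using hU
  have hUc : ∀ h : H, (h : G) • c = e ((U h : F) : OnePoint F) := fun h => by
    rw [← hC.one, hU h, aff_smul_coe]; simp
  have hUinj : Function.Injective U := fun x y h => Subtype.ext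
    (eq_of_three hsharp hab hac hbc
      ((mem_stabilizer_iff.mp x.2.1).trans (mem_stabilizer_iff.mp y.2.1).symm)
      ((mem_stabilizer_iff.mp x.2.2).trans (mem_stabilizer_iff.mp y.2.2).symm)
      (by rw [hUc, hUc, h]))
  have hUmul : ∀ x y : H, U (x * y) = U x * U y := fun x y => by
    have h : e ((U (x * y) : F) : OnePoint F) = e ((U x * U y : Fˣ) : F) := by
      rw [← hUc, Subgroup.coe_mul, mul_smul, hUc, hU x, aff_smul_coe]
      simp
    exact Units.ext (coe_injective (hC.bij.1 h))
  let Uh : H →* Fˣ := MonoidHom.mk' U hUmul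
  have hUsurj : Function.Surjective U := fun u => by
    obtain ⟨h, hh, hx⟩ := hC.scale_surj u
    refine ⟨⟨h, hh⟩, Units.ext (coe_injective (hC.bij.1 ?_))⟩
    rw [← hUc, ← hC.one, hx, aff_smul_coe]; simp
  have h2F : (2 : F) ≠ 0 := by
    intro h
    haveI := Fintype.ofFinite F
    have hdvd : 2 ∣ Nat.card F := by
      have h1 : addOrderOf (1 : F) = 2 :=
        addOrderOf_eq_prime (by rw [two_nsmul, one_add_one_eq_two, h]) one_ne_zero
      exact h1 ▸ addOrderOf_dvd_natCard (1 : F)
    rw [hF] at hdvd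
    exact hp2 ((Nat.prime_dvd_prime_iff_eq Nat.prime_two hp).mp (Nat.prime_two.dvd_of_dvd_pow hdvd)).symm
  have hUz : (U z : F) = -1 := by
    have h1 : U z * U z = 1 := by
      rw [← hUmul, ← sq, ← hz, pow_orderOf_eq_one]
      exact map_one Uh
    have h2' : ((U z : F) - 1) * ((U z : F) + 1) = 0 := by
      have := congrArg Units.val h1
      simp only [Units.val_mul, Units.val_one] at this
      linear_combination this
    rcases mul_eq_zero.mp h2' with h | h
    · exfalso
      refine hz1 (hUinj ((Units.ext (sub_eq_zero.mp h) : U z = 1).trans (map_one Uh).symm))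
    · linear_combination h
  -- the homomorphism is trivial exactly on squares
  have hsq : ∀ k : H, (k * k) * σ (k * k) = 1 := by
    intro k
    have hk : k * σ k * (k * σ k) = 1 := by
      rcases hψ k with h | h <;> rw [h]
      · rw [one_mul]
      · rw [← sq, ← hz, pow_orderOf_eq_one]
    calc (k * k) * σ (k * k) = k * (k * σ k) * σ k := by rw [map_mul]; group
      _ = (k * σ k) * k * σ k := by rw [hcomm k (k * σ k)]
      _ = (k * σ k) * (k * σ k) := by group
      _ = 1 := hk
  have hsq' : ∀ h : H, IsSquare (U h : F) → h * σ h = 1 := by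
    rintro h ⟨r, hr⟩
    have hr0 : r ≠ 0 := fun e => (U h).ne_zero (by rw [hr, e, mul_zero])
    obtain ⟨k, hk⟩ := hUsurj (Units.mk0 r hr0)
    have : k * k = h := hUinj (Units.ext (by rw [hUmul, hk, hr]; rfl))
    exact this ▸ hsq k
  let g : H := ⟨g₀, hg₀⟩
  have hgsq : ¬ IsSquare (U g : F) := fun h => hz1 (hψ0.symm.trans (hsq' g h))
  have hnsq : ∀ h : H, ¬ IsSquare (U h : F) → h * σ h = z := by
    intro h hh
    haveI := Fintype.ofFinite F
    have hprod : IsSquare ((U (h * g) : Fˣ) : F) := by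
      rw [hUmul, Units.val_mul]
      have hchar : ringChar F ≠ 2 := by
        intro hc
        apply h2F
        have := ringChar.Nat.cast_ringChar (R := F)
        rw [hc] at this
        exact_mod_cast this
      have e1 := (quadraticChar_neg_one_iff_not_isSquare (F := F)).mpr hh
      have e2 := (quadraticChar_neg_one_iff_not_isSquare (F := F)).mpr hgsq
      refine (quadraticChar_one_iff_isSquare (mul_ne_zero (U h).ne_zero (U g).ne_zero)).mp ?_
      rw [map_mul, e1, e2]
      norm_num
    have h1 := hsq' _ hprod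
    rw [map_mul, show h * g * (σ h * σ g) = h * σ h * (g * σ g) by
      rw [mul_assoc, ← mul_assoc g, hcomm g (σ h), mul_assoc, ← mul_assoc h], hψ0] at h1
    rw [mul_eq_one_iff_eq_inv.mp h1, eq_comm, ← mul_eq_one_iff_eq_inv, ← sq, ← hz,
      pow_orderOf_eq_one]
  have hneg : IsSquare (-1 : F) := by
    by_contra h
    have h1 := hnsq z (by rw [hUz]; exact h)
    rw [hσz, ← sq, ← hz, pow_orderOf_eq_one] at h1
    exact hz1 h1.symm
  -- the swap in coordinates
  have hs : ∀ t : F, t ≠ 0 →
      s • e (t : OnePoint F) = if IsSquare t then e ((t⁻¹ : F) : OnePoint F)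
        else e ((-t⁻¹ : F) : OnePoint F) := by
    intro t ht
    obtain ⟨h, hh⟩ := hUsurj (Units.mk0 t ht)
    have hth : (U h : F) = t := by rw [hh]; rfl
    have hc' : s • e (t : OnePoint F) = e ((U (σ h) : F) : OnePoint F) := by
      rw [← hUc, ← hth, ← hUc, smul_smul,
        show ((σ h : H) : G) = s * h * s⁻¹ from rfl, mul_smul, mul_smul (s * (h : G)),
        inv_smul_eq_iff.mpr hsc.symm, mul_smul]
    have hi : (U h⁻¹ : F) = t⁻¹ := by
      rw [show U h⁻¹ = (U h)⁻¹ from map_inv Uh h, Units.val_inv_eq_inv_val, hth]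
    rw [hc']
    split_ifs with hsqt
    · rw [(inv_eq_of_mul_eq_one_right (hsq' h (by rwa [hth]))).symm, hi]
    · have h1 := hnsq h (by rwa [hth])
      rw [show σ h = h⁻¹ * z by rw [← h1]; group, hUmul, Units.val_mul, hi, hUz, mul_neg_one]
  -- the element of order three
  obtain ⟨τ₁, hτ₁⟩ := hC.transl 1
  let w : G := τ₁ * ((z : G) * s)
  have hzx : ∀ x : F, (z : G) • e (x : OnePoint F) = e ((-x : F) : OnePoint F) := fun x => by
    rw [hU z, aff_smul_coe, hUz, add_zero, neg_one_mul]
  have hwt : ∀ t : F, t ≠ 0 → w • e (t : OnePoint F) =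
      if IsSquare t then e ((1 - t⁻¹ : F) : OnePoint F) else e ((1 + t⁻¹ : F) : OnePoint F) := by
    intro t ht
    rw [mul_smul, mul_smul, hs t ht]
    split_ifs <;> rw [hzx, hτ₁, aff_smul_coe] <;> simp [add_comm, sub_eq_add_neg]
  have hw0 : w • e ((0 : F) : OnePoint F) = e ∞ := by
    rw [mul_smul, mul_smul, hC.zero, hsb, mem_stabilizer_iff.mp z.2.1, ← hC.infty, hτ₁,
      aff_smul_infty]
  have hwinf : w • e ∞ = e ((1 : F) : OnePoint F) := by
    rw [mul_smul, mul_smul, hC.infty, hsa, mem_stabilizer_iff.mp z.2.2, ← hC.zero, hτ₁,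
      aff_smul_coe]
    simp
  have hw1 : w • e ((1 : F) : OnePoint F) = e ((0 : F) : OnePoint F) := by
    rw [hwt 1 one_ne_zero, if_pos IsSquare.one]; simp
  have hw3 : ∀ x : α, w • w • w • x = x := by
    intro x
    have hm' : ∀ (u : G) (x : α), (u * (u * u)) • x = u • u • u • x := fun u x => by
      rw [smul_smul, smul_smul, mul_assoc]
    have hm : ∀ x : α, (w * (w * w)) • x = w • w • w • x := hm' w
    have h1 : w * (w * w) = 1 := by
      refine eq_one_of_three hsharp hab hac hbc ?_ ?_ ?_
      · rw [hm, ← hC.infty, hwinf, hw1, hw0]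
      · rw [hm, ← hC.zero, hw0, hwinf, hw1]
      · rw [hm, ← hC.one, hw1, hw0, hwinf]
    rw [smul_smul, smul_smul, mul_assoc, h1, one_smul]
  have key : ∀ x : F, ¬ IsSquare x → IsSquare (x + 1) → x + 1 ≠ 0 → x * x = x + 1 := by
    intro x hx hx1 hx10
    have hx0 : x ≠ 0 := fun e => hx (e ▸ IsSquare.zero)
    have hy : ¬ IsSquare (1 + x⁻¹) := by
      intro hy
      obtain ⟨r, hr⟩ := hy
      obtain ⟨q, hq⟩ := hx1
      have hr0 : r ≠ 0 := by
        intro e
        apply hx10
        rw [e, mul_zero] at hr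
        field_simp at hr
        linear_combination hr
      refine hx ⟨q / r, ?_⟩
      field_simp
      field_simp at hr
      linear_combination hq - hr
    have hy0 : (1 + x⁻¹ : F) ≠ 0 := fun e => hy (e ▸ IsSquare.zero)
    have h1 := hw3 (e (x : OnePoint F))
    rw [hwt x hx0, if_neg hx, hwt _ hy0, if_neg hy] at h1
    let y : F := 1 + (1 + x⁻¹)⁻¹
    have hy20 : y ≠ 0 := by
      intro he
      rw [show (1 + (1 + x⁻¹)⁻¹ : F) = 0 from he, hw0] at h1
      exact coe_ne_infty x (hC.bij.1 h1).symm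
    rw [hwt _ hy20] at h1
    have hne0 : (1 + x) ≠ 0 := by rwa [add_comm]
    split_ifs at h1
    · have h2' : 1 - y⁻¹ = x := coe_injective (hC.bij.1 h1)
      simp only [y] at h2' hy20
      field_simp at h2' hy20
      have hd : x + 1 + x ≠ 0 := fun e => hy20 (by rw [e, zero_div])
      field_simp at h2'
      exfalso
      refine hx0 ?_
      have : (2 : F) * (x * x) = 0 := by linear_combination -h2'
      simpa [h2F] using this
    · have h2' : 1 + y⁻¹ = x := coe_injective (hC.bij.1 h1)
      simp only [y] at h2' hy20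
      field_simp at h2' hy20
      have hd : x + 1 + x ≠ 0 := fun e => hy20 (by rw [e, zero_div])
      field_simp at h2'
      have : (2 : F) * (x * x - x - 1) = 0 := by linear_combination -h2'
      linear_combination (mul_eq_zero.mp this).resolve_left h2F
  obtain ⟨ν, hν⟩ : ∃ ν : F, ¬ IsSquare ν := ⟨_, hgsq⟩
  have hle := twist_impossible h2F hneg hν key
  rw [hF] at hle
  haveI := Fintype.ofFinite F
  -- small fields
  have hmod : p ^ f % 4 ≠ 3 := by
    rw [← hF, Nat.card_eq_fintype_card]
    exact FiniteField.isSquare_neg_one_iff.mp hneg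
  have hodd' : p ^ f % 2 = 1 := Nat.odd_iff.mp ((hp.odd_of_ne_two hp2).pow)
  have hq : p ^ f = 5 ∨ p ^ f = 9 := by omega
  rcases hq with hq | hq
  · -- five points
    have hcard : Fintype.card F = 5 := by rw [← Nat.card_eq_fintype_card, hF, hq]
    have h4 : (U g : F) ^ 4 = 1 := by
      have := FiniteField.pow_card_sub_one_eq_one (U g : F) (U g).ne_zero
      rwa [hcard] at this
    have hii : U g * U g = U z := by
      have h : ((U g : F) * U g - 1) * ((U g : F) * U g + 1) = 0 := by linear_combination h4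
      refine Units.ext ?_
      rw [Units.val_mul, hUz]
      rcases mul_eq_zero.mp h with h | h
      · exfalso
        have h' : ((U g : F) - 1) * ((U g : F) + 1) = 0 := by linear_combination h
        rcases mul_eq_zero.mp h' with e | e
        · exact hgsq ((sub_eq_zero.mp e).symm ▸ IsSquare.one)
        · exact hgsq ((show (U g : F) = -1 by linear_combination e).symm ▸ hneg)
      · linear_combination h
    have hgg : g * g = z := hUinj (by rw [hUmul, hii])
    have hσg : σ g = g := mul_left_cancel (hψ0.trans hgg.symm)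
    rcases hfix g hσg with h | h
    · exact hgsq (by rw [h, show U 1 = 1 from map_one Uh]; exact IsSquare.one)
    · exact hgsq (by rw [h, hUz]; exact hneg)
  · have hp3' : p = 3 := (Nat.prime_dvd_prime_iff_eq hp Nat.prime_three).mp
      (hp.dvd_of_dvd_pow (show p ∣ 3 ^ 2 by rw [show (3 : ℕ) ^ 2 = p ^ f by omega]; exact dvd_pow_self p hf.pos.ne'))
    subst hp3'
    have : f = 2 := Nat.pow_right_injective (le_refl 2 |>.trans (by norm_num : (2 : ℕ) ≤ 3)) (show 3 ^ f = 3 ^ 2 by omega)
    subst this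
    exact absurd hf (by decide)

end CfsgLib.SharplyThree
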