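import Cfsg.Agent.Perm.PrimeAddOneAffine
import Cfsg.Agent.Perm.SharplyTwo
import Cfsg.Agent.Perm.SharplyThreeOdd
import Cfsg.Agent.Zass.HalfPSL
import Cfsg.Agent.Zass.Sharp
import Cfsg.Agent.InvChar.OneSixtyEight

/-!
The transitive groups of degree `p + 1` and order `(p + 1) p d` with `d < p`.
-/

set_option autoImplicit false
set_option linter.unusedSectionVars false
set_option linter.style.haveILetI false
set_option linter.deprecated false

namespace CfsgLib.PrimeAddOne

open MulAction Subgroup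

universe u

variable {α : Type u} [Fintype α] [DecidableEq α] {p d : ℕ} {G : Subgroup (Equiv.Perm α)}

theorem three_trans (S : Small G p d) (hd : d = p - 1) :
    IsMultiplyPretransitive G α 3 ∧ ∀ t : Fin 3 ↪ α, stabilizer G t = ⊥ := by
  classical
  have hsharp : ∀ t : Fin 3 ↪ α, stabilizer G t = ⊥ := fun t => by
    refine (Subgroup.eq_bot_iff_forall _).2 fun g hg => ?_
    have h : ∀ i, g • t i = t i := fun i => congrArg (fun e : Fin 3 ↪ α => e i) hg
    exact three_fixed S (t.injective.ne (by decide)) (t.injective.ne (by decide))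
      (t.injective.ne (by decide)) (h 0) (h 1) (h 2)
  haveI := Fintype.ofFinite G
  refine ⟨⟨fun u v => ?_⟩, hsharp⟩
  have hinj : Function.Injective fun g : G => g • u := fun g g' e => by
    have : g'⁻¹ * g ∈ stabilizer G u := by
      show (g'⁻¹ * g) • u = u
      exact (mul_smul g'⁻¹ g u).trans (inv_smul_eq_iff.2 e)
    rw [hsharp, Subgroup.mem_bot, inv_mul_eq_one] at this
    exact this.symm
  have hcard : Fintype.card G = Fintype.card (Fin 3 ↪ α) := by
    rw [Fintype.card_embedding_eq, Fintype.card_fin, ← Nat.card_eq_fintype_card (α := G), S.order,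
      S.degree, hd]
    simp only [Nat.descFactorial_succ, Nat.descFactorial_zero, Nat.sub_zero, Nat.add_sub_cancel]
    rw [show p + 1 - 2 = p - 1 by omega]
    ring
  exact ((Fintype.bijective_iff_injective_and_card _).2 ⟨hinj, hcard⟩).2 v

theorem pgl_of_full (S : Small G p d) (hd : d = p - 1) :
    Nonempty (G ≃* Matrix.ProjGenLinGroup (Fin 2) (ZMod p)) := by
  classical
  haveI : Fact p.Prime := ⟨S.prime⟩
  obtain ⟨h3, hsharp⟩ := three_trans S hd
  by_cases hp2 : p = 2
  · obtain ⟨u⟩ := Function.Embedding.nonempty_of_card_le (α := Fin 3) (β := α)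
      (by rw [Fintype.card_fin, S.degree, hp2])
    have hab : u 0 ≠ u 1 := u.injective.ne (by decide)
    have hac : u 0 ≠ u 2 := u.injective.ne (by decide)
    have hbc : u 1 ≠ u 2 := u.injective.ne (by decide)
    obtain ⟨s, hsa, hsb, hsc⟩ := CfsgLib.SharplyThree.exists_swap h3 hab hac hbc
    refine CfsgLib.SharplyThree.nonempty_mulEquiv_pgl h3 hsharp hab hac hbc hsa hsb hsc
      (fun h hh => ?_) (ZMod p) (by rw [Nat.card_zmod, S.degree])
    have hc : Nat.card ↥(stabilizer G (u 0) ⊓ stabilizer G (u 1)) = 1 := by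
      rw [card_pair S hab, hd, hp2]
    rw [Subgroup.card_eq_one] at hc
    rw [hc, Subgroup.mem_bot] at hh
    rw [hh]; group
  · exact CfsgLib.SharplyThree.exists_pgl_odd S.prime hp2 odd_one (by rw [S.degree, pow_one]) h3 hsharp
      (ZMod p) (by rw [Nat.card_zmod, pow_one])

theorem classify (S : Small G p d) :
    (d = p - 1 ∧ Nonempty (G ≃* Matrix.ProjGenLinGroup (Fin 2) (ZMod p))) ∨
      (2 * d = p - 1 ∧ Nonempty (G ≃* Matrix.ProjectiveSpecialLinearGroup (Fin 2) (ZMod p))) ∨
      ∃ q : ℕ, q.Prime ∧ p + 1 = 2 ^ q ∧ (d = 1 ∨ d = q) ∧ ∃ e : α ≃ GaloisField 2 q,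
        ∀ g : G, (e.symm.trans (((g : Equiv.Perm α)).trans e)) ∈
          Cfsg.semiaffineGroup (GaloisField 2 q) := by
  classical
  haveI : Fact p.Prime := ⟨S.prime⟩
  haveI := S.trans
  have hd1 := pos S
  have hlt := S.lt
  by_cases hp2 : p = 2
  · exact Or.inl ⟨by omega, pgl_of_full S (by omega)⟩
  obtain ⟨a, b, hab⟩ := Fintype.exists_pair_of_one_lt_card
    (α := α) (by rw [S.degree]; have := S.prime.two_le; omega)
  haveI := two_trans S
  by_cases hreg : ∃ N : Subgroup G, N.Normal ∧ IsPretransitive N α ∧ ∀ c : α, stabilizer N c = ⊥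
  · obtain ⟨N, hN, hNt, hNs⟩ := hreg
    haveI := hN
    haveI := hNt
    refine Or.inr (Or.inr (affine_case S hp2 (a := a) N ⟨fun m n h => ?_, fun c => ?_⟩))
    · have hm : n⁻¹ * m ∈ stabilizer N a := by
        show ((n⁻¹ * m : N) : G) • a = a
        push_cast
        rw [mul_smul, inv_smul_eq_iff]
        exact h
      rw [hNs a, Subgroup.mem_bot, inv_mul_eq_one] at hm
      exact hm.symm
    · obtain ⟨n, hn⟩ := exists_smul_eq N a c
      exact ⟨n, hn⟩
  by_cases h1 : d = 1
  · exfalso
    have hsharp : ∀ t : Fin 2 ↪ α, stabilizer G t = ⊥ := fun t => by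
      have h : Nat.card ↥(stabilizer G (t 0) ⊓ stabilizer G (t 1)) = 1 := by
        rw [card_pair S (t.injective.ne (by decide)), h1]
      rw [Subgroup.card_eq_one] at h
      refine (Subgroup.eq_bot_iff_forall _).2 fun g hg => ?_
      have hi : ∀ i, g • t i = t i := fun i => congrArg (fun e : Fin 2 ↪ α => e i) hg
      rw [← Subgroup.mem_bot, ← h]
      exact mem_inf.2 ⟨hi 0, hi 1⟩
    obtain ⟨-, -, K, -, -, -, -, hK, -, -, hKt, hKs, -⟩ :=
      CfsgLib.SharplyTwo.exists_kernel hsharp (by rw [Nat.card_eq_fintype_card, S.degree]; omega)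
    exact hreg ⟨K, hK, hKt, hKs⟩
  have hZ : Cfsg.IsZassenhausGroup G α := by
    refine ⟨inferInstance, two_trans S, fun g c e f hce hef hcf => three_fixed S hce hef hcf, ?_,
      fun N hN hNt => ?_⟩
    · haveI : Nontrivial ↥(stabilizer G a ⊓ stabilizer G b) :=
        Finite.one_lt_card_iff_nontrivial.1 (by rw [card_pair S hab]; omega)
      obtain ⟨g, hg⟩ := exists_ne (1 : ↥(stabilizer G a ⊓ stabilizer G b))
      exact ⟨g, fun h => hg (Subtype.ext h), a, b, hab, (mem_inf.1 g.2).1, (mem_inf.1 g.2).2⟩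
    · by_contra h
      push Not at h
      exact hreg ⟨N, hN, hNt, h⟩
  obtain ⟨x, hx, hxa⟩ := exists_gen S a
  have hFcard : Nat.card (zpowers x) + 1 = Fintype.card α := by
    rw [Nat.card_zpowers, hx, S.degree]
  have hFfix : ∀ u ∈ zpowers x, u ≠ 1 → ∀ c : α, u • c = c → c = a := fun u hu hu1 c hc => by
    by_contra hca
    exact moves_all S (orderOf_zpowers S hx hu hu1).1 (zpowers_le_stab hxa hu) hca hc
  have hlarge := CfsgLib.Zass.large_of_abelian hZ hab (zpowers x) (zpowers_le_stab hxa) hFcard hFfix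
    inferInstance
  rw [card_pair S hab, S.degree] at hlarge
  have hdp := dvd_sub_one S hab
  obtain ⟨k, hk⟩ := hdp
  have hk2 : k ≤ 2 := by
    by_contra h
    have : d * 3 ≤ d * k := Nat.mul_le_mul_left _ (by omega)
    omega
  interval_cases k
  · have := S.prime.two_le
    omega
  · exact Or.inl ⟨by omega, pgl_of_full S (by omega)⟩
  · refine Or.inr (Or.inl ⟨by omega, ?_⟩)
    obtain ⟨K, iK, iKf, -, hKc, -, ⟨e⟩⟩ := CfsgLib.Zass.half_psl hZ hab (zpowers x)
      (zpowers_le_stab hxa) hFcard hFfix inferInstance (by rw [card_pair S hab, S.degree]; omega)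
    have hc : Fintype.card K = Fintype.card (ZMod p) := by
      rw [ZMod.card]; rw [S.degree] at hKc; omega
    obtain ⟨e'⟩ := CfsgLib.InvChar.psl_congr (FiniteField.ringEquivOfCardEq hc)
    exact ⟨e.trans e'⟩

end CfsgLib.PrimeAddOne
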