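/-
Burnside's theorem on minimal normal subgroups of doubly transitive groups.
-/
import Mathlib.GroupTheory.GroupAction.MultipleTransitivity
import Mathlib.Data.Nat.Factorization.Basic
import Mathlib.GroupTheory.Subgroup.Simple
import Mathlib.GroupTheory.PGroup
import Cfsg.Agent.Perm.Basic
import Cfsg.Agent.ExtPrim.MinNormal
import Cfsg.Agent.Char.FrobeniusKernel
import Cfsg.Agent.Char.Burnside
import Cfsg.Agent.Solvable.Basics

set_option autoImplicit false

namespace CfsgLib.BurnsideMinimal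

open MulAction Subgroup CfsgLib.PermBasic
open scoped Pointwise

variable {G α : Type*} [Group G] [MulAction G α] [FaithfulSMul G α]

omit [FaithfulSMul G α] in
theorem two_trans (h2 : IsMultiplyPretransitive G α 2) {a b c d : α} (h : a ≠ b) (h' : c ≠ d) :
    ∃ g : G, g • a = c ∧ g • b = d := is_two_pretransitive_iff.mp h2 h h'

/-- A regular minimal normal subgroup of a doubly transitive group is abelian. -/
theorem abelian_of_regular [Finite G] (h2 : IsMultiplyPretransitive G α 2) (N : Subgroup G)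
    [N.Normal] (hN : N ≠ ⊥) [IsPretransitive N α] (a : α) (hreg : stabilizer N a = ⊥) :
    IsMulCommutative N := by
  have hinj : ∀ {m n : G}, m ∈ N → n ∈ N → m • a = n • a → m = n := by
    intro m n hm hn h
    have : (⟨n⁻¹ * m, N.mul_mem (N.inv_mem hn) hm⟩ : N) ∈ stabilizer N a := by
      rw [mem_stabilizer_iff]
      show (n⁻¹ * m) • a = a
      rw [mul_smul, inv_smul_eq_iff, h]
    rw [hreg, mem_bot] at this
    exact (inv_mul_eq_one.mp (congrArg Subtype.val this)).symm
  have hne : ∀ {n : G}, n ∈ N → n ≠ 1 → a ≠ n • a := by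
    intro n hn h1 h
    exact h1 (hinj hn N.one_mem (by rw [one_smul, ← h]))
  have hconj : ∀ {m n : G}, m ∈ N → n ∈ N → m ≠ 1 → n ≠ 1 → ∃ g : G, g * m * g⁻¹ = n := by
    intro m n hm hn hm1 hn1
    obtain ⟨g, hga, hgm⟩ := two_trans h2 (hne hm hm1) (hne hn hn1)
    refine ⟨g, hinj (‹N.Normal›.conj_mem m hm g) hn ?_⟩
    rw [mul_smul, mul_smul, inv_smul_eq_iff.mpr hga.symm, hgm]
  have : Nontrivial N := (nontrivial_iff_ne_bot N).mpr hN
  obtain ⟨p, hp, hpd⟩ := Nat.exists_prime_and_dvd (Finite.one_lt_card (α := N)).ne'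
  haveI := Fact.mk hp
  obtain ⟨x, hx⟩ := exists_prime_orderOf_dvd_card' p hpd
  have hx1 : (x : G) ≠ 1 := by
    intro h
    rw [Subtype.ext h (a2 := (1 : N)), orderOf_one] at hx
    exact hp.one_lt.ne hx
  have hexp : ∀ n : N, n ^ p = 1 := by
    intro n
    by_cases h1 : (n : G) = 1
    · rw [Subtype.ext h1 (a2 := (1 : N)), one_pow]
    obtain ⟨g, hg⟩ := hconj x.2 n.2 hx1 h1
    apply Subtype.ext
    have hxp : (x : G) ^ p = 1 := by rw [← Subgroup.coe_pow, ← hx, pow_orderOf_eq_one]; rfl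
    rw [Subgroup.coe_pow, ← hg, conj_pow, hxp, mul_one, mul_inv_cancel]; rfl
  have hP : IsPGroup p N := fun n => ⟨1, by rw [pow_one]; exact hexp n⟩
  haveI : Nontrivial (center N) := hP.center_nontrivial
  obtain ⟨z, hz⟩ := exists_ne (1 : center N)
  have hz1 : ((z : N) : G) ≠ 1 := fun h => hz (Subtype.ext (Subtype.ext h))
  refine ⟨⟨fun m k => ?_⟩⟩
  by_cases hm1 : (m : G) = 1
  · rw [Subtype.ext hm1 (a2 := (1 : N)), one_mul, mul_one]
  obtain ⟨g, hg⟩ := hconj (z : N).2 m.2 hz1 hm1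
  apply Subtype.ext
  have hk : g⁻¹ * (k : G) * g ∈ N := by simpa using ‹N.Normal›.conj_mem _ k.2 g⁻¹
  have hcz : (g⁻¹ * (k : G) * g) * ((z : N) : G) = ((z : N) : G) * (g⁻¹ * (k : G) * g) :=
    congrArg Subtype.val (mem_center_iff.mp z.2 ⟨_, hk⟩)
  show (m : G) * k = k * m
  calc (m : G) * k = g * (((z : N) : G) * (g⁻¹ * (k : G) * g)) * g⁻¹ := by rw [← hg]; group
    _ = g * ((g⁻¹ * (k : G) * g) * ((z : N) : G)) * g⁻¹ := by rw [hcz]
    _ = k * m := by rw [← hg]; group

/-- A non-regular minimal normal subgroup of a doubly transitive group is primitive. -/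
theorem isPreprimitive [Finite G] [Finite α] (h2 : IsMultiplyPretransitive G α 2) (N : Subgroup G)
    [N.Normal] (hmin : ∀ M : Subgroup G, M.Normal → M ≤ N → M = ⊥ ∨ M = N) [IsPretransitive N α]
    (a : α) (hreg : stabilizer N a ≠ ⊥) : IsPreprimitive N α := by
  classical
  apply IsPreprimitive.mk
  intro B₀ hB₀
  by_contra hnt
  obtain ⟨B, ⟨hB, hBnt⟩, hBmin⟩ :=
    Set.exists_min_image {C : Set α | IsBlock N C ∧ ¬ IsTrivialBlock C} Set.ncard
      (Set.toFinite _) ⟨B₀, hB₀, hnt⟩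
  obtain ⟨hBns, hBuniv⟩ := not_or.mp hBnt
  obtain ⟨b, hb, c, hc, hbc⟩ := Set.not_subsingleton_iff.mp hBns
  -- the lines
  have htr : ∀ g : G, IsBlock N (g • B) := by
    intro g
    rw [isBlock_iff_smul_eq_of_nonempty]
    intro n hne
    have hn' : g⁻¹ * (n : G) * g ∈ N := by simpa using ‹N.Normal›.conj_mem _ n.2 g⁻¹
    have e : n • (g • B) = g • ((⟨_, hn'⟩ : N) • B) := by
      show (n : G) • (g • B) = g • ((g⁻¹ * (n : G) * g) • B)
      rw [← mul_smul, ← mul_smul]
      congr 1; group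
    rw [e] at hne ⊢
    rw [← Set.smul_set_inter, Set.smul_set_nonempty] at hne
    rw [isBlock_iff_smul_eq_of_nonempty.mp hB hne]
  let L : Set (Set α) := {C | ∃ g : G, g • B = C}
  have hline : ∀ C ∈ L, IsBlock N C ∧ C.ncard = B.ncard ∧ C ≠ Set.univ := by
    rintro C ⟨g, rfl⟩
    refine ⟨htr g, Set.ncard_smul_set g B, fun h => hBuniv ?_⟩
    have := congrArg (fun S => g⁻¹ • S) h
    simpa using this
  have hexists : ∀ x y : α, x ≠ y → ∃ C ∈ L, x ∈ C ∧ y ∈ C := by
    intro x y hxy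
    obtain ⟨g, h1, h2'⟩ := two_trans h2 hbc hxy
    exact ⟨g • B, ⟨g, rfl⟩, h1 ▸ Set.smul_mem_smul_set hb, h2' ▸ Set.smul_mem_smul_set hc⟩
  have huniq : ∀ C ∈ L, ∀ D ∈ L, ∀ x y : α, x ≠ y → x ∈ C → y ∈ C → x ∈ D → y ∈ D → C = D := by
    intro C hC D hD x y hxy hxC hyC hxD hyD
    obtain ⟨hC1, hC2, hC3⟩ := hline C hC
    obtain ⟨hD1, hD2, -⟩ := hline D hD
    have hI : ¬ IsTrivialBlock (C ∩ D) := by
      rintro (h | h)
      · exact hxy (h ⟨hxC, hxD⟩ ⟨hyC, hyD⟩)
      · exact hC3 (Set.eq_univ_of_univ_subset (h ▸ Set.inter_subset_left))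
    have hge : B.ncard ≤ (C ∩ D).ncard := hBmin _ ⟨hC1.inter hD1, hI⟩
    have e1 : C ∩ D = C :=
      Set.eq_of_subset_of_ncard_le Set.inter_subset_left (by omega) (Set.toFinite _)
    have e2 : C ∩ D = D :=
      Set.eq_of_subset_of_ncard_le Set.inter_subset_right (by omega) (Set.toFinite _)
    exact e1.symm.trans e2
  have hfix : ∀ n : N, ∀ C ∈ L, ∀ x ∈ C, n • x = x → ∀ z ∈ C, n • z ∈ C := by
    intro n C hC x hx hnx z hz
    have := isBlock_iff_smul_eq_of_nonempty.mp (hline C hC).1 (g := n)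
      ⟨x, ⟨x, hx, hnx⟩, hx⟩
    rw [← this]
    exact Set.smul_mem_smul_set hz
  -- a point off the line of two fixed points is fixed
  have hoff : ∀ n : N, ∀ x y : α, x ≠ y → n • x = x → n • y = y → ∀ C ∈ L, x ∈ C → y ∈ C →
      ∀ z, z ∉ C → n • z = z := by
    intro n x y hxy hnx hny C hC hxC hyC z hzC
    obtain ⟨D, hD, hxD, hzD⟩ := hexists x z (fun h => hzC (h ▸ hxC))
    obtain ⟨E, hE, hyE, hzE⟩ := hexists y z (fun h => hzC (h ▸ hyC))
    by_contra hne
    have hDE : D = E := huniq D hD E hE _ z hne (hfix n D hD x hxD hnx z hzD) hzD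
      (hfix n E hE y hyE hny z hzE) hzE
    exact hzC (huniq C hC D hD x y hxy hxC hyC hxD (hDE ▸ hyE) ▸ hzD)
  have hfree : ∀ n : N, ∀ x y : α, x ≠ y → n • x = x → n • y = y → n = 1 := by
    intro n x y hxy hnx hny
    obtain ⟨C, hC, hxC, hyC⟩ := hexists x y hxy
    obtain ⟨w, hw⟩ := (Set.ne_univ_iff_exists_notMem C).mp (hline C hC).2.2
    have hnw := hoff n x y hxy hnx hny C hC hxC hyC w hw
    have hxw : x ≠ w := fun h => hw (h ▸ hxC)
    obtain ⟨D, hD, hxD, hwD⟩ := hexists x w hxw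
    apply eq_of_smul_eq_smul (α := α)
    intro z
    rw [one_smul]
    by_cases hzC : z ∈ C
    · by_cases hzx : z = x
      · rw [hzx, hnx]
      · refine hoff n x w hxw hnx hnw D hD hxD hwD z fun hzD => hw ?_
        rw [huniq C hC D hD z x hzx hzC hxC hzD hxD]
        exact hwD
    · exact hoff n x y hxy hnx hny C hC hxC hyC z hzC
  have hTI : ∀ g : N, g ∉ stabilizer N a → ∀ h ∈ stabilizer N a, g * h * g⁻¹ ∈ stabilizer N a →
      h = 1 := by
    intro g hg h hh hgh
    rw [mem_stabilizer_iff] at hg hh hgh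
    refine hfree h a (g⁻¹ • a) (fun e => hg ?_) hh ?_
    · conv_lhs => rw [e, smul_inv_smul]
    · rw [mul_smul, mul_smul, smul_eq_iff_eq_inv_smul] at hgh
      exact hgh
  obtain ⟨K, -, hKH, hKsup, -, hKmem⟩ := CfsgLib.Char.exists_frobenius_kernel (stabilizer N a) hTI
  have hmemK : ∀ n : N, n ∈ K ↔ n = 1 ∨ ∀ x : α, n • x ≠ x := by
    intro n
    rw [hKmem]
    apply or_congr Iff.rfl
    constructor
    · intro h x hx
      obtain ⟨m, rfl⟩ := exists_smul_eq N a x
      refine h m ?_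
      rw [mem_stabilizer_iff, mul_smul, mul_smul, hx, inv_smul_smul]
    · intro h m hm
      rw [mem_stabilizer_iff, mul_smul, mul_smul, inv_smul_eq_iff] at hm
      exact h _ hm
  have hnorm : (K.map N.subtype).Normal := by
    refine ⟨?_⟩
    rintro _ ⟨n, hn, rfl⟩ g
    refine ⟨⟨g * n * g⁻¹, ‹N.Normal›.conj_mem _ n.2 g⟩, ?_, rfl⟩
    rcases (hmemK n).mp hn with rfl | h
    · refine (hmemK _).mpr (Or.inl (Subtype.ext ?_))
      simp
    · refine (hmemK _).mpr (Or.inr fun x hx => h (g⁻¹ • x) ?_)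
      have hx' : (g * (n : G) * g⁻¹) • x = x := hx
      rw [mul_smul, mul_smul, smul_eq_iff_eq_inv_smul] at hx'
      exact hx'
  rcases hmin _ hnorm (map_subtype_le K) with h | h
  · have hK : K = ⊥ := (map_eq_bot_iff_of_injective K N.subtype_injective).mp h
    rw [hK, bot_sup_eq] at hKsup
    refine hbc ?_
    obtain ⟨m, rfl⟩ := exists_smul_eq N a b
    obtain ⟨k, rfl⟩ := exists_smul_eq N a c
    rw [mem_stabilizer_iff.mp (show m ∈ stabilizer N a from hKsup ▸ mem_top _),
      mem_stabilizer_iff.mp (show k ∈ stabilizer N a from hKsup ▸ mem_top _)]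
  · have hK : K = ⊤ := by
      apply Subgroup.map_injective N.subtype_injective
      rw [h, ← MonoidHom.range_eq_map, range_subtype]
    rw [hK, top_inf_eq] at hKH
    exact hreg hKH

theorem exists_prime_pair {n : ℕ} (hn : n ≠ 0) {u v : ℕ}
    (h : ∀ r : ℕ, r.Prime → r ∣ n → r = u ∨ r = v) :
    ∃ p q a b : ℕ, p.Prime ∧ q.Prime ∧ n = p ^ a * q ^ b := by
  classical
  let p := if u.Prime then u else 2
  let q := if v.Prime then v else 2
  have hp : p.Prime := by dsimp only [p]; split_ifs <;> [assumption; exact Nat.prime_two]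
  have hq : q.Prime := by dsimp only [q]; split_ifs <;> [assumption; exact Nat.prime_two]
  have hpq : ∀ r : ℕ, r.Prime → r ∣ n → r = p ∨ r = q := by
    intro r hr hrn
    rcases h r hr hrn with rfl | rfl
    · left; simp [p, hr]
    · right; simp [q, hr]
  obtain ⟨a, m, hm, hnm⟩ := Nat.exists_eq_pow_mul_and_not_dvd hn p hp.ne_one
  have hm0 : m ≠ 0 := fun e => hm (e ▸ dvd_zero p)
  refine ⟨p, q, a, m.primeFactorsList.length, hp, hq, ?_⟩
  rw [← Nat.eq_prime_pow_of_unique_prime_dvd hm0 (p := q) fun {r} hr hrm =>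
    (hpq r hr (hnm ▸ hrm.mul_left _)).resolve_left fun e => hm (e ▸ hrm)]
  exact hnm

/-- A primitive minimal normal subgroup of a doubly transitive group is simple. -/
theorem isSimpleGroup [Finite G] (h2 : IsMultiplyPretransitive G α 2) (N : Subgroup G)
    [N.Normal] (hN : N ≠ ⊥) (hmin : ∀ M : Subgroup G, M.Normal → M ≤ N → M = ⊥ ∨ M = N)
    [IsPreprimitive N α] (a : α) (hna : ¬ IsMulCommutative N) : IsSimpleGroup N := by
  classical
  obtain ⟨T, hT⟩ := CfsgLib.ExtPrim.exists_isFactor N hN hmin hna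
  open CfsgLib.ExtPrim in
  by_cases hoth : others T = ⊥
  · have : T = N := by rw [← hT.sup_others, hoth, sup_bot_eq]
    rw [← this]; exact hT.simple
  -- a nontrivial normal subgroup of `N` is transitive
  have htrans : ∀ S : Subgroup G, S ≤ N → (∀ n ∈ N, ∀ x ∈ S, n * x * n⁻¹ ∈ S) → S ≠ ⊥ →
      IsPretransitive S α := by
    intro S hSN hSn hS
    haveI : (S.subgroupOf N).Normal := ⟨fun x hx n => hSn n n.2 x hx⟩
    haveI : IsPretransitive (S.subgroupOf N) α :=
      isPretransitive_of_normal (G := N) (S.subgroupOf N) fun h => hS (by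
        rw [← map_subgroupOf_eq_of_le hSN, h, Subgroup.map_bot])
    constructor
    intro x y
    obtain ⟨s, hs⟩ := exists_smul_eq (S.subgroupOf N) x y
    exact ⟨⟨_, mem_subgroupOf.mp s.2⟩, hs⟩
  open CfsgLib.ExtPrim in
  have hcjle : ∀ g, cj g T ≤ N := by
    intro g y hy
    have := ‹N.Normal›.conj_mem _ (hT.le (mem_cj.1 hy)) g
    simpa [mul_assoc] using this
  open CfsgLib.ExtPrim in
  have hcjn : ∀ g, ∀ n ∈ N, ∀ x ∈ cj g T, n * x * n⁻¹ ∈ cj g T := by
    intro g n hn x hx
    rw [mem_cj] at hx ⊢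
    have := hT.conj_mem (g⁻¹ * n * g) (by simpa using ‹N.Normal›.conj_mem n hn g⁻¹) _ hx
    simpa [mul_assoc] using this
  haveI := htrans T hT.le hT.conj_mem hT.ne_bot
  have hU : ∀ x : α, stabilizer (ExtPrim.others T) x = ⊥ :=
    fun x => semiregular_of_le_centralizer T _ hT.others_comm x
  -- all conjugates other than `T` equal `others T`
  open CfsgLib.ExtPrim in
  have honly : ∀ g, cj g T ≠ T → cj g T = others T := by
    intro g hg
    haveI := htrans (cj g T) (hcjle g) (hcjn g) (by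
      rw [Ne, cj, map_eq_bot_iff_of_injective _ (MulAut.conj g).injective]; exact hT.ne_bot)
    exact (eq_of_semiregular_of_transitive_le (cj_le_others hg) a (hU a)).symm
  obtain ⟨g₀, hg₀⟩ : ∃ g, ExtPrim.cj g T ≠ T := by
    by_contra hall
    push Not at hall
    apply hoth
    rw [eq_bot_iff]
    exact iSup₂_le fun g hg => absurd (hall g) hg
  haveI : IsPretransitive (ExtPrim.others T) α := by
    rw [← honly g₀ hg₀]
    exact htrans _ (hcjle g₀) (hcjn g₀) (by
      rw [Ne, ExtPrim.cj, map_eq_bot_iff_of_injective _ (MulAut.conj g₀).injective]; exact hT.ne_bot)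
  have hTreg : stabilizer T a = ⊥ := by
    refine semiregular_of_le_centralizer (ExtPrim.others T) T ?_ a
    rw [le_centralizer_iff]; exact hT.others_comm
  have hinj : ∀ {s t : G}, s ∈ T → t ∈ T → s • a = t • a → s = t := by
    intro s t hs ht h
    have : (⟨t⁻¹ * s, T.mul_mem (T.inv_mem ht) hs⟩ : T) ∈ stabilizer T a := by
      rw [mem_stabilizer_iff]
      show (t⁻¹ * s) • a = a
      rw [mul_smul, inv_smul_eq_iff, h]
    rw [hTreg, mem_bot] at this
    exact (inv_mul_eq_one.mp (congrArg Subtype.val this)).symm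
  have hne : ∀ {t : G}, t ∈ T → t ≠ 1 → a ≠ t • a := by
    intro t ht h1 h
    exact h1 (hinj ht T.one_mem (by rw [one_smul, ← h]))
  -- orders of elements under the normaliser of `T` in the point stabiliser
  have hord : ∀ g : G, g • a = a → ExtPrim.cj g T = T → ∀ s t : G, s ∈ T → t ∈ T →
      g • s • a = t • a → orderOf s = orderOf t := by
    intro g hga hgT s t hs ht h
    have hmem : g * s * g⁻¹ ∈ T := by
      have := ExtPrim.conj_mem_cj (g := g) hs
      rwa [hgT] at this
    have : g * s * g⁻¹ = t := hinj hmem ht (by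
      rw [mul_smul, mul_smul, inv_smul_eq_iff.mpr hga.symm, h])
    rw [← this]
    exact (MulAut.conj g).orderOf_eq s |>.symm
  haveI := hT.simple
  haveI : Nontrivial T := (nontrivial_iff_ne_bot T).mpr hT.ne_bot
  obtain ⟨t₀, ht₀⟩ := exists_ne (1 : T)
  have ht₀' : (t₀ : G) ≠ 1 := fun h => ht₀ (Subtype.ext h)
  obtain ⟨v, hv⟩ : ∃ v : ℕ, ∀ t : G, t ∈ T → t ≠ 1 → orderOf t = orderOf (t₀ : G) ∨ orderOf t = v := by
    by_cases hout : ∃ h : G, h • a = a ∧ ExtPrim.cj h T ≠ T
    · obtain ⟨h, hha, hhT⟩ := hout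
      have hne₁ : h • (t₀ : G) • a ≠ a := by
        intro e
        exact hne t₀.2 ht₀' (smul_left_cancel h (hha.trans e.symm))
      obtain ⟨s₁, hs₁⟩ := exists_smul_eq T a (h • (t₀ : G) • a)
      refine ⟨orderOf (s₁ : G), fun t ht ht1 => ?_⟩
      obtain ⟨g, hga, hg⟩ := two_trans h2 (hne t₀.2 ht₀') (hne ht ht1)
      by_cases hgT : ExtPrim.cj g T = T
      · exact Or.inl (hord g hga hgT _ _ t₀.2 ht hg).symm
      · right
        refine (hord (g * h⁻¹) ?_ ?_ _ _ s₁.2 ht ?_).symm
        · rw [mul_smul, inv_smul_eq_iff.mpr hha.symm, hga]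
        · have hi : ExtPrim.cj h⁻¹ T ≠ T := fun e => hhT (by
            conv_lhs => rw [← e]
            rw [ExtPrim.cj_cj, mul_inv_cancel, ExtPrim.cj_one])
          rw [← ExtPrim.cj_cj, honly _ hi, ← honly _ hg₀, ExtPrim.cj_cj]
          by_contra hne'
          have := honly _ hne'
          rw [← honly _ hgT, ← ExtPrim.cj_cj] at this
          have := congrArg (ExtPrim.cj g⁻¹) this
          simp only [ExtPrim.cj_cj, inv_mul_cancel, inv_mul_cancel_left, ExtPrim.cj_one, ← mul_assoc,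
            one_mul] at this
          exact hg₀ this
        · have hs₁' : (s₁ : G) • a = h • (t₀ : G) • a := hs₁
          rw [hs₁', mul_smul, inv_smul_smul, hg]
    · push Not at hout
      refine ⟨0, fun t ht ht1 => Or.inl ?_⟩
      obtain ⟨g, hga, hg⟩ := two_trans h2 (hne t₀.2 ht₀') (hne ht ht1)
      exact (hord g hga (hout g hga) _ _ t₀.2 ht hg).symm
  exfalso
  obtain ⟨p, q, i, j, hp, hq, hcard⟩ := exists_prime_pair (n := Nat.card T) Nat.card_pos.ne'
    (u := orderOf (t₀ : G)) (v := v) (by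
      intro r hr hrd
      haveI := Fact.mk hr
      obtain ⟨x, hx⟩ := exists_prime_orderOf_dvd_card' r hrd
      rw [← hx, ← orderOf_coe]
      refine hv x x.2 fun h => ?_
      rw [Subtype.ext h (a2 := (1 : T)), orderOf_one] at hx
      exact hr.one_lt.ne hx)
  haveI := CfsgLib.Char.isSolvable_of_card_eq p q i j hp hq hcard
  exact hT.nonab ⟨⟨fun x y => IsSimpleGroup.comm_iff_isSolvable.mpr ‹Group.IsSolvable T› x y⟩⟩

/-- Burnside: a minimal normal subgroup of a doubly transitive group is elementary abelian and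
regular, or simple and primitive. -/
theorem main [Finite G] [Finite α] (h2 : IsMultiplyPretransitive G α 2) (N : Subgroup G) [N.Normal]
    (hN : N ≠ ⊥) (hmin : ∀ M : Subgroup G, M.Normal → M ≤ N → M = ⊥ ∨ M = N) :
    (IsMulCommutative N ∧ (∃ p : ℕ, p.Prime ∧ ∀ n ∈ N, n ^ p = 1) ∧
      ∀ a : α, stabilizer N a = ⊥) ∨ (IsSimpleGroup N ∧ IsPreprimitive N α) := by
  haveI : IsPreprimitive G α := isPreprimitive_of_is_two_pretransitive h2
  haveI := isPretransitive_of_normal (α := α) N hN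
  by_cases hab : IsMulCommutative N
  · left
    refine ⟨hab, ?_, fun a => semiregular_of_le_centralizer N N ?_ a⟩
    · have hs : Group.IsSolvable N := by
        letI : CommGroup N := { (inferInstance : Group N) with mul_comm := hab.is_comm.comm }
        infer_instance
      obtain ⟨-, p, hp, hexp, -⟩ := CfsgLib.Solvable.minimal_normal_elementary hN hmin hs
      exact ⟨p, hp, hexp⟩
    · intro n hn
      rw [mem_centralizer_iff]
      intro m hm
      exact congrArg Subtype.val (hab.is_comm.comm ⟨m, hm⟩ ⟨n, hn⟩)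
  · right
    obtain ⟨a⟩ : Nonempty α := by
      by_contra h
      rw [not_nonempty_iff] at h
      apply hN
      rw [eq_bot_iff]
      intro n _
      rw [mem_bot]
      exact eq_of_smul_eq_smul (α := α) fun x => isEmptyElim x
    have hreg : stabilizer N a ≠ ⊥ := fun h => hab (abelian_of_regular h2 N hN a h)
    haveI := isPreprimitive h2 N hmin a hreg
    exact ⟨isSimpleGroup h2 N hN hmin a hab, inferInstance⟩

end CfsgLib.BurnsideMinimal
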