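/-
The permutation character and the centralizer ring of a finite permutation representation.
-/
import Cfsg.Prelude.Def_Perm
import Cfsg.Agent.Char.Constituents
import Cfsg.Agent.Char.Equivalence
import Cfsg.Agent.Char.Central
import Cfsg.Agent.Char.Values
import Cfsg.Agent.S0668
import Mathlib.LinearAlgebra.Eigenspace.Zero
import Mathlib.LinearAlgebra.Matrix.Charpoly.Eigs
import Mathlib.GroupTheory.GroupAction.Quotient

set_option autoImplicit false
set_option linter.style.haveILetI false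

namespace CfsgLib.CentralizerRing

open MulAction Module CfsgLib.Char
open scoped ComplexConjugate

universe u v

variable {G : Type u} [Group G] {Ω : Type v} [MulAction G Ω]

/-- The permutation character. -/
noncomputable def pi (G : Type u) [Group G] (Ω : Type v) [MulAction G Ω] : G → ℂ :=
  fun g => (Nat.card (fixedBy Ω g) : ℂ)

theorem permRep_apply (g : G) (v : Ω → ℂ) (x : Ω) :
    Cfsg.permRep ℂ G Ω g v x = v (g⁻¹ • x) := rfl

theorem permRep_single [DecidableEq Ω] (g : G) (y : Ω) :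
    Cfsg.permRep ℂ G Ω g (Pi.single y (1 : ℂ)) = Pi.single (g • y) 1 := by
  funext x
  simp [permRep_apply, Pi.single_apply, inv_smul_eq_iff]

variable [Fintype Ω]

theorem character_permRep : (Cfsg.permRep ℂ G Ω).character = pi G Ω := by
  classical
  funext g
  rw [Representation.character, LinearMap.trace_eq_matrix_trace ℂ (Pi.basisFun ℂ Ω)]
  simp only [Matrix.trace, Matrix.diag_apply, LinearMap.toMatrix_apply, Pi.basisFun_repr,
    Pi.basisFun_apply, permRep_single, Pi.single_apply]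
  rw [Finset.sum_boole, pi, Nat.card_eq_fintype_card]
  congr 1
  rw [Fintype.card_of_subtype]
  intro x
  simp [mem_fixedBy, eq_comm]

theorem isCharacter_pi : Cfsg.IsCharacter G (pi G Ω) :=
  character_permRep (G := G) (Ω := Ω) ▸ isCharacter_character _

theorem conj_pi (g : G) : conj (pi G Ω g) = pi G Ω g := Complex.conj_natCast _

section FintypeGroup

variable [Fintype G]

theorem classInner_pi_one :
    Cfsg.classInner (pi G Ω) (fun _ => 1) = (Nat.card (orbitRel.Quotient G Ω) : ℂ) := by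
  classical
  have h := sum_card_fixedBy_eq_card_orbits_mul_card_group G Ω
  rw [classInner_def]
  simp only [map_one, mul_one, pi, Nat.card_eq_fintype_card]
  rw [← Nat.cast_sum, h, Nat.cast_mul, mul_comm, mul_assoc, mul_inv_cancel₀ (by simp), mul_one]

theorem classInner_pi_self :
    Cfsg.classInner (pi G Ω) (pi G Ω) = (Nat.card (orbitRel.Quotient G (Ω × Ω)) : ℂ) := by
  classical
  rw [← classInner_pi_one (G := G) (Ω := Ω × Ω), classInner_def, classInner_def]
  congr 1
  refine Finset.sum_congr rfl fun g _ => ?_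
  rw [conj_pi, map_one, mul_one, pi, pi, ← Nat.cast_mul, ← Nat.card_prod, Nat.cast_inj]
  refine Nat.card_congr
    { toFun := fun z => ⟨(z.1, z.2), Prod.ext z.1.2 z.2.2⟩
      invFun := fun z => (⟨z.1.1, congrArg Prod.fst z.2⟩, ⟨z.1.2, congrArg Prod.snd z.2⟩)
      left_inv := fun z => rfl
      right_inv := fun z => rfl }

omit [Fintype G] in
theorem card_orbits_pairs [IsPretransitive G Ω] (a : Ω) :
    Nat.card (orbitRel.Quotient (stabilizer G a) Ω) =
      Nat.card (orbitRel.Quotient G (Ω × Ω)) := by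
  refine Nat.card_congr (Equiv.ofBijective
    (Quotient.map' (fun x => (a, x)) ?_) ⟨?_, ?_⟩)
  · rintro x y ⟨g, rfl⟩
    exact ⟨g, Prod.ext g.2 rfl⟩
  · intro p q
    refine Quotient.inductionOn₂' p q fun x y h => ?_
    obtain ⟨g, hg⟩ := Quotient.exact' (h : Quotient.mk'' (a, x) = Quotient.mk'' (a, y))
    exact Quotient.sound' ⟨⟨g, congrArg Prod.fst hg⟩, congrArg Prod.snd hg⟩
  · intro p
    refine Quotient.inductionOn' p fun z => ?_
    obtain ⟨g, hg⟩ := exists_smul_eq G z.1 a
    exact ⟨Quotient.mk'' (g • z.2), Quotient.sound' ⟨g, Prod.ext hg rfl⟩⟩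

theorem exists_mult {χ : G → ℂ} (hχ : Cfsg.IsIrrCharacter G χ) :
    ∃ m : ℕ, Cfsg.classInner (pi G Ω) χ = m :=
  IsCharacter.exists_classInner_eq_natCast isCharacter_pi hχ

/-- The multiplicities. -/
theorem exists_mult_fun :
    ∃ m : (G → ℂ) → ℕ, (∀ χ, Cfsg.IsIrrCharacter G χ → Cfsg.classInner (pi G Ω) χ = m χ) ∧
      pi G Ω = ∑ χ ∈ irrFinset G, (m χ : ℂ) • χ ∧
      ∑ χ ∈ irrFinset G, m χ ^ 2 = Nat.card (orbitRel.Quotient G (Ω × Ω)) := by
  classical
  choose! m hm using fun χ (hχ : Cfsg.IsIrrCharacter G χ) => exists_mult (Ω := Ω) hχ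
  refine ⟨m, hm, ?_, ?_⟩
  · conv_lhs => rw [eq_sum_irr (IsCharacter.isClassFunction (isCharacter_pi (G := G) (Ω := Ω)))]
    exact Finset.sum_congr rfl fun χ hχ => by rw [hm χ (mem_irrFinset.1 hχ)]
  · have h := classInner_pi_self (G := G) (Ω := Ω)
    rw [classInner_eq_sum_irr (IsCharacter.isClassFunction (isCharacter_pi (G := G) (Ω := Ω))),
      Finset.sum_congr rfl (fun χ hχ => show _ = ((m χ ^ 2 : ℕ) : ℂ) by
        rw [hm χ (mem_irrFinset.1 hχ), Complex.conj_natCast, Nat.cast_pow, pow_two]),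
      ← Nat.cast_sum, Nat.cast_inj] at h
    exact h

/-- Convolution of irreducible characters. -/
theorem sum_conj_mul_char {χ ψ : G → ℂ} (hχ : Cfsg.IsIrrCharacter G χ)
    (hψ : Cfsg.IsIrrCharacter G ψ) (h : G) :
    ∑ g, conj (χ g) * ψ (g * h) =
      (Nat.card G : ℂ) * Cfsg.classInner ψ χ / ψ 1 * ψ h := by
  obtain ⟨n, σ, hσ, rfl⟩ := hψ
  have hθ : Cfsg.IsClassFunction G (fun g => conj (χ g)) := fun g x => by
    show conj (χ _) = conj (χ g)
    rw [IsIrrCharacter.isClassFunction hχ g x]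
  have h1 := congrArg (fun A => LinearMap.trace ℂ _ (A * σ h)) (sum_smul_eq_smul_one σ hθ)
  simp only [Finset.sum_mul, smul_mul_assoc, one_mul, map_sum, map_smul, smul_eq_mul, ← map_mul] at h1
  refine h1.trans ?_
  rw [σ.char_one]
  show _ / _ * σ.character h = _
  congr 2
  rw [← sum_eq_card_mul_classInner]
  exact Finset.sum_congr rfl fun g _ => mul_comm _ _

/-- Intertwiners given by functions on the group. -/
noncomputable def op (c : G → ℂ) : (Ω → ℂ) →ₗ[ℂ] (Ω → ℂ) := ∑ g, c g • Cfsg.permRep ℂ G Ω g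

theorem op_apply_single [DecidableEq Ω] (c : G → ℂ) (x y : Ω) :
    op c (Pi.single y (1 : ℂ)) x = ∑ g, if g • y = x then c g else 0 := by
  simp only [op, LinearMap.sum_apply, LinearMap.smul_apply, permRep_single, Finset.sum_apply,
    Pi.smul_apply, Pi.single_apply, smul_eq_mul, mul_ite, mul_one, mul_zero, eq_comm (a := x)]

omit [Fintype G] in
theorem mem_invariants_iff (S : (Ω → ℂ) →ₗ[ℂ] (Ω → ℂ)) :
    S ∈ ((Cfsg.permRep ℂ G Ω).linHom (Cfsg.permRep ℂ G Ω)).invariants ↔
      ∀ (g : G) (v : Ω → ℂ), S (Cfsg.permRep ℂ G Ω g v) = Cfsg.permRep ℂ G Ω g (S v) := by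
  rw [Representation.mem_invariants]
  constructor
  · intro h g v
    have h1 := LinearMap.congr_fun (h g) (Cfsg.permRep ℂ G Ω g v)
    rw [← h1]
    simp
  · intro h g
    refine LinearMap.ext fun v => ?_
    show Cfsg.permRep ℂ G Ω g (S (Cfsg.permRep ℂ G Ω g⁻¹ v)) = S v
    rw [← h, Representation.self_inv_apply]

theorem op_mem {c : G → ℂ} (hc : Cfsg.IsClassFunction G c) :
    op c ∈ ((Cfsg.permRep ℂ G Ω).linHom (Cfsg.permRep ℂ G Ω)).invariants := by
  rw [mem_invariants_iff]
  intro x v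
  simp only [op, LinearMap.sum_apply, LinearMap.smul_apply, map_sum, map_smul]
  refine Fintype.sum_equiv (MulAut.conj x⁻¹).toEquiv _ _ fun g => ?_
  show c g • _ = c (x⁻¹ * g * x⁻¹⁻¹) •
    Cfsg.permRep ℂ G Ω x (Cfsg.permRep ℂ G Ω (x⁻¹ * g * x⁻¹⁻¹) v)
  rw [hc g x⁻¹, inv_inv]
  congr 1
  simp only [← Module.End.mul_apply, ← map_mul, mul_assoc, mul_inv_cancel_left]

theorem op_commute (c : G → ℂ) {S : (Ω → ℂ) →ₗ[ℂ] (Ω → ℂ)}
    (hS : S ∈ ((Cfsg.permRep ℂ G Ω).linHom (Cfsg.permRep ℂ G Ω)).invariants) :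
    S ∘ₗ op c = op c ∘ₗ S := by
  rw [mem_invariants_iff] at hS
  ext v : 1
  simp [op, map_sum, hS]

theorem trace_op_mul {χ : G → ℂ} (hχ : Cfsg.IsIrrCharacter G χ) (h : G) :
    LinearMap.trace ℂ (Ω → ℂ) (op (fun g => conj (χ g)) * Cfsg.permRep ℂ G Ω h) =
      (Nat.card G : ℂ) / χ 1 * Cfsg.classInner (pi G Ω) χ * χ h := by
  classical
  obtain ⟨m, hm, hpi, -⟩ := exists_mult_fun (G := G) (Ω := Ω)
  simp only [op, Finset.sum_mul, smul_mul_assoc, map_sum, map_smul, smul_eq_mul, ← map_mul]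
  have : ∀ g, LinearMap.trace ℂ (Ω → ℂ) (Cfsg.permRep ℂ G Ω (g * h)) =
      ∑ ψ ∈ irrFinset G, (m ψ : ℂ) * ψ (g * h) := fun g => by
    show (Cfsg.permRep ℂ G Ω).character (g * h) = _
    rw [character_permRep]
    conv_lhs => rw [hpi]
    simp [Finset.sum_apply]
  simp_rw [this, Finset.mul_sum]
  rw [Finset.sum_comm, Finset.sum_eq_single χ]
  · simp_rw [mul_left_comm]
    rw [← Finset.mul_sum, sum_conj_mul_char hχ hχ, IsIrrCharacter.classInner_self hχ, hm χ hχ]
    ring
  · intro ψ hψ hne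
    simp_rw [mul_left_comm]
    rw [← Finset.mul_sum, sum_conj_mul_char hχ (mem_irrFinset.1 hψ),
      IsIrrCharacter.classInner_of_ne (mem_irrFinset.1 hψ) hχ hne]
    simp
  · exact fun h' => absurd (mem_irrFinset.2 hχ) h'

/-- In the multiplicity free case the central operators span the centralizer ring. -/
theorem mem_span_op
    (hmf : ∀ χ : G → ℂ, Cfsg.IsIrrCharacter G χ →
      Cfsg.classInner (pi G Ω) χ = 0 ∨ Cfsg.classInner (pi G Ω) χ = 1)
    {S : (Ω → ℂ) →ₗ[ℂ] (Ω → ℂ)}
    (hS : S ∈ ((Cfsg.permRep ℂ G Ω).linHom (Cfsg.permRep ℂ G Ω)).invariants) :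
    S ∈ Submodule.span ℂ {T : (Ω → ℂ) →ₗ[ℂ] (Ω → ℂ) | ∃ χ : G → ℂ, Cfsg.IsIrrCharacter G χ ∧
      Cfsg.classInner (pi G Ω) χ ≠ 0 ∧ T = op (fun g => conj (χ g))} := by
  classical
  obtain ⟨m, hm, -, hsq⟩ := exists_mult_fun (G := G) (Ω := Ω)
  let X := (irrFinset G).filter fun χ => Cfsg.classInner (pi G Ω) χ ≠ 0
  let E : X → ((Ω → ℂ) →ₗ[ℂ] (Ω → ℂ)) := fun χ => op (fun g => conj ((χ : G → ℂ) g))
  have hX : ∀ χ : X, Cfsg.IsIrrCharacter G (χ : G → ℂ) ∧ Cfsg.classInner (pi G Ω) (χ : G → ℂ) ≠ 0 :=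
    fun χ => ⟨mem_irrFinset.1 (Finset.mem_filter.1 χ.2).1, (Finset.mem_filter.1 χ.2).2⟩
  have hE : LinearIndependent ℂ E := by
    rw [Fintype.linearIndependent_iff]
    intro a ha i
    have h1 : (fun h : G => ∑ χ : X,
        a χ * ((Nat.card G : ℂ) / (χ : G → ℂ) 1 * Cfsg.classInner (pi G Ω) (χ : G → ℂ) *
          (χ : G → ℂ) h)) = 0 := by
      funext h
      have := congrArg (fun A : (Ω → ℂ) →ₗ[ℂ] (Ω → ℂ) =>
        LinearMap.trace ℂ (Ω → ℂ) (A * Cfsg.permRep ℂ G Ω h)) ha
      simp only [Finset.sum_mul, smul_mul_assoc, map_sum, map_smul, smul_eq_mul, zero_mul, map_zero,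
        E, trace_op_mul (hX _).1] at this
      exact this
    have h2 := congrArg (fun φ => Cfsg.classInner φ (i : G → ℂ)) h1
    simp only [classInner_zero_left] at h2
    rw [show (fun h : G => ∑ χ : X, a χ * ((Nat.card G : ℂ) / (χ : G → ℂ) 1 *
        Cfsg.classInner (pi G Ω) (χ : G → ℂ) * (χ : G → ℂ) h)) =
      ∑ χ : X, (a χ * ((Nat.card G : ℂ) / (χ : G → ℂ) 1 *
        Cfsg.classInner (pi G Ω) (χ : G → ℂ))) • (χ : G → ℂ) from by
      funext h; simp [Finset.sum_apply, mul_assoc], classInner_sum_left,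
      Finset.sum_eq_single i, classInner_smul_left, IsIrrCharacter.classInner_self (hX i).1,
      mul_one] at h2
    · simp only [mul_eq_zero, div_eq_zero_iff, (hX i).2, IsIrrCharacter.apply_one_ne_zero (hX i).1,
        or_false, Nat.cast_eq_zero, Nat.card_pos.ne'] at h2
      exact h2
    · intro χ _ hne
      rw [classInner_smul_left, IsIrrCharacter.classInner_of_ne (hX χ).1 (hX i).1
        (fun e => hne (Subtype.ext e)), mul_zero]
    · simp
  have hle : Submodule.span ℂ (Set.range E) ≤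
      ((Cfsg.permRep ℂ G Ω).linHom (Cfsg.permRep ℂ G Ω)).invariants := by
    rw [Submodule.span_le]
    rintro _ ⟨χ, rfl⟩
    exact op_mem fun g x => by
      show conj ((χ : G → ℂ) _) = conj ((χ : G → ℂ) g)
      rw [IsIrrCharacter.isClassFunction (hX χ).1 g x]
  have heq := Submodule.eq_of_le_of_finrank_eq hle (by
    rw [finrank_span_eq_card hE, Cfsg.Agent.S0668.result, ← hsq, Fintype.card_coe]
    rw [Finset.card_filter]
    refine Finset.sum_congr rfl fun χ hχ => ?_
    rcases hmf χ (mem_irrFinset.1 hχ) with h | h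
    · rw [if_neg (not_not.2 h)]
      rw [hm χ (mem_irrFinset.1 hχ), Nat.cast_eq_zero] at h
      rw [h]; rfl
    · rw [if_pos (by rw [h]; exact one_ne_zero)]
      rw [hm χ (mem_irrFinset.1 hχ), Nat.cast_eq_one] at h
      rw [h, one_pow])
  rw [← heq] at hS
  refine Submodule.span_mono ?_ hS
  rintro _ ⟨χ, rfl⟩
  exact ⟨χ, (hX χ).1, (hX χ).2, rfl⟩

/-- A commutative centralizer ring forces multiplicities at most one. -/
theorem mult_le_one
    (hcomm : ∀ S T : (Ω → ℂ) →ₗ[ℂ] (Ω → ℂ),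
      S ∈ ((Cfsg.permRep ℂ G Ω).linHom (Cfsg.permRep ℂ G Ω)).invariants →
      T ∈ ((Cfsg.permRep ℂ G Ω).linHom (Cfsg.permRep ℂ G Ω)).invariants → S ∘ₗ T = T ∘ₗ S)
    (χ : G → ℂ) (hχ : Cfsg.IsIrrCharacter G χ) :
    Cfsg.classInner (pi G Ω) χ = 0 ∨ Cfsg.classInner (pi G Ω) χ = 1 := by
  classical
  obtain ⟨m, hm⟩ := exists_mult (Ω := Ω) hχ
  rcases (show m = 0 ∨ m = 1 ∨ 2 ≤ m by omega) with rfl | rfl | h2
  · exact Or.inl (by rw [hm, Nat.cast_zero])
  · exact Or.inr (by rw [hm, Nat.cast_one])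
  exfalso
  have h1 : Cfsg.IsCharacter G (pi G Ω - χ) :=
    IsCharacter.sub_irr isCharacter_pi hχ (by rw [hm]; exact_mod_cast (by omega : m ≠ 0))
  have h1' : Cfsg.classInner (pi G Ω - χ) χ ≠ 0 := by
    rw [classInner_sub_left, IsIrrCharacter.classInner_self hχ, hm, sub_ne_zero]
    exact_mod_cast (by omega : m ≠ 1)
  obtain ⟨k, τ, hτ⟩ := IsCharacter.sub_irr h1 hχ h1'
  obtain ⟨n, hn, hn1⟩ := IsIrrCharacter.exists_degree hχ
  obtain ⟨n', σ, hσ, hσχ⟩ := id hχ
  have hn' : 0 < n' := by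
    have := IsIrrCharacter.apply_one_ne_zero hχ
    rw [← hσχ, σ.char_one, finrank_fin_fun] at this
    exact Nat.pos_of_ne_zero fun e => this (by rw [e, Nat.cast_zero])
  let R := σ.prod (σ.prod τ)
  have hR : R.character = (Cfsg.permRep ℂ G Ω).character := by
    rw [character_permRep, character_prod, character_prod, hσχ, hτ]
    abel
  obtain ⟨L, he⟩ : ∃ L : ((Fin n' → ℂ) × (Fin n' → ℂ) × (Fin k → ℂ)) ≃ₗ[ℂ] (Ω → ℂ),
      ∀ g w, L (R g w) = Cfsg.permRep ℂ G Ω g (L w) := by
    obtain ⟨e⟩ := equiv_of_character_eq R (Cfsg.permRep ℂ G Ω) hR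
    exact ⟨e.toLinearEquiv, fun g w => congrFun (congrArg DFunLike.coe (e.isIntertwining' g)) w⟩
  let A : ((Fin n' → ℂ) × (Fin n' → ℂ) × (Fin k → ℂ)) →ₗ[ℂ]
      ((Fin n' → ℂ) × (Fin n' → ℂ) × (Fin k → ℂ)) :=
    (LinearMap.inl ℂ _ _).comp ((LinearMap.fst ℂ _ _).comp (LinearMap.snd ℂ _ _))
  let B : ((Fin n' → ℂ) × (Fin n' → ℂ) × (Fin k → ℂ)) →ₗ[ℂ]
      ((Fin n' → ℂ) × (Fin n' → ℂ) × (Fin k → ℂ)) :=
    (LinearMap.inl ℂ _ _).comp (LinearMap.fst ℂ _ _)
  have hconj : ∀ C : ((Fin n' → ℂ) × (Fin n' → ℂ) × (Fin k → ℂ)) →ₗ[ℂ]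
      ((Fin n' → ℂ) × (Fin n' → ℂ) × (Fin k → ℂ)),
      (∀ g v, C (R g v) = R g (C v)) →
      L.toLinearMap ∘ₗ C ∘ₗ L.symm.toLinearMap ∈
        ((Cfsg.permRep ℂ G Ω).linHom (Cfsg.permRep ℂ G Ω)).invariants := by
    intro C hC
    rw [mem_invariants_iff]
    intro g v
    have he' : L.symm (Cfsg.permRep ℂ G Ω g v) = R g (L.symm v) := by
      rw [LinearEquiv.symm_apply_eq, he, LinearEquiv.apply_symm_apply]
    simp only [LinearMap.coe_comp, Function.comp_apply, LinearEquiv.coe_coe, he', hC, he]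
  have hA : ∀ g v, A (R g v) = R g (A v) := fun g v => by
    refine Prod.ext rfl (Prod.ext ?_ ?_)
    · exact (map_zero (σ g)).symm
    · exact (map_zero (τ g)).symm
  have hB : ∀ g v, B (R g v) = R g (B v) := fun g v => by
    refine Prod.ext rfl (Prod.ext ?_ ?_)
    · exact (map_zero (σ g)).symm
    · exact (map_zero (τ g)).symm
  have h := hcomm _ _ (hconj A hA) (hconj B hB)
  let v₀ : (Fin n' → ℂ) × (Fin n' → ℂ) × (Fin k → ℂ) := (0, (fun _ => 1), 0)
  have h3 := LinearMap.congr_fun h (L v₀)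
  simp only [LinearMap.coe_comp, Function.comp_apply, LinearEquiv.coe_coe,
    LinearEquiv.symm_apply_apply, EmbeddingLike.apply_eq_iff_eq] at h3
  have h4 := congrFun (congrArg Prod.fst h3) ⟨0, hn'⟩
  simp [A, B, v₀] at h4

end FintypeGroup

section Orbital

/-- The operator of an orbital. -/
noncomputable def orbOp (G : Type u) [Group G] {Ω : Type v} [MulAction G Ω] [Fintype Ω] (a b : Ω) :
    (Ω → ℂ) →ₗ[ℂ] (Ω → ℂ) := by
  classical exact LinearMap.pi fun x =>
    ∑ y ∈ Finset.univ.filter (fun y => ∃ g : G, g • a = x ∧ g • b = y), LinearMap.proj y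

theorem orbOp_apply (a b : Ω) (v : Ω → ℂ) (x : Ω)
    [DecidablePred fun y => ∃ g : G, g • a = x ∧ g • b = y] :
    orbOp G a b v x = ∑ y ∈ Finset.univ.filter (fun y => ∃ g : G, g • a = x ∧ g • b = y), v y := by
  simp only [orbOp, LinearMap.pi_apply, LinearMap.sum_apply, LinearMap.proj_apply]
  refine Finset.sum_congr ?_ fun y _ => rfl
  ext y; simp

theorem orbOp_apply_single [DecidableEq Ω] (a b x y : Ω)
    [Decidable (∃ g : G, g • a = x ∧ g • b = y)] :
    orbOp G a b (Pi.single y 1) x = if ∃ g : G, g • a = x ∧ g • b = y then 1 else 0 := by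
  classical
  rw [orbOp_apply]
  simp only [Pi.single_apply, Finset.sum_ite_eq', Finset.mem_filter, Finset.mem_univ, true_and]

theorem orbOp_mem (a b : Ω) :
    orbOp G a b ∈ ((Cfsg.permRep ℂ G Ω).linHom (Cfsg.permRep ℂ G Ω)).invariants := by
  classical
  rw [mem_invariants_iff]
  intro g v
  funext x
  rw [permRep_apply, orbOp_apply, orbOp_apply]
  refine Finset.sum_bij (fun y _ => g⁻¹ • y) (fun y hy => ?_)
    (fun _ _ _ _ e => smul_left_cancel _ e) (fun y hy => ⟨g • y, ?_, by simp⟩) (fun y _ => rfl)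
  · simp only [Finset.mem_filter, Finset.mem_univ, true_and] at hy ⊢
    obtain ⟨k, h1, h2⟩ := hy
    exact ⟨g⁻¹ * k, by rw [mul_smul, h1], by rw [mul_smul, h2]⟩
  · simp only [Finset.mem_filter, Finset.mem_univ, true_and] at hy ⊢
    obtain ⟨k, h1, h2⟩ := hy
    exact ⟨g * k, by rw [mul_smul, h1, smul_inv_smul], by rw [mul_smul, h2]⟩

variable [Fintype G] [IsPretransitive G Ω]

theorem classInner_pi_one_transitive [Nonempty Ω] :
    Cfsg.classInner (pi G Ω) (fun _ => 1) = 1 := by
  rw [classInner_pi_one]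
  have : Subsingleton (orbitRel.Quotient G Ω) :=
    (pretransitive_iff_subsingleton_quotient G Ω).mp inferInstance
  have : Nonempty (orbitRel.Quotient G Ω) := ⟨Quotient.mk'' (Classical.arbitrary Ω)⟩
  rw [Nat.card_unique, Nat.cast_one]

omit [IsPretransitive G Ω] in
theorem exists_sub_character {V : Type*} [AddCommGroup V] [Module ℂ V] [FiniteDimensional ℂ V]
    (σ : Representation ℂ G V) (W : Subrepresentation σ) :
    ∃ φ ψ : G → ℂ, Cfsg.IsCharacter G φ ∧ Cfsg.IsCharacter G ψ ∧ σ.character = φ + ψ ∧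
      φ 1 = (finrank ℂ W.toSubmodule : ℂ) := by
  obtain ⟨T, hT⟩ := exists_compl W
  exact ⟨_, _, isCharacter_character W.toRepresentation, isCharacter_character T.toRepresentation,
    by rw [← Representation.char_iso (prodEquivOfCompl hT), character_prod],
    Representation.char_one _⟩

/-- Sub-representations orthogonal to the constants have degree divisible by the common divisor of
the degrees of the non-principal constituents. -/
theorem dvd_finrank (f : ℕ)
    (hf : ∀ χ : G → ℂ, Cfsg.IsIrrCharacter G χ → χ ≠ (fun _ => 1) →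
      Cfsg.classInner (pi G Ω) χ ≠ 0 → ∃ m : ℕ, χ 1 = (f : ℂ) * m)
    [Nonempty Ω] (W : Subrepresentation (Cfsg.permRep ℂ G Ω))
    (hW : W.toSubmodule ≤ (Cfsg.permSumZero ℂ G Ω).toSubmodule) :
    f ∣ finrank ℂ W.toSubmodule := by
  classical
  let S := Cfsg.permSumZero ℂ G Ω
  let C := Cfsg.permConstants ℂ G Ω
  have hn : (Fintype.card Ω : ℂ) ≠ 0 := by simp
  have hC : IsCompl C.toSubmodule S.toSubmodule := by
    constructor
    · rw [Submodule.disjoint_def]
      intro v hv hv'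
      obtain ⟨c, rfl⟩ := Submodule.mem_span_singleton.1 hv
      have h1 : ∑ _x : Ω, c * 1 = 0 := hv'
      simp only [mul_one, Finset.sum_const, Finset.card_univ, nsmul_eq_mul, mul_eq_zero, hn,
        false_or] at h1
      rw [h1, zero_smul]
    · rw [codisjoint_iff, Submodule.eq_top_iff']
      intro v
      refine Submodule.mem_sup.2 ⟨((∑ x, v x) / Fintype.card Ω) • (fun _ => 1),
        Submodule.mem_span_singleton.2 ⟨_, rfl⟩, v - ((∑ x, v x) / Fintype.card Ω) • (fun _ => 1), ?_,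
        add_sub_cancel _ _⟩
      show ∑ x, _ = (0 : ℂ)
      simp only [Pi.sub_apply, Pi.smul_apply, smul_eq_mul, mul_one, Finset.sum_sub_distrib,
        Finset.sum_const, Finset.card_univ, nsmul_eq_mul]
      rw [mul_div_cancel₀ _ hn, sub_self]
  have hchar : pi G Ω = C.toRepresentation.character + S.toRepresentation.character := by
    rw [← character_permRep, ← Representation.char_iso (prodEquivOfCompl hC), character_prod]
  have hC1 : C.toRepresentation.character = fun _ => 1 := by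
    have h1 : ∀ g : G, C.toRepresentation g = 1 := fun g => LinearMap.ext fun v => Subtype.ext (by
      obtain ⟨c, hc⟩ := Submodule.mem_span_singleton.1 v.2
      funext x
      show (v : Ω → ℂ) (g⁻¹ • x) = (v : Ω → ℂ) x
      rw [← hc]; simp)
    funext g
    show LinearMap.trace ℂ _ (C.toRepresentation g) = 1
    rw [h1, LinearMap.trace_one, show finrank ℂ C.toSubmodule = 1 from
      finrank_span_singleton (fun h => one_ne_zero (congrFun h (Classical.arbitrary Ω))), Nat.cast_one]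
  let W' : Subrepresentation S.toRepresentation :=
    { toSubmodule := W.toSubmodule.comap S.toSubmodule.subtype
      apply_mem_toSubmodule := fun g v hv => W.apply_mem_toSubmodule g hv }
  have hfin : finrank ℂ W'.toSubmodule = finrank ℂ W.toSubmodule :=
    (Submodule.comapSubtypeEquivOfLe hW).finrank_eq
  obtain ⟨φ, ψ, hφ, hψ, hS, hφ1⟩ := exists_sub_character S.toRepresentation W'
  rw [← hfin]
  have hcon : ∀ χ ∈ irrFinset G, ∃ k : ℕ, Cfsg.classInner φ χ * χ 1 = ((f * k : ℕ) : ℂ) := by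
    intro χ hχ
    have hχ' := mem_irrFinset.1 hχ
    obtain ⟨a, ha⟩ := IsCharacter.exists_classInner_eq_natCast hφ hχ'
    rcases Nat.eq_zero_or_pos a with rfl | hapos
    · exact ⟨0, by rw [show Cfsg.classInner φ χ = 0 from ha.trans Nat.cast_zero, zero_mul]; simp⟩
    obtain ⟨b, hb⟩ := IsCharacter.exists_classInner_eq_natCast hψ hχ'
    have hpi : Cfsg.classInner (pi G Ω) χ = Cfsg.classInner (fun _ => 1) χ + ((a + b : ℕ) : ℂ) := by
      rw [hchar, hC1, hS, classInner_add_left, classInner_add_left, ha, hb, Nat.cast_add]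
    have hne : χ ≠ fun _ => 1 := by
      intro e
      rw [e, classInner_pi_one_transitive, classInner_one_one] at hpi
      have h0 : ((a + b : ℕ) : ℂ) = 0 := by linear_combination hpi.symm
      rw [Nat.cast_eq_zero] at h0
      omega
    rw [IsIrrCharacter.classInner_of_ne isIrrCharacter_one hχ' (Ne.symm hne), zero_add] at hpi
    obtain ⟨k, hk⟩ := hf χ hχ' hne (by rw [hpi]; exact_mod_cast (by omega : a + b ≠ 0))
    exact ⟨a * k, by rw [ha, hk]; push_cast; ring⟩
  choose! k hk using hcon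
  refine ⟨∑ χ ∈ irrFinset G, k χ, ?_⟩
  have h1 := congrFun (eq_sum_irr (IsCharacter.isClassFunction hφ)) 1
  simp only [Finset.sum_apply, Pi.smul_apply, smul_eq_mul] at h1
  rw [hφ1, Finset.sum_congr rfl hk, ← Nat.cast_sum, Nat.cast_inj,
    ← Finset.mul_sum] at h1
  exact h1

/-- The common divisor of the degrees divides every non-trivial subdegree. -/
theorem dvd_subdegree (f : ℕ)
    (hf : ∀ χ : G → ℂ, Cfsg.IsIrrCharacter G χ → χ ≠ (fun _ => 1) →
      Cfsg.classInner (pi G Ω) χ ≠ 0 → ∃ m : ℕ, χ 1 = (f : ℂ) * m)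
    (a b : Ω) (hab : b ≠ a) : f ∣ Nat.card (orbit (stabilizer G a) b) := by
  classical
  haveI : Nonempty Ω := ⟨a⟩
  let k := Nat.card (orbit (stabilizer G a) b)
  let T := orbOp G a b
  let R : Ω → Ω → Prop := fun x y => ∃ g : G, g • a = x ∧ g • b = y
  have hk : ∀ x, (Finset.univ.filter fun y => R x y).card = k := by
    intro x
    obtain ⟨g, rfl⟩ := exists_smul_eq G a x
    have he : (Finset.univ.filter fun y => R (g • a) y) =
        (orbit (stabilizer G a) b).toFinset.image (g • ·) := by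
      ext y
      simp only [R, Finset.mem_filter, Finset.mem_univ, true_and, Finset.mem_image, Set.mem_toFinset]
      constructor
      · rintro ⟨h, h1, h2⟩
        exact ⟨g⁻¹ • y, ⟨⟨g⁻¹ * h, by rw [mem_stabilizer_iff, mul_smul, h1, inv_smul_smul]⟩,
          show (g⁻¹ * h) • b = _ by rw [mul_smul, h2]⟩, smul_inv_smul g y⟩
      · rintro ⟨z, ⟨h, rfl⟩, rfl⟩
        exact ⟨g * (h : G), by rw [mul_smul, mem_stabilizer_iff.1 h.2], mul_smul _ _ _⟩
    rw [he, Finset.card_image_of_injective _ (MulAction.injective g), Set.toFinset_card]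
    exact Nat.card_eq_fintype_card.symm
  let M : Matrix Ω Ω ℤ := Matrix.of fun x y => if R x y then 1 else 0
  have hTM : LinearMap.toMatrix' T = M.map (Int.castRingHom ℂ) := by
    ext x y
    rw [LinearMap.toMatrix'_apply, orbOp_apply_single]
    simp only [Matrix.map_apply, M, R, Matrix.of_apply]
    split_ifs <;> simp
  have htr : (LinearMap.toMatrix' T).trace = 0 := by
    refine Finset.sum_eq_zero fun x _ => ?_
    rw [Matrix.diag_apply, hTM, Matrix.map_apply]
    simp only [M, R, Matrix.of_apply]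
    rw [if_neg, map_zero]
    rintro ⟨g, h1, h2⟩
    exact hab (smul_left_cancel g (h2.trans h1.symm))
  rw [Matrix.trace_eq_sum_roots_charpoly] at htr
  have hint : ∀ μ ∈ (LinearMap.toMatrix' T).charpoly.roots, IsIntegral ℤ μ := by
    intro μ hμ
    rw [hTM, Matrix.charpoly_map] at hμ
    have h0 : (M.charpoly.map (Int.castRingHom ℂ)) ≠ 0 := (M.charpoly_monic.map _).ne_zero
    rw [Polynomial.mem_roots h0, Polynomial.IsRoot, Polynomial.eval_map] at hμ
    exact ⟨M.charpoly, M.charpoly_monic, by rwa [algebraMap_int_eq]⟩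
  have hch : (LinearMap.toMatrix' T).charpoly = T.charpoly := by
    rw [← LinearMap.toMatrix_eq_toMatrix', LinearMap.charpoly_toMatrix]
  -- roots other than `k` have multiplicity divisible by `f`
  have hmult : ∀ μ : ℂ, μ ≠ k → f ∣ (LinearMap.toMatrix' T).charpoly.roots.count μ := by
    intro μ hμ
    rw [Polynomial.count_roots, hch, ← LinearMap.finrank_maxGenEigenspace_eq]
    let W : Subrepresentation (Cfsg.permRep ℂ G Ω) :=
      { toSubmodule := Module.End.maxGenEigenspace T μ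
        apply_mem_toSubmodule := fun g v hv =>
          Module.End.mapsTo_maxGenEigenspace_of_comm
            (LinearMap.ext fun w => ((mem_invariants_iff _).1 (orbOp_mem a b) g w) :
              T * Cfsg.permRep ℂ G Ω g = Cfsg.permRep ℂ G Ω g * T) μ hv }
    refine dvd_finrank f hf W fun v hv => ?_
    obtain ⟨j, hj⟩ := (Module.End.mem_maxGenEigenspace T μ v).1 hv
    let sum' : (Ω → ℂ) →ₗ[ℂ] ℂ := ∑ x, LinearMap.proj x
    have hsum : ∀ w, sum' w = ∑ x, w x := fun w => by simp [sum']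
    have hcol : ∀ y, ((Finset.univ.filter fun x => R x y).card : ℂ) = (k : ℂ) := by
      have hconst : ∀ y y', (Finset.univ.filter fun x => R x y).card ≤
          (Finset.univ.filter fun x => R x y').card := by
        intro y y'
        obtain ⟨g, rfl⟩ := exists_smul_eq G y y'
        refine Finset.card_le_card_of_injOn (g • ·) (fun x hx => ?_) (MulAction.injective g).injOn
        simp only [Finset.mem_coe, Finset.mem_filter, Finset.mem_univ, true_and] at hx ⊢
        obtain ⟨h, h1, h2⟩ := hx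
        exact ⟨g * h, by rw [mul_smul, h1], by rw [mul_smul, h2]⟩
      intro y
      have h1 : ∑ y', (Finset.univ.filter fun x => R x y').card = Fintype.card Ω * k := by
        rw [Finset.sum_congr rfl (fun y' _ => Finset.card_filter (fun x => R x y') Finset.univ),
          Finset.sum_comm,
          Finset.sum_congr rfl (fun x _ => (Finset.card_filter (fun y => R x y) Finset.univ).symm.trans (hk x)),
          Finset.sum_const, Finset.card_univ, smul_eq_mul]
      rw [Finset.sum_congr rfl (fun y' _ => le_antisymm (hconst y' y) (hconst y y')),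
        Finset.sum_const, Finset.card_univ, smul_eq_mul] at h1
      rw [Nat.eq_of_mul_eq_mul_left Fintype.card_pos h1]
    have hT : ∀ w, sum' (T w) = (k : ℂ) * sum' w := by
      intro w
      rw [hsum, hsum, Finset.mul_sum]
      simp only [T, orbOp_apply, Finset.sum_filter]
      rw [Finset.sum_comm]
      refine Finset.sum_congr rfl fun y _ => ?_
      rw [← hcol y, ← Finset.sum_boole, Finset.sum_mul]
      exact Finset.sum_congr rfl fun x _ => by simp only [R]; split_ifs <;> simp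
    have hpow : ∀ i, sum' (((T - μ • 1) ^ i) v) = ((k : ℂ) - μ) ^ i * sum' v := by
      intro i
      induction i with
      | zero => simp
      | succ i ih =>
        rw [pow_succ', Module.End.mul_apply, LinearMap.sub_apply, LinearMap.smul_apply,
          Module.End.one_apply, map_sub, hT, map_smul, ih, smul_eq_mul, pow_succ]
        ring
    have := hpow j
    rw [hj, map_zero, eq_comm, mul_eq_zero] at this
    show ∑ x, v x = 0
    rw [← hsum]
    exact this.resolve_left (pow_ne_zero _ (sub_ne_zero.2 (Ne.symm hμ)))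
  let s := (LinearMap.toMatrix' T).charpoly.roots
  have hcard : Multiset.card s = Fintype.card Ω := by
    rw [IsAlgClosed.card_roots_eq_natDegree, Matrix.charpoly_natDegree_eq_dim]
  -- `Fintype.card Ω` is `1` modulo `f`
  obtain ⟨N, hN⟩ : ∃ N : ℕ, Fintype.card Ω = 1 + f * N := by
    have hS : f ∣ finrank ℂ (Cfsg.permSumZero ℂ G Ω).toSubmodule := dvd_finrank f hf _ le_rfl
    obtain ⟨N, hN⟩ := hS
    refine ⟨N, ?_⟩
    let sum' : (Ω → ℂ) →ₗ[ℂ] ℂ := ∑ x, LinearMap.proj x
    have hker : LinearMap.ker sum' = (Cfsg.permSumZero ℂ G Ω).toSubmodule := by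
      ext w
      rw [LinearMap.mem_ker]
      simp only [sum', LinearMap.sum_apply, LinearMap.proj_apply]
      rfl
    have hsurj : LinearMap.range sum' = ⊤ := LinearMap.range_eq_top.2 fun c =>
      ⟨Pi.single a c, by simp [sum']⟩
    have := LinearMap.finrank_range_add_finrank_ker sum'
    rw [hker, hN, hsurj, finrank_top, finrank_self, Module.finrank_pi] at this
    omega
  choose! q hq using hmult
  have hdiv : ∃ z : ℂ, IsIntegral ℤ z ∧ (k : ℂ) = (f : ℂ) * z := by
    by_cases hkmem : (k : ℂ) ∈ s.toFinset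
    swap
    · -- every multiplicity is divisible by `f`
      have : f ∣ Fintype.card Ω := by
        rw [← hcard, ← Multiset.toFinset_sum_count_eq]
        exact Finset.dvd_sum fun μ hμ => ⟨q μ, hq μ (fun e => hkmem (e ▸ hμ))⟩
      rw [hN] at this
      have hf1 : f ∣ 1 := (Nat.dvd_add_left (dvd_mul_right f N)).1 this
      rw [Nat.dvd_one] at hf1
      exact ⟨(k : ℂ), by exact_mod_cast (isIntegral_algebraMap (R := ℤ) (A := ℂ) (x := (k : ℤ))),
        by rw [hf1, Nat.cast_one, one_mul]⟩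
    let Q := ∑ μ ∈ s.toFinset.erase (k : ℂ), q μ
    have h1 : s.count (k : ℂ) + f * Q = 1 + f * N := by
      rw [← hN, ← hcard, ← Multiset.toFinset_sum_count_eq, ← Finset.add_sum_erase _ _ hkmem,
        Finset.mul_sum]
      exact congrArg _ (Finset.sum_congr rfl fun μ hμ => (hq μ (Finset.ne_of_mem_erase hμ)).symm)
    have h2 : (0 : ℂ) = (s.count (k : ℂ) : ℂ) * k +
        (f : ℂ) * ∑ μ ∈ s.toFinset.erase (k : ℂ), (q μ : ℂ) * μ := by
      rw [← htr, Finset.sum_multiset_count, ← Finset.add_sum_erase _ _ hkmem, Finset.mul_sum,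
        nsmul_eq_mul]
      refine congrArg _ (Finset.sum_congr rfl fun μ hμ => ?_)
      rw [nsmul_eq_mul, hq μ (Finset.ne_of_mem_erase hμ), Nat.cast_mul, mul_assoc]
    have h1' : (s.count (k : ℂ) : ℂ) + (f : ℂ) * (Q : ℂ) = 1 + (f : ℂ) * (N : ℂ) := by
      exact_mod_cast h1
    refine ⟨((Q : ℂ) - N) * k - ∑ μ ∈ s.toFinset.erase (k : ℂ), (q μ : ℂ) * μ, ?_, ?_⟩
    · have hnat : ∀ i : ℕ, IsIntegral ℤ (i : ℂ) := fun i => by
        exact_mod_cast (isIntegral_algebraMap (R := ℤ) (A := ℂ) (x := (i : ℤ)))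
      exact (((hnat Q).sub (hnat N)).mul (hnat k)).sub (IsIntegral.sum _ fun μ hμ =>
        (hnat _).mul (hint μ (Multiset.mem_toFinset.1 (Finset.mem_of_mem_erase hμ))))
    · linear_combination -h2 - (k : ℂ) * h1'
  obtain ⟨z, hz, hkz⟩ := hdiv
  rcases Nat.eq_zero_or_pos f with rfl | hfpos
  · simp only [Nat.cast_zero, zero_mul, Nat.cast_eq_zero] at hkz
    exact (zero_dvd_iff).2 hkz
  have hzq : z = algebraMap ℚ ℂ ((k : ℚ) / f) := by
    rw [map_div₀, map_natCast, map_natCast, eq_div_iff (by simp [hfpos.ne']), hkz, mul_comm]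
  rw [hzq, isIntegral_algebraMap_iff (algebraMap ℚ ℂ).injective,
    IsIntegrallyClosed.isIntegral_iff] at hz
  obtain ⟨w, hw⟩ := hz
  have : (k : ℤ) = f * w := by
    have hw' : ((k : ℚ)) = f * (w : ℚ) := by
      rw [show ((w : ℚ)) = (k : ℚ) / f from hw, mul_div_cancel₀ _ (by simp [hfpos.ne'])]
    exact_mod_cast hw'
  exact Int.natCast_dvd_natCast.1 ⟨w, this⟩

end Orbital

end CfsgLib.CentralizerRing
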