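/-
Primitive groups of Wielandt type.
-/
import Cfsg.Agent.Perm.CentralizerRing
import Cfsg.Agent.S0717
import Mathlib.GroupTheory.GroupAction.Primitive
import Mathlib.Tactic.LinearCombination
import Mathlib.Tactic.Module

set_option autoImplicit false
set_option linter.style.haveILetI false

namespace CfsgLib.WielandtRankThree

open MulAction Module CfsgLib.Char CfsgLib.CentralizerRing
open scoped ComplexConjugate

universe u v

variable {G : Type u} [Group G] [Fintype G] {Ω : Type v} [MulAction G Ω] [Fintype Ω]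

/-- The normalised central operator. -/
noncomputable def proj (χ : G → ℂ) : Module.End ℂ (Ω → ℂ) :=
  (χ 1 / (Nat.card G : ℂ)) • op χ

theorem op_mul (c d : G → ℂ) :
    (op c * op d : Module.End ℂ (Ω → ℂ)) = op (fun x => ∑ g, c g * d (g⁻¹ * x)) := by
  simp only [op, Finset.sum_smul]
  rw [Finset.sum_mul_sum]
  conv_rhs => rw [Finset.sum_comm]
  refine Finset.sum_congr rfl fun g _ => ?_
  refine Fintype.sum_equiv (Equiv.mulLeft g) _ _ fun h => ?_
  rw [Equiv.coe_mulLeft, inv_mul_cancel_left, smul_mul_assoc, mul_smul_comm, smul_smul, map_mul]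

theorem proj_mul {χ ψ : G → ℂ} (hχ : Cfsg.IsIrrCharacter G χ) (hψ : Cfsg.IsIrrCharacter G ψ)
    (hr : ∀ g, conj (χ g) = χ g) :
    (proj χ * proj ψ : Module.End ℂ (Ω → ℂ)) = Cfsg.classInner ψ χ • proj ψ := by
  have hχ1 := IsIrrCharacter.apply_one_ne_zero hχ
  have hψ1 := IsIrrCharacter.apply_one_ne_zero hψ
  have hconv : (fun x => ∑ g, χ g * ψ (g⁻¹ * x)) =
      fun x => (Nat.card G : ℂ) * Cfsg.classInner ψ χ / ψ 1 * ψ x := by
    funext x
    rw [← sum_conj_mul_char hχ hψ x]
    refine Fintype.sum_equiv (Equiv.inv G) _ _ fun g => ?_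
    rw [Equiv.inv_apply, IsCharacter.apply_inv (IsIrrCharacter.isCharacter hχ) g, hr, hr]
  have hop : op (Ω := Ω) (fun x => (Nat.card G : ℂ) * Cfsg.classInner ψ χ / ψ 1 * ψ x) =
      ((Nat.card G : ℂ) * Cfsg.classInner ψ χ / ψ 1) • op (Ω := Ω) ψ := by
    simp only [op, Finset.smul_sum, smul_smul]
  simp only [proj, smul_mul_assoc, mul_smul_comm, op_mul, hconv, hop, smul_smul]
  by_cases he : ψ = χ
  · subst he
    congr 1
    rw [IsIrrCharacter.classInner_self hψ]
    field_simp
  · rw [IsIrrCharacter.classInner_of_ne hψ hχ he]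
    simp

theorem trace_proj {χ : G → ℂ} (hχ : Cfsg.IsIrrCharacter G χ) (hr : ∀ g, conj (χ g) = χ g)
    (hm : Cfsg.classInner (pi G Ω) χ = 1) :
    LinearMap.trace ℂ (Ω → ℂ) (proj χ) = χ 1 := by
  have h := trace_op_mul (Ω := Ω) hχ 1
  rw [map_one, mul_one, show (fun g => conj (χ g)) = χ from funext hr, hm] at h
  rw [proj, map_smul, h, smul_eq_mul]
  have hχ1 := IsIrrCharacter.apply_one_ne_zero hχ
  have hG : (Nat.card G : ℂ) ≠ 0 := by exact_mod_cast Nat.card_pos.ne'
  field_simp

theorem proj_const {χ : G → ℂ} (hχ : Cfsg.IsIrrCharacter G χ) :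
    proj χ (fun _ : Ω => (1 : ℂ)) =
      (χ 1 * Cfsg.classInner χ (fun _ => 1)) • fun _ : Ω => (1 : ℂ) := by
  funext x
  have hG : (Nat.card G : ℂ) ≠ 0 := by exact_mod_cast Nat.card_pos.ne'
  simp only [proj, op, LinearMap.smul_apply, LinearMap.sum_apply, Finset.sum_apply, Pi.smul_apply,
    permRep_apply, smul_eq_mul, mul_one]
  rw [classInner_def]
  simp only [map_one, mul_one]
  field_simp

/-- The all-one operator. -/
noncomputable def allOne : Module.End ℂ (Ω → ℂ) :=
  LinearMap.pi fun _ => ∑ y, LinearMap.proj y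

omit [Fintype G] in
theorem allOne_apply (v : Ω → ℂ) (x : Ω) : allOne v x = ∑ y, v y := by
  simp [allOne]

theorem parameters_unique {a b : ℕ} (h : 2 * a ^ 2 + 2 * a + 1 = 2 * b ^ 2 + 2 * b + 1) : a = b := by
  rcases lt_trichotomy a b with hlt | he | hgt
  · exfalso; nlinarith
  · exact he
  · exfalso; nlinarith

/-- The arithmetic of the parameters. -/
theorem parameters (k m : ℕ) (R t : ℤ) (hk2 : 2 ≤ k) (hkm : k + 3 ≤ 2 * m)
    (hk : (k : ℤ) = R + m * t)
    (hZ : (k : ℤ) * k + R * R * ((m : ℤ) - 1) + (-t - R) * (-t - R) * m = 2 * m * k) :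
    ∃ a : ℕ, 0 < a ∧ m = 2 * a ^ 2 + 2 * a + 1 ∧
      (k = a * (2 * a + 1) ∨ k = (a + 1) * (2 * a + 1)) := by
  have hmZ : (2 : ℤ) ≤ m := by omega
  have hE : 2 * R * R + R * (4 * t - 2) + t * t * (m + 1) - 2 * m * t = 0 := by
    have h0 : (m : ℤ) * (2 * R * R + R * (4 * t - 2) + t * t * (m + 1) - 2 * m * t) = 0 := by
      rw [hk] at hZ
      linear_combination hZ
    exact (mul_eq_zero.1 h0).resolve_left (by omega)
  have htt : t = 1 := by
    have hb' : t * (t - 2) ≤ 0 := by
      by_contra hcon'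
      push Not at hcon'
      nlinarith [sq_nonneg (2 * R + 2 * t - 1), hE,
        mul_le_mul_of_nonneg_right (show (1 : ℤ) ≤ (m : ℤ) - 1 by omega) hcon'.le]
    have : 0 ≤ t ∧ t ≤ 2 := by constructor <;> nlinarith
    rcases (show t = 0 ∨ t = 1 ∨ t = 2 by omega) with h | h | h
    · exfalso
      rw [h] at hE hk
      have : R * (R - 1) = 0 := by linarith
      rcases mul_eq_zero.1 this with h' | h' <;> omega
    · exact h
    · exfalso
      rw [h] at hE hk
      have : (R + 1) * (R + 2) = 0 := by linarith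
      rcases mul_eq_zero.1 this with h' | h' <;> omega
  rw [htt] at hE hk
  have hmR : (m : ℤ) = 2 * R * R + 2 * R + 1 := by linarith
  have hkR : (k : ℤ) = (R + 1) * (2 * R + 1) := by rw [hk, hmR]; ring
  rcases le_or_gt 0 R with hR | hR
  · obtain ⟨a, ha⟩ := Int.eq_ofNat_of_zero_le hR
    rw [ha] at hmR hkR
    refine ⟨a, ?_, ?_, Or.inr ?_⟩
    · refine Nat.pos_of_ne_zero fun e => ?_
      rw [e] at hmR; omega
    · have : (m : ℤ) = ((2 * a ^ 2 + 2 * a + 1 : ℕ) : ℤ) := by push_cast; linear_combination hmR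
      exact_mod_cast this
    · have : (k : ℤ) = (((a + 1) * (2 * a + 1) : ℕ) : ℤ) := by push_cast; linear_combination hkR
      exact_mod_cast this
  · obtain ⟨a, ha⟩ := Int.eq_ofNat_of_zero_le (show (0 : ℤ) ≤ -R - 1 by omega)
    have hRa : R = -(a : ℤ) - 1 := by omega
    rw [hRa] at hmR hkR
    refine ⟨a, ?_, ?_, Or.inl ?_⟩
    · refine Nat.pos_of_ne_zero fun e => ?_
      rw [e] at hmR; simp at hmR; omega
    · have : (m : ℤ) = ((2 * a ^ 2 + 2 * a + 1 : ℕ) : ℤ) := by push_cast; linear_combination hmR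
      exact_mod_cast this
    · have : (k : ℤ) = ((a * (2 * a + 1) : ℕ) : ℤ) := by push_cast; linear_combination hkR
      exact_mod_cast this

set_option maxHeartbeats 1000000 in
theorem main (hprim : IsPreprimitive G Ω) {m : ℕ} (hm : Fintype.card Ω = 2 * m) (a₀ : Ω)
    (hrank : Nat.card (orbitRel.Quotient (stabilizer G a₀) Ω) = 3) (χ₁ χ₂ : G → ℂ)
    (h₁ : Cfsg.IsIrrCharacter G χ₁) (h₂ : Cfsg.IsIrrCharacter G χ₂)
    (hπ : pi G Ω = fun g => 1 + χ₁ g + χ₂ g) (hd₁ : χ₁ 1 = (m : ℂ) - 1) (hd₂ : χ₂ 1 = m) :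
    ∃ a : ℕ, 0 < a ∧ m = 2 * a ^ 2 + 2 * a + 1 ∧ ∀ b : Ω, b ≠ a₀ →
      Nat.card (orbit (stabilizer G a₀) b) = a * (2 * a + 1) ∨
      Nat.card (orbit (stabilizer G a₀) b) = (a + 1) * (2 * a + 1) := by
  classical
  haveI := hprim
  haveI : Nonempty Ω := ⟨a₀⟩
  obtain ⟨d₁, hd₁0, hd₁'⟩ := IsIrrCharacter.exists_degree h₁
  have hm2 : 2 ≤ m := by
    rw [hd₁] at hd₁'
    have : ((d₁ + 1 : ℕ) : ℂ) = (m : ℂ) := by push_cast; linear_combination -hd₁'
    rw [Nat.cast_inj] at this
    omega
  let one : G → ℂ := fun _ => 1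
  have h0 : Cfsg.IsIrrCharacter G one := isIrrCharacter_one
  have h12 : χ₁ ≠ χ₂ := fun e => by
    rw [e, hd₂] at hd₁
    exact one_ne_zero (show (1 : ℂ) = 0 by linear_combination hd₁)
  have hsum : pi G Ω = one + χ₁ + χ₂ := hπ
  have hint : ∀ χ : G → ℂ, Cfsg.classInner (pi G Ω) χ = Cfsg.classInner one χ +
      Cfsg.classInner χ₁ χ + Cfsg.classInner χ₂ χ := fun χ => by
    rw [hsum, classInner_add_left, classInner_add_left]
  have h10 : χ₁ ≠ one ∧ χ₂ ≠ one := by
    have h := hint one
    rw [classInner_pi_one_transitive, IsIrrCharacter.classInner_self h0,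
      IsIrrCharacter.classInner_eq h₁ h0, IsIrrCharacter.classInner_eq h₂ h0] at h
    refine ⟨fun e => ?_, fun e => ?_⟩
    · rw [if_pos e, if_neg (fun e' => h12 (e.trans e'.symm))] at h; norm_num at h
    · rw [if_pos e, if_neg (fun e' => h12 (e'.trans e.symm))] at h; norm_num at h
  have hcon : ∀ χ : G → ℂ, Cfsg.IsIrrCharacter G χ →
      Cfsg.classInner (pi G Ω) χ = if χ = one ∨ χ = χ₁ ∨ χ = χ₂ then 1 else 0 := by
    intro χ hχ
    rw [hint, IsIrrCharacter.classInner_eq h0 hχ, IsIrrCharacter.classInner_eq h₁ hχ,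
      IsIrrCharacter.classInner_eq h₂ hχ]
    by_cases e0 : χ = one
    · subst e0; simp [h10.1, h10.2]
    by_cases e1 : χ = χ₁
    · subst e1; simp [Ne.symm h10.1, h12.symm]
    by_cases e2 : χ = χ₂
    · subst e2; simp [Ne.symm h10.2, h12]
    simp [Ne.symm e0, Ne.symm e1, Ne.symm e2, e0, e1, e2]
  have hmf : ∀ χ : G → ℂ, Cfsg.IsIrrCharacter G χ →
      Cfsg.classInner (pi G Ω) χ = 0 ∨ Cfsg.classInner (pi G Ω) χ = 1 := fun χ hχ => by
    rw [hcon χ hχ]; split_ifs <;> simp
  -- the constituents are real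
  have hreal : ∀ χ : G → ℂ, χ = one ∨ χ = χ₁ ∨ χ = χ₂ → ∀ g, conj (χ g) = χ g := by
    have key : ∀ χ : G → ℂ, Cfsg.IsIrrCharacter G χ → Cfsg.classInner (pi G Ω) χ = 1 →
        (fun g => conj (χ g)) = one ∨ (fun g => conj (χ g)) = χ₁ ∨ (fun g => conj (χ g)) = χ₂ := by
      intro χ hχ h
      have h' : Cfsg.classInner (pi G Ω) (fun g => conj (χ g)) = 1 := by
        rw [show pi G Ω = fun g => conj (pi G Ω g) from funext fun g => (conj_pi g).symm,
          classInner_conj_conj, ← classInner_conj, h, map_one]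
      by_contra hno
      rw [hcon _ (IsIrrCharacter.conj hχ), if_neg hno] at h'
      exact zero_ne_one h'
    have hm1 : ((m : ℂ) - 1) ≠ m := fun e => one_ne_zero (show (1 : ℂ) = 0 by linear_combination -e)
    rintro χ (rfl | rfl | rfl) g
    · exact map_one _
    · rcases key χ h₁ (by rw [hcon χ h₁, if_pos (Or.inr (Or.inl rfl))]) with h | h | h
      · exact absurd (funext fun x => by
          have := congrArg conj (congrFun h x); simpa [one] using this) h10.1
      · exact congrFun h g
      · have := congrFun h 1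
        rw [hd₂, hd₁, map_sub, map_one, Complex.conj_natCast] at this
        exact absurd this hm1
    · rcases key χ h₂ (by rw [hcon χ h₂, if_pos (Or.inr (Or.inr rfl))]) with h | h | h
      · exact absurd (funext fun x => by
          have := congrArg conj (congrFun h x); simpa [one] using this) h10.2
      · have := congrFun h 1
        rw [hd₂, hd₁, Complex.conj_natCast] at this
        exact absurd this.symm hm1
      · exact congrFun h g
  have hpair : ∀ x y : Ω, ∃ g : G, g • x = y ∧ g • y = x := by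
    refine (Cfsg.Agent.S0717.result (G := G) (Ω := Ω)).2 fun χ hχ hne => ?_
    have hne' : Cfsg.classInner (pi G Ω) χ ≠ 0 := hne
    have h : χ = one ∨ χ = χ₁ ∨ χ = χ₂ := by
      by_contra hno
      exact hne' (by rw [hcon χ hχ, if_neg hno])
    exact ⟨show Cfsg.classInner (pi G Ω) χ = 1 by rw [hcon χ hχ, if_pos h], hreal χ h⟩
  -- projections
  let P₀ : Module.End ℂ (Ω → ℂ) := proj one
  let P₁ : Module.End ℂ (Ω → ℂ) := proj χ₁
  let P₂ : Module.End ℂ (Ω → ℂ) := proj χ₂
  have hG : (Nat.card G : ℂ) ≠ 0 := by exact_mod_cast Nat.card_pos.ne'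
  have hmul : ∀ χ ψ : G → ℂ, (χ = one ∨ χ = χ₁ ∨ χ = χ₂) → (ψ = one ∨ ψ = χ₁ ∨ ψ = χ₂) →
      (proj χ * proj ψ : Module.End ℂ (Ω → ℂ)) = if ψ = χ then proj ψ else 0 := by
    intro χ ψ hχ hψ
    have irr : ∀ φ : G → ℂ, (φ = one ∨ φ = χ₁ ∨ φ = χ₂) → Cfsg.IsIrrCharacter G φ := by
      rintro φ (rfl | rfl | rfl) <;> assumption
    rw [proj_mul (irr χ hχ) (irr ψ hψ) (hreal χ hχ), IsIrrCharacter.classInner_eq (irr ψ hψ) (irr χ hχ)]
    split_ifs <;> simp
  have m00 : P₀ * P₀ = P₀ := (hmul one one (by simp) (by simp)).trans (if_pos rfl)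
  have m11 : P₁ * P₁ = P₁ := (hmul χ₁ χ₁ (by simp) (by simp)).trans (if_pos rfl)
  have m22 : P₂ * P₂ = P₂ := (hmul χ₂ χ₂ (by simp) (by simp)).trans (if_pos rfl)
  have m01 : P₀ * P₁ = 0 := (hmul one χ₁ (by simp) (by simp)).trans (if_neg h10.1)
  have m10 : P₁ * P₀ = 0 := (hmul χ₁ one (by simp) (by simp)).trans (if_neg (Ne.symm h10.1))
  have m02 : P₀ * P₂ = 0 := (hmul one χ₂ (by simp) (by simp)).trans (if_neg h10.2)
  have m20 : P₂ * P₀ = 0 := (hmul χ₂ one (by simp) (by simp)).trans (if_neg (Ne.symm h10.2))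
  have m12 : P₁ * P₂ = 0 := (hmul χ₁ χ₂ (by simp) (by simp)).trans (if_neg h12.symm)
  have m21 : P₂ * P₁ = 0 := (hmul χ₂ χ₁ (by simp) (by simp)).trans (if_neg h12)
  have t₀ : LinearMap.trace ℂ _ P₀ = 1 :=
    trace_proj h0 (hreal one (by simp)) classInner_pi_one_transitive
  have t₁ : LinearMap.trace ℂ _ P₁ = (m : ℂ) - 1 :=
    (trace_proj h₁ (hreal χ₁ (by simp)) (by rw [hcon χ₁ h₁, if_pos (by simp)])).trans hd₁
  have t₂ : LinearMap.trace ℂ _ P₂ = (m : ℂ) :=
    (trace_proj h₂ (hreal χ₂ (by simp)) (by rw [hcon χ₂ h₂, if_pos (by simp)])).trans hd₂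
  have c₀ : P₀ (fun _ => 1) = fun _ => 1 := by
    show proj one _ = _
    rw [proj_const h0, IsIrrCharacter.classInner_self h0]
    simp [one]
  have c₁ : P₁ (fun _ => 1) = 0 := by
    show proj χ₁ _ = _
    rw [proj_const h₁, IsIrrCharacter.classInner_of_ne h₁ h0 h10.1, mul_zero, zero_smul]
  have c₂ : P₂ (fun _ => 1) = 0 := by
    show proj χ₂ _ = _
    rw [proj_const h₂, IsIrrCharacter.classInner_of_ne h₂ h0 h10.2, mul_zero, zero_smul]
  have hspan : ∀ S : Module.End ℂ (Ω → ℂ),
      S ∈ ((Cfsg.permRep ℂ G Ω).linHom (Cfsg.permRep ℂ G Ω)).invariants →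
      ∃ u v w : ℂ, S = u • P₀ + v • P₁ + w • P₂ := by
    intro S hS
    have h := mem_span_op hmf hS
    induction h using Submodule.span_induction with
    | mem U hU =>
      obtain ⟨χ, hχ, hne, rfl⟩ := hU
      have h : χ = one ∨ χ = χ₁ ∨ χ = χ₂ := by
        by_contra hno
        exact hne (by rw [hcon χ hχ, if_neg hno])
      rw [show (fun g => conj (χ g)) = χ from funext (hreal χ h)]
      have hop : op (Ω := Ω) χ = ((Nat.card G : ℂ) / χ 1) • proj χ := by
        rw [proj, smul_smul, div_mul_div_cancel₀ (IsIrrCharacter.apply_one_ne_zero hχ), div_self hG,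
          one_smul]
      rw [hop]
      rcases h with h | h | h
      · exact ⟨(Nat.card G : ℂ) / χ 1, 0, 0, by simp [P₀, h]⟩
      · exact ⟨0, (Nat.card G : ℂ) / χ 1, 0, by simp [P₁, h]⟩
      · exact ⟨0, 0, (Nat.card G : ℂ) / χ 1, by simp [P₂, h]⟩
    | zero => exact ⟨0, 0, 0, by simp⟩
    | add U V hU' hV' hU hV =>
      have hU'' : U ∈ ((Cfsg.permRep ℂ G Ω).linHom (Cfsg.permRep ℂ G Ω)).invariants :=
        (Submodule.span_le.2 (by
          rintro _ ⟨χ, hχ, -, rfl⟩
          exact op_mem fun g x => by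
            show conj (χ _) = conj (χ g)
            rw [IsIrrCharacter.isClassFunction hχ g x])) hU'
      have hV'' : V ∈ ((Cfsg.permRep ℂ G Ω).linHom (Cfsg.permRep ℂ G Ω)).invariants :=
        (Submodule.span_le.2 (by
          rintro _ ⟨χ, hχ, -, rfl⟩
          exact op_mem fun g x => by
            show conj (χ _) = conj (χ g)
            rw [IsIrrCharacter.isClassFunction hχ g x])) hV'
      obtain ⟨u, v, w, rfl⟩ := hU hU''
      obtain ⟨u', v', w', rfl⟩ := hV hV''
      exact ⟨u + u', v + v', w + w', by simp only [add_smul]; abel⟩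
    | smul c U hU' hU =>
      have hU'' : U ∈ ((Cfsg.permRep ℂ G Ω).linHom (Cfsg.permRep ℂ G Ω)).invariants :=
        (Submodule.span_le.2 (by
          rintro _ ⟨χ, hχ, -, rfl⟩
          exact op_mem fun g x => by
            show conj (χ _) = conj (χ g)
            rw [IsIrrCharacter.isClassFunction hχ g x])) hU'
      obtain ⟨u, v, w, rfl⟩ := hU hU''
      exact ⟨c * u, c * v, c * w, by simp only [smul_add, smul_smul]⟩
  -- the suborbits
  let K := stabilizer G a₀
  have horbsize : ∀ b : Ω, b ≠ a₀ → Nat.card (orbit K b) ≠ 1 := by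
    intro b hb h1
    haveI : Nontrivial Ω := ⟨⟨b, a₀, hb⟩⟩
    have hfix : ∀ g ∈ K, g • b = b := by
      intro g hg
      haveI := (Nat.card_eq_one_iff_unique.1 h1).1
      exact congrArg Subtype.val (Subsingleton.elim (⟨g • b, ⟨⟨g, hg⟩, rfl⟩⟩ : orbit K b)
        ⟨b, mem_orbit_self b⟩)
    have hco : ∀ x : Ω, IsCoatom (stabilizer G x) := fun x => IsPreprimitive.isCoatom_stabilizer_of_isPreprimitive G x
    have heq : stabilizer G b = K := ((hco a₀).le_iff.1 (fun g hg => hfix g hg)).resolve_left (hco b).1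
    obtain ⟨g, hg⟩ := exists_smul_eq G a₀ b
    have hnorm : g ∈ Subgroup.normalizer (K : Set G) := by
      rw [Subgroup.mem_normalizer_iff]
      intro h
      rw [show g * h * g⁻¹ ∈ K ↔ g * h * g⁻¹ ∈ stabilizer G b by rw [heq]]
      simp only [K, mem_stabilizer_iff, mul_smul, inv_smul_eq_iff.2 hg.symm]
      constructor
      · intro e; rw [e, hg]
      · intro e; exact smul_left_cancel g (e.trans hg.symm)
    have htop : Subgroup.normalizer (K : Set G) = ⊤ := by
      refine ((hco a₀).le_iff.1 Subgroup.le_normalizer).resolve_right fun e => ?_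
      have hgK : g ∈ K := e.le hnorm
      exact hb (hg.symm.trans hgK)
    haveI : K.Normal := Subgroup.normalizer_eq_top_iff.1 htop
    have hall : ∀ (x : Ω) (h : G), h ∈ K → h • x = x := by
      intro x h hh
      obtain ⟨k, rfl⟩ := exists_smul_eq G a₀ x
      have := Subgroup.Normal.conj_mem ‹K.Normal› h hh k⁻¹
      rw [mem_stabilizer_iff, inv_inv, mul_smul, mul_smul, inv_smul_eq_iff] at this
      exact this
    have hinj : Function.Injective (Quotient.mk'' : Ω → orbitRel.Quotient K Ω) := by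
      intro x y e
      obtain ⟨h, rfl⟩ := Quotient.exact' e
      exact hall y h h.2
    have := Nat.card_le_card_of_injective _ hinj
    rw [hrank, Nat.card_eq_fintype_card, hm] at this
    omega
  have main_b : ∀ b : Ω, b ≠ a₀ → ∃ a : ℕ, 0 < a ∧ m = 2 * a ^ 2 + 2 * a + 1 ∧
      (Nat.card (orbit K b) = a * (2 * a + 1) ∨ Nat.card (orbit K b) = (a + 1) * (2 * a + 1)) := by
    intro b hb
    let qa : orbitRel.Quotient K Ω := Quotient.mk'' a₀
    let qb : orbitRel.Quotient K Ω := Quotient.mk'' b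
    have hab : qa ≠ qb := fun e => by
      obtain ⟨g, hg⟩ := Quotient.exact' e.symm
      exact hb (hg.symm.trans g.2)
    rw [Nat.card_eq_fintype_card] at hrank
    obtain ⟨qc, hqc⟩ : ∃ qc : orbitRel.Quotient K Ω, qc ∉ ({qa, qb} : Finset _) := by
      by_contra hall
      push Not at hall
      have := Finset.card_le_card (show (Finset.univ : Finset (orbitRel.Quotient K Ω)) ⊆ {qa, qb}
        from fun x _ => hall x)
      rw [Finset.card_univ, Finset.card_pair hab] at this
      have hK : Fintype.card (orbitRel.Quotient K Ω) =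
          Fintype.card (orbitRel.Quotient (stabilizer G a₀) Ω) := Fintype.card_congr (Equiv.refl _)
      omega
    simp only [Finset.mem_insert, Finset.mem_singleton, not_or] at hqc
    obtain ⟨c, rfl⟩ := Quotient.mk''_surjective qc
    have hcases : ∀ x : Ω, x = a₀ ∨ x ∈ orbit K b ∨ x ∈ orbit K c := by
      intro x
      have huniv : ({qa, qb, Quotient.mk'' c} : Finset (orbitRel.Quotient K Ω)) = Finset.univ := by
        apply Finset.eq_univ_of_card
        rw [hrank, Finset.card_eq_three]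
        exact ⟨qa, qb, _, hab, Ne.symm hqc.1, Ne.symm hqc.2, rfl⟩
      have := huniv.symm ▸ Finset.mem_univ (Quotient.mk'' x : orbitRel.Quotient K Ω)
      simp only [Finset.mem_insert, Finset.mem_singleton, qa, qb] at this
      rcases this with h | h | h
      · obtain ⟨g, hg⟩ := Quotient.exact' h
        exact Or.inl (hg.symm.trans g.2)
      · exact Or.inr (Or.inl (Quotient.exact' h))
      · exact Or.inr (Or.inr (Quotient.exact' h))
    have hca : c ≠ a₀ := fun e => hqc.1 (by rw [e])
    have hcb : c ∉ orbit K b := fun e => hqc.2 (Quotient.sound' e)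
    let k := Nat.card (orbit K b)
    have hk2 : 2 ≤ k ∧ k + 3 ≤ 2 * m := by
      have hb1 : 1 ≤ k := Nat.card_pos_iff.2 ⟨⟨⟨b, mem_orbit_self b⟩⟩, inferInstance⟩
      have hc1 : 1 ≤ Nat.card (orbit K c) :=
        Nat.card_pos_iff.2 ⟨⟨⟨c, mem_orbit_self c⟩⟩, inferInstance⟩
      have hd : Disjoint (orbit K b) (orbit K c) := by
        rw [Set.disjoint_left]
        intro x hxb hxc
        exact hcb (by rw [← orbit_eq_iff.2 hxb, orbit_eq_iff.2 hxc]; exact mem_orbit_self c)
      have ha : a₀ ∉ orbit K b ∪ orbit K c := by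
        rintro (⟨g, hg⟩ | ⟨g, hg⟩)
        · exact hb (smul_left_cancel (g : G) (hg.trans g.2.symm))
        · exact hca (smul_left_cancel (g : G) (hg.trans g.2.symm))
      have hu : insert a₀ (orbit K b ∪ orbit K c) = Set.univ :=
        Set.eq_univ_of_forall fun x => hcases x
      have := congrArg Set.ncard hu
      rw [Set.ncard_insert_of_notMem ha (Set.toFinite _),
        Set.ncard_union_eq hd (Set.toFinite _) (Set.toFinite _), Set.ncard_univ,
        ← Nat.card_coe_set_eq, ← Nat.card_coe_set_eq, Nat.card_eq_fintype_card (α := Ω), hm] at this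
      have := horbsize b hb
      have := horbsize c hca
      omega
    let T : Module.End ℂ (Ω → ℂ) := orbOp G a₀ b
    have hTe : ∀ x y, T (Pi.single y 1) x =
        if ∃ g : G, g • a₀ = x ∧ g • b = y then 1 else 0 := fun x y => orbOp_apply_single a₀ b x y
    have hinv : ∀ S ∈ ((Cfsg.permRep ℂ G Ω).linHom (Cfsg.permRep ℂ G Ω)).invariants,
        ∀ (g : G) (x y : Ω), S (Pi.single (g • y) 1) (g • x) = S (Pi.single y 1) x := by
      intro S hS g x y
      rw [mem_invariants_iff] at hS
      rw [← permRep_single, hS, permRep_apply, inv_smul_smul]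
    have hbT : ∀ y, y ∈ orbit K b ↔ ∃ g : G, g • a₀ = a₀ ∧ g • b = y :=
      fun y => ⟨fun ⟨g, hg⟩ => ⟨g, g.2, hg⟩, fun ⟨g, h1, h2⟩ => ⟨⟨g, h1⟩, h2⟩⟩
    have hrow : T (fun _ => 1) = (k : ℂ) • (fun _ => 1) := by
      funext x
      obtain ⟨g, rfl⟩ := exists_smul_eq G a₀ x
      have h1 : T (fun _ => 1) (g • a₀) = T (fun _ => 1) a₀ := by
        have h := congrFun ((mem_invariants_iff _).1 (orbOp_mem a₀ b) g (fun _ : Ω => (1 : ℂ))) (g • a₀)
        rw [permRep_apply, inv_smul_smul] at h
        exact h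
      rw [h1]
      show orbOp G a₀ b _ a₀ = _
      rw [orbOp_apply, Finset.sum_const, nsmul_one, Pi.smul_apply, smul_eq_mul, mul_one, Nat.cast_inj]
      show _ = Nat.card (orbit K b)
      rw [Nat.card_eq_fintype_card, ← Set.toFinset_card]
      congr 1
      ext y
      simp [hbT]
    have hTa : T (Pi.single a₀ 1) a₀ = 0 := by
      rw [hTe, if_neg]
      rintro ⟨g, h1, h2⟩
      exact hb (smul_left_cancel g (h2.trans h1.symm))
    have hTb : T (Pi.single b 1) a₀ = 1 := by
      rw [hTe, if_pos ⟨1, one_smul _ _, one_smul _ _⟩]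
    have hTc : T (Pi.single c 1) a₀ = 0 := by
      rw [hTe, if_neg]
      exact fun h => hcb ((hbT c).2 h)
    have hsym : ∀ x y, T (Pi.single y 1) x = T (Pi.single x 1) y := by
      intro x y
      obtain ⟨g, hx, hy⟩ := hpair x y
      have := hinv T (orbOp_mem a₀ b) g x y
      rw [hx, hy] at this
      exact this.symm
    -- entries of the square
    have hsq : ∀ x y, (T * T) (Pi.single y 1) x =
        ((Finset.univ.filter fun z => T (Pi.single z 1) x = 1 ∧ T (Pi.single y 1) z = 1).card : ℂ) := by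
      intro x y
      rw [Module.End.mul_apply]
      conv_lhs => rw [pi_eq_sum_univ' (T (Pi.single y 1)), map_sum, Finset.sum_apply]
      rw [← Finset.sum_boole]
      refine Finset.sum_congr rfl fun z _ => ?_
      rw [map_smul, Pi.smul_apply, smul_eq_mul, hTe z y, hTe x z]
      by_cases h1 : ∃ g : G, g • a₀ = x ∧ g • b = z <;>
        by_cases h2 : ∃ g : G, g • a₀ = z ∧ g • b = y <;>
          simp only [h1, h2, if_true, if_false, one_mul, mul_zero, zero_mul, zero_ne_one, and_self,
            and_false, false_and]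
    have hsqa : (T * T) (Pi.single a₀ 1) a₀ = (k : ℂ) := by
      rw [hsq, Nat.cast_inj]
      show _ = Nat.card (orbit K b)
      rw [Nat.card_eq_fintype_card, ← Set.toFinset_card]
      congr 1
      ext z
      simp only [Finset.mem_filter, Finset.mem_univ, true_and, Set.mem_toFinset, hbT, ← hsym a₀ z,
        and_self, hTe a₀ z]
      split_ifs with h <;> simp [h]
    obtain ⟨γ, hγ⟩ : ∃ γ : ℤ, (T * T) (Pi.single c 1) a₀ = (γ : ℂ) := by
      refine ⟨((Finset.univ.filter fun z =>
        T (Pi.single z 1) a₀ = 1 ∧ T (Pi.single c 1) z = 1).card : ℤ), ?_⟩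
      rw [hsq, Int.cast_natCast]
    obtain ⟨β', hβ'⟩ : ∃ β : ℤ, (T * T) (Pi.single b 1) a₀ = (β : ℂ) := by
      refine ⟨((Finset.univ.filter fun z =>
        T (Pi.single z 1) a₀ = 1 ∧ T (Pi.single b 1) z = 1).card : ℤ), ?_⟩
      rw [hsq, Int.cast_natCast]
    let α : ℂ := (k : ℂ) - γ
    let β : ℂ := (β' : ℂ) - γ
    have hTT : T * T ∈ ((Cfsg.permRep ℂ G Ω).linHom (Cfsg.permRep ℂ G Ω)).invariants := by
      rw [mem_invariants_iff]
      intro g v
      have hT := (mem_invariants_iff _).1 (orbOp_mem (G := G) a₀ b)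
      rw [Module.End.mul_apply, Module.End.mul_apply]
      show orbOp G a₀ b (orbOp G a₀ b _) = _
      rw [hT, hT]
    have hdec : T * T = α • (1 : Module.End ℂ (Ω → ℂ)) + β • T + (γ : ℂ) • allOne := by
      refine (Pi.basisFun ℂ Ω).ext fun y => funext fun x => ?_
      obtain ⟨g, hg⟩ := exists_smul_eq G x a₀
      rw [Pi.basisFun_apply]
      simp only [LinearMap.add_apply, LinearMap.smul_apply, Pi.add_apply, Pi.smul_apply, smul_eq_mul,
        Module.End.one_apply, allOne_apply, Finset.sum_pi_single', Finset.mem_univ, if_true]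
      rw [← hinv _ hTT g x y, ← hinv T (orbOp_mem a₀ b) g x y, hg]
      have hone : (Pi.single y (1 : ℂ) : Ω → ℂ) x = (Pi.single (g • y) (1 : ℂ) : Ω → ℂ) a₀ := by
        simp only [Pi.single_apply, ← hg, smul_left_cancel_iff]
      rw [hone]
      have htr : ∀ z z', z' ∈ orbit K z → ∀ S ∈ ((Cfsg.permRep ℂ G Ω).linHom (Cfsg.permRep ℂ G Ω)).invariants,
          S (Pi.single z' 1) a₀ = S (Pi.single z 1) a₀ := by
        rintro z _ ⟨h, rfl⟩ S hS
        have := hinv S hS (h : G) a₀ z
        rw [mem_stabilizer_iff.1 h.2] at this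
        exact this
      rcases hcases (g • y) with h | h | h
      · rw [h, hsqa, hTa, Pi.single_eq_same]; simp only [α, β]; ring
      · have hne : g • y ≠ a₀ := by
          intro e
          obtain ⟨h', hh'⟩ := h
          exact hb (smul_left_cancel (h' : G) ((hh'.trans e).trans h'.2.symm))
        rw [htr b _ h _ hTT, htr b _ h _ (orbOp_mem a₀ b), hβ', hTb, Pi.single_eq_of_ne (Ne.symm hne)]
        simp only [α, β]; ring
      · have hne : g • y ≠ a₀ := by
          intro e
          obtain ⟨h', hh'⟩ := h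
          exact hca (smul_left_cancel (h' : G) ((hh'.trans e).trans h'.2.symm))
        rw [htr c _ h _ hTT, htr c _ h _ (orbOp_mem a₀ b), hγ, hTc, Pi.single_eq_of_ne (Ne.symm hne)]
        simp only [α, β]; ring
    obtain ⟨u, r, s, hT⟩ := hspan T (orbOp_mem a₀ b)
    have hu : u = (k : ℂ) := by
      have := congrFun hrow a₀
      rw [hT] at this
      simp only [LinearMap.add_apply, LinearMap.smul_apply, c₀, c₁, c₂, smul_zero, add_zero,
        Pi.smul_apply, smul_eq_mul, mul_one] at this
      exact this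
    subst hu
    have hTsq : T * T = ((k : ℂ) * k) • P₀ + (r * r) • P₁ + (s * s) • P₂ := by
      rw [hT]
      simp only [mul_add, add_mul, smul_mul_assoc, mul_smul_comm, smul_smul, m00, m11, m22, m01, m02,
        m10, m12, m20, m21, smul_zero, add_zero, zero_add]
    -- the two eigenvalues satisfy the quadratic
    have hJ : ∀ P : Module.End ℂ (Ω → ℂ), P (fun _ => 1) = 0 → P * allOne = 0 := by
      intro P hP
      refine LinearMap.ext fun v => ?_
      rw [Module.End.mul_apply, show allOne v = (∑ y, v y) • (fun _ : Ω => (1 : ℂ)) from by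
        funext x; simp [allOne_apply], map_smul, hP, smul_zero, LinearMap.zero_apply]
    have hquad : ∀ (P : Module.End ℂ (Ω → ℂ)) (e : ℂ), P ≠ 0 → P * P = P →
        P (fun _ => 1) = 0 → P * T = e • P → e * e = α + β * e := by
      intro P e hP0 hPP hP1 hPT
      have h : P * (T * T) = P * (α • (1 : Module.End ℂ (Ω → ℂ)) + β • T + (γ : ℂ) • allOne) := by
        rw [hdec]
      rw [← mul_assoc, hPT, smul_mul_assoc, hPT, smul_smul, mul_add, mul_add, mul_smul_comm,
        mul_smul_comm, mul_smul_comm, mul_one, hPT, hJ P hP1, smul_zero, add_zero, smul_smul,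
        ← add_smul] at h
      exact smul_left_injective ℂ hP0 h
    have hP₁0 : P₁ ≠ 0 := fun e => by
      rw [e, map_zero] at t₁
      have : ((1 : ℕ) : ℂ) = (m : ℕ) := by push_cast; linear_combination t₁
      rw [Nat.cast_inj] at this; omega
    have hP₂0 : P₂ ≠ 0 := fun e => by
      rw [e, map_zero] at t₂
      have : ((0 : ℕ) : ℂ) = (m : ℕ) := by push_cast; linear_combination t₂
      rw [Nat.cast_inj] at this; omega
    have hr : r * r = α + β * r := hquad P₁ r hP₁0 m11 c₁ (by
      rw [hT]; simp only [mul_add, mul_smul_comm, m10, m11, m12, smul_zero, add_zero, zero_add])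
    have hs : s * s = α + β * s := hquad P₂ s hP₂0 m22 c₂ (by
      rw [hT]; simp only [mul_add, mul_smul_comm, m20, m21, m22, smul_zero, add_zero, zero_add])
    have htr1 : (k : ℂ) + r * ((m : ℂ) - 1) + s * m = 0 := by
      have h := congrArg (LinearMap.trace ℂ (Ω → ℂ)) hT
      simp only [map_add, map_smul, t₀, t₁, t₂, smul_eq_mul, mul_one] at h
      rw [← h, LinearMap.trace_eq_matrix_trace ℂ (Pi.basisFun ℂ Ω)]
      simp only [Matrix.trace, Matrix.diag_apply, LinearMap.toMatrix_apply, Pi.basisFun_repr,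
        Pi.basisFun_apply]
      refine Finset.sum_eq_zero fun x _ => ?_
      rw [hTe, if_neg]
      rintro ⟨g, h1, h2⟩
      exact hb (smul_left_cancel g (h2.trans h1.symm))
    have htr2 : (k : ℂ) * k + r * r * ((m : ℂ) - 1) + s * s * m = 2 * m * k := by
      have h := congrArg (LinearMap.trace ℂ (Ω → ℂ)) hTsq
      simp only [map_add, map_smul, t₀, t₁, t₂, smul_eq_mul, mul_one] at h
      rw [← h, LinearMap.trace_eq_matrix_trace ℂ (Pi.basisFun ℂ Ω)]
      simp only [Matrix.trace, Matrix.diag_apply, LinearMap.toMatrix_apply, Pi.basisFun_repr,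
        Pi.basisFun_apply]
      rw [Finset.sum_congr rfl (fun x _ => show (T * T) (Pi.single x 1) x = (k : ℂ) by
        obtain ⟨g, rfl⟩ := exists_smul_eq G a₀ x
        rw [hinv _ hTT g a₀ a₀, hsqa]), Finset.sum_const, Finset.card_univ, hm, nsmul_eq_mul,
        Nat.cast_mul, Nat.cast_ofNat]
    have hrs : r ≠ s := by
      intro e
      subst e
      -- then `T` is constant off the diagonal
      have hI : (1 : Module.End ℂ (Ω → ℂ)) ∈
          ((Cfsg.permRep ℂ G Ω).linHom (Cfsg.permRep ℂ G Ω)).invariants := by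
        rw [mem_invariants_iff]; intro g v; rfl
      obtain ⟨u', v', w', hI'⟩ := hspan 1 hI
      have e0 : u' = 1 := by
        have := congrFun (LinearMap.congr_fun hI' (fun _ => 1)) a₀
        simp only [LinearMap.add_apply, LinearMap.smul_apply, c₀, c₁, c₂, smul_zero, add_zero,
          Pi.smul_apply, smul_eq_mul, mul_one, Module.End.one_apply] at this
        exact this.symm
      have e1 : v' = 1 := by
        have := congrArg (fun S => P₁ * S) hI'
        simp only [mul_one, mul_add, mul_smul_comm, m10, m11, m12, smul_zero, add_zero, zero_add] at this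
        exact (smul_left_injective ℂ hP₁0 (show (1 : ℂ) • P₁ = v' • P₁ by rw [one_smul]; exact this)).symm
      have e2 : w' = 1 := by
        have := congrArg (fun S => P₂ * S) hI'
        simp only [mul_one, mul_add, mul_smul_comm, m20, m21, m22, smul_zero, add_zero, zero_add] at this
        exact (smul_left_injective ℂ hP₂0 (show (1 : ℂ) • P₂ = w' • P₂ by rw [one_smul]; exact this)).symm
      have hT' : T = ((k : ℂ) - r) • P₀ + r • (1 : Module.End ℂ (Ω → ℂ)) := by
        rw [hT, hI', e0, e1, e2]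
        module
      have hP₀ : ∀ y, P₀ (Pi.single y 1) a₀ = P₀ (Pi.single a₀ 1) a₀ := by
        intro y
        show proj one (Pi.single y 1) a₀ = proj one (Pi.single a₀ 1) a₀
        simp only [proj, LinearMap.smul_apply, Pi.smul_apply, op_apply_single]
        congr 1
        obtain ⟨g, hg⟩ := exists_smul_eq G a₀ y
        refine Fintype.sum_equiv (Equiv.mulRight g) _ _ fun h => ?_
        simp only [Equiv.coe_mulRight, mul_smul, hg, one]
      have eb : T (Pi.single b 1) a₀ = T (Pi.single c 1) a₀ := by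
        rw [hT']
        simp only [LinearMap.add_apply, LinearMap.smul_apply, Pi.add_apply, Pi.smul_apply,
          Module.End.one_apply, hP₀ b, hP₀ c, Pi.single_eq_of_ne (Ne.symm hb),
          Pi.single_eq_of_ne (Ne.symm hca)]
      rw [hTb, hTc] at eb
      exact one_ne_zero eb
    have hsum' : r + s = β := by
      have : (r - s) * (r + s - β) = 0 := by linear_combination hr - hs
      exact sub_eq_zero.1 ((mul_eq_zero.1 this).resolve_left (sub_ne_zero.2 hrs))
    let t : ℤ := γ - β'
    let R : ℤ := (k : ℤ) - (m : ℤ) * t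
    have hrR : r = (R : ℂ) := by
      simp only [R, t]; push_cast
      simp only [β] at hsum'
      linear_combination -htr1 + (m : ℂ) * hsum'
    have hsS : s = ((-t - R : ℤ) : ℂ) := by
      simp only [R, t]; push_cast
      simp only [β] at hsum'
      simp only [R, t] at hrR; push_cast at hrR
      linear_combination hsum' - hrR
    have hZ : (k : ℤ) * k + R * R * ((m : ℤ) - 1) + (-t - R) * (-t - R) * m = 2 * m * k := by
      rw [hrR, hsS] at htr2
      exact_mod_cast htr2
    exact parameters k m R t hk2.1 hk2.2 (by simp only [R]; ring) hZ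
  obtain ⟨b₀, hb₀⟩ : ∃ b : Ω, b ≠ a₀ := by
    haveI : Nontrivial Ω := Fintype.one_lt_card_iff_nontrivial.1 (by omega)
    exact exists_ne a₀
  obtain ⟨a, ha, hma, -⟩ := main_b b₀ hb₀
  refine ⟨a, ha, hma, fun b hb => ?_⟩
  obtain ⟨a', -, hma', h⟩ := main_b b hb
  obtain rfl := parameters_unique (hma'.symm.trans hma)
  exact h

end CfsgLib.WielandtRankThree
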