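import Cfsg.Agent.PermSimple.Sharp
import Cfsg.Agent.Char.FourTransitive
import Cfsg.Agent.Char.CyclicFamily
import Cfsg.Agent.Char.Inner
import Mathlib

/-!
# Groups of prime degree whose Sylow normaliser has order `2 p`

A non-soluble group of prime degree `p` with Sylow normaliser of order `2 p` is sharply triply
transitive.  The class functions `π - 1` and `1 - α + R` induced from the Sylow subgroup give a
lower bound for the norm of the alternating square of the permutation character, and counting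
fixed and exchanged pairs gives an upper bound in terms of the orbits on four points.
-/

set_option autoImplicit false
set_option linter.style.haveILetI false
set_option linter.unusedSectionVars false

namespace CfsgLib.PrimeTwoP

open MulAction CfsgLib.Char CfsgLib.Char.FourTrans Finset
open scoped ComplexConjugate

universe u v

section Counting

variable {G : Type u} [Group G] [Fintype G]

theorem sum_card_comm {X : Type*} [MulAction G X] [Fintype X] (τ : X → X) :
    ∑ g : G, Nat.card {x : X // g • x = τ x} = ∑ x : X, Nat.card {g : G // g • x = τ x} := by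
  classical
  rw [← Nat.card_sigma, ← Nat.card_sigma]
  exact Nat.card_congr
    { toFun := fun p => ⟨p.2.1, p.1, p.2.2⟩
      invFun := fun p => ⟨p.2.1, p.1, p.2.2⟩
      left_inv := fun p => rfl
      right_inv := fun p => rfl }

theorem card_maps_le {X : Type*} [MulAction G X] (x y : X) :
    Nat.card {g : G // g • x = y} ≤ Nat.card (stabilizer G x) := by
  by_cases h : Nonempty {g : G // g • x = y}
  · obtain ⟨g₀⟩ := h
    refine Nat.card_le_card_of_injective (fun g => (⟨g₀.1⁻¹ * g.1, ?_⟩ : stabilizer G x)) ?_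
    · rw [mem_stabilizer_iff, mul_smul, g.2, inv_smul_eq_iff, g₀.2]
    · intro a b hab
      exact Subtype.ext (mul_left_cancel (congrArg Subtype.val hab))
  · haveI := not_nonempty_iff.1 h
    rw [Nat.card_of_isEmpty]
    exact Nat.zero_le _

variable {Ω : Type v} [MulAction G Ω] [Fintype Ω]

/-- Exchange the first two coordinates and the last two. -/
def swapBoth (e : Fin 4 ↪ Ω) : Fin 4 ↪ Ω :=
  ((Equiv.swap (0 : Fin 4) 1).trans (Equiv.swap (2 : Fin 4) 3)).toEmbedding.trans e

theorem card_swap_three (g : G) :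
    Nat.card {e : Fin 3 ↪ Ω // g • e = swapFirst e} =
      Nat.card (Swapped Ω g) * Nat.card (fixedBy Ω g) := by
  rw [← Nat.card_prod]
  refine Nat.card_congr
    { toFun := fun e => (⟨(e.1 0, e.1 1), fun h => ?_, ?_, ?_⟩, ⟨e.1 2, ?_⟩)
      invFun := fun q => ⟨⟨![q.1.1.1, q.1.1.2, q.2.1], ?_⟩, ?_⟩
      left_inv := ?_
      right_inv := ?_ }
  · simpa using e.1.injective h
  · simpa [swapFirst] using congrFun (congrArg DFunLike.coe e.2) 0
  · simpa [swapFirst] using congrFun (congrArg DFunLike.coe e.2) 1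
  · show g • e.1 2 = e.1 2
    simpa [swapFirst, Equiv.swap_apply_def] using congrFun (congrArg DFunLike.coe e.2) 2
  · obtain ⟨⟨⟨a, b⟩, hab, ha, hb⟩, c, hc⟩ := q
    have hc' : g • c = c := hc
    simp only at hab ha hb
    have hca : c ≠ a := fun h => hab (by rw [← ha, ← h, hc'])
    have hcb : c ≠ b := fun h => hab (by rw [← hb, ← h, hc'])
    have hba := Ne.symm hab
    have hac := Ne.symm hca
    have hbc := Ne.symm hcb
    intro i j h
    fin_cases i <;> fin_cases j <;> simp_all
  · obtain ⟨⟨⟨a, b⟩, hab, ha, hb⟩, c, hc⟩ := q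
    have hc' : g • c = c := hc
    refine Function.Embedding.ext fun i => ?_
    rw [Function.Embedding.smul_apply]
    fin_cases i <;> simp_all [swapFirst, Equiv.swap_apply_def]
  · intro e
    apply Subtype.ext
    refine Function.Embedding.ext fun i => ?_
    fin_cases i <;> rfl
  · intro q
    rfl

theorem swapped_sq_le [DecidableEq Ω] (g : G) :
    Nat.card (Swapped Ω g) * Nat.card (Swapped Ω g) ≤
      2 * Nat.card (Swapped Ω g) + Nat.card {e : Fin 4 ↪ Ω // g • e = swapBoth e} := by
  classical
  rw [two_mul, ← Nat.card_prod, ← Nat.card_sum, ← Nat.card_sum]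
  let F : Swapped Ω g × Swapped Ω g →
      (Swapped Ω g ⊕ Swapped Ω g) ⊕ {e : Fin 4 ↪ Ω // g • e = swapBoth e} := fun q =>
    if h₁ : q.1.1.1 = q.2.1.1 then Sum.inl (Sum.inl q.1)
    else if h₂ : q.1.1.1 = q.2.1.2 then Sum.inl (Sum.inr q.1)
    else Sum.inr ⟨⟨![q.1.1.1, q.1.1.2, q.2.1.1, q.2.1.2],
      injective_vec_four q.1.2.1 h₁ h₂
        (fun h => h₂ (by rw [← q.1.2.2.2, h, q.2.2.2.1]))
        (fun h => h₁ (by rw [← q.1.2.2.2, h, q.2.2.2.2])) q.2.2.1⟩,
      Function.Embedding.ext fun i => by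
        rw [Function.Embedding.smul_apply]
        fin_cases i <;>
          simp [swapBoth, Equiv.swap_apply_def, q.1.2.2.1, q.1.2.2.2, q.2.2.2.1, q.2.2.2.2]⟩
  refine Nat.card_le_card_of_injective F ?_
  have key : ∀ u v w : Swapped Ω g, u.1.1 = v.1.1 → u.1.1 = w.1.1 → v = w := by
    intro u v w hv hw
    exact Subtype.ext (Prod.ext (hv.symm.trans hw)
      (by rw [← v.2.2.1, ← w.2.2.1, ← hv, ← hw]))
  rintro ⟨u, v⟩ ⟨u', v'⟩ h
  simp only [F] at h
  by_cases a : u.1.1 = v.1.1
  · rw [dif_pos a] at h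
    by_cases a' : u'.1.1 = v'.1.1
    · rw [dif_pos a'] at h
      have hu : u = u' := Sum.inl.inj (Sum.inl.inj h)
      exact Prod.ext hu (key u v v' a (by rw [hu]; exact a'))
    · rw [dif_neg a'] at h
      by_cases b' : u'.1.1 = v'.1.2
      · rw [dif_pos b'] at h; simp at h
      · rw [dif_neg b'] at h; simp at h
  · rw [dif_neg a] at h
    by_cases b : u.1.1 = v.1.2
    · rw [dif_pos b] at h
      by_cases a' : u'.1.1 = v'.1.1
      · rw [dif_pos a'] at h; simp at h
      · rw [dif_neg a'] at h
        by_cases b' : u'.1.1 = v'.1.2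
        · rw [dif_pos b'] at h
          have hu : u = u' := Sum.inr.inj (Sum.inl.inj h)
          exact Prod.ext hu (Subtype.ext (Prod.ext
            (by rw [← v.2.2.2, ← v'.2.2.2, ← b, ← b', hu]) (by rw [← b, ← b', hu])))
        · rw [dif_neg b'] at h; simp at h
    · rw [dif_neg b] at h
      by_cases a' : u'.1.1 = v'.1.1
      · rw [dif_pos a'] at h; simp at h
      · rw [dif_neg a'] at h
        by_cases b' : u'.1.1 = v'.1.2
        · rw [dif_pos b'] at h; simp at h
        · rw [dif_neg b'] at h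
          have h' : (![u.1.1, u.1.2, v.1.1, v.1.2] : Fin 4 → Ω) =
              ![u'.1.1, u'.1.2, v'.1.1, v'.1.2] :=
            congrArg (fun e : Fin 4 ↪ Ω => (e : Fin 4 → Ω)) (congrArg Subtype.val (Sum.inr.inj h))
          exact Prod.ext (Subtype.ext (Prod.ext (congrFun h' 0) (congrFun h' 1)))
            (Subtype.ext (Prod.ext (congrFun h' 2) (congrFun h' 3)))

end Counting

variable {G : Type u} [Group G] [Fintype G] {Ω : Type v} [MulAction G Ω] [Fintype Ω]
  [FaithfulSMul G Ω] {p : ℕ} [hp : Fact p.Prime]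

/-- The key inequality. -/
theorem four_points_ge [DecidableEq Ω] (hp5 : 5 ≤ p) (hα : Fintype.card Ω = p)
    [h3 : IsMultiplyPretransitive G Ω 3] (P : Subgroup G) (hP : Nat.card P = p)
    (hN : Nat.card (Subgroup.normalizer (P : Set G)) = 2 * p) :
    (p - 3) * Nat.card G ≤ ∑ g : G, Nat.card {e : Fin 4 ↪ Ω // g • e = e} := by
  classical
  have hpp := hp.out
  obtain ⟨m, hm⟩ : ∃ m, p = 2 * m + 1 := (hpp.odd_of_ne_two (by omega))
  haveI hT : IsPretransitive P Ω :=
    CfsgLib.PermSimple.isPretransitive_of_card hP (by rw [Nat.card_eq_fintype_card, hα])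
  have hCP := CfsgLib.PermSimple.centralizer_eq_of_card (α := Ω) hP
    (by rw [Nat.card_eq_fintype_card, hα])
  haveI : IsCyclic P := isCyclic_of_prime_card hP
  letI : CommGroup P := IsCyclic.commGroup
  haveI : Fintype P := Fintype.ofFinite P
  have hgen : ∀ x : P, x ≠ 1 → Subgroup.zpowers (x : G) = P := by
    intro x hx
    have h := congrArg (Subgroup.map P.subtype) (zpowers_eq_top_of_prime_card hP hx)
    rw [MonoidHom.map_zpowers, ← MonoidHom.range_eq_map, Subgroup.range_subtype] at h
    exact h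
  have hmem : ∀ (x : P), x ≠ 1 → ∀ g : G, g⁻¹ * x * g ∈ P →
      g ∈ Subgroup.normalizer (P : Set G) := by
    intro x hx g hg
    rw [← inv_mem_iff]
    refine Subgroup.mem_normalizer_iff_map_conj_eq.2 ?_
    have hne : (⟨_, hg⟩ : P) ≠ 1 := fun h => hx (Subtype.ext (by
      have h' : g⁻¹ * (x : G) * g = 1 := congrArg Subtype.val h
      calc (x : G) = g * (g⁻¹ * x * g) * g⁻¹ := by group
        _ = 1 := by rw [h', mul_one, mul_inv_cancel]))
    conv_lhs => rw [← hgen x hx]
    rw [MonoidHom.map_zpowers]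
    refine Eq.trans ?_ (hgen _ hne)
    simp [mul_assoc]
  have hinv : ∀ n ∈ Subgroup.normalizer (P : Set G), n ∉ P → ∀ x : P,
      n⁻¹ * (x : G) * n = (x : G)⁻¹ := by
    intro n hn hnP x
    have hidx : (P.subgroupOf (Subgroup.normalizer (P : Set G))).index = 2 := by
      have h := (P.subgroupOf (Subgroup.normalizer (P : Set G))).card_mul_index
      rw [Nat.card_congr (Subgroup.subgroupOfEquivOfLe Subgroup.le_normalizer).toEquiv, hP, hN,
        mul_comm 2 p] at h
      exact Nat.eq_of_mul_eq_mul_left hpp.pos h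
    have hn2 : n * n ∈ P := by
      have h := Subgroup.mul_mem_iff_of_index_two hidx (a := ⟨n, hn⟩) (b := ⟨n, hn⟩)
      exact Subgroup.mem_subgroupOf.1 (h.2 Iff.rfl)
    have hy : n⁻¹ * (x : G) * n ∈ P := by
      have := (Subgroup.mem_normalizer_iff.1 (inv_mem hn) (x : G)).1 x.2
      simpa using this
    have hxn : (x : G) * (n * n) = n * n * x :=
      congrArg Subtype.val (mul_comm x (⟨n * n, hn2⟩ : P))
    have hcomm : (x : G) * (n⁻¹ * x * n) = n⁻¹ * x * n * x :=
      congrArg Subtype.val (mul_comm x (⟨_, hy⟩ : P))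
    have hfix : n⁻¹ * ((x : G) * (n⁻¹ * x * n)) * n = (x : G) * (n⁻¹ * x * n) := by
      have h2 : n⁻¹ * (n⁻¹ * x * n) * n = x := by
        calc n⁻¹ * (n⁻¹ * x * n) * n = (n * n)⁻¹ * ((x : G) * (n * n)) := by group
          _ = (n * n)⁻¹ * (n * n * x) := by rw [hxn]
          _ = x := by group
      calc n⁻¹ * ((x : G) * (n⁻¹ * x * n)) * n
          = (n⁻¹ * x * n) * (n⁻¹ * (n⁻¹ * x * n) * n) := by group
        _ = n⁻¹ * x * n * x := by rw [h2]
        _ = _ := hcomm.symm
    by_contra hne
    have hz : x * (⟨_, hy⟩ : P) ≠ 1 := fun h => hne (eq_inv_of_mul_eq_one_right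
      (congrArg Subtype.val h))
    refine hnP ?_
    rw [← hCP, ← hgen _ hz, Subgroup.mem_centralizer_iff]
    rintro _ ⟨k, rfl⟩
    refine (Commute.zpow_left ?_ k).eq
    symm
    show n * ((x : G) * (n⁻¹ * x * n)) = (x : G) * (n⁻¹ * x * n) * n
    conv_lhs => rw [← hfix]
    group
  -- fixed points
  let f : G → ℕ := fun g => Nat.card (fixedBy Ω g)
  let c : G → ℕ := fun g => Nat.card (Swapped Ω g)
  have hfree : ∀ (x : P), x ≠ 1 → ∀ a : Ω, (x : G) • a ≠ a := by
    intro x hx a h
    refine hx (Subtype.ext (eq_of_smul_eq_smul (α := Ω) fun b => ?_))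
    obtain ⟨q, rfl⟩ := exists_smul_eq P a b
    rw [Subgroup.coe_one, one_smul]
    show (x : G) • (q : G) • a = (q : G) • a
    rw [smul_smul, show (x : G) * q = q * x from congrArg Subtype.val (mul_comm x q), mul_smul, h]
  have hf0 : ∀ x : P, x ≠ 1 → f x = 0 := fun x hx => by
    haveI : IsEmpty (fixedBy Ω (x : G)) := ⟨fun a => hfree x hx a.1 a.2⟩
    exact Nat.card_of_isEmpty
  have hc0 : ∀ x : P, x ≠ 1 → c x = 0 := fun x hx => by
    haveI : IsEmpty (Swapped Ω (x : G)) := ⟨fun a => by
      refine hfree (x * x) (fun h => hx ?_) a.1.1 ?_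
      · have h1 : orderOf x ∣ 2 := orderOf_dvd_of_pow_eq_one (by rw [sq, h])
        have h2 : orderOf x ∣ p := hP ▸ orderOf_dvd_natCard x
        exact orderOf_eq_one_iff.1 (Nat.eq_one_of_dvd_coprimes
          ((Nat.coprime_primes Nat.prime_two hpp).2 (by omega)) h1 h2)
      · rw [Subgroup.coe_mul, mul_smul, a.2.2.1, a.2.2.2]⟩
    exact Nat.card_of_isEmpty
  have hf1 : f 1 = p := by
    show Nat.card (fixedBy Ω (1 : G)) = p
    rw [fixedBy_one_eq_univ, Nat.card_congr (Equiv.Set.univ Ω), Nat.card_eq_fintype_card, hα]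
  -- moments
  have pre : ∀ j ≤ 3, IsMultiplyPretransitive G Ω j := fun j hj =>
    isMultiplyPretransitive_of_le' (n := 3) hj (by
      rw [ENat.card_eq_coe_fintype_card, hα]; exact_mod_cast (by omega : 3 ≤ p))
  have hone : ∀ (j : ℕ) (_ : j ≤ 3) (τ : (Fin j ↪ Ω) → (Fin j ↪ Ω)),
      ∑ g : G, ((Nat.card {x : Fin j ↪ Ω // g • x = τ x} : ℕ) : ℂ) = Nat.card G := by
    intro j hj τ
    haveI := pre j hj
    haveI : Nonempty (Fin j ↪ Ω) := Function.Embedding.nonempty_of_card_le
      (by rw [Fintype.card_fin, hα]; omega)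
    exact_mod_cast sum_card_eq (G := G) τ
  have F : ∀ j ≤ 3, ∑ g : G, (((f g).descFactorial j : ℕ) : ℂ) = Nat.card G := fun j hj => by
    have := hone j hj id
    simp only [id_eq, fixed_descFactorial] at this
    exact this
  have d2 : ∀ k : ℕ, ((k.descFactorial 2 : ℕ) : ℂ) = (k : ℂ) ^ 2 - k := fun k => by
    rw [Nat.cast_descFactorial_two]; ring
  have d3 : ∀ k : ℕ, ((k.descFactorial 3 : ℕ) : ℂ) = (k : ℂ) ^ 3 - 3 * (k : ℂ) ^ 2 + 2 * k := by
    intro k
    rcases k with _ | _ | _ | k <;> simp [Nat.descFactorial] <;> ring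
  have d4 : ∀ k : ℕ, (((k.descFactorial 2) * (k.descFactorial 2) : ℕ) : ℂ) =
      ((k.descFactorial 4 : ℕ) : ℂ) + 4 * ((k.descFactorial 3 : ℕ) : ℂ) +
        2 * ((k.descFactorial 2 : ℕ) : ℂ) := by
    intro k
    rcases k with _ | _ | _ | _ | k <;> simp [Nat.descFactorial] <;> ring
  have mf : ∑ g : G, (f g : ℂ) = Nat.card G := by simpa using F 1 (by omega)
  have mc : ∑ g : G, (c g : ℂ) = Nat.card G := by
    have h := hone 2 (by omega) swapFirst
    simp only [card_swap_two] at h
    exact h
  have mcf : ∑ g : G, (c g : ℂ) * (f g : ℂ) = Nat.card G := by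
    have h := hone 3 le_rfl swapFirst
    simp only [card_swap_three, Nat.cast_mul] at h
    exact h
  have m2 : ∑ g : G, (f g : ℂ) ^ 2 = 2 * Nat.card G := by
    have := F 2 (by omega)
    simp only [d2, Finset.sum_sub_distrib] at this
    linear_combination this + mf
  have m3 : ∑ g : G, (f g : ℂ) ^ 3 = 5 * Nat.card G := by
    have := F 3 le_rfl
    simp only [d3, Finset.sum_sub_distrib, Finset.sum_add_distrib, ← Finset.mul_sum] at this
    linear_combination this + 3 * m2 - 2 * mf
  -- class functions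
  have hcl : ∀ g h : G, f (h * g * h⁻¹) = f g ∧ c (h * g * h⁻¹) = c g := by
    intro g h
    constructor
    · refine Nat.card_congr
        { toFun := fun a => ⟨h⁻¹ • a.1, ?_⟩
          invFun := fun a => ⟨h • a.1, ?_⟩
          left_inv := fun a => by simp
          right_inv := fun a => by simp }
      · have := a.2
        simp only [mem_fixedBy, mul_smul] at this ⊢
        exact eq_inv_smul_iff.2 this
      · have := a.2
        simp only [mem_fixedBy, mul_smul] at this ⊢
        rw [inv_smul_smul, this]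
    · refine Nat.card_congr
        { toFun := fun a => ⟨(h⁻¹ • a.1.1, h⁻¹ • a.1.2), ?_, ?_, ?_⟩
          invFun := fun a => ⟨(h • a.1.1, h • a.1.2), ?_, ?_, ?_⟩
          left_inv := fun a => by simp
          right_inv := fun a => by simp }
      · simpa using a.2.1
      · have := a.2.2.1
        simp only [mul_smul] at this ⊢
        exact eq_inv_smul_iff.2 this
      · have := a.2.2.2
        simp only [mul_smul] at this ⊢
        exact eq_inv_smul_iff.2 this
      · simpa using a.2.1
      · simp only [mul_smul, inv_smul_smul, a.2.2.1]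
      · simp only [mul_smul, inv_smul_smul, a.2.2.2]
  let one : G → ℂ := fun _ => 1
  let α : G → ℂ := fun g => (f g : ℂ) - 1
  let X : G → ℂ := fun g => ((f g : ℂ) * ((f g : ℂ) - 1) - (c g : ℂ)) / 2
  have hclα : Cfsg.IsClassFunction G α := fun g h => by simp only [α, (hcl g h).1]
  have hclX : Cfsg.IsClassFunction G X := fun g h => by simp only [X, (hcl g h).1, (hcl g h).2]
  have hcl1 : Cfsg.IsClassFunction G one := fun g h => rfl
  have hG0 : (Nat.card G : ℂ) ≠ 0 := Nat.cast_ne_zero.2 Nat.card_pos.ne'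
  have hcα : ∀ g, conj (α g) = α g := fun g => by simp [α]
  have hcX : ∀ g, conj (X g) = X g := fun g => by simp [X, map_div₀, map_ofNat]
  have val : ∀ (φ ψ : G → ℂ) (v : ℂ), (∀ g, conj (ψ g) = ψ g) →
      ∑ g : G, φ g * ψ g = v * Nat.card G → Cfsg.classInner φ ψ = v := by
    intro φ ψ v hψ h
    rw [classInner_def, Finset.sum_congr rfl fun g _ => by rw [hψ g], h]
    field_simp
  have i11 : Cfsg.classInner one one = 1 := val _ _ _ (fun g => by simp [one]) (by simp [one])
  have iαα : Cfsg.classInner α α = 1 := val _ _ _ hcα (by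
    rw [show (fun g => α g * α g) = fun g => (f g : ℂ) ^ 2 - 2 * (f g : ℂ) + 1 by
      funext g; simp only [α]; ring]
    simp only [Finset.sum_add_distrib, Finset.sum_sub_distrib, ← Finset.mul_sum, Finset.sum_const,
      Finset.card_univ, nsmul_eq_mul, mul_one, ← Nat.card_eq_fintype_card]
    linear_combination m2 - 2 * mf)
  have iα1 : Cfsg.classInner α one = 0 := val _ _ _ (fun g => by simp [one]) (by
    simp only [α, one, mul_one, Finset.sum_sub_distrib, Finset.sum_const, Finset.card_univ,
      nsmul_eq_mul, mul_one, ← Nat.card_eq_fintype_card]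
    linear_combination mf)
  have i1α : Cfsg.classInner one α = 0 := by rw [← classInner_conj, iα1, map_zero]
  have iX1 : Cfsg.classInner X one = 0 := val _ _ _ (fun g => by simp [one]) (by
    rw [show (fun g => X g * one g) = fun g => ((f g : ℂ) ^ 2 - (f g : ℂ) - (c g : ℂ)) / 2 by
      funext g; simp only [X, one]; ring]
    rw [← Finset.sum_div, Finset.sum_sub_distrib, Finset.sum_sub_distrib, m2, mf, mc]
    ring)
  have iXα : Cfsg.classInner X α = 1 := val _ _ _ hcα (by
    rw [show (fun g => X g * α g) = fun g => ((f g : ℂ) ^ 3 - 2 * (f g : ℂ) ^ 2 + (f g : ℂ) -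
      (c g : ℂ) * (f g : ℂ) + (c g : ℂ)) / 2 by
      funext g; simp only [X, α]; ring]
    simp only [← Finset.sum_div, Finset.sum_sub_distrib, Finset.sum_add_distrib, ← Finset.mul_sum]
    rw [m3, m2, mf, mcf, mc]
    ring)
  -- linear characters of the Sylow subgroup
  obtain ⟨x₀, hx₀⟩ : ∃ x : P, x ≠ 1 := by
    haveI : Nontrivial P := Finite.one_lt_card_iff_nontrivial.1 (hP ▸ hpp.one_lt)
    exact exists_ne 1
  obtain ⟨l₀, hl₀⟩ := CommGroup.exists_apply_ne_one_of_hasEnoughRootsOfUnity P ℂ hx₀
  have hlo : orderOf l₀ = p := by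
    refine orderOf_eq_prime (MonoidHom.ext fun x => ?_) fun h => hl₀ (by rw [h]; rfl)
    rw [MonoidHom.pow_apply, MonoidHom.one_apply, ← map_pow, ← hP, pow_card_eq_one', map_one]
  let μ : Fin m → (P →* ℂˣ) := fun i => l₀ ^ (i.1 + 1)
  have hμ1 : ∀ i, μ i ≠ 1 := fun i h => by
    have := orderOf_dvd_of_pow_eq_one (show l₀ ^ (i.1 + 1) = 1 from h)
    rw [hlo] at this
    have := Nat.le_of_dvd (by omega) this
    have := i.2
    omega
  have hμi : ∀ i j, μ i ≠ (μ j)⁻¹ := fun i j h => by
    have h' : l₀ ^ (i.1 + 1 + (j.1 + 1)) = 1 := by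
      rw [pow_add]; exact mul_eq_one_iff_eq_inv.2 h
    have := orderOf_dvd_of_pow_eq_one h'
    rw [hlo] at this
    have := Nat.le_of_dvd (by omega) this
    have := i.2
    have := j.2
    omega
  have hμj : ∀ i j, μ i = μ j → i = j := fun i j h => by
    have := i.2
    have := j.2
    apply Fin.ext
    have h' := pow_injOn_Iio_orderOf (x := l₀) (Set.mem_Iio.2 (by rw [hlo]; omega))
      (Set.mem_Iio.2 (by rw [hlo]; omega)) h
    omega
  let base : Fin m → P → ℂ := fun i => homFun (1 : P →* ℂˣ) - homFun (μ i)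
  let Φ : Fin m → G → ℂ := fun i => Cfsg.indFun P (base i)
  have hΦ1 : ∀ i, Φ i 1 = 0 := fun i => by
    simp [Φ, base, indFun_one, homFun]
  have hΦP : ∀ i, (fun x : P => Φ i x) =
      (2 : ℂ) • homFun (1 : P →* ℂˣ) - homFun (μ i) - homFun (μ i)⁻¹ := by
    intro i
    funext x
    by_cases hx : x = 1
    · subst hx
      rw [Subgroup.coe_one, hΦ1]
      simp [homFun]; norm_num
    · show Cfsg.indFun P (base i) (x : G) = _
      rw [indFun_def]
      have key : ∀ g : G, Cfsg.extendByZero P (base i) (g⁻¹ * x * g) =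
          (if g ∈ P then base i x else 0) +
            (if g ∈ Subgroup.normalizer (P : Set G) ∧ g ∉ P then base i x⁻¹ else 0) := by
        intro g
        by_cases hgP : g ∈ P
        · rw [if_pos hgP, if_neg (fun h => h.2 hgP), add_zero,
            extendByZero_of_mem _ (P.mul_mem (P.mul_mem (P.inv_mem hgP) x.2) hgP)]
          congr 1
          apply Subtype.ext
          show g⁻¹ * (x : G) * g = x
          rw [mul_assoc, show (x : G) * g = g * x from congrArg Subtype.val (mul_comm x (⟨g, hgP⟩ : P))]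
          group
        · rw [if_neg hgP, zero_add]
          by_cases hgN : g ∈ Subgroup.normalizer (P : Set G)
          · rw [if_pos ⟨hgN, hgP⟩, hinv g hgN hgP x,
              extendByZero_of_mem _ (P.inv_mem x.2)]
            rfl
          · rw [if_neg (fun h => hgN h.1)]
            exact extendByZero_of_not_mem _ fun h => hgN (hmem x hx g h)
      rw [Finset.sum_congr rfl fun g _ => key g, Finset.sum_add_distrib, ← Finset.sum_filter,
        ← Finset.sum_filter, Finset.sum_const, Finset.sum_const]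
      have c1 : (univ.filter fun g : G => g ∈ P).card = p := by
        rw [← Fintype.card_subtype, ← Nat.card_eq_fintype_card]; exact hP
      have c2 : (univ.filter fun g : G => g ∈ Subgroup.normalizer (P : Set G) ∧ g ∉ P).card = p := by
        have hN' : (univ.filter fun g : G => g ∈ Subgroup.normalizer (P : Set G)).card = 2 * p := by
          rw [← Fintype.card_subtype, ← Nat.card_eq_fintype_card]; exact hN
        have := Finset.card_filter_add_card_filter_not
          (s := univ.filter fun g : G => g ∈ Subgroup.normalizer (P : Set G)) (fun g => g ∈ P)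
        rw [Finset.filter_filter, Finset.filter_filter, hN'] at this
        rw [show (univ.filter fun g : G => g ∈ Subgroup.normalizer (P : Set G) ∧ g ∈ P) =
          univ.filter fun g : G => g ∈ P from Finset.filter_congr fun g _ =>
            ⟨fun h => h.2, fun h => ⟨Subgroup.le_normalizer h, h⟩⟩, c1] at this
        omega
      rw [c1, c2, hP, nsmul_eq_mul, nsmul_eq_mul, ← mul_add, ← mul_assoc,
        inv_mul_cancel₀ (Nat.cast_ne_zero.2 hpp.ne_zero), one_mul]
      simp [base, homFun, map_inv]
      ring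
  have hΦcl : ∀ i, Cfsg.IsClassFunction G (Φ i) := fun i => isClassFunction_indFun P _
  have hb1 : ∀ i, base i 1 = 0 := fun i => by simp [base, homFun]
  have ib1 : ∀ i, Cfsg.classInner (Φ i) one = 1 := fun i => by
    rw [classInner_indFun _ hcl1, show (fun x : P => one x) = homFun (1 : P →* ℂˣ) by
      funext x; simp [one, homFun]]
    simp [base, classInner_sub_left, classInner_homFun, hμ1 i]
  have ibα : ∀ i, Cfsg.classInner (Φ i) α = -1 := fun i => by
    rw [classInner_indFun _ hclα]
    have hs : (fun x : P => α x) = (fun x : P => if x = 1 then (p : ℂ) else 0) -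
        homFun (1 : P →* ℂˣ) := by
      funext x
      by_cases hx : x = 1
      · subst hx; simp [α, hf1, homFun]
      · simp [α, hf0 x hx, homFun, hx]
    rw [hs, classInner_sub_right]
    have hz : Cfsg.classInner (base i) (fun x : P => if x = 1 then (p : ℂ) else 0) = 0 := by
      rw [classInner_def, Finset.sum_eq_single 1 (fun x _ hx => by simp [hx]) (by simp)]
      simp [hb1]
    rw [hz]
    simp [base, classInner_sub_left, classInner_homFun, hμ1 i]
  have ibX : ∀ i, Cfsg.classInner X (Φ i) = 0 := fun i => by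
    rw [← classInner_conj, classInner_indFun _ hclX, classInner_def,
      Finset.sum_eq_zero fun x _ => ?_]
    · simp
    · by_cases hx : x = 1
      · subst hx; simp [hb1]
      · simp [X, hf0 x hx, hc0 x hx]
  have ibb : ∀ i j, Cfsg.classInner (Φ i) (Φ j) = if i = j then 3 else 2 := fun i j => by
    have h := classInner_indFun (base i) (hΦcl j)
    rw [hΦP j] at h
    change Cfsg.classInner (Φ i) (Φ j) = _ at h
    rw [h]
    simp only [base, classInner_sub_left, classInner_sub_right, classInner_smul_right,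
      classInner_homFun, map_ofNat]
    have hμinv : ∀ k, (1 : P →* ℂˣ) ≠ (μ k)⁻¹ := fun k h => hμ1 k
      (MonoidHom.ext fun x => inv_eq_one.1 (DFunLike.congr_fun h x).symm)
    by_cases hij : i = j
    · subst hij
      simp [hμ1 i, (hμ1 i).symm, hμi i i, hμinv i]
      norm_num
    · have hne : μ i ≠ μ j := fun h => hij (hμj i j h)
      simp [hμ1 i, (hμ1 j).symm, hμi i j, hμinv j, hij, hne]
  let R : Fin m → G → ℂ := fun i => Φ i - one + α
  have iR : ∀ i j, Cfsg.classInner (R i) (R j) = if i = j then 1 else 0 := fun i j => by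
    simp only [R, classInner_add_left, classInner_add_right, classInner_sub_left,
      classInner_sub_right, ibb, ib1, ibα, i11, iαα, iα1, i1α]
    rw [← classInner_conj (Φ j) one, ← classInner_conj (Φ j) α, ib1, ibα]
    split_ifs <;> simp <;> norm_num
  have iRα : ∀ i, Cfsg.classInner (R i) α = 0 := fun i => by
    simp only [R, classInner_add_left, classInner_sub_left, ibα, i1α, iαα]; ring
  have iαR : ∀ i, Cfsg.classInner α (R i) = 0 := fun i => by
    rw [← classInner_conj, iRα, map_zero]
  have iXR : ∀ i, Cfsg.classInner X (R i) = 1 := fun i => by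
    simp only [R, classInner_add_right, classInner_sub_right, ibX, iX1, iXα]; ring
  let Y : G → ℂ := α + ∑ i, R i
  have iYY : Cfsg.classInner Y Y = ((m + 1 : ℕ) : ℂ) := by
    simp only [Y, classInner_add_left, classInner_add_right, classInner_sum_left,
      classInner_sum_right, iαα, iαR, iRα, iR]
    simp [add_comm]
  have iXY : Cfsg.classInner X Y = ((m + 1 : ℕ) : ℂ) := by
    simp only [Y, classInner_add_right, classInner_sum_right, iXα, iXR]
    simp [add_comm]
  have hbessel : ((m + 1 : ℕ) : ℝ) ≤ (Cfsg.classInner X X).re := by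
    have h : Cfsg.classInner (X - Y) (X - Y) = Cfsg.classInner X X - ((m + 1 : ℕ) : ℂ) := by
      simp only [classInner_sub_left, classInner_sub_right, iXY, iYY]
      rw [← classInner_conj X Y, iXY, Complex.conj_natCast]
      ring
    have h0 : 0 ≤ (Cfsg.classInner (X - Y) (X - Y)).re := by
      rw [classInner_self, Complex.ofReal_re]
      positivity
    rw [h, Complex.sub_re, Complex.natCast_re] at h0
    linarith
  -- the upper bound
  let S := ∑ g : G, Nat.card {e : Fin 4 ↪ Ω // g • e = e}
  have hS : ∑ g : G, (f g).descFactorial 4 = S :=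
    Finset.sum_congr rfl fun g _ => (fixed_descFactorial g 4).symm
  have hS2 : ∑ g : G, Nat.card {e : Fin 4 ↪ Ω // g • e = swapBoth e} ≤ S := by
    show _ ≤ ∑ g : G, Nat.card {e : Fin 4 ↪ Ω // g • e = id e}
    rw [sum_card_comm, sum_card_comm]
    refine Finset.sum_le_sum fun e _ => ?_
    refine (card_maps_le e (swapBoth e)).trans (le_of_eq ?_)
    rfl
  have hA : ∑ g : G, (f g).descFactorial 2 * (f g).descFactorial 2 = S + 6 * Nat.card G := by
    have h := fun g : G => d4 (f g)
    have hsum : ((∑ g : G, (f g).descFactorial 2 * (f g).descFactorial 2 : ℕ) : ℂ) =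
        ((S + 6 * Nat.card G : ℕ) : ℂ) := by
      rw [Nat.cast_sum, Finset.sum_congr rfl fun g _ => h g, Finset.sum_add_distrib,
        Finset.sum_add_distrib, ← Finset.mul_sum, ← Finset.mul_sum, F 2 (by omega), F 3 le_rfl,
        ← Nat.cast_sum, hS]
      push_cast
      ring
    exact_mod_cast hsum
  have hB : ∑ g : G, c g * c g ≤ S + 2 * Nat.card G := by
    have h1 : ∑ g : G, c g = Nat.card G := by exact_mod_cast mc
    calc ∑ g : G, c g * c g
        ≤ ∑ g : G, (2 * c g + Nat.card {e : Fin 4 ↪ Ω // g • e = swapBoth e}) :=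
          Finset.sum_le_sum fun g _ => swapped_sq_le g
      _ ≤ _ := by rw [Finset.sum_add_distrib, ← Finset.mul_sum, h1]; omega
  have hXX : (Nat.card G : ℝ) * (4 * (Cfsg.classInner X X).re) ≤
      ((∑ g : G, ((f g).descFactorial 2 * (f g).descFactorial 2 + c g * c g) : ℕ) : ℝ) := by
    rw [classInner_self, Complex.ofReal_re, Nat.cast_sum]
    have hG' : (Nat.card G : ℝ) ≠ 0 := Nat.cast_ne_zero.2 Nat.card_pos.ne'
    rw [show (Nat.card G : ℝ) * (4 * ((Nat.card G : ℝ)⁻¹ * ∑ g : G, ‖X g‖ ^ 2)) =
      ∑ g : G, 4 * ‖X g‖ ^ 2 by rw [← Finset.mul_sum]; field_simp]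
    refine Finset.sum_le_sum fun g _ => ?_
    have hXg : X g = (((((f g).descFactorial 2 : ℕ) : ℝ) - (c g : ℝ)) / 2 : ℝ) := by
      simp only [X]
      push_cast [Nat.cast_descFactorial_two]
      ring
    rw [hXg, Complex.norm_real, Real.norm_eq_abs, sq_abs, Nat.cast_add, Nat.cast_mul,
      Nat.cast_mul]
    nlinarith [mul_nonneg (Nat.cast_nonneg (α := ℝ) ((f g).descFactorial 2))
      (Nat.cast_nonneg (α := ℝ) (c g))]
  have hfin : ((Nat.card G * (4 * (m + 1)) : ℕ) : ℝ) ≤
      ((2 * S + 8 * Nat.card G : ℕ) : ℝ) := by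
    refine le_trans ?_ (le_trans hXX (Nat.cast_le.2 ?_))
    · push_cast at hbessel ⊢
      have := Nat.cast_nonneg (α := ℝ) (Nat.card G)
      nlinarith
    · rw [Finset.sum_add_distrib, hA]; omega
  have hfin' : Nat.card G * (4 * (m + 1)) ≤ 2 * S + 8 * Nat.card G := Nat.cast_le.1 hfin
  show (p - 3) * Nat.card G ≤ S
  obtain ⟨k, rfl⟩ : ∃ k, m = k + 1 := ⟨m - 1, by omega⟩
  rw [show p - 3 = 2 * k by omega]
  nlinarith

/-- Sharp triple transitivity. -/
theorem sharply_three [DecidableEq Ω] (hp5 : 5 ≤ p) (hα : Fintype.card Ω = p)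
    [h3 : IsMultiplyPretransitive G Ω 3] (P : Subgroup G) (hP : Nat.card P = p)
    (hN : Nat.card (Subgroup.normalizer (P : Set G)) = 2 * p) (x : Fin 3 ↪ Ω) :
    stabilizer G x = ⊥ := by
  classical
  let r : (Fin 4 ↪ Ω) → (Fin 3 ↪ Ω) := fun e => (Fin.castLEEmb (by omega)).trans e
  haveI : IsPretransitive G (Fin 3 ↪ Ω) := h3
  have hK : ∀ t : Fin 3 ↪ Ω, Nat.card (stabilizer G t) = Nat.card (stabilizer G x) := fun t =>
    Nat.eq_of_mul_eq_mul_left (Nat.pos_of_ne_zero
      (Subgroup.index_ne_zero_of_finite (H := stabilizer G x))) (by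
        rw [Subgroup.index_mul_card, index_stabilizer_of_transitive G x,
          ← index_stabilizer_of_transitive G t, Subgroup.index_mul_card])
  have hle : ∀ e : Fin 4 ↪ Ω, stabilizer G e ≤ stabilizer G (r e) := fun e g hg => by
    rw [mem_stabilizer_iff] at hg ⊢
    refine Function.Embedding.ext fun i => ?_
    exact congrFun (congrArg DFunLike.coe hg) _
  have hcle : ∀ e ∈ (univ : Finset (Fin 4 ↪ Ω)),
      Nat.card (stabilizer G e) ≤ Nat.card (stabilizer G x) := fun e _ => by
    rw [← hK (r e)]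
    exact Nat.le_of_dvd Nat.card_pos (Subgroup.card_dvd_of_le (hle e))
  have h4 := four_points_ge hp5 hα P hP hN
  change (p - 3) * Nat.card G ≤ ∑ g : G, Nat.card {e : Fin 4 ↪ Ω // g • e = id e} at h4
  rw [sum_card_comm] at h4
  have hsum : ∑ e : Fin 4 ↪ Ω, Nat.card (stabilizer G x) = (p - 3) * Nat.card G := by
    rw [Finset.sum_const, Finset.card_univ, Fintype.card_embedding_eq, hα, Fintype.card_fin,
      smul_eq_mul, ← Subgroup.index_mul_card (stabilizer G x),
      index_stabilizer_of_transitive G x, Nat.card_eq_fintype_card (α := Fin 3 ↪ Ω),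
      Fintype.card_embedding_eq, hα, Fintype.card_fin, Nat.descFactorial_succ, mul_assoc]
  have heq : ∑ e : Fin 4 ↪ Ω, Nat.card (stabilizer G e) =
      ∑ e : Fin 4 ↪ Ω, Nat.card (stabilizer G x) :=
    le_antisymm (Finset.sum_le_sum hcle) (hsum ▸ h4)
  rw [eq_bot_iff]
  intro g hg
  rw [Subgroup.mem_bot]
  refine eq_of_smul_eq_smul (α := Ω) fun d => ?_
  rw [one_smul]
  have hgx : ∀ i, g • x i = x i := fun i => congrFun (congrArg DFunLike.coe hg) i
  by_cases hd : ∃ i, x i = d
  · obtain ⟨i, rfl⟩ := hd; exact hgx i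
  push Not at hd
  let e : Fin 4 ↪ Ω := ⟨![x 0, x 1, x 2, d], injective_vec_four
    (x.injective.ne (by decide)) (x.injective.ne (by decide)) (hd 0)
    (x.injective.ne (by decide)) (hd 1) (hd 2)⟩
  have hre : r e = x := Function.Embedding.ext fun i => by fin_cases i <;> rfl
  have hst : stabilizer G e = stabilizer G x :=
    Subgroup.eq_of_le_of_card_ge (hre ▸ hle e)
      ((Finset.sum_eq_sum_iff_of_le hcle).1 heq e (mem_univ e)).ge
  have := congrFun (congrArg DFunLike.coe (mem_stabilizer_iff.1 (hst.symm ▸ hg :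
    g ∈ stabilizer G e))) 3
  exact this

end CfsgLib.PrimeTwoP
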