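/-
Müller's lemma on invariant difference sets of permutations of `ℤ/p`, and Burnside's theorem on
transitive groups of prime degree.
-/
import Mathlib.Algebra.Polynomial.Taylor
import Mathlib.Algebra.Polynomial.Roots
import Mathlib.LinearAlgebra.Lagrange
import Mathlib.GroupTheory.GroupAction.MultipleTransitivity
import Mathlib.GroupTheory.Solvable
import Mathlib.GroupTheory.Perm.Cycle.Type
import Mathlib.Algebra.Field.ZMod
import Mathlib.Tactic.LinearCombination
import Mathlib.Tactic.Ring
import Mathlib.FieldTheory.Finite.Basic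

set_option autoImplicit false

namespace CfsgLib.Muller

open Polynomial Finset

variable {p : ℕ} [Fact p.Prime]

/-- If the power sums of a set of nonzero elements vanish up to its size, the set is empty. -/
theorem eq_empty_of_powerSums {F : Type*} [Field F] [DecidableEq F] (U : Finset F) (h0 : (0 : F) ∉ U)
    (h : ∀ j, 1 ≤ j → j ≤ U.card → ∑ u ∈ U, u ^ j = 0) : U = ∅ := by
  by_contra hne
  obtain ⟨u₀, hu₀⟩ := Finset.nonempty_iff_ne_empty.mpr hne
  let P : F[X] := ∏ v ∈ U.erase u₀, (X - C v)
  have hdeg : P.natDegree + 1 = U.card := by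
    rw [natDegree_finsetProd_X_sub_C_eq_card, Finset.card_erase_add_one hu₀]
  have hz : ∑ u ∈ U, u * P.eval u = 0 := by
    simp_rw [eval_eq_sum_range, Finset.mul_sum]
    rw [Finset.sum_comm]
    refine Finset.sum_eq_zero fun i hi => ?_
    rw [Finset.mem_range] at hi
    calc ∑ u ∈ U, u * (P.coeff i * u ^ i) = P.coeff i * ∑ u ∈ U, u ^ (i + 1) := by
          rw [Finset.mul_sum]; exact Finset.sum_congr rfl fun u _ => by ring
      _ = 0 := by rw [h (i + 1) (by omega) (by omega), mul_zero]
  rw [Finset.sum_eq_single_of_mem u₀ hu₀ (fun v hv hne' => by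
    rw [eval_prod, Finset.prod_eq_zero (Finset.mem_erase.mpr ⟨hne', hv⟩) (by simp), mul_zero])] at hz
  rcases mul_eq_zero.mp hz with h' | h'
  · exact h0 (h' ▸ hu₀)
  · rw [eval_prod, Finset.prod_eq_zero_iff] at h'
    obtain ⟨v, hv, hv'⟩ := h'
    rw [eval_sub, eval_X, eval_C, sub_eq_zero] at hv'
    exact (Finset.mem_erase.mp hv).1 hv'.symm

theorem coeff_taylor_sum (U : Finset (ZMod p)) (g : (ZMod p)[X]) (D m : ℕ) (hD : g.natDegree ≤ D) :
    (∑ u ∈ U, taylor u g).coeff m =
      ∑ l ∈ range (D + 1), (l.choose m : ZMod p) * g.coeff l * ∑ u ∈ U, u ^ (l - m) := by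
  rw [finsetSum_coeff]
  have hs : hasseDeriv m g =
      ∑ l ∈ range (D + 1), monomial (l - m) ((l.choose m : ZMod p) * g.coeff l) := by
    rw [hasseDeriv_apply]
    exact Polynomial.sum_over_range' g (fun l => by simp) (D + 1) (by omega)
  simp only [taylor_coeff, hs, eval_finsetSum, eval_monomial]
  rw [Finset.sum_comm]
  refine Finset.sum_congr rfl fun l _ => ?_
  rw [Finset.mul_sum]

theorem choose_ne_zero {a b : ℕ} (hb : b ≤ a) (ha : a < p) : (a.choose b : ZMod p) ≠ 0 := by
  rw [Ne, ZMod.natCast_eq_zero_iff]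
  intro hdvd
  have : p ∣ a.factorial := by
    rw [← Nat.choose_mul_factorial_mul_factorial hb]
    exact (hdvd.mul_right _).mul_right _
  have := (Fact.out : p.Prime).dvd_factorial.mp this
  omega

/-- Müller's lemma. -/
theorem natDegree_le_one (U : Finset (ZMod p)) (hne : U.Nonempty) (h0 : (0 : ZMod p) ∉ U)
    (hU : 2 * U.card < p) (f : (ZMod p)[X]) (hf : f.natDegree < p)
    (h : ∀ (k : ℕ) (i : ZMod p), ∑ u ∈ U, (f.eval (i + u) - f.eval i) ^ k = ∑ u ∈ U, u ^ k) :
    f.natDegree ≤ 1 := by
  by_contra hn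
  push Not at hn
  refine hne.ne_empty (eq_empty_of_powerSums U h0 fun J => ?_)
  induction J using Nat.strong_induction_on with
  | _ J ih =>
    intro hJ1 hJU
    let n := f.natDegree
    let k := (J + n - 1) / n
    have hk1 : n * k ≤ J + n - 1 := Nat.mul_div_le _ _
    have hk2 : J + n - 1 < n * (k + 1) := Nat.lt_mul_div_succ _ (by omega)
    have hkJ : J ≤ n * k := by rw [Nat.mul_succ] at hk2; omega
    have hkp : n * k < p := by
      by_cases hnJ : J ≤ n
      · have : k < 2 := (Nat.div_lt_iff_lt_mul (by omega)).mpr (by omega)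
        calc n * k ≤ n * 1 := Nat.mul_le_mul_left _ (by omega)
          _ < p := by omega
      · omega
    have hk0 : 1 ≤ k := by
      rcases Nat.eq_zero_or_pos k with hk | hk
      · rw [hk, Nat.mul_zero] at hkJ; omega
      · exact hk
    have hdeg : ∀ i, (f ^ i).natDegree ≤ n * i := fun i =>
      natDegree_pow_le.trans (le_of_eq (Nat.mul_comm _ _))
    have hsmall : ∀ d, 1 ≤ d → d < J → ∑ u ∈ U, u ^ d = 0 := fun d hd hdJ => ih d hdJ hd (by omega)
    have hterm : ∀ (g : (ZMod p)[X]) (m l : ℕ), l ≠ m → l - m < J →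
        (l.choose m : ZMod p) * g.coeff l * ∑ u ∈ U, u ^ (l - m) = 0 := by
      intro g m l hlm hlJ
      rcases Nat.lt_or_ge l m with hlt | hge
      · rw [Nat.choose_eq_zero_of_lt hlt, Nat.cast_zero, zero_mul, zero_mul]
      · rw [hsmall _ (by omega) hlJ, mul_zero]
    -- low powers are constant
    have hlow : ∀ i, i < k → ∑ u ∈ U, taylor u (f ^ i) = C (U.card : ZMod p) * f ^ i := by
      intro i hi
      have hiJ : n * i < J := by
        have : n * (i + 1) ≤ n * k := Nat.mul_le_mul_left _ hi
        rw [Nat.mul_succ] at this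
        omega
      ext m
      rw [coeff_taylor_sum U _ (n * i) m (hdeg i), coeff_C_mul]
      rw [Finset.sum_eq_single m]
      · simp only [Nat.choose_self, Nat.cast_one, one_mul, Nat.sub_self, pow_zero, Finset.sum_const,
          nsmul_one]
        ring
      · intro l hl hlm
        rw [Finset.mem_range] at hl
        exact hterm _ m l hlm (by omega)
      · intro hm
        rw [Finset.mem_range] at hm
        rw [coeff_eq_zero_of_natDegree_lt (by have := hdeg i; omega), mul_zero, zero_mul]
    let T := ∑ u ∈ U, taylor u (f ^ k) - C (U.card : ZMod p) * f ^ k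
    have hQ : ∑ u ∈ U, (taylor u f - f) ^ k = T := by
      simp_rw [sub_pow]
      rw [Finset.sum_comm, Finset.sum_range_succ]
      have e1 : ∀ m ∈ Finset.range k,
          (∑ u ∈ U, (-1) ^ (m + k) * taylor u f ^ m * f ^ (k - m) * (k.choose m : (ZMod p)[X])) =
            C (U.card : ZMod p) *
              ((-1) ^ (m + k) * f ^ m * f ^ (k - m) * (k.choose m : (ZMod p)[X])) := by
        intro m hm
        rw [← Finset.sum_mul, ← Finset.sum_mul, ← Finset.mul_sum]
        simp_rw [← taylor_pow]
        rw [hlow m (Finset.mem_range.mp hm)]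
        ring
      rw [Finset.sum_congr rfl e1, ← Finset.mul_sum]
      have e2 := sub_pow f f k
      rw [sub_self, zero_pow (by omega), Finset.sum_range_succ] at e2
      have e3 : (-1 : (ZMod p)[X]) ^ (k + k) = 1 := Even.neg_one_pow ⟨k, rfl⟩
      simp only [Nat.choose_self, Nat.cast_one, mul_one, Nat.sub_self, pow_zero, e3, one_mul] at e2 ⊢
      rw [show ∑ m ∈ Finset.range k, (-1) ^ (m + k) * f ^ m * f ^ (k - m) *
        (k.choose m : (ZMod p)[X]) = - f ^ k by
          exact eq_neg_of_add_eq_zero_left e2.symm]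
      simp only [← taylor_pow, T]
      ring
    have hTdeg : T.natDegree ≤ n * k := by
      refine (natDegree_sub_le _ _).trans (max_le ?_ ?_)
      · exact natDegree_sum_le_of_forall_le _ _ fun u _ => by rw [natDegree_taylor]; exact hdeg k
      · exact (natDegree_C_mul_le _ _).trans (hdeg k)
    have hT : T = C (∑ u ∈ U, u ^ k) := by
      rw [← sub_eq_zero]
      refine eq_zero_of_natDegree_lt_card_of_eval_eq_zero _ (Function.injective_id (α := ZMod p))
        (fun i => ?_) ?_
      · rw [eval_sub, eval_C, ← hQ, eval_finsetSum, sub_eq_zero]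
        rw [← h k i]
        refine Finset.sum_congr rfl fun u _ => ?_
        simp [taylor_apply]
      · rw [ZMod.card]
        refine lt_of_le_of_lt ((natDegree_sub_le _ _).trans (max_le hTdeg ?_)) hkp
        rw [natDegree_C]; omega
    have hcoeff := congrArg (fun P => P.coeff (n * k - J)) hT
    simp only [T, coeff_sub, coeff_C_mul] at hcoeff
    rw [coeff_taylor_sum U _ (n * k) _ (hdeg k)] at hcoeff
    rw [Finset.sum_eq_add (n * k - J) (n * k) (by omega) (fun l hl hl' => hterm _ _ l hl'.1 (by
        rw [Finset.mem_range] at hl; omega))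
      (fun hh => absurd (Finset.mem_range.mpr (by omega)) hh)
      (fun hh => absurd (Finset.mem_range.mpr (by omega)) hh)] at hcoeff
    have hlead : (f ^ k).coeff (n * k) = f.leadingCoeff ^ k := by
      rw [Nat.mul_comm, coeff_pow_mul_natDegree]
    rw [Nat.choose_self, Nat.cast_one, one_mul, Nat.sub_self, hlead,
      show n * k - (n * k - J) = J by omega] at hcoeff
    simp only [pow_zero, Finset.sum_const, nsmul_one] at hcoeff
    have hrhs : (C (∑ u ∈ U, u ^ k)).coeff (n * k - J) = 0 := by
      rw [coeff_C]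
      split_ifs with h'
      · refine hsmall k hk0 ?_
        have : 2 * k ≤ n * k := Nat.mul_le_mul_right _ hn
        omega
      · rfl
    rw [hrhs] at hcoeff
    have hne0 : ((n * k).choose (n * k - J) : ZMod p) * f.leadingCoeff ^ k ≠ 0 := by
      refine mul_ne_zero (choose_ne_zero (Nat.sub_le _ _) hkp) (pow_ne_zero _ ?_)
      rw [leadingCoeff_ne_zero]
      rintro rfl
      simp at hn
    have : ((n * k).choose (n * k - J) : ZMod p) * f.leadingCoeff ^ k * ∑ u ∈ U, u ^ J = 0 := by
      linear_combination hcoeff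
    exact (mul_eq_zero.mp this).resolve_left hne0

/-- A group of permutations of `ℤ/p` preserving a non-trivial translation invariant relation is
affine. -/
theorem affine_of_invariant (U : Finset (ZMod p)) (hne : U.Nonempty) (h0 : (0 : ZMod p) ∉ U)
    (hU : 2 * U.card < p) (φ : ZMod p → ZMod p) (hφ : Function.Bijective φ)
    (h : ∀ i j, j - i ∈ U ↔ φ j - φ i ∈ U) : ∃ a b : ZMod p, ∀ x, φ x = a * x + b := by
  classical
  let f := Lagrange.interpolate (Finset.univ : Finset (ZMod p)) id φ
  have hev : ∀ x, f.eval x = φ x := fun x =>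
    Lagrange.eval_interpolate_at_node φ (Set.injOn_id _) (Finset.mem_univ x)
  have hdeg : f.natDegree < p := by
    rcases eq_or_ne f 0 with h' | h'
    · rw [h', natDegree_zero]; exact (Fact.out : p.Prime).pos
    · rw [natDegree_lt_iff_degree_lt h']
      have := Lagrange.degree_interpolate_lt φ (s := (Finset.univ : Finset (ZMod p))) (Set.injOn_id _)
      rwa [Finset.card_univ, ZMod.card] at this
  have hle : f.natDegree ≤ 1 := by
    refine natDegree_le_one U hne h0 hU f hdeg fun k i => ?_
    simp only [hev]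
    refine Finset.sum_bij (fun u _ => φ (i + u) - φ i) (fun u hu => ?_) (fun u _ v _ e => ?_)
      (fun v hv => ?_) (fun u _ => rfl)
    · exact (h i (i + u)).mp (by simpa using hu)
    · exact add_left_cancel (hφ.1 (sub_left_injective e))
    · obtain ⟨j, hj⟩ := hφ.2 (φ i + v)
      refine ⟨j - i, (h i j).mpr (by simpa [hj] using hv), ?_⟩
      simp [hj]
  obtain ⟨a, b, hab⟩ := exists_eq_X_add_C_of_natDegree_le_one hle
  exact ⟨a, b, fun x => by rw [← hev x, hab]; simp⟩

open MulAction in
/-- Burnside: a transitive group of prime degree is solvable or doubly transitive. -/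
theorem solvable_or_two_transitive {G α : Type*} [Group G] [Finite G] [MulAction G α]
    [FaithfulSMul G α] [IsPretransitive G α] (hcard : Nat.card α = p) :
    Group.IsSolvable G ∨ IsMultiplyPretransitive G α 2 := by
  classical
  by_cases h2 : IsMultiplyPretransitive G α 2
  · exact Or.inr h2
  refine Or.inl ?_
  haveI : Finite α := Nat.finite_of_card_ne_zero (by rw [hcard]; exact (Fact.out : p.Prime).ne_zero)
  obtain ⟨a⟩ : Nonempty α := Nat.card_pos_iff.mp (hcard ▸ (Fact.out : p.Prime).pos) |>.1
  have hpG : p ∣ Nat.card G := by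
    rw [← hcard, ← index_stabilizer_of_transitive G a]; exact Subgroup.index_dvd_card _
  obtain ⟨g, hg⟩ := exists_prime_orderOf_dvd_card' p hpG
  have hg1 : g ≠ 1 := fun e => by rw [e, orderOf_one] at hg; exact (Fact.out : p.Prime).one_lt.ne hg
  obtain ⟨a, ha⟩ : ∃ a : α, g • a ≠ a := by
    by_contra hall
    push Not at hall
    exact hg1 (eq_of_smul_eq_smul (α := α) fun x => by rw [hall, one_smul])
  let e : ZMod p → α := fun i => g ^ i.val • a
  have hadd : ∀ i j : ZMod p, g ^ i.val • e j = e (j + i) := by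
    intro i j
    show g ^ i.val • g ^ j.val • a = g ^ (j + i).val • a
    rw [smul_smul, ← pow_add, ZMod.val_add, ← pow_mod_orderOf g (i.val + j.val), hg, Nat.add_comm]
  have hinj : Function.Injective e := by
    intro i j hij
    by_contra hne
    have h1 : e (i - j) = e 0 := by
      have h' : e (i - j + j) = e (0 + j) := by rw [sub_add_cancel, zero_add]; exact hij
      rw [← hadd, ← hadd] at h'
      exact smul_left_cancel _ h'
    have hmem : g ^ (i - j).val ∈ stabilizer G a := by
      rw [mem_stabilizer_iff]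
      exact h1.trans (by simp [e])
    have hcop : Nat.Coprime (i - j).val p := by
      refine Nat.Coprime.symm ((Fact.out : p.Prime).coprime_iff_not_dvd.mpr fun hd => ?_)
      exact hne (sub_eq_zero.mp ((ZMod.val_eq_zero _).mp (Nat.eq_zero_of_dvd_of_lt hd (ZMod.val_lt _))))
    obtain ⟨m, hm⟩ := exists_pow_eq_self_of_coprime (x := g) (n := (i - j).val) (hg.symm ▸ hcop)
    exact ha (mem_stabilizer_iff.mp (hm ▸ Subgroup.pow_mem _ hmem m))
  have hbij : Function.Bijective e :=
    hinj.bijective_of_nat_card_le (by rw [hcard, Nat.card_zmod])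
  let E := Equiv.ofBijective e hbij
  let φ : G → ZMod p → ZMod p := fun h i => E.symm (h • e i)
  have hφ : ∀ h i, e (φ h i) = h • e i := fun h i => E.apply_symm_apply _
  have hφb : ∀ h, Function.Bijective (φ h) := fun h =>
    E.symm.bijective.comp ((MulAction.bijective h).comp hbij)
  -- a point pair whose orbit is not everything
  obtain ⟨x, y, z, w, hxy, hzw, hno⟩ : ∃ x y z w : α, x ≠ y ∧ z ≠ w ∧
      ∀ g : G, g • x = z → g • y ≠ w := by
    by_contra hall
    push Not at hall
    exact h2 (is_two_pretransitive_iff.mpr fun {x y z w} hxy hzw => hall x y z w hxy hzw)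
  obtain ⟨k₁, hk₁⟩ := exists_smul_eq G z a
  let V : Finset (ZMod p) := Finset.univ.filter fun i => ∃ h : G, h • x = a ∧ h • y = e i
  have hV : ∀ (h : G) (i j : ZMod p), j - i ∈ V ↔ φ h j - φ h i ∈ V := by
    have key : ∀ i j : ZMod p, j - i ∈ V ↔ ∃ h : G, h • x = e i ∧ h • y = e j := by
      intro i j
      have hi : g ^ i.val • a = e i := rfl
      simp only [V, Finset.mem_filter, Finset.mem_univ, true_and]
      constructor
      · rintro ⟨h, h1, h2'⟩
        exact ⟨g ^ i.val * h, by rw [mul_smul, h1],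
          by rw [mul_smul, h2', hadd, sub_add_cancel]⟩
      · rintro ⟨h, h1, h2'⟩
        refine ⟨(g ^ i.val)⁻¹ * h, by rw [mul_smul, h1, inv_smul_eq_iff, hi], ?_⟩
        rw [mul_smul, h2', inv_smul_eq_iff, hadd, sub_add_cancel]
    intro h i j
    rw [key, key]
    constructor
    · rintro ⟨k, h1, h2'⟩
      exact ⟨h * k, by rw [mul_smul, h1, hφ], by rw [mul_smul, h2', hφ]⟩
    · rintro ⟨k, h1, h2'⟩
      exact ⟨h⁻¹ * k, by rw [mul_smul, h1, hφ, inv_smul_smul], by rw [mul_smul, h2', hφ, inv_smul_smul]⟩
  have he0 : e 0 = a := by simp [e]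
  have hV0 : (0 : ZMod p) ∉ V := by
    simp only [V, Finset.mem_filter, Finset.mem_univ, true_and, not_exists, not_and]
    intro h h1 h2'
    exact hxy (smul_left_cancel h (h1.trans (he0 ▸ h2'.symm)))
  obtain ⟨j₀, hj₀⟩ := hbij.2 (k₁ • w)
  have hj₀0 : j₀ ≠ 0 := by
    intro e'
    rw [e', he0] at hj₀
    exact hzw (smul_left_cancel k₁ (hk₁.trans hj₀))
  have hj₀V : j₀ ∉ V := by
    simp only [V, Finset.mem_filter, Finset.mem_univ, true_and, not_exists, not_and]
    intro h h1 h2'
    refine hno (k₁⁻¹ * h) ?_ ?_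
    · rw [mul_smul, h1, inv_smul_eq_iff, hk₁]
    · rw [mul_smul, h2', hj₀, inv_smul_smul]
  have hVne : V.Nonempty := by
    obtain ⟨k, hk⟩ := exists_smul_eq G x a
    obtain ⟨i, hi⟩ := hbij.2 (k • y)
    exact ⟨i, Finset.mem_filter.mpr ⟨Finset.mem_univ _, k, hk, hi.symm⟩⟩
  obtain ⟨U, hUne, hU0, hUc, hUinv⟩ : ∃ U : Finset (ZMod p), U.Nonempty ∧ (0 : ZMod p) ∉ U ∧
      2 * U.card < p ∧ ∀ (h : G) (i j : ZMod p), j - i ∈ U ↔ φ h j - φ h i ∈ U := by
    by_cases hVc : 2 * V.card < p
    · exact ⟨V, hVne, hV0, hVc, hV⟩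
    refine ⟨Finset.univ \ insert 0 V, ⟨j₀, by simp [hj₀0, hj₀V]⟩, by simp, ?_, fun h i j => ?_⟩
    · rw [Finset.card_univ_diff, Finset.card_insert_of_notMem hV0, ZMod.card]
      have : (insert 0 V).card ≤ p := (Finset.card_le_univ _).trans_eq (ZMod.card p)
      rw [Finset.card_insert_of_notMem hV0] at this
      omega
    · simp only [Finset.mem_sdiff, Finset.mem_univ, true_and, Finset.mem_insert, not_or, ← hV h,
        sub_eq_zero, (hφb h).1.eq_iff]
  have haff : ∀ h : G, ∃ a b : ZMod p, ∀ i, φ h i = a * i + b := fun h =>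
    affine_of_invariant U hUne hU0 hUc (φ h) (hφb h) (hUinv h)
  have hcomp : ∀ (h k : G) (i : ZMod p), φ (h * k) i = φ h (φ k i) := by
    intro h k i
    apply hbij.1
    rw [hφ, hφ, hφ, mul_smul]
  let σ : G →* ZMod p :=
    { toFun := fun h => φ h 1 - φ h 0
      map_one' := by
        have : ∀ i, φ 1 i = i := fun i => hbij.1 (by rw [hφ, one_smul])
        rw [this, this, sub_zero]
      map_mul' := fun h k => by
        obtain ⟨a₁, b₁, h1⟩ := haff h
        obtain ⟨a₂, b₂, h2'⟩ := haff k
        simp only [hcomp, h1, h2']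
        ring }
  have hker : ∀ h ∈ σ.toHomUnits.ker, ∀ i, φ h i = i + φ h 0 := by
    intro h hh i
    obtain ⟨a₁, b₁, h1⟩ := haff h
    have : φ h 1 - φ h 0 = 1 := congrArg Units.val (MonoidHom.mem_ker.mp hh)
    simp only [h1] at this ⊢
    have ha1 : a₁ = 1 := by linear_combination this
    rw [ha1]; ring
  haveI : Group.IsSolvable σ.toHomUnits.ker := by
    letI : CommGroup σ.toHomUnits.ker :=
      { (inferInstance : Group σ.toHomUnits.ker) with
        mul_comm := fun h k => by
          apply Subtype.ext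
          apply eq_of_smul_eq_smul (α := α)
          intro u
          obtain ⟨i, rfl⟩ := hbij.2 u
          show ((h : G) * k) • e i = ((k : G) * h) • e i
          rw [← hφ, ← hφ, hcomp, hcomp, hker _ k.2 i, hker _ h.2 i, hker _ h.2 (i + _),
            hker _ k.2 (i + _)]
          ring_nf }
    infer_instance
  exact Group.isSolvable_of_ker_le_range σ.toHomUnits.ker.subtype σ.toHomUnits
    (by rw [Subgroup.range_subtype])

end CfsgLib.Muller
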