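/-
Transitive groups of prime degree: invariant spaces of functions, subgroups of prime index.
-/
import Mathlib.GroupTheory.PGroup
import Mathlib.GroupTheory.Sylow
import Mathlib.GroupTheory.Nilpotent
import Cfsg.Agent.Perm.Muller
import Cfsg.Agent.Perm.Basic

set_option autoImplicit false

namespace CfsgLib.PrimeDegree

open Polynomial Finset

section Polynomials

variable {p : ℕ} [Fact p.Prime] {K : Type*} [Field K] [CharP K p]

local notation "ι" => ZMod.castHom (dvd_refl p) K

/-- The polynomial of degree `< p` of a function on `ℤ/p`. -/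
noncomputable def rep (v : ZMod p → K) : K[X] :=
  Lagrange.interpolate (Finset.univ : Finset (ZMod p)) ι v

theorem rep_eval (v : ZMod p → K) (i : ZMod p) : (rep v).eval (ι i) = v i :=
  Lagrange.eval_interpolate_at_node v (RingHom.injective _).injOn (Finset.mem_univ i)

theorem natDegree_rep_lt (v : ZMod p → K) : (rep v).natDegree < p := by
  rcases eq_or_ne (rep v) 0 with h | h
  · rw [h, natDegree_zero]; exact (Fact.out : p.Prime).pos
  · rw [natDegree_lt_iff_degree_lt h]
    have := Lagrange.degree_interpolate_lt v (s := (Finset.univ : Finset (ZMod p)))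
      (v := ι) (RingHom.injective _).injOn
    rwa [Finset.card_univ, ZMod.card] at this

theorem rep_eq {P : K[X]} (hP : P.natDegree < p) :
    rep (fun i => P.eval (ι i)) = P := by
  refine (Lagrange.eq_interpolate_of_eval_eq _ (RingHom.injective _).injOn ?_ fun i _ => rfl).symm
  rw [Finset.card_univ, ZMod.card]
  exact degree_le_natDegree.trans_lt (by exact_mod_cast hP)

theorem sum_eval {P : K[X]} (hP : P.natDegree < p) :
    ∑ i : ZMod p, P.eval (ι i) = - P.coeff (p - 1) := by
  have hp := (Fact.out : p.Prime).two_le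
  simp_rw [eval_eq_sum_range' hP, ← map_pow]
  rw [Finset.sum_comm, Finset.sum_eq_single (p - 1)]
  · rw [← Finset.mul_sum, ← map_sum]
    have h : ∑ i : ZMod p, i ^ (p - 1) = -1 := by
      have h1 : ∀ i : ZMod p, i ^ (p - 1) = 1 - if i = 0 then 1 else 0 := by
        intro i
        split_ifs with h
        · rw [h, zero_pow (by omega), sub_self]
        · rw [ZMod.pow_card_sub_one_eq_one h, sub_zero]
      simp only [h1, Finset.sum_sub_distrib, Finset.sum_const, Finset.card_univ, ZMod.card,
        nsmul_one, Finset.sum_ite_eq', Finset.mem_univ, if_true]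
      simp
    rw [h, map_neg, map_one, mul_neg_one]
  · intro j hj hne
    rw [Finset.mem_range] at hj
    rw [← Finset.mul_sum, ← map_sum,
      FiniteField.sum_pow_lt_card_sub_one (K := ZMod p) j (by rw [ZMod.card]; omega), map_zero, mul_zero]
  · intro h
    exact absurd (Finset.mem_range.mpr (by omega)) h

/-- If composition with `φ` keeps the degree of the small powers small, `φ` is affine. -/
theorem affine_of_bound (d : ℕ) (hd : 1 ≤ d) (h2d : 2 * d < p) (φ : ZMod p → ZMod p)
    (h : ∀ j ≤ d, (rep (K := K) fun i => ι (φ i) ^ j).natDegree ≤ d) :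
    ∃ a b : ZMod p, ∀ x, φ x = a * x + b := by
  classical
  let f := Lagrange.interpolate (Finset.univ : Finset (ZMod p)) id φ
  have hev : ∀ x, f.eval x = φ x := fun x =>
    Lagrange.eval_interpolate_at_node φ (Set.injOn_id _) (Finset.mem_univ x)
  have hdeg : f.natDegree < p := by
    rcases eq_or_ne f 0 with h' | h'
    · rw [h', natDegree_zero]; exact (Fact.out : p.Prime).pos
    · rw [natDegree_lt_iff_degree_lt h']
      have := Lagrange.degree_interpolate_lt φ (s := (Finset.univ : Finset (ZMod p))) (Set.injOn_id _)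
      rwa [Finset.card_univ, ZMod.card] at this
  have hle : f.natDegree ≤ 1 := by
    by_contra hn
    push Not at hn
    let n := f.natDegree
    have hmap : (f.map ι).natDegree = n := natDegree_map _
    have hpow : ∀ j, n * j < p → (rep (K := K) fun i => ι (φ i) ^ j).natDegree = n * j := by
      intro j hj
      have e : (fun i => ι (φ i) ^ j) = fun i => ((f.map ι) ^ j).eval (ι i) := by
        funext i; rw [eval_pow, eval_map_apply, hev]
      have hnd : ((f.map ι) ^ j).natDegree = n * j := by rw [natDegree_pow, hmap, Nat.mul_comm]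
      rw [e, rep_eq (by omega), hnd]
    have hn1 : n ≤ d := by
      have := h 1 hd
      rw [hpow 1 (by omega)] at this
      omega
    let j := d / n + 1
    have hj1 : d < n * j := Nat.lt_mul_div_succ _ (by omega)
    have hj2 : n * j ≤ d + n := by
      have := Nat.mul_div_le d n
      rw [Nat.mul_succ]; omega
    have hj3 : j ≤ d := Nat.div_lt_self (by omega) (by omega)
    have := h j hj3
    rw [hpow j (by omega)] at this
    omega
  obtain ⟨a, b, hab⟩ := exists_eq_X_add_C_of_natDegree_le_one hle
  exact ⟨a, b, fun x => by rw [← hev x, hab]; simp⟩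

/-- A bijection preserving a non-trivial translation invariant space of functions is affine. -/
theorem affine_of_invariant_space (W : Submodule K (ZMod p → K))
    (htr : ∀ v ∈ W, (fun i => v (i + 1)) ∈ W) (hone : (fun _ => (1 : K)) ∈ W)
    (hsum : ∀ v ∈ W, ∑ i, v i = 0) (hne : ∃ v ∈ W, ∃ i j, v i ≠ v j)
    (hns : ∃ v : ZMod p → K, ∑ i, v i = 0 ∧ v ∉ W)
    (φ ψ : ZMod p → ZMod p) (hinv : ∀ i, ψ (φ i) = i) (hinv' : ∀ i, φ (ψ i) = i)
    (hφ : ∀ v ∈ W, (fun i => v (φ i)) ∈ W) (hψ : ∀ v ∈ W, (fun i => v (ψ i)) ∈ W) :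
    ∃ a b : ZMod p, ∀ x, φ x = a * x + b := by
  classical
  have hp := (Fact.out : p.Prime).two_le
  obtain ⟨v₀, hv₀, hmax⟩ : ∃ v ∈ W, ∀ w ∈ W, (rep w).natDegree ≤ (rep v).natDegree := by
    let P : ℕ → Prop := fun m => ∃ v ∈ W, (rep v).natDegree = m
    have h0 : P (rep (fun _ : ZMod p => (1 : K))).natDegree := ⟨_, hone, rfl⟩
    obtain ⟨v, hv, hm⟩ := Nat.findGreatest_spec (P := P) (natDegree_rep_lt _).le h0
    refine ⟨v, hv, fun w hw => ?_⟩
    rw [hm]
    exact Nat.le_findGreatest (natDegree_rep_lt w).le ⟨w, hw, rfl⟩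
  let d := (rep v₀).natDegree
  have hdp : d < p := natDegree_rep_lt _
  let Q : K[X] → Prop := fun P => P.natDegree < p ∧ (fun i => P.eval (ι i)) ∈ W
  have hQle : ∀ P, Q P → P.natDegree ≤ d := fun P hP => by
    have := hmax _ hP.2
    rwa [rep_eq hP.1] at this
  -- every smaller degree occurs
  have hexact : ∀ t m, m + t = d → ∃ P, Q P ∧ P.natDegree = m ∧ P ≠ 0 := by
    intro t
    induction t with
    | zero =>
      intro m hm
      by_cases hz : rep v₀ = 0
      · refine ⟨1, ⟨by rw [natDegree_one]; omega, by simpa using hone⟩, ?_, one_ne_zero⟩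
        have : d = 0 := by simp [d, hz]
        rw [natDegree_one]; omega
      · refine ⟨rep v₀, ⟨natDegree_rep_lt _, ?_⟩, by omega, hz⟩
        simp only [rep_eval]; exact hv₀
    | succ t ih =>
      intro m hm
      obtain ⟨P, ⟨hPp, hPW⟩, hPdeg, hP0⟩ := ih (m + 1) (by omega)
      have hco : ∀ j, m ≤ j → (taylor (1 : K) P).coeff j =
          P.coeff j + ((j + 1 : ℕ) : K) * P.coeff (j + 1) := by
        intro j hj
        have hd2 : (hasseDeriv j P).natDegree < 2 := by
          have := natDegree_hasseDeriv_le P j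
          omega
        rw [taylor_coeff, eval_eq_sum_range' hd2]
        simp [Finset.sum_range_succ, hasseDeriv_coeff, Nat.add_comm 1 j]
      have hdeg : (taylor (1 : K) P - P).natDegree ≤ m := by
        rw [natDegree_le_iff_coeff_eq_zero]
        intro j hj
        rw [coeff_sub, hco j hj.le, coeff_eq_zero_of_natDegree_lt (show P.natDegree < j + 1 by omega),
          mul_zero, add_zero, sub_self]
      have hlead : (taylor (1 : K) P - P).coeff m ≠ 0 := by
        rw [coeff_sub, hco m le_rfl, add_sub_cancel_left]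
        refine mul_ne_zero ?_ ?_
        · rw [Ne, CharP.cast_eq_zero_iff K p]
          exact fun h => absurd (Nat.le_of_dvd (by omega) h) (by omega)
        · rw [← hPdeg]; exact leadingCoeff_ne_zero.mpr hP0
      refine ⟨taylor (1 : K) P - P, ⟨by omega, ?_⟩, le_antisymm hdeg (le_natDegree_of_ne_zero hlead),
        fun h => hlead (by rw [h, coeff_zero])⟩
      have := W.sub_mem (htr _ hPW) hPW
      convert this using 1
      funext i
      simp [taylor_eval]
  -- everything of degree at most `d` is in `W`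
  have hall : ∀ m, m ≤ d → ∀ P : K[X], P.natDegree ≤ m → (fun i => P.eval (ι i)) ∈ W := by
    intro m
    induction m with
    | zero =>
      intro _ P hP
      obtain ⟨c, rfl⟩ := natDegree_eq_zero.mp (Nat.le_zero.mp hP)
      have := W.smul_mem c hone
      convert this using 1
      funext i
      simp
    | succ m ih =>
      intro hm P hP
      obtain ⟨P', ⟨-, hP'W⟩, hP'deg, hP'0⟩ := hexact (d - (m + 1)) (m + 1) (by omega)
      let c := P.coeff (m + 1) * (P'.coeff (m + 1))⁻¹
      have hl : P'.coeff (m + 1) ≠ 0 := by rw [← hP'deg]; exact leadingCoeff_ne_zero.mpr hP'0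
      have hdeg : (P - C c * P').natDegree ≤ m := by
        rw [natDegree_le_iff_coeff_eq_zero]
        intro j hj
        rw [coeff_sub, coeff_C_mul]
        rcases eq_or_ne j (m + 1) with rfl | hne'
        · simp only [c]; rw [inv_mul_cancel_right₀ hl, sub_self]
        · rw [coeff_eq_zero_of_natDegree_lt (show P.natDegree < j by omega),
            coeff_eq_zero_of_natDegree_lt (show P'.natDegree < j by omega), mul_zero, sub_zero]
      have := W.add_mem (ih (by omega) _ hdeg) (W.smul_mem c hP'W)
      convert this using 1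
      funext i
      simp
  have hd1 : 1 ≤ d := by
    by_contra hd
    obtain ⟨v, hv, i, j, hij⟩ := hne
    have : (rep v).natDegree ≤ 0 := (hmax v hv).trans (by omega)
    obtain ⟨c, hc⟩ := natDegree_eq_zero.mp (Nat.le_zero.mp this)
    rw [← rep_eval v i, ← rep_eval v j, ← hc] at hij
    simp at hij
  have hd3 : d + 3 ≤ p := by
    by_contra hd
    obtain ⟨v, hv, hvW⟩ := hns
    apply hvW
    have hdeg : (rep v).natDegree ≤ d := by
      by_cases hd' : d = p - 1
      · have := natDegree_rep_lt v; omega
      · have h0 : (rep v).coeff (p - 1) = 0 := by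
          have := sum_eval (natDegree_rep_lt v)
          simp only [rep_eval, hv] at this
          simpa using this.symm
        refine (natDegree_le_iff_coeff_eq_zero).mpr fun j hj => ?_
        rcases eq_or_ne j (p - 1) with rfl | hne'
        · exact h0
        · exact coeff_eq_zero_of_natDegree_lt (by have := natDegree_rep_lt v; omega)
    have := hall d le_rfl _ hdeg
    simpa only [rep_eval] using this
  by_cases h2d : 2 * d < p
  · refine affine_of_bound (K := K) d hd1 h2d φ fun j hj => ?_
    have h1 : (fun i : ZMod p => (X ^ j : K[X]).eval (ι i)) ∈ W :=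
      hall d le_rfl _ (by rw [natDegree_X_pow]; exact hj)
    have := hmax _ (hφ _ h1)
    simpa using this
  · refine affine_of_bound (K := K) (p - 2 - d) (by omega) (by omega) φ fun j hj => ?_
    let R := rep (K := K) fun i => ι (φ i) ^ j
    by_contra hr
    have hR0 : R ≠ 0 := fun h => hr (by show R.natDegree ≤ _; rw [h, natDegree_zero]; omega)
    have hrp : R.natDegree < p := natDegree_rep_lt _
    let k := p - 1 - R.natDegree
    have hkd : k ≤ d := by
      have : p - 2 - d < R.natDegree := Nat.lt_of_not_le hr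
      omega
    let w : ZMod p → K := fun i => ι (ψ i) ^ k
    have hw : w ∈ W := by
      have := hψ _ (hall d le_rfl (X ^ k) (by rw [natDegree_X_pow]; exact hkd))
      simpa [w] using this
    have hwdeg : (rep w).natDegree ≤ d := hmax w hw
    have hdeg1 : (R * X ^ k).natDegree < p := by
      rw [natDegree_mul_X_pow _ hR0]; omega
    have hdeg2 : (X ^ j * rep w).natDegree < p - 1 := by
      refine lt_of_le_of_lt natDegree_mul_le ?_
      rw [natDegree_X_pow]; omega
    have h1 : ∑ i : ZMod p, (R * X ^ k).eval (ι i) = ∑ i : ZMod p, (X ^ j * rep w).eval (ι i) := by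
      refine Fintype.sum_equiv ⟨φ, ψ, hinv, hinv'⟩ _ _ fun i => ?_
      simp only [eval_mul, eval_pow, eval_X, R, rep_eval, w, Equiv.coe_fn_mk, hinv]
    rw [sum_eval hdeg1, sum_eval (show (X ^ j * rep w).natDegree < p by omega),
      coeff_eq_zero_of_natDegree_lt (p := X ^ j * rep w) (n := p - 1) hdeg2, neg_zero,
      neg_eq_zero, show p - 1 = R.natDegree + k by omega, coeff_mul_X_pow] at h1
    exact leadingCoeff_ne_zero.mpr hR0 h1

end Polynomials

section Groups

open MulAction

variable {p : ℕ} [Fact p.Prime] {G α : Type*} [Group G] [MulAction G α] [FaithfulSMul G α]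

/-- An element of order `p` on `p` points gives a chart. -/
theorem exists_chart (hcard : Nat.card α = p) {g : G} (hg : orderOf g = p) :
    ∃ e : ZMod p ≃ α, ∀ (n : ℕ) (j : ZMod p), g ^ n • e j = e (j + n) := by
  classical
  haveI : Finite α := Nat.finite_of_card_ne_zero (by rw [hcard]; exact (Fact.out : p.Prime).ne_zero)
  have hg1 : g ≠ 1 := fun e => by
    rw [e, orderOf_one] at hg; exact (Fact.out : p.Prime).one_lt.ne hg
  obtain ⟨a, ha⟩ : ∃ a : α, g • a ≠ a := by
    by_contra hall
    push Not at hall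
    exact hg1 (eq_of_smul_eq_smul (α := α) fun x => by rw [hall, one_smul])
  let e : ZMod p → α := fun i => g ^ i.val • a
  have hadd : ∀ (n : ℕ) (j : ZMod p), g ^ n • e j = e (j + n) := by
    intro n j
    show g ^ n • g ^ j.val • a = g ^ (j + (n : ZMod p)).val • a
    rw [smul_smul, ← pow_add, ZMod.val_add, ZMod.val_natCast, Nat.add_mod_mod,
      ← pow_mod_orderOf g (n + j.val), hg, Nat.add_comm]
  have hinj : Function.Injective e := by
    intro i j hij
    by_contra hne
    have h1 : e (i - j) = e 0 := by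
      have h' : e (i - j + (j.val : ℕ)) = e (0 + (j.val : ℕ)) := by
        rw [ZMod.natCast_val, ZMod.cast_id, sub_add_cancel, zero_add]; exact hij
      rw [← hadd, ← hadd] at h'
      exact smul_left_cancel _ h'
    have hmem : g ^ (i - j).val ∈ stabilizer G a := by
      rw [mem_stabilizer_iff]
      exact h1.trans (by simp [e])
    have hcop : Nat.Coprime (i - j).val p := by
      refine Nat.Coprime.symm ((Fact.out : p.Prime).coprime_iff_not_dvd.mpr fun hd => ?_)
      exact hne (sub_eq_zero.mp ((ZMod.val_eq_zero _).mp (Nat.eq_zero_of_dvd_of_lt hd (ZMod.val_lt _))))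
    obtain ⟨m, hm⟩ := exists_pow_eq_self_of_coprime (x := g) (n := (i - j).val) (hg.symm ▸ hcop)
    exact ha (mem_stabilizer_iff.mp (hm ▸ Subgroup.pow_mem _ hmem m))
  exact ⟨Equiv.ofBijective e (hinj.bijective_of_nat_card_le (by rw [hcard, Nat.card_zmod])), hadd⟩

/-- If all elements are affine in a chart the group is solvable. -/
theorem isSolvable_of_affine (e : ZMod p ≃ α)
    (h : ∀ g : G, ∃ a b : ZMod p, ∀ i, g • e i = e (a * i + b)) : Group.IsSolvable G := by
  classical
  let σ : G →* ZMod p :=
    { toFun := fun g => e.symm (g • e 1) - e.symm (g • e 0)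
      map_one' := by simp
      map_mul' := fun g k => by
        obtain ⟨a₁, b₁, h1⟩ := h g
        obtain ⟨a₂, b₂, h2⟩ := h k
        simp only [mul_smul, h1, h2, Equiv.symm_apply_apply]
        ring }
  have hker : ∀ g ∈ σ.toHomUnits.ker, ∃ b : ZMod p, ∀ i, g • e i = e (i + b) := by
    intro g hg
    obtain ⟨a₁, b₁, h1⟩ := h g
    have : σ g = 1 := congrArg Units.val (MonoidHom.mem_ker.mp hg)
    simp only [σ, MonoidHom.coe_mk, OneHom.coe_mk, h1, Equiv.symm_apply_apply] at this
    exact ⟨b₁, fun i => by rw [h1, show a₁ = 1 by linear_combination this, one_mul]⟩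
  haveI : Group.IsSolvable σ.toHomUnits.ker := by
    letI : CommGroup σ.toHomUnits.ker :=
      { (inferInstance : Group σ.toHomUnits.ker) with
        mul_comm := fun g k => by
          apply Subtype.ext
          apply eq_of_smul_eq_smul (α := α)
          intro u
          obtain ⟨i, rfl⟩ := e.surjective u
          obtain ⟨b₁, h1⟩ := hker _ g.2
          obtain ⟨b₂, h2⟩ := hker _ k.2
          show ((g : G) * k) • e i = ((k : G) * g) • e i
          rw [mul_smul, mul_smul, h2, h1, h1, h2, add_right_comm] }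
    infer_instance
  exact Group.isSolvable_of_ker_le_range σ.toHomUnits.ker.subtype σ.toHomUnits
    (by rw [Subgroup.range_subtype])

/-- A Sylow `p`-subgroup of a group of degree `p` is generated by any suitable element of order
`p`. -/
theorem exists_sylow_generator [Finite G] [IsPretransitive G α] (hcard : Nat.card α = p)
    (P : Sylow p G) : ∃ g : G, orderOf g = p ∧ (P : Subgroup G) = Subgroup.zpowers g := by
  classical
  haveI : Finite α := Nat.finite_of_card_ne_zero (by rw [hcard]; exact (Fact.out : p.Prime).ne_zero)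
  obtain ⟨a⟩ : Nonempty α := (Nat.card_pos_iff.mp (hcard ▸ (Fact.out : p.Prime).pos)).1
  have hpG : p ∣ Nat.card G := by
    rw [← hcard, ← index_stabilizer_of_transitive G a]; exact Subgroup.index_dvd_card _
  have hP : IsPGroup p P := P.2
  have hne : (P : Subgroup G) ≠ ⊥ := P.ne_bot_of_dvd_card hpG
  haveI : Nontrivial P := (Subgroup.nontrivial_iff_ne_bot _).mpr hne
  haveI : Nontrivial (Subgroup.center P) := hP.center_nontrivial
  obtain ⟨n, hn⟩ := IsPGroup.iff_card.mp (hP.to_subgroup (Subgroup.center P))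
  have hn0 : n ≠ 0 := by
    rintro rfl
    rw [pow_zero] at hn
    exact (Finite.one_lt_card (α := Subgroup.center P)).ne' hn
  obtain ⟨z, hz⟩ := exists_prime_orderOf_dvd_card' (G := Subgroup.center P) p
    (hn ▸ dvd_pow_self p hn0)
  refine ⟨((z : P) : G), by rw [Subgroup.orderOf_coe, Subgroup.orderOf_coe, hz], ?_⟩
  have hzo : orderOf ((z : P) : G) = p := by rw [Subgroup.orderOf_coe, Subgroup.orderOf_coe, hz]
  obtain ⟨e, he⟩ := exists_chart hcard hzo
  haveI : IsPretransitive (Subgroup.zpowers ((z : P) : G)) α := ⟨fun x y => by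
    obtain ⟨i, rfl⟩ := e.surjective x
    obtain ⟨j, rfl⟩ := e.surjective y
    exact ⟨⟨_, Subgroup.pow_mem _ (Subgroup.mem_zpowers _) (j - i).val⟩, by
      show ((z : P) : G) ^ (j - i).val • e i = e j
      rw [he, ZMod.natCast_val, ZMod.cast_id, add_sub_cancel]⟩⟩
  have hcent : (P : Subgroup G) ≤ Subgroup.centralizer (Subgroup.zpowers ((z : P) : G) : Set G) := by
    intro x hx
    rw [Subgroup.mem_centralizer_iff]
    intro y hy
    obtain ⟨k, rfl⟩ := Subgroup.mem_zpowers_iff.mp hy
    have hc : Commute ((z : P) : G) x :=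
      (congrArg Subtype.val (Subgroup.mem_center_iff.mp z.2 ⟨x, hx⟩)).symm
    exact hc.zpow_left k
  refine PermBasic.eq_of_semiregular_of_transitive_le (T := Subgroup.zpowers ((z : P) : G))
    (Subgroup.zpowers_le.mpr (z : P).2) a ?_
  exact PermBasic.semiregular_of_le_centralizer _ _ hcent a

/-- An even order Sylow normaliser in odd prime degree contains the negation. -/
theorem exists_negation [Finite G] [IsPretransitive G α] (hcard : Nat.card α = p) (hp2 : p ≠ 2)
    (P : Sylow p G) (heven : Even (Nat.card (Subgroup.normalizer ((P : Subgroup G) : Set G)))) :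
    ∃ (g s : G) (e : ZMod p ≃ α), orderOf g = p ∧ (P : Subgroup G) = Subgroup.zpowers g ∧
      (∀ (n : ℕ) (j : ZMod p), g ^ n • e j = e (j + n)) ∧ s * s = 1 ∧ s ≠ 1 ∧
      ∀ i, s • e i = e (-i) := by
  classical
  obtain ⟨g, hgo, hgP⟩ := exists_sylow_generator hcard P
  obtain ⟨e, he⟩ := exists_chart hcard hgo
  obtain ⟨t, ht⟩ := exists_prime_orderOf_dvd_card'
    (G := Subgroup.normalizer ((P : Subgroup G) : Set G)) 2 heven.two_dvd
  have hto : orderOf (t : G) = 2 := by rw [Subgroup.orderOf_coe, ht]
  have htt : (t : G) * t = 1 := by rw [← pow_two, ← hto, pow_orderOf_eq_one]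
  have hconj : (t : G) * g * (t : G)⁻¹ ∈ (P : Subgroup G) :=
    (Subgroup.mem_normalizer_iff.mp t.2 g).mp (hgP ▸ Subgroup.mem_zpowers g)
  replace hconj : (t : G) * g * (t : G)⁻¹ ∈ Subgroup.zpowers g := hgP.le hconj
  obtain ⟨r, hr⟩ : ∃ r : ℕ, (t : G) * g * (t : G)⁻¹ = g ^ r := by
    obtain ⟨k, -, hk⟩ := Finset.mem_image.mp (mem_zpowers_iff_mem_range_orderOf.mp hconj)
    exact ⟨k, hk.symm⟩
  have hstep : ∀ i : ZMod p, (t : G) • e (i + 1) = g ^ r • ((t : G) • e i) := by
    intro i
    have : e (i + 1) = g ^ 1 • e i := by rw [he]; norm_num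
    rw [this, pow_one, ← hr, mul_smul, mul_smul, inv_smul_smul]
  let b := e.symm ((t : G) • e 0)
  have hlin : ∀ i : ZMod p, (t : G) • e i = e (b + r * i) := by
    suffices ∀ n : ℕ, (t : G) • e (n : ZMod p) = e (b + r * n) by
      intro i
      have := this i.val
      rwa [ZMod.natCast_val, ZMod.cast_id] at this
    intro n
    induction n with
    | zero => simp [b]
    | succ n ih =>
      rw [Nat.cast_succ, hstep, ih, he]
      congr 1; ring
  have hr2 : ((r : ZMod p) - 1) * ((r : ZMod p) + 1) = 0 := by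
    have h0 : (t : G) • (t : G) • e 0 = e 0 := by rw [smul_smul, htt, one_smul]
    have h1 : (t : G) • (t : G) • e 1 = e 1 := by rw [smul_smul, htt, one_smul]
    simp only [hlin, e.apply_eq_iff_eq] at h0 h1
    linear_combination h1 - h0
  have h2 : (2 : ZMod p) ≠ 0 := by
    intro h
    have h' : ((2 : ℕ) : ZMod p) = 0 := by exact_mod_cast h
    rw [ZMod.natCast_eq_zero_iff] at h'
    exact hp2 ((Nat.prime_dvd_prime_iff_eq Fact.out Nat.prime_two).mp h')
  have hrm : (r : ZMod p) = -1 := by
    rcases mul_eq_zero.mp hr2 with h | h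
    · exfalso
      have hr1 : (r : ZMod p) = 1 := sub_eq_zero.mp h
      have h0 : (t : G) • (t : G) • e 0 = e 0 := by rw [smul_smul, htt, one_smul]
      simp only [hlin, e.apply_eq_iff_eq, hr1, one_mul, mul_zero, add_zero] at h0
      have hb : b = 0 := by
        have : (2 : ZMod p) * b = 0 := by linear_combination h0
        exact (mul_eq_zero.mp this).resolve_left h2
      have : (t : G) = 1 := eq_of_smul_eq_smul (α := α) fun u => by
        obtain ⟨i, rfl⟩ := e.surjective u
        rw [hlin, hr1, hb, one_smul, one_mul, zero_add]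
      rw [this, orderOf_one] at hto
      omega
    · exact eq_neg_of_add_eq_zero_left h
  let s : G := g ^ (-b).val * (t : G)
  have hs : ∀ i, s • e i = e (-i) := by
    intro i
    show (g ^ (-b).val * (t : G)) • e i = e (-i)
    rw [mul_smul, hlin, he, hrm, ZMod.natCast_val, ZMod.cast_id]
    congr 1; ring
  refine ⟨g, s, e, hgo, hgP, he, ?_, ?_, hs⟩
  · apply eq_of_smul_eq_smul (α := α)
    intro u
    obtain ⟨i, rfl⟩ := e.surjective u
    rw [mul_smul, hs, hs, neg_neg, one_smul]
  · intro h
    have := hs 1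
    rw [h, one_smul, e.apply_eq_iff_eq, eq_neg_iff_add_eq_zero] at this
    exact h2 (by linear_combination this)

theorem isSolvable_of_two [IsPretransitive G α] [Finite G] (hcard : Nat.card α = 2) :
    Group.IsSolvable G := by
  classical
  haveI : Finite α := Nat.finite_of_card_ne_zero (by omega)
  have hd : Nat.card G ∣ 2 := by
    have := Subgroup.card_dvd_of_injective (toPermHom G α) toPerm_injective
    rwa [Nat.card_perm, hcard] at this
  have hP : IsPGroup 2 G := by
    rcases (Nat.dvd_prime Nat.prime_two).mp hd with h | h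
    · exact IsPGroup.of_card (n := 0) (by rw [h, pow_zero])
    · exact IsPGroup.of_card (n := 1) (by rw [h, pow_one])
  haveI : Fact (Nat.Prime 2) := ⟨Nat.prime_two⟩
  haveI := hP.isNilpotent
  infer_instance

/-- With an even Sylow normaliser, subgroups of index `p` are point stabilisers. -/
theorem eq_stabilizer_of_index [Finite G] [IsPretransitive G α] (hcard : Nat.card α = p)
    (P : Sylow p G) (heven : Even (Nat.card (Subgroup.normalizer ((P : Subgroup G) : Set G))))
    (H : Subgroup G) (hH : H.index = p) : ∃ a : α, H = stabilizer G a := by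
  classical
  have hp := (Fact.out : p.Prime)
  haveI : Finite α := Nat.finite_of_card_ne_zero (by rw [hcard]; exact hp.ne_zero)
  suffices ∃ a : α, H ≤ stabilizer G a by
    obtain ⟨a, ha⟩ := this
    refine ⟨a, Subgroup.eq_of_le_of_card_ge ha (le_of_eq ?_)⟩
    refine Nat.eq_of_mul_eq_mul_right hp.pos ?_
    calc Nat.card (stabilizer G a) * p = Nat.card G := by
          rw [← hcard, ← index_stabilizer_of_transitive G a, Subgroup.card_mul_index]
      _ = Nat.card H * p := by rw [← hH, Subgroup.card_mul_index]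
  obtain ⟨g₁, hg₁o, hg₁P⟩ := exists_sylow_generator hcard P
  have hHp : ¬ p ∣ Nat.card H := by
    intro hd
    refine P.not_dvd_index ?_
    have h1 := Subgroup.card_mul_index H
    have h2 := Subgroup.card_mul_index (P : Subgroup G)
    rw [hH] at h1
    rw [hg₁P, Nat.card_zpowers, hg₁o, ← h1, Nat.mul_comm (Nat.card H)] at h2
    rw [hg₁P, Nat.eq_of_mul_eq_mul_left hp.pos h2]
    exact hd
  by_cases hp2 : p = 2
  · subst hp2
    obtain ⟨a⟩ : Nonempty α := (Nat.card_pos_iff.mp (hcard ▸ hp.pos)).1
    refine ⟨a, fun h hh => ?_⟩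
    have hd : Nat.card G ∣ 2 := by
      have := Subgroup.card_dvd_of_injective (toPermHom G α) toPerm_injective
      rwa [Nat.card_perm, hcard] at this
    have : Nat.card H = 1 := by
      have h1 := Subgroup.card_mul_index H
      rw [hH] at h1
      have := Nat.le_of_dvd (by omega) hd
      have := Nat.card_pos (α := H)
      omega
    rw [(Subgroup.eq_bot_of_card_eq H this), Subgroup.mem_bot] at hh
    simp [hh]
  obtain ⟨g, s, e, hgo, -, he, -, -, hs⟩ := exists_negation hcard hp2 P heven
  have hgH : ∀ c : ZMod p, g ^ c.val ∈ H → c = 0 := by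
    intro c hc
    by_contra hne
    have hcop : Nat.Coprime c.val p := by
      refine Nat.Coprime.symm (hp.coprime_iff_not_dvd.mpr fun hd => ?_)
      exact hne ((ZMod.val_eq_zero _).mp (Nat.eq_zero_of_dvd_of_lt hd (ZMod.val_lt _)))
    obtain ⟨m, hm⟩ := exists_pow_eq_self_of_coprime (x := g) (n := c.val) (hgo.symm ▸ hcop)
    exact hHp (hgo ▸ Subgroup.orderOf_dvd_natCard H (hm ▸ H.pow_mem hc m))
  by_cases h2t : IsMultiplyPretransitive G α 2
  swap
  · -- the affine case
    have hfix : ∀ (h : G) (i : ZMod p), h ∈ H → h ≠ 1 → ∀ a b : ZMod p,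
        (∀ i, h • e i = e (a * i + b)) → a ≠ 1 := by
      intro h i hh h1 a b hab ha
      apply h1
      have : h = g ^ b.val := eq_of_smul_eq_smul (α := α) fun u => by
        obtain ⟨i, rfl⟩ := e.surjective u
        rw [hab, he, ha, one_mul, ZMod.natCast_val, ZMod.cast_id]
      rw [this, hgH b (this ▸ hh), ZMod.val_zero, pow_zero]
    have haff : ∀ h : G, ∃ a b : ZMod p, ∀ i, h • e i = e (a * i + b) := by
      -- the non-trivial suborbit gives an invariant difference set
      obtain ⟨x, y, z, w, hxy, hzw, hno⟩ : ∃ x y z w : α, x ≠ y ∧ z ≠ w ∧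
          ∀ k : G, k • x = z → k • y ≠ w := by
        by_contra hall
        push Not at hall
        exact h2t (is_two_pretransitive_iff.mpr fun {x y z w} hxy hzw => hall x y z w hxy hzw)
      let R : ZMod p → ZMod p → Prop := fun i j => ∃ k : G, k • x = e i ∧ k • y = e j
      have hRshift : ∀ (n : ℕ) i j, R i j → R (i + n) (j + n) := by
        rintro n i j ⟨k, h1, h2⟩
        exact ⟨g ^ n * k, by rw [mul_smul, h1, he], by rw [mul_smul, h2, he]⟩
      have hkey : ∀ i j, R i j ↔ R 0 (j - i) := by
        intro i j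
        constructor
        · intro hh
          simpa [ZMod.natCast_val, ZMod.cast_id, sub_eq_add_neg] using hRshift (-i).val _ _ hh
        · intro hh
          simpa [ZMod.natCast_val, ZMod.cast_id] using hRshift i.val _ _ hh
      let V : Finset (ZMod p) := Finset.univ.filter fun d => R 0 d
      let φ : G → ZMod p → ZMod p := fun h i => e.symm (h • e i)
      have hV : ∀ (h : G) i j, j - i ∈ V ↔ φ h j - φ h i ∈ V := by
        intro h i j
        simp only [V, Finset.mem_filter, Finset.mem_univ, true_and, ← hkey]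
        constructor
        · rintro ⟨k, h1, h2⟩
          exact ⟨h * k, by simp [φ, mul_smul, h1], by simp [φ, mul_smul, h2]⟩
        · rintro ⟨k, h1, h2⟩
          refine ⟨h⁻¹ * k, ?_, ?_⟩
          · rw [mul_smul, h1]; simp [φ]
          · rw [mul_smul, h2]; simp [φ]
      have hV0 : (0 : ZMod p) ∉ V := by
        simp only [V, Finset.mem_filter, Finset.mem_univ, true_and]
        rintro ⟨k, h1, h2⟩
        exact hxy (smul_left_cancel k (h1.trans h2.symm))
      have hVne : V.Nonempty :=
        ⟨e.symm y - e.symm x, Finset.mem_filter.mpr ⟨Finset.mem_univ _,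
          (hkey _ _).mp ⟨1, by simp, by simp⟩⟩⟩
      have hout : ∃ d, d ≠ 0 ∧ d ∉ V := by
        refine ⟨e.symm w - e.symm z, fun hh => hzw (e.symm.injective (sub_eq_zero.mp hh)).symm, ?_⟩
        simp only [V, Finset.mem_filter, Finset.mem_univ, true_and, ← hkey]
        rintro ⟨k, h1, h2⟩
        exact hno k (by simpa using h1) (by simpa using h2)
      obtain ⟨U, hUne, hU0, hUc, hUinv⟩ : ∃ U : Finset (ZMod p), U.Nonempty ∧ (0 : ZMod p) ∉ U ∧
          2 * U.card < p ∧ ∀ (h : G) (i j : ZMod p), j - i ∈ U ↔ φ h j - φ h i ∈ U := by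
        by_cases hVc : 2 * V.card < p
        · exact ⟨V, hVne, hV0, hVc, hV⟩
        obtain ⟨d, hd0, hdV⟩ := hout
        refine ⟨Finset.univ \ insert 0 V, ⟨d, by simp [hd0, hdV]⟩, by simp, ?_, fun h i j => ?_⟩
        · rw [Finset.card_univ_sdiff, Finset.card_insert_of_notMem hV0, ZMod.card]
          have : (insert 0 V).card ≤ p := (Finset.card_le_univ _).trans_eq (ZMod.card p)
          rw [Finset.card_insert_of_notMem hV0] at this
          omega
        · simp only [Finset.mem_sdiff, Finset.mem_univ, true_and, Finset.mem_insert, not_or, ← hV h,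
            sub_eq_zero, φ, e.symm.injective.eq_iff, smul_left_cancel_iff, e.injective.eq_iff]
      intro h
      obtain ⟨a, b, hab⟩ := Muller.affine_of_invariant U hUne hU0 hUc (φ h)
        (e.symm.bijective.comp ((MulAction.bijective h).comp e.bijective)) (hUinv h)
      exact ⟨a, b, fun i => e.symm.injective (by rw [e.symm_apply_apply]; exact hab i)⟩
    by_cases hbot : H = ⊥
    · obtain ⟨a⟩ : Nonempty α := (Nat.card_pos_iff.mp (hcard ▸ hp.pos)).1
      exact ⟨a, hbot ▸ bot_le⟩
    obtain ⟨h, hh, h1⟩ := (Subgroup.bot_or_exists_ne_one H).resolve_left hbot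
    obtain ⟨a, b, hab⟩ := haff h
    have ha : a ≠ 1 := hfix h 0 hh h1 a b hab
    refine ⟨e (b / (1 - a)), fun k hk => ?_⟩
    obtain ⟨c, d, hcd⟩ := haff k
    have hcomm : h * k = k * h := by
      by_contra hne
      have hinH : (k * h)⁻¹ * (h * k) ∈ H := H.mul_mem (H.inv_mem (H.mul_mem hk hh)) (H.mul_mem hh hk)
      obtain ⟨u, v, huv⟩ := haff ((k * h)⁻¹ * (h * k))
      refine hfix _ 0 hinH (fun hh' => hne (inv_mul_eq_one.mp hh').symm) u v huv ?_
      have key : ∀ i, (h * k) • e i = (k * h) • e (u * i + v) := by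
        intro i
        rw [← huv, ← mul_smul, mul_inv_cancel_left]
      have hc0 : c ≠ 0 := by
        intro hc
        have := smul_left_cancel k ((hcd 0).trans (by rw [hcd 1, hc, zero_mul, zero_mul]))
        exact zero_ne_one (e.injective this)
      have ha0 : a ≠ 0 := by
        intro ha'
        have := smul_left_cancel h ((hab 0).trans (by rw [hab 1, ha', zero_mul, zero_mul]))
        exact zero_ne_one (e.injective this)
      have k0 := key 0
      have k1 := key 1
      simp only [mul_smul, hab, hcd, e.apply_eq_iff_eq] at k0 k1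
      have : c * a * (u - 1) = 0 := by linear_combination k0 - k1
      rcases mul_eq_zero.mp this with h' | h'
      · exact absurd h' (mul_ne_zero hc0 ha0)
      · exact sub_eq_zero.mp h'
    have hfix' : h • e (b / (1 - a)) = e (b / (1 - a)) := by
      rw [hab]
      congr 1
      have : (1 : ZMod p) - a ≠ 0 := sub_ne_zero.mpr ha.symm
      field_simp
      ring
    have hk' : h • (k • e (b / (1 - a))) = k • e (b / (1 - a)) := by
      rw [← mul_smul, hcomm, mul_smul, hfix']
    rw [mem_stabilizer_iff]
    obtain ⟨i, hi⟩ := e.surjective (k • e (b / (1 - a)))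
    rw [← hi, hab, e.apply_eq_iff_eq] at hk'
    rw [← hi]
    congr 1
    rw [eq_div_iff (sub_ne_zero.mpr ha.symm)]
    linear_combination -hk'
  -- the doubly transitive case
  let π : ZMod p → G ⧸ H := fun c => QuotientGroup.mk (g ^ c.val)
  have hπ : Function.Bijective π := by
    refine Function.Injective.bijective_of_nat_card_le (fun c d hcd => ?_) ?_
    · have hm : (g ^ c.val)⁻¹ * g ^ d.val ∈ H := QuotientGroup.eq.mp hcd
      have : g ^ (d - c).val = (g ^ c.val)⁻¹ * g ^ d.val := by
        rw [eq_inv_mul_iff_mul_eq, ← pow_add, ← pow_mod_orderOf g (c.val + (d - c).val), hgo,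
          ← ZMod.val_add, add_sub_cancel]
      exact (sub_eq_zero.mp (hgH _ (this ▸ hm))).symm
    · rw [Nat.card_zmod, ← hH, Subgroup.index]
  let π' := (Equiv.ofBijective π hπ).symm
  have hπ' : ∀ q, π (π' q) = q := fun q => (Equiv.ofBijective π hπ).apply_symm_apply q
  let M : ZMod p → ZMod p → Prop := fun c i =>
    ∃ k : G, (QuotientGroup.mk k : G ⧸ H) = π c ∧ k • e 0 = e i
  let σ : G → ZMod p → ZMod p := fun h c => π' (h • π c)
  have hσ : ∀ h, Function.Injective (σ h) := fun h =>
    π'.injective.comp ((MulAction.injective h).comp hπ.1)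
  have hM : ∀ (h : G) c i, M c i → M (σ h c) (e.symm (h • e i)) := by
    rintro h c i ⟨k, h1, h2⟩
    refine ⟨h * k, ?_, by rw [mul_smul, h2, e.apply_symm_apply]⟩
    rw [hπ', ← h1]; rfl
  let Δ : Finset (ZMod p) := Finset.univ.filter fun i => M 0 i
  have hΔ : ∀ c i, M c i ↔ i - c ∈ Δ := by
    intro c i
    have hπ0 : π 0 = QuotientGroup.mk 1 := by simp [π]
    simp only [Δ, Finset.mem_filter, Finset.mem_univ, true_and]
    constructor
    · rintro ⟨k, h1, h2⟩
      refine ⟨(g ^ c.val)⁻¹ * k, ?_, ?_⟩
      · rw [hπ0, QuotientGroup.eq]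
        have := QuotientGroup.eq.mp h1
        have hinv := H.inv_mem this
        simpa [mul_assoc] using this
      · rw [mul_smul, h2, inv_smul_eq_iff, he, ZMod.natCast_val, ZMod.cast_id, sub_add_cancel]
    · rintro ⟨k, h1, h2⟩
      refine ⟨g ^ c.val * k, ?_, ?_⟩
      · show _ = QuotientGroup.mk (g ^ c.val)
        rw [QuotientGroup.eq]
        rw [hπ0, QuotientGroup.eq] at h1
        simpa [mul_assoc] using h1
      · rw [mul_smul, h2, he, ZMod.natCast_val, ZMod.cast_id, sub_add_cancel]
  have hmemΔ : ∀ i, i ∈ Δ ↔ ∃ k ∈ H, k • e 0 = e i := by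
    intro i
    simp only [Δ, Finset.mem_filter, Finset.mem_univ, true_and, M]
    have hπ0 : π 0 = QuotientGroup.mk 1 := by simp [π]
    constructor
    · rintro ⟨k, h1, h2⟩
      rw [hπ0, QuotientGroup.eq] at h1
      exact ⟨k, by simpa using h1, h2⟩
    · rintro ⟨k, h1, h2⟩
      exact ⟨k, by rw [hπ0, QuotientGroup.eq]; simpa using h1, h2⟩
  have h0Δ : (0 : ZMod p) ∈ Δ := (hmemΔ 0).mpr ⟨1, H.one_mem, one_smul _ _⟩
  have hΔuniv : Δ ≠ Finset.univ := by
    intro huniv
    haveI : IsPretransitive H α := (isPretransitive_iff_base (e 0)).mpr fun y => by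
      obtain ⟨k, hk, hky⟩ := (hmemΔ (e.symm y)).mp (huniv ▸ Finset.mem_univ _)
      exact ⟨⟨k, hk⟩, by rw [e.apply_symm_apply] at hky; exact hky⟩
    apply hHp
    rw [← hcard, ← index_stabilizer_of_transitive H (e 0)]
    exact Subgroup.index_dvd_card _
  -- the block through negation
  let z : ZMod p := -(σ s 0) / 2
  have h2 : (2 : ZMod p) ≠ 0 := by
    intro h
    have h' : ((2 : ℕ) : ZMod p) = 0 := by exact_mod_cast h
    rw [ZMod.natCast_eq_zero_iff] at h'
    exact hp2 ((Nat.prime_dvd_prime_iff_eq Fact.out Nat.prime_two).mp h')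
  have hsym : ∀ u, z + u ∈ Δ → z - u ∈ Δ := by
    intro u hu
    have := hM s 0 (z + u) ((hΔ 0 _).mpr (by simpa using hu))
    rw [hΔ, hs, e.symm_apply_apply] at this
    convert this using 1
    have : 2 * z = -(σ s 0) := by simp only [z]; field_simp
    linear_combination this
  let D : Finset (ZMod p) := Finset.univ.filter fun u => z + u ∈ Δ
  have hDneg : ∀ u ∈ D, -u ∈ D := by
    intro u hu
    simp only [D, Finset.mem_filter, Finset.mem_univ, true_and] at hu ⊢
    rw [← sub_eq_add_neg]; exact hsym u hu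
  let N : ZMod p → ℕ := fun d => (D.filter fun u => d + u ∈ D).card
  have hN : ∀ d d', d ≠ 0 → d' ≠ 0 → N d ≤ N d' := by
    intro d d' hd hd'
    obtain ⟨h, h1, h2'⟩ := is_two_pretransitive_iff.mp h2t
      (show e z ≠ e (z + d) from fun hh => hd (by simpa using e.injective hh))
      (show e z ≠ e (z + d') from fun hh => hd' (by simpa using e.injective hh))
    -- `u` corresponds to the block `-u`
    refine Finset.card_le_card_of_injOn (fun u => -(σ h (-u))) (fun u hu => ?_)
      (fun u _ v _ huv => neg_injective (hσ h (neg_injective huv)))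
    simp only [Finset.coe_filter, Set.mem_ofPred_eq, D, Finset.mem_filter, Finset.mem_univ,
      true_and] at hu ⊢
    have ha := hM h (-u) z ((hΔ _ _).mpr (by rw [sub_neg_eq_add]; exact hu.1))
    have hb := hM h (-u) (z + d) ((hΔ _ _).mpr (by rw [sub_neg_eq_add, add_assoc]; exact hu.2))
    rw [hΔ, h1, e.symm_apply_apply] at ha
    rw [hΔ, h2', e.symm_apply_apply] at hb
    refine ⟨by rw [← sub_eq_add_neg]; exact ha, ?_⟩
    rw [← add_assoc, ← sub_eq_add_neg]; exact hb
  have hpar : ∀ d, d ≠ 0 → (N d : ZMod 2) = if d / 2 ∈ D then 1 else 0 := by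
    intro d hd
    let S := D.filter fun u => d + u ∈ D
    have hinvS : ∀ u ∈ S, -d - u ∈ S := by
      intro u hu
      simp only [S, Finset.mem_filter] at hu ⊢
      refine ⟨by have := hDneg _ hu.2; rwa [neg_add, ← sub_eq_add_neg] at this, ?_⟩
      rw [show d + (-d - u) = -u by ring]; exact hDneg _ hu.1
    have hfix : ∀ u : ZMod p, -d - u = u ↔ u = -(d / 2) := by
      intro u
      constructor
      · intro hh; field_simp; linear_combination -hh
      · intro hh; rw [hh]; field_simp; ring
    have hmem : -(d / 2) ∈ S ↔ d / 2 ∈ D := by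
      simp only [S, Finset.mem_filter]
      rw [show d + -(d / 2) = d / 2 by field_simp; ring]
      exact ⟨fun hh => hh.2, fun hh => ⟨hDneg _ hh, hh⟩⟩
    have hrest : (((S.erase (-(d / 2))).card : ℕ) : ZMod 2) = 0 := by
      rw [Finset.card_eq_sum_ones, Nat.cast_sum]
      refine Finset.sum_involution (fun u _ => -d - u) (fun u _ => by decide) (fun u hu _ hh => ?_)
        (fun u hu => ?_) (fun u _ => by simp)
      · exact (Finset.mem_erase.mp hu).1 ((hfix u).mp hh)
      · rw [Finset.mem_erase] at hu ⊢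
        refine ⟨fun hh => hu.1 ?_, hinvS u hu.2⟩
        have : u = -d - -(d / 2) := by linear_combination -hh
        rw [this]; field_simp; ring
    by_cases hd2 : d / 2 ∈ D
    · rw [if_pos hd2]
      show ((S.card : ℕ) : ZMod 2) = 1
      rw [← Finset.card_erase_add_one (hmem.mpr hd2), Nat.cast_add, hrest, Nat.cast_one, zero_add]
    · rw [if_neg hd2]
      show ((S.card : ℕ) : ZMod 2) = 0
      rwa [Finset.erase_eq_of_notMem (fun hh => hd2 (hmem.mp hh))] at hrest
  have hconst : ∀ u v : ZMod p, u ≠ 0 → v ≠ 0 → (u ∈ D ↔ v ∈ D) := by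
    intro u v hu hv
    have e1 := hpar (2 * u) (mul_ne_zero h2 hu)
    have e2 := hpar (2 * v) (mul_ne_zero h2 hv)
    rw [mul_div_cancel_left₀ _ h2] at e1 e2
    rw [le_antisymm (hN _ _ (mul_ne_zero h2 hu) (mul_ne_zero h2 hv))
      (hN _ _ (mul_ne_zero h2 hv) (mul_ne_zero h2 hu))] at e1
    rw [e2] at e1
    by_cases h1 : u ∈ D <;> by_cases h3 : v ∈ D <;> simp [h1, h3] at e1 ⊢
  have hD : ∀ i, i ∈ Δ ↔ i - z ∈ D := fun i => by simp [D]
  by_cases hin : ∃ u, u ≠ 0 ∧ u ∈ D
  · obtain ⟨u, hu0, hu⟩ := hin
    have hz : z ∉ Δ := by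
      intro hz
      apply hΔuniv
      refine Finset.eq_univ_iff_forall.mpr fun i => ?_
      by_cases hi : i = z
      · rw [hi]; exact hz
      · exact (hD i).mpr ((hconst u _ hu0 (sub_ne_zero.mpr hi)).mp hu)
    refine ⟨e z, fun k hk => ?_⟩
    rw [mem_stabilizer_iff]
    obtain ⟨w, hw⟩ := e.surjective (k • e z)
    by_contra hne
    have hwz : w ≠ z := fun hh => hne (by rw [← hw, hh])
    obtain ⟨m, hm, hm'⟩ := (hmemΔ w).mp ((hD w).mpr ((hconst u _ hu0 (sub_ne_zero.mpr hwz)).mp hu))
    apply hz
    refine (hmemΔ z).mpr ⟨k⁻¹ * m, H.mul_mem (H.inv_mem hk) hm, ?_⟩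
    rw [mul_smul, hm', hw, inv_smul_smul]
  · push Not at hin
    have hz0 : z = 0 := by
      by_contra hne
      exact hin (0 - z) (sub_ne_zero.mpr (Ne.symm hne)) ((hD 0).mp h0Δ)
    refine ⟨e 0, fun k hk => ?_⟩
    rw [mem_stabilizer_iff]
    obtain ⟨w, hw⟩ := e.surjective (k • e 0)
    have hwΔ : w ∈ Δ := (hmemΔ w).mpr ⟨k, hk, hw.symm⟩
    have : w = 0 := by
      by_contra hne
      exact hin (w - z) (by rw [hz0, sub_zero]; exact hne) ((hD w).mp hwΔ)
    rw [← hw, this]

end Groups

end CfsgLib.PrimeDegree
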