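/-
The heart of the permutation module of an insoluble group of prime degree.
-/
import Cfsg.Prelude.Def_Perm
import Cfsg.Agent.Perm.PrimeDegree

set_option autoImplicit false

namespace CfsgLib.PrimeDegree

open MulAction

variable {p : ℕ} [Fact p.Prime] {K : Type*} [Field K] [CharP K p]
  {G α : Type*} [Group G] [MulAction G α] [FaithfulSMul G α] [IsPretransitive G α] [Fintype α]
  [Finite G]

theorem heart_irreducible (hcard : Nat.card α = p) (hns : ¬ Group.IsSolvable G)
    (W : Subrepresentation (Cfsg.permRep K G α))
    (h₁ : (Cfsg.permConstants K G α).toSubmodule ≤ W.toSubmodule)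
    (h₂ : W.toSubmodule ≤ (Cfsg.permSumZero K G α).toSubmodule) :
    W = Cfsg.permConstants K G α ∨ W = Cfsg.permSumZero K G α := by
  classical
  by_contra hW
  obtain ⟨hWC, hWS⟩ := not_or.mp hW
  have hpG : p ∣ Nat.card G := by
    obtain ⟨a⟩ : Nonempty α := (Nat.card_pos_iff.mp (hcard ▸ (Fact.out : p.Prime).pos)).1
    rw [← hcard, ← index_stabilizer_of_transitive G a]; exact Subgroup.index_dvd_card _
  obtain ⟨g, hg⟩ := exists_prime_orderOf_dvd_card' p hpG
  obtain ⟨e, he⟩ := exists_chart hcard hg
  apply hns
  refine isSolvable_of_affine e fun h => ?_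
  let L : (ZMod p → K) →ₗ[K] (α → K) := LinearMap.funLeft K K e.symm
  let V : Submodule K (ZMod p → K) := W.toSubmodule.comap L
  have hmem : ∀ v : α → K, (fun i => v (e i)) ∈ V ↔ v ∈ W.toSubmodule := by
    intro v
    show (fun x => v (e (e.symm x))) ∈ W.toSubmodule ↔ _
    simp only [Equiv.apply_symm_apply]
  have hinv : ∀ (k : G) (v : α → K), v ∈ W.toSubmodule → (fun x => v (k • x)) ∈ W.toSubmodule := by
    intro k v hv
    have := W.apply_mem_toSubmodule k⁻¹ hv
    convert this using 1
    funext x
    show v (k • x) = v (k⁻¹⁻¹ • x)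
    rw [inv_inv]
  have hcomp : ∀ (k : G) (v : ZMod p → K), v ∈ V → (fun i => v (e.symm (k • e i))) ∈ V := by
    intro k v hv
    rw [hmem fun x => v (e.symm (k • x))]
    exact hinv k _ hv
  obtain ⟨a, b, hab⟩ := affine_of_invariant_space V
    (by
      intro v hv
      have := hcomp (g ^ 1) v hv
      simp only [he, Equiv.symm_apply_apply, Nat.cast_one] at this
      exact this)
    ((hmem fun _ => 1).mpr (h₁ (Submodule.subset_span (Set.mem_singleton _))))
    (fun v hv => by
      have : ∑ x, v (e.symm x) = 0 := h₂ hv
      rw [← this]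
      exact Fintype.sum_equiv e _ _ fun i => by simp)
    (by
      by_contra hall
      push Not at hall
      apply hWC
      refine Subrepresentation.ext (le_antisymm (fun v hv => ?_) h₁)
      refine Submodule.mem_span_singleton.mpr ⟨v (e 0), funext fun x => ?_⟩
      have := hall _ ((hmem v).mpr hv) 0 (e.symm x)
      simpa using this)
    (by
      by_contra hall
      push Not at hall
      apply hWS
      refine Subrepresentation.ext (le_antisymm h₂ fun v hv => ?_)
      refine (hmem v).mp (hall _ ?_)
      rw [← show ∑ x, v x = 0 from hv]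
      exact Fintype.sum_equiv e _ _ fun i => rfl)
    (fun i => e.symm (h • e i)) (fun i => e.symm (h⁻¹ • e i))
    (fun i => by simp) (fun i => by simp) (hcomp h) (hcomp h⁻¹)
  exact ⟨a, b, fun i => e.symm.injective (by rw [e.symm_apply_apply]; exact hab i)⟩

end CfsgLib.PrimeDegree
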