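/-
Criteria for multiple transitivity.
-/
import Mathlib.GroupTheory.GroupAction.MultipleTransitivity
import Mathlib.GroupTheory.GroupAction.FixingSubgroup
import Mathlib.GroupTheory.PGroup
import Cfsg.Agent.Perm.Basic

set_option autoImplicit false

namespace CfsgLib.PermMulti

open MulAction

variable {G α : Type*} [Group G] [MulAction G α]

/-- Transitivity on `k`-tuples follows if any disagreement can be decreased. -/
theorem isMultiplyPretransitive_of_improve {k : ℕ}
    (h : ∀ (x y : Fin k ↪ α) (i : Fin k), x i ≠ y i →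
      ∃ g : G, g • x i = y i ∧ ∀ j, x j = y j → g • x j = y j) :
    IsMultiplyPretransitive G α k := by
  classical
  refine ⟨fun x y => ?_⟩
  suffices H : ∀ (d : ℕ) (x : Fin k ↪ α), (Finset.univ.filter fun i => x i ≠ y i).card ≤ d →
      ∃ g : G, g • x = y from H _ x le_rfl
  intro d
  induction d with
  | zero =>
    intro x hx
    refine ⟨1, ?_⟩
    rw [one_smul]
    ext i
    by_contra hne
    have hpos : 0 < (Finset.univ.filter fun i => x i ≠ y i).card :=
      Finset.card_pos.mpr ⟨i, Finset.mem_filter.mpr ⟨Finset.mem_univ i, hne⟩⟩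
    omega
  | succ d ih =>
    intro x hx
    by_cases hall : ∀ i, x i = y i
    · exact ⟨1, by rw [one_smul]; exact Function.Embedding.ext hall⟩
    push Not at hall
    obtain ⟨i, hi⟩ := hall
    obtain ⟨g, hg1, hg2⟩ := h x y i hi
    have hlt : (Finset.univ.filter fun j => (g • x) j ≠ y j).card <
        (Finset.univ.filter fun j => x j ≠ y j).card := by
      refine Finset.card_lt_card ⟨fun j hj => ?_, fun hsub => ?_⟩
      · rw [Finset.mem_filter] at hj ⊢
        exact ⟨hj.1, fun e => hj.2 (hg2 j e)⟩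
      · exact (Finset.mem_filter.mp (hsub (Finset.mem_filter.mpr ⟨Finset.mem_univ i, hi⟩))).2 hg1
    obtain ⟨g', hg'⟩ := ih (g • x) (by omega)
    exact ⟨g' * g, by rw [mul_smul, hg']⟩

/-- If the pointwise stabiliser of every `(k-1)`-set is transitive on the other points, and there
are more than `k` points, then the action is `k`-transitive. -/
theorem isMultiplyPretransitive_of_fixing [Fintype α] {k : ℕ} (hk : k < Fintype.card α)
    (h : ∀ s : Finset α, s.card + 1 = k → ∀ b c : α, b ∉ s → c ∉ s →
      ∃ g : G, (∀ x ∈ s, g • x = x) ∧ g • b = c) :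
    IsMultiplyPretransitive G α k := by
  classical
  refine isMultiplyPretransitive_of_improve fun x y i hi => ?_
  set R := Finset.univ.map x with hR
  have hRc : R.card = k := by rw [hR, Finset.card_map, Finset.card_univ, Fintype.card_fin]
  have hmem : ∀ l, x l ∈ R := fun l => Finset.mem_map_of_mem x (Finset.mem_univ l)
  have step : ∀ (j : Fin k) (t : α), t ∉ R →
      ∃ g : G, g • x j = t ∧ ∀ l, l ≠ j → g • x l = x l := by
    intro j t ht
    obtain ⟨g, hg, hgt⟩ := h (R.erase (x j))
      (by rw [Finset.card_erase_of_mem (hmem j), hRc]; have := j.pos; omega)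
      (x j) t (Finset.notMem_erase _ _) (fun hm => ht (Finset.mem_of_mem_erase hm))
    exact ⟨g, hgt, fun l hl => hg _ (Finset.mem_erase.mpr ⟨fun e => hl (x.injective e), hmem l⟩)⟩
  by_cases hy : y i ∈ R
  swap
  · obtain ⟨g, hg1, hg2⟩ := step i (y i) hy
    exact ⟨g, hg1, fun j hj => by rw [hg2 j (fun e => hi (e ▸ hj)), hj]⟩
  obtain ⟨j, -, hj⟩ := Finset.mem_map.mp hy
  have hji : j ≠ i := fun e => hi (e ▸ hj)
  obtain ⟨z, hz⟩ : ∃ z, z ∉ R := by
    obtain ⟨z, -, hz⟩ := Finset.exists_mem_notMem_of_card_lt_card (s := R) (t := Finset.univ)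
      (by rw [hRc, Finset.card_univ]; exact hk)
    exact ⟨z, hz⟩
  obtain ⟨g₁, hg1, hg1'⟩ := step j z hz
  -- now `y i = x j` is free in the tuple `g₁ • x`
  obtain ⟨g₂, hg2, hg2'⟩ := h ((Finset.univ.map (g₁ • x)).erase (x i))
    (by
      rw [Finset.card_erase_of_mem, Finset.card_map, Finset.card_univ, Fintype.card_fin]
      · have := i.pos; omega
      · refine Finset.mem_map.mpr ⟨i, Finset.mem_univ i, ?_⟩
        rw [Function.Embedding.smul_apply, hg1' i hji.symm])
    (x i) (y i) (Finset.notMem_erase _ _) (by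
      intro hm
      obtain ⟨l, -, hl⟩ := Finset.mem_map.mp (Finset.mem_of_mem_erase hm)
      rw [Function.Embedding.smul_apply] at hl
      by_cases hlj : l = j
      · rw [hlj, hg1, ← hj] at hl; exact hz (hl ▸ hmem j)
      · rw [hg1' l hlj, ← hj] at hl; exact hlj (x.injective hl))
  refine ⟨g₂ * g₁, by rw [mul_smul, hg1' i hji.symm, hg2'], fun l hl => ?_⟩
  have hli : l ≠ i := fun e => hi (e ▸ hl)
  have hlj : l ≠ j := fun e => hji (y.injective (by rw [← hj, ← e]; exact hl.symm))
  rw [mul_smul, hg1' l hlj, hg2 (x l) ?_, hl]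
  refine Finset.mem_erase.mpr ⟨fun e => hli (x.injective e), Finset.mem_map.mpr ⟨l, Finset.mem_univ l, ?_⟩⟩
  rw [Function.Embedding.smul_apply, hg1' l hlj]

/-- For a subgroup `P` with the unique fixed point `x` among the points outside a fixed set, the
orbits of an overgroup have size `1` or `0` modulo `p`. -/
theorem card_orbit_modEq [Finite α] {p : ℕ} [Fact p.Prime] {H P : Subgroup G} (hPH : P ≤ H)
    (hP : IsPGroup p P) (b : α) :
    Nat.card (orbit H b) ≡ Nat.card {z : α // z ∈ orbit H b ∧ z ∈ fixedPoints P α} [MOD p] := by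
  classical
  let S : SubMulAction P α :=
    { carrier := orbit H b
      smul_mem' := fun g z hz => by
        obtain ⟨h, rfl⟩ := hz
        exact ⟨⟨g, hPH g.2⟩ * h, mul_smul (⟨g, hPH g.2⟩ : H) h b⟩ }
  have h1 := hP.card_modEq_card_fixedPoints S
  have h2 : Nat.card (fixedPoints P S) = Nat.card {z : α // z ∈ orbit H b ∧ z ∈ fixedPoints P α} :=
    Nat.card_congr
      { toFun := fun z => ⟨z.1.1, z.1.2, fun g => congrArg Subtype.val (z.2 g)⟩
        invFun := fun z => ⟨⟨z.1, z.2.1⟩, fun g => Subtype.ext (z.2.2 g)⟩ }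
  rw [h2] at h1
  exact h1

end CfsgLib.PermMulti
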