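/-
A primitive group whose point stabiliser has at most two further orbits, of coprime lengths, has
rank two.
-/
import Mathlib

set_option autoImplicit false

namespace CfsgLib.CoprimeRankThree

open MulAction

variable {X Ω : Type*} [Group X] [Finite X] [MulAction X Ω]

theorem card_eq_orbit_mul (L : Subgroup X) (v : Ω) :
    Nat.card L = Nat.card (orbit L v) * Nat.card (L ⊓ stabilizer X v : Subgroup X) := by
  rw [← (stabilizer L v).index_mul_card, index_stabilizer, Nat.card_coe_set_eq]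
  congr 1
  exact Nat.card_congr
    { toFun := fun k => ⟨((k : L) : X), (k : L).2, k.2⟩
      invFun := fun k => ⟨⟨k, k.2.1⟩, k.2.2⟩
      left_inv := fun _ => rfl
      right_inv := fun _ => rfl }

variable [Fintype Ω] [DecidableEq Ω]

theorem two_point_transitive (K : Subgroup X) (U : Finset Ω) (u₀ : Ω) (hu₀U : u₀ ∈ U)
    (hUeven : Even U.card) (hUprime : (U.card - 1).Prime)
    (hKU : ∀ k ∈ K, ∀ x ∈ U, k • x ∈ U) (hKtrans : ∀ x ∈ U, ∃ k ∈ K, k • u₀ = x)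
    (hthree : ∀ v₁ ∈ U, ∀ v₂ ∈ U, ∀ v₃ ∈ U, v₁ ≠ u₀ → v₂ ≠ u₀ → v₃ ≠ u₀ →
      (∀ k ∈ K, k • u₀ = u₀ → k • v₁ ≠ v₂) →
      ∃ k ∈ K, k • u₀ = u₀ ∧ (k • v₁ = v₃ ∨ k • v₂ = v₃))
    (hprim : ∀ B : Set Ω, B ⊆ U → u₀ ∈ B → (∃ v ∈ B, v ≠ u₀) → (∃ v ∈ U, v ∉ B) →
      (∀ k ∈ K, ∀ x ∈ B, k • x ∈ B → ∀ y ∈ B, k • y ∈ B) → False) :
    ∀ v ∈ U, ∀ v' ∈ U, v ≠ u₀ → v' ≠ u₀ → ∃ k ∈ K, k • u₀ = u₀ ∧ k • v = v' := by
  classical
  intro v₁ hv₁ v₂ hv₂ n1 n2
  by_contra hsep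
  push Not at hsep
  let R : Ω → Ω → Ω → Prop := fun v x y => ∃ k ∈ K, k • u₀ = x ∧ k • v = y
  have hRinv : ∀ v x y, ∀ k ∈ K, R v x y → R v (k • x) (k • y) := by
    rintro v x y k hk ⟨m, hm, rfl, rfl⟩
    exact ⟨k * m, mul_mem hk hm, mul_smul _ _ _, mul_smul _ _ _⟩
  have hRU : ∀ v ∈ U, ∀ x y, R v x y → x ∈ U ∧ y ∈ U := by
    rintro v hv x y ⟨m, hm, rfl, rfl⟩
    exact ⟨hKU m hm _ hu₀U, hKU m hm _ hv⟩
  have hRne : ∀ v, v ≠ u₀ → ∀ x y, R v x y → x ≠ y := by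
    rintro v hv x y ⟨m, -, rfl, rfl⟩ h
    exact hv (smul_left_cancel m h).symm
  have hex : ∀ x y, R v₁ x y → ¬ R v₂ x y := by
    rintro x y ⟨m, hm, rfl, rfl⟩ ⟨m', hm', h1, h2⟩
    refine hsep (m'⁻¹ * m) (mul_mem (inv_mem hm') hm) ?_ ?_
    · rw [mul_smul, ← h1, inv_smul_smul]
    · rw [mul_smul, ← h2, inv_smul_smul]
  have hall : ∀ x ∈ U, ∀ y ∈ U, x ≠ y → R v₁ x y ∨ R v₂ x y := by
    intro x hx y hy hxy
    obtain ⟨m, hm, rfl⟩ := hKtrans x hx
    obtain ⟨k, hk, hku, hkv⟩ := hthree v₁ hv₁ v₂ hv₂ (m⁻¹ • y) (hKU _ (inv_mem hm) _ hy) n1 n2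
      (fun h => hxy (by rw [← h, smul_inv_smul])) hsep
    rcases hkv with h | h
    · exact Or.inl ⟨m * k, mul_mem hm hk, by rw [mul_smul, hku], by rw [mul_smul, h, smul_inv_smul]⟩
    · exact Or.inr ⟨m * k, mul_mem hm hk, by rw [mul_smul, hku], by rw [mul_smul, h, smul_inv_smul]⟩
  -- the two suborbits
  set M := K ⊓ stabilizer X u₀ with hM
  let N : Ω → Finset Ω := fun v => U.filter fun y => R v u₀ y
  have hNorb : ∀ v ∈ U, Nat.card (orbit M v) = (N v).card := by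
    intro v hv
    rw [← Nat.card_eq_finsetCard]
    refine Nat.card_congr (Equiv.subtypeEquivRight fun y => ?_)
    simp only [N, Finset.mem_filter]
    constructor
    · rintro ⟨⟨k, hk⟩, rfl⟩
      exact ⟨hKU k hk.1 _ hv, k, hk.1, hk.2, rfl⟩
    · rintro ⟨-, k, hk, hku, rfl⟩
      exact ⟨⟨k, hk, hku⟩, rfl⟩
  have hsum : (N v₁).card + (N v₂).card = U.card - 1 := by
    rw [← Finset.card_union_of_disjoint (Finset.disjoint_filter.mpr fun y _ => hex u₀ y)]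
    have : N v₁ ∪ N v₂ = U.erase u₀ := by
      ext y
      simp only [N, Finset.mem_union, Finset.mem_filter, Finset.mem_erase]
      constructor
      · rintro (⟨hy, hR⟩ | ⟨hy, hR⟩)
        exacts [⟨(hRne v₁ n1 _ _ hR).symm, hy⟩, ⟨(hRne v₂ n2 _ _ hR).symm, hy⟩]
      · rintro ⟨hne, hy⟩
        exact (hall u₀ hu₀U y hy hne.symm).imp (fun h => ⟨hy, h⟩) (fun h => ⟨hy, h⟩)
    rw [this, Finset.card_erase_of_mem hu₀U]
  have hself : ∀ v, R v u₀ v := fun v => ⟨1, one_mem _, one_smul _ _, one_smul _ _⟩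
  have hpos₁ : 0 < (N v₁).card := Finset.card_pos.mpr ⟨v₁, Finset.mem_filter.mpr ⟨hv₁, hself v₁⟩⟩
  have hpos₂ : 0 < (N v₂).card := Finset.card_pos.mpr ⟨v₂, Finset.mem_filter.mpr ⟨hv₂, hself v₂⟩⟩
  have hcop : (N v₁).card.Coprime (N v₂).card := by
    refine Nat.coprime_of_dvd fun d hd h1 h2 => ?_
    have h3 : d ∣ U.card - 1 := hsum ▸ dvd_add h1 h2
    have h4 := (Nat.prime_dvd_prime_iff_eq hd hUprime).mp h3
    have := Nat.le_of_dvd hpos₁ h1
    omega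
  have hneq : (N v₁).card ≠ (N v₂).card := fun h => by
    obtain ⟨k, hk⟩ := hUeven
    omega
  -- self-paired
  have hsymm1 : ∀ x y, R v₁ x y → R v₁ y x := by
    have hvu : R v₁ v₁ u₀ := by
      by_contra hn
      have h2 := (hall v₁ hv₁ u₀ hu₀U n1).resolve_left hn
      have hfw : ∀ x y, R v₁ x y → R v₂ y x := by
        rintro x y ⟨m, hm, rfl, rfl⟩
        exact hRinv _ _ _ m hm h2
      obtain ⟨m₀, hm₀, hma, hmb⟩ := h2
      have hbw : ∀ x y, R v₂ x y → R v₁ y x := by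
        rintro x y ⟨m, hm, rfl, rfl⟩
        refine ⟨m * m₀⁻¹, mul_mem hm (inv_mem hm₀), ?_, ?_⟩
        · nth_rw 1 [← hmb]; rw [mul_smul, inv_smul_smul]
        · nth_rw 1 [← hma]; rw [mul_smul, inv_smul_smul]
      have hcount : ((U ×ˢ U).filter fun q => R v₁ q.1 q.2).card =
          ((U ×ˢ U).filter fun q => R v₂ q.1 q.2).card := by
        refine Finset.card_nbij' Prod.swap Prod.swap ?_ ?_ (fun _ _ => Prod.swap_swap _)
          (fun _ _ => Prod.swap_swap _) <;>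
        · intro q hq
          simp only [Finset.coe_filter, Finset.mem_product, Set.mem_setOf_eq, Prod.fst_swap,
            Prod.snd_swap] at hq ⊢
          first
          | exact ⟨hq.1.symm, hfw _ _ hq.2⟩
          | exact ⟨hq.1.symm, hbw _ _ hq.2⟩
      have hc : ∀ v, ((U ×ˢ U).filter fun q => R v q.1 q.2).card = U.card * (N v).card := by
        intro v
        rw [Finset.card_filter, Finset.sum_product, ← smul_eq_mul, ← Finset.sum_const]
        refine Finset.sum_congr rfl fun x hx => ?_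
        obtain ⟨m, hm, rfl⟩ := hKtrans x hx
        rw [← Finset.card_filter]
        refine Finset.card_nbij' (fun y => m⁻¹ • y) (fun y => m • y) ?_ ?_
          (fun y _ => smul_inv_smul m y) (fun y _ => inv_smul_smul m y)
        · intro y hy
          simp only [N, Finset.coe_filter, Set.mem_setOf_eq] at hy ⊢
          exact ⟨hKU _ (inv_mem hm) _ hy.1, by simpa using hRinv v _ _ _ (inv_mem hm) hy.2⟩
        · intro y hy
          simp only [N, Finset.coe_filter, Set.mem_setOf_eq] at hy ⊢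
          exact ⟨hKU _ hm _ hy.1, hRinv v _ _ _ hm hy.2⟩
      rw [hc, hc] at hcount
      exact hneq (Nat.eq_of_mul_eq_mul_left (Finset.card_pos.mpr ⟨u₀, hu₀U⟩) hcount)
    rintro x y ⟨m, hm, rfl, rfl⟩
    exact hRinv _ _ _ m hm hvu
  have hsymm2 : ∀ x y, R v₂ x y → R v₂ y x := fun x y hxy => by
    obtain ⟨hx, hy⟩ := hRU _ hv₂ _ _ hxy
    exact (hall y hy x hx (hRne v₂ n2 _ _ hxy).symm).resolve_left fun h => hex x y (hsymm1 _ _ h) hxy
  -- the stabiliser of `v₁` is transitive on the other suborbit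
  set M₁ := M ⊓ stabilizer X v₁ with hM₁
  have htrans₁ : ∀ w, R v₂ u₀ w → ∃ k ∈ M₁, k • v₂ = w := by
    set M₂ := M ⊓ stabilizer X v₂
    have e1 := card_eq_orbit_mul M v₁
    have e2 := card_eq_orbit_mul M v₂
    have e3 := card_eq_orbit_mul M₁ v₂
    have e4 := card_eq_orbit_mul M₂ v₁
    have e5 : M₂ ⊓ stabilizer X v₁ = M₁ ⊓ stabilizer X v₂ := inf_right_comm _ _ _
    rw [hNorb v₁ hv₁, ← hM₁, e3] at e1
    rw [hNorb v₂ hv₂, e4, e5, e1] at e2
    have hpos : 0 < Nat.card (M₁ ⊓ stabilizer X v₂ : Subgroup X) := Nat.card_pos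
    have heq : (N v₁).card * Nat.card (orbit M₁ v₂) = (N v₂).card * Nat.card (orbit M₂ v₁) := by
      refine Nat.eq_of_mul_eq_mul_right hpos ?_
      linarith
    have hdvd : (N v₂).card ∣ Nat.card (orbit M₁ v₂) :=
      (hcop.symm).dvd_of_dvd_mul_left (Dvd.intro _ heq.symm)
    have hsub : orbit M₁ v₂ ⊆ (↑(N v₂) : Set Ω) := by
      rintro _ ⟨⟨k, hk⟩, rfl⟩
      exact Finset.mem_filter.mpr ⟨hKU k hk.1.1 _ hv₂, k, hk.1.1, hk.1.2, rfl⟩
    have hfin : (orbit M₁ v₂) = (↑(N v₂) : Set Ω) := by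
      refine Set.eq_of_subset_of_ncard_le hsub ?_ (Finset.finite_toSet _)
      rw [Set.ncard_coe_finset]
      refine Nat.le_of_dvd ?_ (by rwa [Nat.card_coe_set_eq] at hdvd)
      exact (Set.ncard_pos (Set.toFinite _)).mpr ⟨v₂, mem_orbit_self v₂⟩
    intro w hw
    have hwN : w ∈ (↑(N v₂) : Set Ω) := Finset.mem_filter.mpr ⟨(hRU _ hv₂ _ _ hw).2, hw⟩
    rw [← hfin] at hwN
    obtain ⟨⟨k, hk⟩, rfl⟩ := hwN
    exact ⟨k, hk, rfl⟩
  have hmove : ∀ w w', R v₂ u₀ w → R v₂ u₀ w' → R v₁ v₁ w → R v₁ v₁ w' := by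
    intro w w' hw hw' h
    obtain ⟨a, ha, rfl⟩ := htrans₁ w hw
    obtain ⟨b, hb, rfl⟩ := htrans₁ w' hw'
    have hk : b * a⁻¹ ∈ M₁ := mul_mem hb (inv_mem ha)
    have := hRinv _ _ _ _ hk.1.1 h
    rwa [show (b * a⁻¹) • v₁ = v₁ from hk.2, mul_smul, inv_smul_smul] at this
  have hequiv : ∀ v v', v ∈ U → v ≠ u₀ → v' ∈ U → v' ≠ u₀ → ¬ R v u₀ v' →
      (∀ x y u, R v x y → R v y u → x ≠ u → R v x u) → (∀ x y, R v x y → R v y x) → False := by
    intro v v' hvU hvu hv'U hv'u hsep' htr hsy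
    refine hprim {y | y = u₀ ∨ R v u₀ y} ?_ (Or.inl rfl) ⟨v, Or.inr (hself v), hvu⟩ ⟨v', hv'U, ?_⟩ ?_
    · rintro y (rfl | hy)
      exacts [hu₀U, (hRU v hvU _ _ hy).2]
    · rintro (h1 | h1)
      exacts [hv'u h1, hsep' h1]
    · intro k hk x hx hkx y hy
      let Eq' : Ω → Ω → Prop := fun a b => a = b ∨ R v a b
      have htr' : ∀ a b d, Eq' a b → Eq' b d → Eq' a d := by
        rintro a b d (rfl | h1) (rfl | h2)
        · exact Or.inl rfl
        · exact Or.inr h2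
        · exact Or.inr h1
        · by_cases had : a = d
          · exact Or.inl had
          · exact Or.inr (htr _ _ _ h1 h2 had)
      have hsy' : ∀ a b, Eq' a b → Eq' b a := fun a b h => h.imp Eq.symm (hsy _ _)
      have hB : ∀ y, y ∈ {y | y = u₀ ∨ R v u₀ y} ↔ Eq' u₀ y := fun y => or_congr_left eq_comm
      rw [hB] at hx hkx hy ⊢
      have hxy : Eq' x y := htr' _ _ _ (hsy' _ _ hx) hy
      exact htr' _ _ _ hkx (hxy.imp (fun h => by rw [h]) (hRinv _ _ _ _ hk))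
  by_cases hcase : R v₁ v₁ v₂
  · refine hequiv v₂ v₁ hv₂ n2 hv₁ n1 (fun h => hex _ _ (hself v₁) h) (fun x y u hxy hyu hxu => ?_) hsymm2
    rcases hall x (hRU _ hv₂ _ _ hxy).1 u (hRU _ hv₂ _ _ hyu).2 hxu with h1 | h1
    · exfalso
      obtain ⟨m, hm, rfl, rfl⟩ := h1
      have hy' : R v₂ u₀ (m⁻¹ • y) := by simpa using hRinv _ _ _ _ (inv_mem hm) hxy
      have hu' : R v₂ v₁ (m⁻¹ • y) := by simpa using hRinv _ _ _ _ (inv_mem hm) (hsymm2 _ _ hyu)
      exact hex _ _ (hmove v₂ _ (hself v₂) hy' hcase) hu'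
    · exact h1
  · refine hequiv v₁ v₂ hv₁ n1 hv₂ n2 (fun h => hex _ _ h (hself v₂)) (fun x y u hxy hyu hxu => ?_) hsymm1
    obtain ⟨m, hm, rfl, rfl⟩ := hxy
    have hu' : R v₁ v₁ (m⁻¹ • u) := by simpa using hRinv _ _ _ _ (inv_mem hm) hyu
    rcases hall u₀ hu₀U (m⁻¹ • u) (hRU _ hv₁ _ _ hu').2
      (fun h => hxu (by rw [h, smul_inv_smul])) with h1 | h1
    · simpa using hRinv _ _ _ _ hm h1
    · exact absurd (hmove _ v₂ h1 (hself v₂) hu') hcase

end CfsgLib.CoprimeRankThree
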