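/-
No primitive strongly regular Cayley graph on a dihedral group of order `2h`, `h` odd, in the
language of the group ring of the cyclic half: `D` is the part of the connection set in the
rotations, `E` the part in the reflections.
-/
import Mathlib

set_option autoImplicit false

namespace CfsgLib.DihedralRing

open Finset AddMonoidAlgebra

variable {h : ℕ} [NeZero h]

/-- The group-ring element of a subset. -/
noncomputable def ind (R : Type*) [CommRing R] (S : Finset (ZMod h)) : AddMonoidAlgebra R (ZMod h) :=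
  ∑ x ∈ S, single x 1

theorem coeff_ind (R : Type*) [CommRing R] (S : Finset (ZMod h)) (g : ZMod h) :
    (ind R S).coeff g = if g ∈ S then 1 else 0 := by
  classical
  simp [ind, Finsupp.single_apply]

theorem coeff_one' (R : Type*) [CommRing R] (g : ZMod h) :
    (1 : AddMonoidAlgebra R (ZMod h)).coeff g = if g = 0 then 1 else 0 := by
  classical
  rw [AddMonoidAlgebra.one_def]
  simp [Finsupp.single_apply, eq_comm]

theorem coeff_intCast_mul (k : ℤ) (x : AddMonoidAlgebra ℤ (ZMod h)) (g : ZMod h) :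
    ((k : AddMonoidAlgebra ℤ (ZMod h)) * x).coeff g = k * x.coeff g := by
  rw [← zsmul_eq_mul, AddMonoidAlgebra.coeff_smul, Finsupp.smul_apply, smul_eq_mul]

theorem coeff_intCast (k : ℤ) (g : ZMod h) :
    (k : AddMonoidAlgebra ℤ (ZMod h)).coeff g = if g = 0 then k else 0 := by
  rw [← mul_one (k : AddMonoidAlgebra ℤ (ZMod h)), coeff_intCast_mul, coeff_one']
  simp

/-- The trivial character. -/
noncomputable def aug : AddMonoidAlgebra ℤ (ZMod h) →ₐ[ℤ] ℤ :=
  AddMonoidAlgebra.lift ℤ ℤ (ZMod h) 1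

theorem aug_single (g : ZMod h) (r : ℤ) : aug (single g r) = r := by
  simp [aug, AddMonoidAlgebra.lift_single]

theorem aug_ind (S : Finset (ZMod h)) : aug (ind ℤ S) = S.card := by
  simp [ind, aug_single]

theorem aug_eq_sum (x : AddMonoidAlgebra ℤ (ZMod h)) : aug x = ∑ g, x.coeff g := by
  classical
  induction x using AddMonoidAlgebra.induction_on with
  | of g => simp [aug_single, Finsupp.single_apply]
  | add x y hx hy => simp [map_add, hx, hy, Finset.sum_add_distrib]
  | smul r x hx => rw [map_smul, hx, Finset.smul_sum]; simp [coeff_intCast_mul]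

theorem mul_ind_univ (x : AddMonoidAlgebra ℤ (ZMod h)) :
    x * ind ℤ Finset.univ = (aug x : AddMonoidAlgebra ℤ (ZMod h)) * ind ℤ Finset.univ := by
  classical
  induction x using AddMonoidAlgebra.induction_on with
  | of g =>
    rw [show AddMonoidAlgebra.of ℤ (ZMod h) (Multiplicative.ofAdd g) = single g 1 from rfl, aug_single,
      Int.cast_one, one_mul, ind, Finset.mul_sum]
    simp only [single_mul_single, mul_one]
    exact Fintype.sum_equiv (Equiv.addLeft g) _ _ fun i => rfl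
  | add x y hx hy => rw [add_mul, hx, hy, map_add, Int.cast_add, add_mul]
  | smul r x hx => rw [map_smul, smul_mul_assoc, hx, smul_eq_mul, Int.cast_mul, zsmul_eq_mul, mul_assoc]

/-- The mirror image of an element. -/
noncomputable def mirror : AddMonoidAlgebra ℤ (ZMod h) →+* AddMonoidAlgebra ℤ (ZMod h) :=
  mapDomainRingHom ℤ (-AddMonoidHom.id (ZMod h))

theorem mirror_ind (S : Finset (ZMod h)) :
    mirror (ind ℤ S) = ind ℤ (S.image fun x => -x) := by
  classical
  rw [ind, map_sum, ind, Finset.sum_image fun x _ y _ h => neg_injective h]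
  exact Finset.sum_congr rfl fun x _ => by simp [mirror]

theorem coeff_mirror (x : AddMonoidAlgebra ℤ (ZMod h)) (g : ZMod h) :
    (mirror x).coeff g = x.coeff (-g) := by
  classical
  induction x using AddMonoidAlgebra.induction_on with
  | of a =>
    rw [show AddMonoidAlgebra.of ℤ (ZMod h) (Multiplicative.ofAdd a) = single a 1 from rfl]
    simp [mirror, Finsupp.single_apply, neg_eq_iff_eq_neg]
  | add x y hx hy => simp [map_add, hx, hy]
  | smul r x hx => simp [map_zsmul, coeff_intCast_mul, hx]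

theorem coeff_mul_self_zero {x : AddMonoidAlgebra ℤ (ZMod h)} (hx : mirror x = x) :
    (x * x).coeff 0 = ∑ g, x.coeff g ^ 2 := by
  classical
  rw [AddMonoidAlgebra.coeff_mul_apply_left, Finsupp.sum_fintype _ _ (by simp)]
  refine Finset.sum_congr rfl fun g _ => ?_
  conv_lhs => rw [add_zero, ← coeff_mirror, hx]
  ring

/-- The case of values `0, ±1`: all but the identity. -/
theorem card_of_cube_eq (hh : Odd h) (Y : Finset (ZMod h)) (hY : Y.Nonempty) (h0 : (0 : ZMod h) ∉ Y)
    (hsym : Y.image (fun x => -x) = Y) (c : ℤ)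
    (hc : ind ℤ Y ^ 3 = ind ℤ Y + (c : AddMonoidAlgebra ℤ (ZMod h)) * ind ℤ Finset.univ) :
    Y.card + 1 = h := by
  classical
  set J : AddMonoidAlgebra ℤ (ZMod h) := ind ℤ Finset.univ
  set y : AddMonoidAlgebra ℤ (ZMod h) := ind ℤ Y
  have hi : Y.card ≠ 1 := by
    intro h1
    obtain ⟨g, rfl⟩ := Finset.card_eq_one.mp h1
    rw [Finset.image_singleton, Finset.singleton_inj] at hsym
    refine h0 (Finset.mem_singleton.mpr ?_)
    rw [ZMod.neg_eq_self_iff] at hsym
    rcases hsym with rfl | hg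
    · rfl
    · exact absurd (hh) (by rw [← hg]; simp)
  have hle : Y.card + 1 ≤ h := by
    have := Finset.card_le_univ (insert (0 : ZMod h) Y)
    rwa [Finset.card_insert_of_notMem h0, ZMod.card] at this
  set i : ℤ := (Y.card : ℤ) with hidef
  have haug : i ^ 3 = i + c * h := by
    have := congrArg aug hc
    simpa [aug_ind, y, J, map_intCast] using this
  set z := y * y with hz
  have hmy : mirror y = y := by rw [mirror_ind, hsym]
  have hmz : mirror z = z := by rw [map_mul, hmy]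
  have hz0 : z.coeff 0 = i := by
    rw [coeff_mul_self_zero hmy]
    simp [y, coeff_ind, hidef]
  have hz4 : (z * z).coeff 0 = i + c * i := by
    rw [show z * z = z + ((c * i : ℤ) : AddMonoidAlgebra ℤ (ZMod h)) * J by
      calc z * z = y ^ 3 * y := by rw [hz]; ring
        _ = y * y + (c : AddMonoidAlgebra ℤ (ZMod h)) * (y * J) := by rw [hc]; ring
        _ = _ := by rw [mul_ind_univ, aug_ind, hz, hidef]; push_cast; ring]
    rw [AddMonoidAlgebra.coeff_add, Finsupp.add_apply, coeff_intCast_mul, coeff_ind, hz0]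
    simp
  rw [coeff_mul_self_zero hmz, ← Finset.add_sum_erase _ _ (Finset.mem_univ (0 : ZMod h)), hz0] at hz4
  have hsum : i + ∑ g ∈ Finset.univ.erase 0, z.coeff g = i ^ 2 := by
    nth_rw 1 [← hz0]
    rw [Finset.add_sum_erase _ _ (Finset.mem_univ (0 : ZMod h)), ← aug_eq_sum, hz, map_mul, aug_ind]
    ring
  have hcs := sq_sum_le_card_mul_sum_sq (s := Finset.univ.erase (0 : ZMod h)) (f := fun g => z.coeff g)
  rw [Finset.card_erase_of_mem (Finset.mem_univ _), Finset.card_univ, ZMod.card,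
    Nat.cast_sub (by omega : 1 ≤ h), Nat.cast_one] at hcs
  have h2 : 2 ≤ i := by
    have := hY.card_pos
    omega
  have hP : (i * (i - 1)) * (((h : ℤ) - i) * ((h : ℤ) - i - 1)) ≤ 0 := by
    have h' := mul_le_mul_of_nonneg_left hcs (Int.natCast_nonneg h)
    rw [show ∑ g ∈ Finset.univ.erase 0, z.coeff g = i ^ 2 - i by linarith,
      show ∑ g ∈ Finset.univ.erase 0, z.coeff g ^ 2 = i + c * i - i ^ 2 by linarith] at h'
    have e1 : (h : ℤ) * c = i ^ 3 - i := by linarith
    have e2 : (h : ℤ) * (((h : ℤ) - 1) * (i + c * i - i ^ 2)) =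
        ((h : ℤ) - 1) * (h * i + (i ^ 3 - i) * i - h * i ^ 2) := by rw [← e1]; ring
    nlinarith
  have hpos : 0 < i * (i - 1) := by nlinarith
  have hP' : ((h : ℤ) - i) * ((h : ℤ) - i - 1) ≤ 0 := by
    by_contra hcon
    push Not at hcon
    nlinarith [mul_pos hpos hcon]
  by_contra hne
  have : i + 2 ≤ (h : ℤ) := by omega
  nlinarith

/-- Reduction of the coefficients modulo `ℓ`, and Frobenius. -/
theorem sum_fibre_mul {ℓ : ℕ} [Fact ℓ.Prime] (x : AddMonoidAlgebra ℤ (ZMod h)) (k : ℕ) (g : ZMod h) :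
    ((mapRingHom (ZMod h) (Int.castRingHom (ZMod ℓ)) x) ^ (ℓ ^ k)).coeff g =
      ((∑ u ∈ Finset.univ.filter fun u : ZMod h => (ℓ ^ k) • u = g, x.coeff u : ℤ) : ZMod ℓ) := by
  classical
  haveI : CharP (AddMonoidAlgebra (ZMod ℓ) (ZMod h)) ℓ :=
    charP_of_injective_ringHom (f := (AddMonoidAlgebra.singleZeroRingHom : ZMod ℓ →+* _))
      (fun a b hab => by simpa using congrArg (fun f => AddMonoidAlgebra.coeff f (0 : ZMod h)) hab) ℓ
  induction x using AddMonoidAlgebra.induction_on with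
  | of a =>
    rw [show AddMonoidAlgebra.of ℤ (ZMod h) (Multiplicative.ofAdd a) = single a 1 from rfl,
      AddMonoidAlgebra.mapRingHom_single, map_one, AddMonoidAlgebra.single_pow, one_pow]
    simp [Finsupp.single_apply]
  | add x y hx hy =>
    rw [map_add, add_pow_char_pow, AddMonoidAlgebra.coeff_add, Finsupp.add_apply, hx, hy]
    simp [Finset.sum_add_distrib]
  | smul r x hx =>
    rw [zsmul_eq_mul, map_mul, map_intCast, mul_pow]
    have hr : ((r : AddMonoidAlgebra (ZMod ℓ) (ZMod h))) ^ (ℓ ^ k) = r := by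
      rw [← map_intCast (AddMonoidAlgebra.singleZeroRingHom : ZMod ℓ →+* AddMonoidAlgebra (ZMod ℓ) (ZMod h)) r,
        ← map_pow, ZMod.pow_card_pow]
    rw [hr, ← zsmul_eq_mul, AddMonoidAlgebra.coeff_smul, Finsupp.smul_apply, hx]
    simp [Finset.mul_sum, coeff_intCast_mul]

/-- If `ℓ` divides `q`, Frobenius leaves only a constant. -/
theorem sum_fibre_const {ℓ : ℕ} [Fact ℓ.Prime] (x : AddMonoidAlgebra ℤ (ZMod h)) (q c : ℤ)
    (hq : (ℓ : ℤ) ∣ q) (hx : x ^ 3 = ((q ^ 2 : ℤ) : AddMonoidAlgebra ℤ (ZMod h)) * x + (c : AddMonoidAlgebra ℤ (ZMod h)) * ind ℤ Finset.univ)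
    (k : ℕ) (hk : 3 ≤ ℓ ^ k) :
    ∃ b : ZMod ℓ, ∀ g : ZMod h,
      ((∑ u ∈ Finset.univ.filter fun u : ZMod h => (ℓ ^ k) • u = g, x.coeff u : ℤ) : ZMod ℓ) = b := by
  classical
  obtain ⟨n, hn⟩ := Nat.exists_eq_add_of_le hk
  refine ⟨((c * aug (x ^ n) : ℤ) : ZMod ℓ), fun g => ?_⟩
  rw [← sum_fibre_mul, hn, ← map_pow]
  simp only [AddMonoidAlgebra.coeff_mapRingHom, Int.coe_castRingHom]
  have hq' : ((q : ℤ) : ZMod ℓ) = 0 := (ZMod.intCast_zmod_eq_zero_iff_dvd _ _).mpr hq
  rw [show x ^ (3 + n) = ((q ^ 2 : ℤ) : AddMonoidAlgebra ℤ (ZMod h)) * x ^ (n + 1) +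
      ((c * aug (x ^ n) : ℤ) : AddMonoidAlgebra ℤ (ZMod h)) * ind ℤ Finset.univ by
    rw [pow_add, hx, add_mul, mul_assoc (c : AddMonoidAlgebra ℤ (ZMod h)),
      mul_comm (ind ℤ Finset.univ), mul_ind_univ]
    push_cast; ring]
  rw [AddMonoidAlgebra.coeff_add, Finsupp.add_apply, coeff_intCast_mul, coeff_intCast_mul, coeff_ind,
    if_pos (Finset.mem_univ _), Int.cast_add, Int.cast_mul, Int.cast_pow, hq']
  simp

/-- A proper nonempty sum of nontrivial `ℓ`-th roots of unity is not an integer. -/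
theorem eq_of_sum_roots {ℓ : ℕ} [Fact ℓ.Prime] {ξ : ℂ} (hξ : IsPrimitiveRoot ξ ℓ) (S : Finset ℕ)
    (hS : ∀ j ∈ S, 1 ≤ j ∧ j < ℓ) (n : ℤ) (hn : ∑ j ∈ S, ξ ^ j = n) :
    (S = ∅ ∧ n = 0) ∨ (S = Finset.Ico 1 ℓ ∧ n = -1) := by
  classical
  open Polynomial in
  have hl := (Fact.out : ℓ.Prime)
  let P : Polynomial ℚ := ∑ j ∈ S, Polynomial.X ^ j - Polynomial.C (n : ℚ)
  have hev : Polynomial.aeval ξ P = 0 := by
    simp [P, hn]
  have hdvd : Polynomial.cyclotomic ℓ ℚ ∣ P := by
    rw [Polynomial.cyclotomic_eq_minpoly_rat hξ hl.pos]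
    exact minpoly.dvd ℚ ξ hev
  have hdeg : P.natDegree ≤ ℓ - 1 := by
    refine (Polynomial.natDegree_sub_le _ _).trans (max_le ?_ (by simp))
    refine Polynomial.natDegree_sum_le_of_forall_le _ _ fun j hj => ?_
    rw [Polynomial.natDegree_X_pow]
    have := hS j hj
    omega
  obtain ⟨Q, hQ⟩ := hdvd
  obtain ⟨r, hr⟩ : ∃ r : ℚ, Q = Polynomial.C r := by
    refine ⟨Q.coeff 0, Polynomial.eq_C_of_natDegree_eq_zero ?_⟩
    rcases eq_or_ne Q 0 with h | h
    · simp [h]
    · have := congrArg Polynomial.natDegree hQ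
      rw [Polynomial.natDegree_mul (Polynomial.cyclotomic_ne_zero _ _) h,
        Polynomial.natDegree_cyclotomic, Nat.totient_prime hl] at this
      omega
  have hcoef : ∀ j, j < ℓ → P.coeff j = r := by
    intro j hj
    rw [hQ, hr, Polynomial.coeff_mul_C, Polynomial.cyclotomic_prime, Polynomial.finsetSum_coeff]
    simp [Polynomial.coeff_X_pow, hj]
  have hj : ∀ j, 1 ≤ j → j < ℓ → (if j ∈ S then (1 : ℚ) else 0) = r := by
    intro j h1 h2
    rw [← hcoef j h2]
    simp only [P, Polynomial.coeff_sub, Polynomial.finsetSum_coeff, Polynomial.coeff_X_pow,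
      Polynomial.coeff_C, if_neg (show j ≠ 0 by omega), sub_zero, Finset.sum_ite_eq]
  have h0 : r = -(n : ℚ) := by
    rw [← hcoef 0 hl.pos]
    have : (0 : ℕ) ∉ S := fun h => absurd (hS 0 h).1 (by omega)
    simp [P, Polynomial.coeff_X_pow, this]
  by_cases h1 : (1 : ℕ) ∈ S
  · have hr1 := hj 1 le_rfl hl.one_lt
    rw [if_pos h1] at hr1
    refine Or.inr ⟨Finset.ext fun j => ⟨fun h => Finset.mem_Ico.mpr (hS j h), fun h => ?_⟩, ?_⟩
    · obtain ⟨ha, hb⟩ := Finset.mem_Ico.mp h
      by_contra hjn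
      have := hj j ha hb
      rw [if_neg hjn, ← hr1] at this
      exact zero_ne_one this
    · rw [← hr1] at h0
      exact_mod_cast (by linarith : (n : ℚ) = -1)
  · have hr1 := hj 1 le_rfl hl.one_lt
    rw [if_neg h1] at hr1
    refine Or.inl ⟨Finset.eq_empty_of_forall_notMem fun j h => ?_, ?_⟩
    · have := hj j (hS j h).1 (hS j h).2
      rw [if_pos h, ← hr1] at this
      exact one_ne_zero this
    · rw [← hr1] at h0
      exact_mod_cast (by linarith : (n : ℚ) = 0)

end CfsgLib.DihedralRing
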