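/-
The group-ring proof that a dihedral group of twice odd order has no primitive partial difference
set: descent along the primes of the eigenvalue gap, then the values `0, ±1`.
-/
import Mathlib
import Cfsg.Agent.Perm.DihedralGroupRing

set_option autoImplicit false

namespace CfsgLib.DihedralRing

open Finset AddMonoidAlgebra

variable {h : ℕ} [NeZero h]

theorem coeff_sub_intCast (D : Finset (ZMod h)) (R : ℤ) (u : ZMod h) :
    (ind ℤ D - (R : AddMonoidAlgebra ℤ (ZMod h))).coeff u =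
      (if u ∈ D then 1 else 0) - (if u = 0 then R else 0) := by
  rw [AddMonoidAlgebra.coeff_sub, Finsupp.sub_apply, coeff_ind, coeff_intCast]

theorem one_ne_zero_of_lt (hh : 1 < h) : (1 : ZMod h) ≠ 0 := by
  haveI : Fact (1 < h) := ⟨hh⟩
  exact one_ne_zero

/-- A prime of `q` makes `D` periodic outside its subgroup of that order, or trivial. -/
theorem prime_step (hh : Odd h) (D : Finset (ZMod h)) (h0 : (0 : ZMod h) ∉ D) (R q c : ℤ)
    (hF : (ind ℤ D - (R : AddMonoidAlgebra ℤ (ZMod h))) ^ 3 =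
      ((q ^ 2 : ℤ) : AddMonoidAlgebra ℤ (ZMod h)) * (ind ℤ D - (R : AddMonoidAlgebra ℤ (ZMod h))) +
        (c : AddMonoidAlgebra ℤ (ZMod h)) * ind ℤ Finset.univ)
    {ℓ : ℕ} [Fact ℓ.Prime] (hℓ : (ℓ : ℤ) ∣ q) :
    D = ∅ ∨ D = Finset.univ.erase 0 ∨
      ∃ (w : ℕ) (hw : w ∣ h) (Y : Finset (ZMod w)), h = ℓ * w ∧ (0 : ZMod w) ∉ Y ∧
        (∀ x : ZMod h, ZMod.castHom hw (ZMod w) x ≠ 0 → (x ∈ D ↔ ZMod.castHom hw (ZMod w) x ∈ Y)) ∧
        (((∀ x : ZMod h, ZMod.castHom hw (ZMod w) x = 0 → x ∉ D) ∧ (R = 0 ∨ R = q ∨ R = -q)) ∨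
          ((∀ x : ZMod h, ZMod.castHom hw (ZMod w) x = 0 → x ≠ 0 → x ∈ D) ∧
            (R + 1 = 0 ∨ R + 1 = q ∨ R + 1 = -q))) := by
  classical
  have hl := (Fact.out : ℓ.Prime)
  by_cases hlh : ℓ ∣ h
  swap
  · -- multiplication by `ℓ²` is bijective
    have hk : 3 ≤ ℓ ^ 2 := by
      calc 3 ≤ 2 ^ 2 := by norm_num
        _ ≤ ℓ ^ 2 := Nat.pow_le_pow_left hl.two_le 2
    obtain ⟨b, hb⟩ := sum_fibre_const _ q c hℓ hF 2 hk
    have hcop : (ℓ ^ 2).Coprime h := (hl.coprime_iff_not_dvd.mpr hlh).pow_left 2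
    have hu : IsUnit ((ℓ ^ 2 : ℕ) : ZMod h) := (ZMod.isUnit_iff_coprime _ _).mpr hcop
    have hval : ∀ u : ZMod h, u ≠ 0 → (((if u ∈ D then 1 else 0 : ℤ)) : ZMod ℓ) = b := by
      intro u hu0
      rw [← hb ((ℓ ^ 2) • u)]
      rw [Finset.sum_eq_single u]
      · rw [coeff_sub_intCast, if_neg hu0, sub_zero]
      · intro v hv hne
        exfalso
        rw [Finset.mem_filter, nsmul_eq_mul, nsmul_eq_mul] at hv
        exact hne (hu.mul_left_cancel hv.2)
      · intro h; simp at h
    by_cases hD : ∃ u ∈ D, True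
    · obtain ⟨u, hu', -⟩ := hD
      refine Or.inr (Or.inl (Finset.ext fun v => ⟨fun hv => ?_, fun hv => ?_⟩))
      · exact Finset.mem_erase.mpr ⟨fun h => h0 (h ▸ hv), Finset.mem_univ _⟩
      · have h1 := hval u fun h => h0 (h ▸ hu')
        have h2 := hval v (Finset.mem_erase.mp hv).1
        rw [if_pos hu'] at h1
        by_contra hvn
        rw [if_neg hvn, ← h1] at h2
        simp at h2
    · exact Or.inl (Finset.eq_empty_of_forall_notMem fun u hu => hD ⟨u, hu, trivial⟩)
  · obtain ⟨w, hw⟩ := hlh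
    have hwd : w ∣ h := Dvd.intro_left ℓ hw.symm
    set π := ZMod.castHom hwd (ZMod w) with hπ
    have hw0 : 0 < w := Nat.pos_of_ne_zero fun h0' => NeZero.ne h (by rw [hw, h0', mul_zero])
    haveI : NeZero w := ⟨hw0.ne'⟩
    have hl3 : 3 ≤ ℓ ^ 1 := by
      rw [pow_one]
      rcases hl.eq_two_or_odd with h2 | h2
      · exfalso
        rw [Nat.odd_iff, hw, h2] at hh
        omega
      · have := hl.two_le; omega
    obtain ⟨b, hb⟩ := sum_fibre_const _ q c hℓ hF 1 hl3
    simp only [pow_one] at hb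
    have hℓπ : ∀ u : ZMod h, (ℓ • u = 0 ↔ π u = 0) := by
      intro u
      obtain ⟨n, rfl⟩ : ∃ n : ℕ, (n : ZMod h) = u := ⟨u.val, ZMod.natCast_zmod_val u⟩
      rw [map_natCast, nsmul_eq_mul, ← Nat.cast_mul, ZMod.natCast_eq_zero_iff,
        ZMod.natCast_eq_zero_iff, hw]
      exact Nat.mul_dvd_mul_iff_left hl.pos
    have hℓπ' : ∀ u v : ZMod h, (ℓ • u = ℓ • v ↔ π u = π v) := by
      intro u v
      rw [← sub_eq_zero, ← smul_sub, hℓπ, map_sub, sub_eq_zero]
    have hb0 : b = 0 := by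
      rw [← hb 1, Finset.sum_eq_zero]
      · simp
      intro u hu
      exfalso
      have := congrArg (ZMod.castHom (Dvd.intro w hw.symm : ℓ ∣ h) (ZMod ℓ)) (Finset.mem_filter.mp hu).2
      rw [map_nsmul, map_one, nsmul_eq_mul, ZMod.natCast_self, zero_mul] at this
      exact zero_ne_one this
    -- fibres of `π`
    have hfib : ∀ z : ZMod w, (Finset.univ.filter fun u : ZMod h => π u = z) =
        (Finset.range ℓ).image fun j => ((z.val + j * w : ℕ) : ZMod h) := by
      intro z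
      ext u
      simp only [Finset.mem_filter, Finset.mem_univ, true_and, Finset.mem_image, Finset.mem_range]
      constructor
      · intro hu
        refine ⟨u.val / w, ?_, ?_⟩
        · rw [Nat.div_lt_iff_lt_mul hw0, ← hw]; exact ZMod.val_lt u
        · have : z.val = u.val % w := by
            rw [← hu, hπ, ← ZMod.val_natCast]
            congr 1
            conv_lhs => rw [← ZMod.natCast_zmod_val u, map_natCast]
          rw [this, mul_comm, Nat.mod_add_div, ZMod.natCast_zmod_val]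
      · rintro ⟨j, -, rfl⟩
        rw [map_natCast]
        push_cast
        rw [ZMod.natCast_self, mul_zero, add_zero, ZMod.natCast_zmod_val]
    have hfibc : ∀ z : ZMod w, (Finset.univ.filter fun u : ZMod h => π u = z).card = ℓ := by
      intro z
      rw [hfib, Finset.card_image_of_injOn, Finset.card_range]
      intro i hi j hj hij
      have hlt : ∀ i, i < ℓ → z.val + i * w < h := fun i hi => by
        have := ZMod.val_lt z
        have : (i + 1) * w ≤ ℓ * w := Nat.mul_le_mul_right _ hi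
        rw [hw]; rw [add_mul, one_mul] at this; omega
      have := congrArg ZMod.val hij
      rw [ZMod.val_natCast, ZMod.val_natCast, Nat.mod_eq_of_lt (hlt i (Finset.mem_range.mp hi)),
        Nat.mod_eq_of_lt (hlt j (Finset.mem_range.mp hj))] at this
      exact Nat.eq_of_mul_eq_mul_right hw0 (by omega)
    -- outside the subgroup every fibre is full or empty
    have hper : ∀ u v : ZMod h, π u ≠ 0 → π u = π v → u ∈ D → v ∈ D := by
      intro u v hu huv hD
      have h1 := hb (ℓ • u)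
      rw [hb0, ZMod.intCast_zmod_eq_zero_iff_dvd] at h1
      have hset : (Finset.univ.filter fun x : ZMod h => ℓ • x = ℓ • u) =
          Finset.univ.filter fun x : ZMod h => π x = π u :=
        Finset.filter_congr fun x _ => hℓπ' x u
      rw [hset, Finset.sum_congr rfl fun x hx => by
        rw [coeff_sub_intCast, if_neg (show x ≠ 0 from fun h => hu (by
          rw [← (Finset.mem_filter.mp hx).2, h, map_zero])), sub_zero],
        Finset.sum_boole] at h1
      have hdvd : ℓ ∣ ((Finset.univ.filter fun x : ZMod h => π x = π u).filter (· ∈ D)).card := by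
        exact_mod_cast h1
      have hpos : 0 < ((Finset.univ.filter fun x : ZMod h => π x = π u).filter (· ∈ D)).card :=
        Finset.card_pos.mpr ⟨u, by simp [hD]⟩
      have hfull := Finset.eq_of_subset_of_card_le (Finset.filter_subset (· ∈ D) _)
        (by rw [hfibc]; exact Nat.le_of_dvd hpos hdvd)
      have hv : v ∈ (Finset.univ.filter fun x : ZMod h => π x = π u) := by simp [huv]
      rw [← hfull] at hv
      exact (Finset.mem_filter.mp hv).2
    let Y : Finset (ZMod w) := (D.filter fun x => π x ≠ 0).image π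
    have hY : ∀ x : ZMod h, π x ≠ 0 → (x ∈ D ↔ π x ∈ Y) := by
      intro x hx
      refine ⟨fun hD => Finset.mem_image.mpr ⟨x, Finset.mem_filter.mpr ⟨hD, hx⟩, rfl⟩, fun h => ?_⟩
      obtain ⟨u, hu, hux⟩ := Finset.mem_image.mp h
      obtain ⟨huD, hu0⟩ := Finset.mem_filter.mp hu
      exact hper u x hu0 hux huD
    have hY0 : (0 : ZMod w) ∉ Y := fun h => by
      obtain ⟨u, hu, hu'⟩ := Finset.mem_image.mp h
      exact (Finset.mem_filter.mp hu).2 hu'
    -- a character that is nontrivial on the subgroup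
    obtain ⟨ζ, hζ⟩ : ∃ ζ : ℂ, IsPrimitiveRoot ζ h :=
      ⟨_, Complex.isPrimitiveRoot_exp h (NeZero.ne h)⟩
    have hξ : IsPrimitiveRoot (ζ ^ w) ℓ := hζ.pow (Nat.pos_of_ne_zero (NeZero.ne h)) (by rw [hw, mul_comm])
    let ψ : AddMonoidAlgebra ℤ (ZMod h) →ₐ[ℤ] ℂ :=
      AddMonoidAlgebra.lift ℤ ℂ (ZMod h) (AddChar.zmodChar h hζ.pow_eq_one).toMonoidHom
    have hψ : ∀ u : ZMod h, ψ (single u 1) = ζ ^ u.val := fun u => by
      simp [ψ, AddMonoidAlgebra.lift_single, AddChar.zmodChar_apply]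
    have hψadd : ∀ u v : ZMod h, ψ (single (u + v) 1) = ψ (single u 1) * ψ (single v 1) := fun u v => by
      rw [← map_mul, single_mul_single, mul_one]
    have hψw : ψ (single (w : ZMod h) 1) = ζ ^ w := by
      rw [hψ, ZMod.val_natCast, Nat.mod_eq_of_lt]
      rw [hw]; exact (lt_mul_iff_one_lt_left hw0).mpr hl.one_lt
    -- sums over translation invariant sets vanish
    have hinv : ∀ T : Finset (ZMod h), (∀ u, u ∈ T ↔ u + (w : ZMod h) ∈ T) →
        ∑ u ∈ T, ψ (single u 1) = 0 := by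
      intro T hT
      have himg : T.image (fun u => u + (w : ZMod h)) = T := by
        ext v
        simp only [Finset.mem_image]
        exact ⟨fun ⟨u, hu, h⟩ => h ▸ (hT u).mp hu,
          fun hv => ⟨v - w, (hT _).mpr (by rwa [sub_add_cancel]), sub_add_cancel _ _⟩⟩
      have h1 : ∑ u ∈ T, ψ (single u 1) = ζ ^ w * ∑ u ∈ T, ψ (single u 1) := by
        conv_lhs => rw [← himg, Finset.sum_image fun a _ b _ h => add_right_cancel h]
        rw [Finset.mul_sum]
        exact Finset.sum_congr rfl fun u _ => by rw [hψadd, hψw, mul_comm]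
      have h2 : (1 - ζ ^ w) * ∑ u ∈ T, ψ (single u 1) = 0 := by linear_combination h1
      exact (mul_eq_zero.mp h2).resolve_left (sub_ne_zero.mpr (hξ.ne_one hl.one_lt).symm)
    have hJ : ψ (ind ℤ Finset.univ) = 0 := by
      rw [ind, map_sum]; exact hinv _ fun u => by simp
    have hπw : π (w : ZMod h) = 0 := by rw [map_natCast, ZMod.natCast_self]
    have hout : ∑ u ∈ D.filter (fun u => π u ≠ 0), ψ (single u 1) = 0 := by
      refine hinv _ fun u => ?_
      simp only [Finset.mem_filter, map_add, hπw, add_zero]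
      exact and_congr_left fun hu => ⟨fun h => hper u _ hu (by rw [map_add, hπw, add_zero]) h,
        fun h => hper (u + w) u (by rwa [map_add, hπw, add_zero]) (by rw [map_add, hπw, add_zero]) h⟩
    -- the part inside the subgroup
    let S : Finset ℕ := (Finset.range ℓ).filter fun j => ((j * w : ℕ) : ZMod h) ∈ D
    have hS1 : ∀ j ∈ S, 1 ≤ j ∧ j < ℓ := by
      intro j hj
      obtain ⟨hjl, hjD⟩ := Finset.mem_filter.mp hj
      refine ⟨?_, Finset.mem_range.mp hjl⟩
      rcases Nat.eq_zero_or_pos j with rfl | h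
      · exact absurd (by simpa using hjD) h0
      · exact h
    have hzero : ∀ u : ZMod h, π u = 0 ↔ ∃ j < ℓ, ((j * w : ℕ) : ZMod h) = u := by
      intro u
      have := Finset.ext_iff.mp (hfib 0) u
      simpa [ZMod.val_zero] using this
    have hmod : ∀ j < ℓ, j * w < h := fun j hj => by
      rw [hw]; exact Nat.mul_lt_mul_of_pos_right hj hw0
    have hinD : ∑ u ∈ D.filter (fun u => π u = 0), ψ (single u 1) = ∑ j ∈ S, (ζ ^ w) ^ j := by
      have heq : D.filter (fun u => π u = 0) = S.image fun j => ((j * w : ℕ) : ZMod h) := by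
        ext u
        simp only [Finset.mem_filter, Finset.mem_image, S, Finset.mem_range]
        constructor
        · rintro ⟨hu, hu0⟩
          obtain ⟨j, hj, rfl⟩ := (hzero u).mp hu0
          exact ⟨j, ⟨hj, hu⟩, rfl⟩
        · rintro ⟨j, ⟨hj, hu⟩, rfl⟩
          exact ⟨hu, (hzero _).mpr ⟨j, hj, rfl⟩⟩
      rw [heq, Finset.sum_image]
      · refine Finset.sum_congr rfl fun j hj => ?_
        rw [hψ, ZMod.val_natCast, Nat.mod_eq_of_lt (hmod j (hS1 j hj).2), ← pow_mul, mul_comm j w]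
      · intro i hi j hj hij
        have := congrArg ZMod.val hij
        rw [ZMod.val_natCast, ZMod.val_natCast, Nat.mod_eq_of_lt (hmod i (hS1 i hi).2),
          Nat.mod_eq_of_lt (hmod j (hS1 j hj).2)] at this
        exact Nat.eq_of_mul_eq_mul_right hw0 this
    have hψF : ψ (ind ℤ D - (R : AddMonoidAlgebra ℤ (ZMod h))) = (∑ j ∈ S, (ζ ^ w) ^ j) - R := by
      rw [map_sub, map_intCast, ind, map_sum, ← Finset.sum_filter_add_sum_filter_not D (fun u => π u = 0),
        hinD, hout, add_zero]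
    have hcube := congrArg ψ hF
    simp only [map_pow, map_add, map_mul, map_intCast, hJ, mul_zero, add_zero, hψF, Int.cast_pow] at hcube
    obtain ⟨t, ht, htq⟩ : ∃ t : ℤ, (∑ j ∈ S, (ζ ^ w) ^ j) = ((R + t : ℤ) : ℂ) ∧
        (t = 0 ∨ t = q ∨ t = -q) := by
      set x := (∑ j ∈ S, (ζ ^ w) ^ j) - (R : ℂ) with hx
      have : x * (x - q) * (x + q) = 0 := by linear_combination hcube
      rcases mul_eq_zero.mp this with h1 | h1
      · rcases mul_eq_zero.mp h1 with h1 | h1
        · exact ⟨0, by push_cast; linear_combination h1, Or.inl rfl⟩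
        · exact ⟨q, by push_cast; linear_combination h1, Or.inr (Or.inl rfl)⟩
      · exact ⟨-q, by push_cast; linear_combination h1, Or.inr (Or.inr rfl)⟩
    refine Or.inr (Or.inr ⟨w, hwd, Y, hw, hY0, hY, ?_⟩)
    rcases eq_of_sum_roots hξ S hS1 (R + t) ht with ⟨hS, hn⟩ | ⟨hS, hn⟩
    · refine Or.inl ⟨fun x hx hxD => ?_, by omega⟩
      obtain ⟨j, hj, rfl⟩ := (hzero x).mp hx
      exact Finset.notMem_empty j (hS ▸ Finset.mem_filter.mpr ⟨Finset.mem_range.mpr hj, hxD⟩)
    · refine Or.inr ⟨fun x hx hx0 => ?_, by omega⟩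
      obtain ⟨j, hj, rfl⟩ := (hzero x).mp hx
      have hj1 : j ∈ S := by
        rw [hS, Finset.mem_Ico]
        refine ⟨?_, hj⟩
        rcases Nat.eq_zero_or_pos j with rfl | h
        · exact absurd (by simp) hx0
        · exact h
      exact (Finset.mem_filter.mp hj1).2

/-- A symmetric set with values `0, ±q` on the nontrivial characters is `h/q`-periodically all but one class. -/
theorem card_add_eq_of_cube (q : ℕ) (hq : 0 < q) : ∀ {h : ℕ} [NeZero h], Odd h →
    ∀ (D : Finset (ZMod h)), D.Nonempty → (0 : ZMod h) ∉ D → D.image (fun x => -x) = D → ∀ c : ℤ,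
      ind ℤ D ^ 3 = (((q : ℤ) ^ 2 : ℤ) : AddMonoidAlgebra ℤ (ZMod h)) * ind ℤ D +
        (c : AddMonoidAlgebra ℤ (ZMod h)) * ind ℤ Finset.univ →
      q ∣ h ∧ D.card + q = h := by
  classical
  induction q using Nat.strong_induction_on with
  | _ q ih =>
  intro h _ hh D hD h0 hsym c hc
  by_cases hq1 : q = 1
  · subst hq1
    exact ⟨one_dvd _, card_of_cube_eq hh D hD h0 hsym c (by simpa using hc)⟩
  obtain ⟨ℓ, hl, q', rfl⟩ := Nat.exists_prime_and_dvd hq1
  haveI := Fact.mk hl
  rcases prime_step (ℓ := ℓ) hh D h0 0 ((ℓ * q' : ℕ) : ℤ) c (by simpa using hc)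
      ⟨(q' : ℤ), by push_cast; ring⟩ with h1 | h1 | ⟨w, hwd, Y, hw, hY0, hY, h1 | h1⟩
  · exact absurd h1 hD.ne_empty
  · exfalso
    have hh1 : 1 < h := by
      obtain ⟨x, hx⟩ := hD
      by_contra hcon
      have : h = 1 := by have := NeZero.pos h; omega
      subst this
      exact h0 (Subsingleton.elim x 0 ▸ hx)
    have hind : ind ℤ D = ind ℤ Finset.univ - 1 := by
      refine AddMonoidAlgebra.ext (Finsupp.ext fun g => ?_)
      rw [AddMonoidAlgebra.coeff_sub, Finsupp.sub_apply, coeff_ind, coeff_ind, coeff_one', h1]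
      by_cases hg : g = 0 <;> simp [hg]
    have hJJ := mul_ind_univ (h := h) (ind ℤ Finset.univ)
    rw [aug_ind, Finset.card_univ, ZMod.card] at hJJ
    rw [hind] at hc
    have h2 : ((1 - ((ℓ * q' : ℕ) : ℤ) ^ 2 : ℤ) : AddMonoidAlgebra ℤ (ZMod h)) =
        (((h : ℤ) ^ 2 - 3 * h + 3 - c - ((ℓ * q' : ℕ) : ℤ) ^ 2 : ℤ) : AddMonoidAlgebra ℤ (ZMod h)) *
          ind ℤ Finset.univ := by
      push_cast at hc hJJ ⊢
      linear_combination -hc + (ind ℤ Finset.univ + (h : AddMonoidAlgebra ℤ (ZMod h)) - 3) * hJJ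
    have e0 := congrArg (fun f => AddMonoidAlgebra.coeff f (0 : ZMod h)) h2
    have e1 := congrArg (fun f => AddMonoidAlgebra.coeff f (1 : ZMod h)) h2
    simp only [coeff_intCast_mul, coeff_ind, coeff_intCast, if_pos (Finset.mem_univ _),
      if_neg (one_ne_zero_of_lt hh1), if_true] at e0 e1
    have : ((ℓ * q' : ℕ) : ℤ) ^ 2 = 1 := by linarith
    have h4 : (ℓ * q') ^ 2 = 1 := by exact_mod_cast this
    simp at h4
    exact hl.one_lt.ne' h4.1
  swap
  · exfalso
    have hq2 : (2 : ℤ) ≤ ((ℓ * q' : ℕ) : ℤ) := by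
      exact_mod_cast (by omega : 2 ≤ ℓ * q')
    omega
  have hw0 : NeZero w := ⟨fun h' => NeZero.ne h (by rw [hw, h', mul_zero])⟩
  set π := ZMod.castHom hwd (ZMod w) with hπ
  have hDY : ∀ x, x ∈ D ↔ π x ∈ Y := by
    intro x
    by_cases hx : π x = 0
    · exact iff_of_false (h1.1 x hx) (hx ▸ hY0)
    · exact hY x hx
  have hsurj : Function.Surjective π := ZMod.ringHom_surjective π
  let Φ := AddMonoidAlgebra.mapDomainRingHom ℤ π.toAddMonoidHom
  have hfib : ∀ z : ZMod w, (Finset.univ.filter fun u : ZMod h => π u = z).card = ℓ := by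
    intro z
    have hz : ∀ z' : ZMod w, (Finset.univ.filter fun u : ZMod h => π u = z').card =
        (Finset.univ.filter fun u : ZMod h => π u = z).card := fun z' =>
      AddMonoidHom.card_fiber_eq_of_mem_range π.toAddMonoidHom (hsurj z') (hsurj z)
    have := Finset.card_eq_sum_card_fiberwise (f := π) (s := (Finset.univ : Finset (ZMod h)))
      (t := Finset.univ) (fun _ _ => Finset.mem_univ _)
    rw [Finset.sum_congr rfl fun z' _ => hz z', Finset.sum_const, Finset.card_univ, Finset.card_univ,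
      ZMod.card, ZMod.card, smul_eq_mul] at this
    exact (Nat.eq_of_mul_eq_mul_left (NeZero.pos w) ((mul_comm w ℓ).trans (hw.symm.trans this))).symm
  have hΦ : ∀ (T : Finset (ZMod h)) (Z : Finset (ZMod w)), (∀ x, x ∈ T ↔ π x ∈ Z) →
      Φ (ind ℤ T) = ((ℓ : ℤ) : AddMonoidAlgebra ℤ (ZMod w)) * ind ℤ Z := by
    intro T Z hTZ
    rw [ind, map_sum, ind, Finset.mul_sum, ← Finset.sum_fiberwise_of_maps_to (g := π) (t := Z)
      (fun x hx => (hTZ x).mp hx)]
    refine Finset.sum_congr rfl fun z hz => ?_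
    have hT : T.filter (fun x => π x = z) = Finset.univ.filter fun x => π x = z := by
      ext x; simp only [Finset.mem_filter, Finset.mem_univ, true_and, and_iff_right_iff_imp]
      exact fun hx => (hTZ x).mpr (hx ▸ hz)
    rw [Finset.sum_congr rfl (g := fun _ => single z 1) fun x hx => by
      simp [Φ, (Finset.mem_filter.mp hx).2], Finset.sum_const, hT, hfib, nsmul_eq_mul, Int.cast_natCast]
  have hΦD := hΦ D Y hDY
  have hΦJ := hΦ Finset.univ Finset.univ (fun x => by simp)
  have hc' := congrArg Φ hc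
  rw [map_pow, map_add, map_mul, map_mul, map_intCast, map_intCast, hΦD, hΦJ] at hc'
  have hcoef : ∀ g, ((ℓ : ℤ) ^ 2) * (ind ℤ Y ^ 3 -
      (((q' : ℤ) ^ 2 : ℤ) : AddMonoidAlgebra ℤ (ZMod w)) * ind ℤ Y).coeff g = c := by
    intro g
    have h3 : (((ℓ : ℤ) ^ 3 : ℤ) : AddMonoidAlgebra ℤ (ZMod w)) * (ind ℤ Y ^ 3 -
        (((q' : ℤ) ^ 2 : ℤ) : AddMonoidAlgebra ℤ (ZMod w)) * ind ℤ Y) =
        ((c * ℓ : ℤ) : AddMonoidAlgebra ℤ (ZMod w)) * ind ℤ Finset.univ := by
      push_cast at hc' ⊢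
      linear_combination hc'
    have := congrArg (fun f => AddMonoidAlgebra.coeff f g) h3
    simp only [coeff_intCast_mul, coeff_ind, if_pos (Finset.mem_univ _), mul_one] at this
    refine mul_right_cancel₀ (b := (ℓ : ℤ)) (by exact_mod_cast hl.ne_zero) ?_
    linarith
  set c' := (ind ℤ Y ^ 3 - (((q' : ℤ) ^ 2 : ℤ) : AddMonoidAlgebra ℤ (ZMod w)) * ind ℤ Y).coeff 0
  have hY3 : ind ℤ Y ^ 3 = (((q' : ℤ) ^ 2 : ℤ) : AddMonoidAlgebra ℤ (ZMod w)) * ind ℤ Y +
      (c' : AddMonoidAlgebra ℤ (ZMod w)) * ind ℤ Finset.univ := by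
    rw [← sub_eq_iff_eq_add']
    refine AddMonoidAlgebra.ext (Finsupp.ext fun g => ?_)
    rw [coeff_intCast_mul, coeff_ind, if_pos (Finset.mem_univ _), mul_one]
    exact mul_left_cancel₀ (pow_ne_zero 2 (by exact_mod_cast hl.ne_zero)) ((hcoef g).trans (hcoef 0).symm)
  have hYne : Y.Nonempty := hD.elim fun x hx => ⟨π x, (hDY x).mp hx⟩
  have hYsym : Y.image (fun z => -z) = Y := by
    ext z
    obtain ⟨x, rfl⟩ := hsurj z
    simp only [Finset.mem_image]
    rw [← hDY]
    constructor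
    · rintro ⟨z', hz', hz⟩
      rw [neg_eq_iff_eq_neg] at hz
      rw [← hsym, Finset.mem_image]
      exact ⟨-x, (hDY _).mpr (by rw [map_neg, ← hz]; exact hz'), neg_neg x⟩
    · intro hx
      rw [← hsym, Finset.mem_image] at hx
      obtain ⟨y, hy, rfl⟩ := hx
      exact ⟨π y, (hDY y).mp hy, (map_neg π y).symm⟩
  have hcard : D.card = ℓ * Y.card := by
    rw [Finset.card_eq_sum_card_fiberwise (f := π) (t := Y) (fun x hx => (hDY x).mp hx),
      Finset.sum_congr rfl (g := fun _ => ℓ) ?_, Finset.sum_const, smul_eq_mul, mul_comm]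
    intro z hz
    rw [← hfib z]
    congr 1
    ext x
    simp only [Finset.mem_filter, Finset.mem_univ, true_and, and_iff_right_iff_imp]
    exact fun hx => (hDY x).mpr (hx ▸ hz)
  have hq'0 : 0 < q' := Nat.pos_of_ne_zero (by rintro rfl; simp at hq)
  obtain ⟨hd, he⟩ := ih q' (lt_mul_of_one_lt_left hq'0 hl.one_lt) hq'0
    (hh.of_dvd_nat hwd) Y hYne hY0 hYsym c' hY3
  refine ⟨(Nat.mul_dvd_mul_left ℓ hd).trans (dvd_of_eq hw.symm), ?_⟩
  calc D.card + ℓ * q' = ℓ * w := by rw [hcard, ← mul_add, he]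
    _ = h := hw.symm

end CfsgLib.DihedralRing
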