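/-
No primitive strongly regular graph admits a regular dihedral group of order `2h`, `h` odd, whose
rotations see the same connection set on both orbits.
-/
import Mathlib
import Cfsg.Agent.Perm.DihedralRankThree

set_option autoImplicit false

namespace CfsgLib.DihedralRing

open Finset AddMonoidAlgebra

variable {h : ℕ} [NeZero h]

theorem coeff_ind_mul_ind (S T : Finset (ZMod h)) (g : ZMod h) :
    (ind ℤ S * ind ℤ T).coeff g = (S.filter fun x => g - x ∈ T).card := by
  classical
  rw [AddMonoidAlgebra.coeff_mul_apply_left, Finsupp.sum_fintype _ _ (by simp)]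
  simp only [coeff_ind, neg_add_eq_sub, ite_mul, one_mul, zero_mul, Finset.sum_ite_mem,
    Finset.univ_inter, Finset.sum_boole]

/-- The parameters of a strongly regular Cayley graph on the dihedral group. -/
structure SRGData (D E : Finset (ZMod h)) (a μ : ℤ) : Prop where
  zero_notMem : (0 : ZMod h) ∉ D
  symm : D.image (fun x => -x) = D
  eq₁ : ind ℤ D * ind ℤ D + ind ℤ E * ind ℤ (E.image fun x => -x) =
    (((D.card : ℤ) + E.card : ℤ) : AddMonoidAlgebra ℤ (ZMod h)) +
      (a : AddMonoidAlgebra ℤ (ZMod h)) * ind ℤ D +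
      (μ : AddMonoidAlgebra ℤ (ZMod h)) * (ind ℤ Finset.univ - 1 - ind ℤ D)
  eq₂ : 2 * (ind ℤ D * ind ℤ E) = (a : AddMonoidAlgebra ℤ (ZMod h)) * ind ℤ E +
    (μ : AddMonoidAlgebra ℤ (ZMod h)) * (ind ℤ Finset.univ - ind ℤ E)
  incomplete : (D.card : ℤ) + E.card ≠ 2 * h - 1
  mu_ne_zero : μ ≠ 0
  mu_ne_val : μ ≠ D.card + E.card

variable {D E : Finset (ZMod h)} {a μ : ℤ}

theorem SRGData.count (S : SRGData D E a μ) :
    ((D.card : ℤ) + E.card) * ((D.card : ℤ) + E.card - 1 - a) =
      μ * (2 * h - 1 - ((D.card : ℤ) + E.card)) := by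
  have h1 := congrArg aug S.eq₁
  have h2 := congrArg aug S.eq₂
  simp only [map_add, map_mul, map_sub, map_one, map_intCast, map_ofNat, aug_ind,
    Finset.card_image_of_injective _ neg_injective, Finset.card_univ, ZMod.card, Int.cast_id] at h1 h2
  linear_combination h1 + h2

/-- The complementary graph. -/
theorem SRGData.compl (S : SRGData D E a μ) :
    SRGData (Finset.univ \ insert 0 D) (Finset.univ \ E)
      (2 * h - 2 - 2 * ((D.card : ℤ) + E.card) + μ) (2 * h - 2 * ((D.card : ℤ) + E.card) + a) := by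
  classical
  have hD' : ind ℤ (Finset.univ \ insert 0 D) = ind ℤ Finset.univ - 1 - ind ℤ D := by
    refine AddMonoidAlgebra.ext (Finsupp.ext fun g => ?_)
    simp only [AddMonoidAlgebra.coeff_sub, Finsupp.sub_apply, coeff_ind, coeff_one']
    by_cases hg : g = 0
    · subst hg; simp [S.zero_notMem]
    · by_cases hgD : g ∈ D <;> simp [hg, hgD]
  have hE' : ind ℤ (Finset.univ \ E) = ind ℤ Finset.univ - ind ℤ E := by
    refine AddMonoidAlgebra.ext (Finsupp.ext fun g => ?_)
    simp only [AddMonoidAlgebra.coeff_sub, Finsupp.sub_apply, coeff_ind]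
    by_cases hgE : g ∈ E <;> simp [hgE]
  have hmirror : ind ℤ ((Finset.univ \ E).image fun x => -x) =
      ind ℤ Finset.univ - ind ℤ (E.image fun x => -x) := by
    rw [← mirror_ind, hE', map_sub, mirror_ind, mirror_ind, Finset.image_univ_of_surjective neg_surjective]
  have hc1 : ((Finset.univ \ insert 0 D).card : ℤ) = h - 1 - D.card := by
    rw [Finset.card_sdiff_of_subset (Finset.subset_univ _), Finset.card_univ, ZMod.card,
      Finset.card_insert_of_notMem S.zero_notMem, Nat.cast_sub]
    · push_cast; ring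
    · have := Finset.card_le_univ (insert (0 : ZMod h) D)
      rwa [Finset.card_insert_of_notMem S.zero_notMem, ZMod.card] at this
  have hc2 : ((Finset.univ \ E).card : ℤ) = h - E.card := by
    rw [Finset.card_sdiff_of_subset (Finset.subset_univ _), Finset.card_univ, ZMod.card, Nat.cast_sub]
    exact (Finset.card_le_univ E).trans (ZMod.card h).le
  have hcount := S.count
  have hlam : (0 : ℤ) < (D.card : ℤ) + E.card := by
    by_contra hle
    have hd : D = ∅ := Finset.card_eq_zero.mp (by omega)
    have he : E = ∅ := Finset.card_eq_zero.mp (by omega)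
    have h2 := congrArg (fun f => AddMonoidAlgebra.coeff f (0 : ZMod h)) S.eq₂
    simp [hd, he, coeff_intCast_mul, coeff_ind, ind] at h2
    exact S.mu_ne_zero h2.symm
  have hJJ := mul_ind_univ (h := h) (ind ℤ Finset.univ)
  have hDJ := mul_ind_univ (h := h) (ind ℤ D)
  have hEJ := mul_ind_univ (h := h) (ind ℤ E)
  have hE'J := mul_ind_univ (h := h) (ind ℤ (E.image fun x => -x))
  rw [aug_ind, Finset.card_univ, ZMod.card] at hJJ
  rw [aug_ind] at hDJ hEJ
  rw [aug_ind, Finset.card_image_of_injective _ neg_injective] at hE'J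
  push_cast at hJJ hDJ hEJ hE'J
  refine ⟨by simp, ?_, ?_, ?_, ?_, ?_, ?_⟩
  · ext x
    have hx : x ∈ D ↔ -x ∈ D := by
      constructor <;> intro hx <;> rw [← S.symm, Finset.mem_image]
      · exact ⟨x, hx, rfl⟩
      · exact ⟨-x, hx, neg_neg x⟩
    simp only [Finset.mem_image, Finset.mem_sdiff, Finset.mem_univ, true_and, Finset.mem_insert, not_or]
    constructor
    · rintro ⟨y, ⟨hy0, hyD⟩, rfl⟩
      exact ⟨neg_ne_zero.mpr hy0, fun h => hyD (by simpa using (hx).mp h)⟩
    · exact fun ⟨h0, hD⟩ => ⟨-x, ⟨neg_ne_zero.mpr h0, fun h => hD (hx.mpr h)⟩, neg_neg x⟩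
  · rw [hD', hmirror, hE', hc1, hc2]
    have e := S.eq₁
    push_cast at e ⊢
    linear_combination e + 2 * hJJ - 2 * hDJ - hEJ - hE'J
  · rw [hD', hE']
    have e := S.eq₂
    push_cast at e ⊢
    linear_combination e + 2 * hJJ - 2 * hDJ - 2 * hEJ
  · rw [hc1, hc2]; omega
  · intro hz
    have : (2 * (h : ℤ) - 1 - ((D.card : ℤ) + E.card)) * ((D.card : ℤ) + E.card - μ) = 0 := by
      linear_combination hcount + ((D.card : ℤ) + E.card) * hz
    rcases mul_eq_zero.mp this with h1 | h1
    · exact S.incomplete (by omega)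
    · exact S.mu_ne_val (by omega)
  · rw [hc1, hc2]
    intro hz
    have ha : a = (D.card : ℤ) + E.card - 1 := by linarith
    rw [ha, sub_self, mul_zero, eq_comm, mul_eq_zero] at hcount
    rcases hcount with h1 | h1
    · exact S.mu_ne_zero h1
    · exact S.incomplete (by omega)

/-- No such graph. -/
theorem SRGData.false (hh : Odd h) (S : SRGData D E a μ) : False := by
  classical
  -- first: `(a - μ)/2` is `0` or `-1`; then the complement lets us assume `0`
  suffices key : ∀ (D E : Finset (ZMod h)) (a μ : ℤ), SRGData D E a μ →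
      (a = μ ∨ a - μ = -2) ∧ (a = μ → False) by
    obtain ⟨h1 | h1, h2⟩ := key D E a μ S
    · exact h2 h1
    · exact (key _ _ _ _ S.compl).2 (by linarith)
  clear! D E a μ
  intro D E a μ S
  set d : ℤ := (D.card : ℤ) with hd
  set e : ℤ := (E.card : ℤ) with he
  set J : AddMonoidAlgebra ℤ (ZMod h) := ind ℤ Finset.univ with hJ
  have hcount := S.count
  have hcoef : ∀ g, 2 * ((D.filter fun x => g - x ∈ E).card : ℤ) = if g ∈ E then a else μ := by
    intro g
    have := congrArg (fun f => AddMonoidAlgebra.coeff f g) S.eq₂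
    simp only [AddMonoidAlgebra.coeff_add, Finsupp.add_apply, coeff_intCast_mul,
      AddMonoidAlgebra.coeff_sub, Finsupp.sub_apply, coeff_ind, Finset.mem_univ, if_true, two_mul,
      coeff_ind_mul_ind] at this
    rw [two_mul, this]
    split_ifs <;> ring
  have hEne : E.Nonempty := by
    by_contra hE
    rw [Finset.not_nonempty_iff_eq_empty] at hE
    exact S.mu_ne_zero (by simpa [hE] using (hcoef 0).symm)
  have hEfull : ∃ g, g ∉ E := by
    by_contra hE
    push Not at hE
    obtain rfl : E = Finset.univ := Finset.eq_univ_of_forall hE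
    have h1 := congrArg aug S.eq₁
    have h2 := hcoef 0
    simp [Finset.mem_univ] at h2
    simp only [map_add, map_mul, map_sub, map_one, map_intCast, aug_ind,
      Finset.card_image_of_injective _ neg_injective, Finset.card_univ, ZMod.card, Int.cast_id] at h1
    have hee : e = h := by simp [he]
    have h3 : (μ - h - d) * ((h : ℤ) - 1 - d) = 0 := by
      rw [hd]
      linear_combination -h1 + (D.card : ℤ) * h2
    rcases mul_eq_zero.mp h3 with h4 | h4
    · exact S.mu_ne_val (by simp; linarith)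
    · exact S.incomplete (by simp; linarith)
  obtain ⟨g₀, hg₀⟩ := hEfull
  obtain ⟨g₁, hg₁⟩ := hEne
  obtain ⟨a', rfl⟩ : ∃ a', a = 2 * a' := by
    have := hcoef g₁; rw [if_pos hg₁] at this; exact ⟨_, this.symm⟩
  obtain ⟨m, rfl⟩ : ∃ m, μ = 2 * m := by
    have := hcoef g₀; rw [if_neg hg₀] at this; exact ⟨_, this.symm⟩
  have hμle : 2 * m ≤ d + e := by
    have h1 := hcoef g₀
    rw [if_neg hg₀] at h1
    have h2 : ((D.filter fun x => g₀ - x ∈ E).card : ℤ) ≤ d := by
      rw [hd]; exact_mod_cast Finset.card_filter_le _ _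
    have h3 : ((D.filter fun x => g₀ - x ∈ E).card : ℤ) ≤ e := by
      rw [he]
      exact_mod_cast Finset.card_le_card_of_injOn (fun x => g₀ - x)
        (fun x hx => (Finset.mem_filter.mp hx).2) (fun x _ y _ h => sub_right_injective h)
    linarith
  set R := a' - m with hR
  set F : AddMonoidAlgebra ℤ (ZMod h) := ind ℤ D - (R : AddMonoidAlgebra ℤ (ZMod h)) with hF
  have hFE : F * ind ℤ E = (m : AddMonoidAlgebra ℤ (ZMod h)) * J := by
    refine AddMonoidAlgebra.ext (Finsupp.ext fun g => mul_left_cancel₀ (two_ne_zero (α := ℤ)) ?_)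
    rw [hF, sub_mul, AddMonoidAlgebra.coeff_sub, Finsupp.sub_apply, coeff_ind_mul_ind, coeff_intCast_mul,
      coeff_intCast_mul, coeff_ind, coeff_ind, if_pos (Finset.mem_univ g), hR]
    have := hcoef g
    split_ifs at this ⊢ <;> linarith
  set Q := R ^ 2 + (d + e) - 2 * m with hQ
  have hFF : F * F + ind ℤ E * ind ℤ (E.image fun x => -x) =
      (Q : AddMonoidAlgebra ℤ (ZMod h)) + ((2 * m : ℤ) : AddMonoidAlgebra ℤ (ZMod h)) * J := by
    have e1 := S.eq₁
    rw [hF, hQ, hR, hd, he]
    push_cast at e1 ⊢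
    linear_combination e1
  have a1 := congrArg aug hFE
  have a2 := congrArg aug hFF
  simp only [hF, hJ, map_sub, map_add, map_mul, map_intCast, aug_ind, Finset.card_univ,
    ZMod.card, Finset.card_image_of_injective _ neg_injective, Int.cast_id, ← hd, ← he] at a1 a2
  have hQsq : Q = (d - R - e) ^ 2 := by linear_combination -a2 + 2 * a1
  have hpos : 0 < Q := by
    have := S.mu_ne_val
    have : (2 * m) < d + e := lt_of_le_of_ne hμle this
    nlinarith
  set q := (d - R - e).natAbs with hq
  have hq2 : (q : ℤ) ^ 2 = Q := by rw [hQsq, hq, Int.natAbs_sq]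
  have hq0 : q ≠ 0 := fun h0 => by rw [h0] at hq2; simp at hq2; omega
  have hcube : F ^ 3 = (((q : ℤ) ^ 2 : ℤ) : AddMonoidAlgebra ℤ (ZMod h)) * F +
      ((2 * m * (d - R) - m * e : ℤ) : AddMonoidAlgebra ℤ (ZMod h)) * J := by
    rw [hq2]
    have e1 := mul_ind_univ (h := h) F
    have e2 := mul_ind_univ (h := h) (ind ℤ (E.image fun x => -x))
    rw [aug_ind, Finset.card_image_of_injective _ neg_injective, ← he] at e2
    rw [show aug F = d - R by simp [hF, aug_ind, hd, map_intCast]] at e1
    rw [← hJ] at e1 e2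
    push_cast at e1 e2 hFF ⊢
    linear_combination F * hFF - (ind ℤ (E.image fun x => -x)) * hFE +
      2 * (m : AddMonoidAlgebra ℤ (ZMod h)) * e1 - (m : AddMonoidAlgebra ℤ (ZMod h)) * e2
  have hq1 : q ≠ 1 := by
    intro h1
    rw [h1] at hq2
    have hR0 : R = 0 := by
      have := S.mu_ne_val
      have : (2 * m) < d + e := lt_of_le_of_ne hμle this
      have h4 : 2 * m + 1 ≤ d + e := by omega
      push_cast at hq2
      have : R ^ 2 = 0 := by nlinarith [sq_nonneg R]
      simpa using this
    have : d + e = 2 * m + 1 := by rw [hR0] at hQ; push_cast at hq2; linarith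
    have hae : 2 * a' = 2 * m := by omega
    rw [hae, show d + e - 1 - 2 * m = 0 by linarith, mul_zero, eq_comm, mul_eq_zero] at hcount
    rcases hcount with h2 | h2
    · exact S.mu_ne_zero h2
    · exact S.incomplete (by omega)
  obtain ⟨ℓ, hl, hlq⟩ := Nat.exists_prime_and_dvd hq1
  haveI := Fact.mk hl
  have hD : D ≠ ∅ := fun h0 => by
    have := congrArg (fun f => AddMonoidAlgebra.coeff f g₀) hFE
    simp [hF, h0, ind, coeff_intCast_mul, sub_mul, AddMonoidAlgebra.coeff_sub,
      Finsupp.single_apply, hg₀, hJ] at this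
    exact S.mu_ne_zero (by rw [← this]; simp)
  have hR01 : R = 0 ∨ R = -1 := by
    have noR : R ≠ q ∧ R ≠ -(q : ℤ) := by
      constructor <;> intro h1 <;>
      · have hsq : R ^ 2 = Q := by rw [← hq2, h1]; all_goals ring
        exact S.mu_ne_val (by rw [← hd, ← he]; linarith)
    have noR1 : R + 1 ≠ q ∧ R + 1 ≠ -(q : ℤ) := by
      constructor <;> intro h1 <;>
      · have hsq : (R + 1) ^ 2 = Q := by rw [← hq2, h1]; all_goals ring
        have hz : d + e - 1 - 2 * a' = 0 := by rw [hQ] at hsq; linear_combination -hsq + 2 * hR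
        rw [hz, mul_zero, eq_comm, mul_eq_zero] at hcount
        rcases hcount with h2 | h2
        · exact S.mu_ne_zero h2
        · exact S.incomplete (by omega)
    rcases prime_step hh D S.zero_notMem R q _ hcube (ℓ := ℓ) (Int.natCast_dvd_natCast.mpr hlq) with
      h1 | h1 | ⟨w, hwd, Y, -, -, -, ⟨-, h1⟩ | ⟨-, h1⟩⟩
    · exact absurd h1 hD
    · right
      have hind : ind ℤ D = J - 1 := by
        refine AddMonoidAlgebra.ext (Finsupp.ext fun g => ?_)
        rw [AddMonoidAlgebra.coeff_sub, Finsupp.sub_apply, hJ, coeff_ind, coeff_ind, coeff_one', h1]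
        by_cases hg : g = 0 <;> simp [hg]
      have e1 := mul_ind_univ (h := h) (ind ℤ E)
      rw [aug_ind, ← he, ← hJ] at e1
      have h2 : ((R + 1 : ℤ) : AddMonoidAlgebra ℤ (ZMod h)) * ind ℤ E =
          ((e - m : ℤ) : AddMonoidAlgebra ℤ (ZMod h)) * J := by
        rw [hF, hind] at hFE
        push_cast
        linear_combination -hFE + e1
      have f0 := congrArg (fun f => AddMonoidAlgebra.coeff f g₀) h2
      have f1 := congrArg (fun f => AddMonoidAlgebra.coeff f g₁) h2
      simp only [coeff_intCast_mul, hJ, coeff_ind, if_neg hg₀, if_pos hg₁,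
        if_pos (Finset.mem_univ _)] at f0 f1
      omega
    · rcases h1 with h1 | h1 | h1
      exacts [Or.inl h1, absurd h1 noR.1, absurd h1 noR.2]
    · rcases h1 with h1 | h1 | h1
      exacts [Or.inr (by omega), absurd h1 noR1.1, absurd h1 noR1.2]
  refine ⟨by omega, fun ha => ?_⟩
  have hR0 : R = 0 := by omega
  have hFD : F = ind ℤ D := by rw [hF, hR0]; simp
  rw [hFD] at hcube
  obtain ⟨⟨w, hw⟩, hcard⟩ := card_add_eq_of_cube q (Nat.pos_of_ne_zero hq0) hh D
    (Finset.nonempty_of_ne_empty hD) S.zero_notMem S.symm _ hcube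
  rw [hR0, sub_zero] at a1 hq hQsq
  have hdw : d = q * ((w : ℤ) - 1) := by
    have : (D.card : ℤ) + q = h := by exact_mod_cast hcard
    rw [hd, show (D.card : ℤ) = h - q by linarith, hw]
    push_cast; ring
  have hQ' : Q = d + e - 2 * m := by rw [hQ, hR0]; ring
  have hhw : (h : ℤ) = q * w := by exact_mod_cast hw
  rcases Int.natAbs_eq (d - e) with h1 | h1 <;> rw [← hq] at h1
  · have heq : e = q * ((w : ℤ) - 2) := by linarith
    have hm : (w : ℤ) * m = q * (((w : ℤ) - 1) * ((w : ℤ) - 2)) := by
      refine mul_left_cancel₀ (show (q : ℤ) ≠ 0 by exact_mod_cast hq0) ?_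
      rw [hdw, heq, hhw] at a1
      linear_combination -a1
    have hkey : (w : ℤ) * (3 - q) = 4 := by
      refine mul_left_cancel₀ (show (q : ℤ) ≠ 0 by exact_mod_cast hq0) ?_
      have : (q : ℤ) ^ 2 = q * (2 * w - 3) - 2 * m := by
        rw [hq2, hQ', hdw, heq]; ring
      linear_combination -(w : ℤ) * this + 2 * hm
    have hwd : (w : ℤ) ∣ 4 := ⟨_, hkey.symm⟩
    have hwodd : Odd w := by rw [hw] at hh; exact (Nat.odd_mul.mp hh).2
    have hwd' : w ∣ 4 := by exact_mod_cast hwd
    have : w = 1 := by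
      have hle := Nat.le_of_dvd (by norm_num) hwd'
      rw [Nat.odd_iff] at hwodd
      rcases (by omega : w = 1 ∨ w = 3) with h3 | h3
      · exact h3
      · subst h3; norm_num at hwd'
    subst this
    norm_num at hdw
    exact hD (Finset.card_eq_zero.mp (by rw [hd] at hdw; exact_mod_cast hdw))
  · have hee : e = h := by rw [hhw]; linarith
    have : E = Finset.univ := Finset.eq_univ_of_card E (by
      rw [ZMod.card]; rw [he] at hee; exact_mod_cast hee)
    exact hg₀ (this ▸ Finset.mem_univ _)

end CfsgLib.DihedralRing
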