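/-
A rank three group of degree `2h`, `h` odd, whose orbital graph admits a dihedral group regularly,
is imprimitive: translation into the group ring.
-/
import Mathlib
import Cfsg.Agent.Perm.DihedralNoSRG

set_option autoImplicit false

namespace CfsgLib.DihedralRing

open Finset AddMonoidAlgebra

variable {Ω : Type*} [Fintype Ω] [DecidableEq Ω] {h : ℕ} [NeZero h]

/-- A graph on the points of `U` with at most two orbits of a transitive group, preserved by a dihedral
group through the parametrisations `A`, `B`: one of the two trivial equivalences. -/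
theorem no_dihedral_rank_three (hh : Odd h) (U : Finset Ω) (R : Ω → Ω → Prop) [DecidableRel R]
    (A B : ZMod h → Ω) (hAU : ∀ i, A i ∈ U) (hBU : ∀ i, B i ∈ U) (hAinj : Function.Injective A)
    (hBinj : Function.Injective B) (hAB : ∀ i j, A i ≠ B j)
    (hcov : ∀ u ∈ U, (∃ i, u = A i) ∨ ∃ i, u = B i)
    (hsymm : ∀ u ∈ U, ∀ v ∈ U, R u v → R v u) (hirr : ∀ u ∈ U, ¬ R u u)
    (hAA : ∀ i j k, R (A i) (A j) ↔ R (A (i + k)) (A (j + k)))
    (hABt : ∀ i j k, R (A i) (B j) ↔ R (A (i + k)) (B (j + k)))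
    (hBB : ∀ i j, R (B i) (B j) ↔ R (A (-i)) (A (-j)))
    (a μ : ℕ)
    (ha : ∀ u ∈ U, ∀ v ∈ U, R u v → (U.filter fun x => R u x ∧ R v x).card = a)
    (hμ : ∀ u ∈ U, ∀ v ∈ U, u ≠ v → ¬ R u v → (U.filter fun x => R u x ∧ R v x).card = μ)
    (hinc : ∃ v ∈ U, v ≠ A 0 ∧ ¬ R (A 0) v)
    (hμ0 : μ ≠ 0) (hμv : μ ≠ (U.filter fun x => R (A 0) x).card) : False := by
  classical
  set D : Finset (ZMod h) := Finset.univ.filter fun i => R (A 0) (A i) with hD
  set E : Finset (ZMod h) := Finset.univ.filter fun i => R (A 0) (B i) with hE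
  have hDm : ∀ i, i ∈ D ↔ R (A 0) (A i) := fun i => by simp [hD]
  have hEm : ∀ i, i ∈ E ↔ R (A 0) (B i) := fun i => by simp [hE]
  have hU : U = Finset.univ.image A ∪ Finset.univ.image B := by
    ext u
    simp only [Finset.mem_union, Finset.mem_image, Finset.mem_univ, true_and]
    refine ⟨fun hu => ?_, ?_⟩
    · rcases hcov u hu with ⟨i, rfl⟩ | ⟨i, rfl⟩
      · exact Or.inl ⟨i, rfl⟩
      · exact Or.inr ⟨i, rfl⟩
    · rintro (⟨i, rfl⟩ | ⟨i, rfl⟩)
      · exact hAU i
      · exact hBU i
  have hsplit : ∀ P : Ω → Prop, ∀ [DecidablePred P], (U.filter P).card =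
      (Finset.univ.filter fun i => P (A i)).card + (Finset.univ.filter fun i => P (B i)).card := by
    intro P _
    rw [hU, Finset.filter_union, Finset.card_union_of_disjoint, Finset.filter_image, Finset.filter_image,
      Finset.card_image_of_injective _ hAinj, Finset.card_image_of_injective _ hBinj]
    rw [Finset.disjoint_left]
    intro u hu hu'
    simp only [Finset.mem_filter, Finset.mem_image, Finset.mem_univ, true_and] at hu hu'
    obtain ⟨⟨i, rfl⟩, -⟩ := hu
    obtain ⟨⟨j, hj⟩, -⟩ := hu'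
    exact hAB i j hj.symm
  have hDsym : ∀ i, i ∈ D → -i ∈ D := by
    intro i hi
    rw [hDm] at hi ⊢
    have := (hAA i 0 (-i)).mp (hsymm _ (hAU _) _ (hAU _) hi)
    rwa [add_neg_cancel, zero_add] at this
  have hDsym' : ∀ i, -i ∈ D ↔ i ∈ D := fun i => ⟨fun h => by simpa using hDsym _ h, hDsym i⟩
  have hAA' : ∀ i j, R (A i) (A j) ↔ j - i ∈ D := fun i j => by
    rw [hDm, hAA i j (-i), add_neg_cancel, sub_eq_add_neg]
  have hAB' : ∀ i j, R (A i) (B j) ↔ j - i ∈ E := fun i j => by
    rw [hEm, hABt i j (-i), add_neg_cancel, sub_eq_add_neg]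
  have hBB' : ∀ i j, R (B i) (B j) ↔ j - i ∈ D := fun i j => by
    rw [hBB, hAA', show -j - -i = -(j - i) by ring, hDsym']
  have hBA' : ∀ i j, R (B i) (A j) ↔ i - j ∈ E := fun i j => by
    rw [← hAB']
    exact ⟨fun h => hsymm _ (hBU _) _ (hAU _) h, fun h => hsymm _ (hAU _) _ (hBU _) h⟩
  have hsym : D.image (fun x => -x) = D := by
    ext x
    simp only [Finset.mem_image]
    exact ⟨fun ⟨y, hy, e⟩ => e ▸ hDsym y hy, fun hx => ⟨-x, hDsym x hx, neg_neg x⟩⟩
  have h00 : (0 : ZMod h) ∉ D := fun h0 => hirr _ (hAU 0) ((hDm 0).mp h0)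
  have hval : (U.filter fun x => R (A 0) x).card = D.card + E.card := by
    rw [hsplit]
  have hnegmem : ∀ x, x ∈ E.image (fun y => -y) ↔ -x ∈ E := fun x => by
    simp only [Finset.mem_image]
    exact ⟨fun ⟨y, hy, e⟩ => by rw [← e, neg_neg]; exact hy, fun hx => ⟨-x, hx, neg_neg x⟩⟩
  refine SRGData.false (D := D) (E := E) (a := (a : ℤ)) (μ := (μ : ℤ)) hh
    ⟨h00, hsym, ?_, ?_, ?_, by exact_mod_cast hμ0, ?_⟩
  · refine AddMonoidAlgebra.ext (Finsupp.ext fun g => ?_)
    simp only [AddMonoidAlgebra.coeff_add, Finsupp.add_apply, coeff_ind_mul_ind, coeff_intCast,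
      coeff_intCast_mul, AddMonoidAlgebra.coeff_sub, Finsupp.sub_apply, coeff_ind, coeff_one',
      Finset.mem_univ, if_true]
    have hc : ((U.filter fun x => R (A 0) x ∧ R (A g) x).card : ℤ) =
        ((D.filter fun x => g - x ∈ D).card : ℤ) +
          ((E.filter fun x => g - x ∈ E.image fun y => -y).card : ℤ) := by
      rw [hsplit]
      push_cast
      congr 2
      · congr 1
        ext x
        simp only [Finset.mem_filter, Finset.mem_univ, true_and, hAA', sub_zero]
        exact and_congr_right fun _ => by rw [← hDsym' (x - g), neg_sub]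
      · congr 1
        ext x
        simp only [Finset.mem_filter, Finset.mem_univ, true_and, hAB', sub_zero, hnegmem, neg_sub]
    rw [← hc]
    by_cases hg : g = 0
    · subst hg
      simp only [and_self, hval, h00, if_false, if_true]
      push_cast; ring
    · by_cases hgD : g ∈ D
      · rw [ha _ (hAU _) _ (hAU _) ((hDm g).mp hgD)]
        simp [hg, hgD]
      · rw [hμ _ (hAU _) _ (hAU _) (fun e => hg (hAinj e).symm) (fun e => hgD ((hDm g).mpr e))]
        simp [hg, hgD]
  · refine AddMonoidAlgebra.ext (Finsupp.ext fun g => ?_)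
    simp only [two_mul, AddMonoidAlgebra.coeff_add, Finsupp.add_apply, coeff_ind_mul_ind,
      coeff_intCast_mul, AddMonoidAlgebra.coeff_sub, Finsupp.sub_apply, coeff_ind,
      Finset.mem_univ, if_true]
    have hc : ((U.filter fun x => R (A 0) x ∧ R (B g) x).card : ℤ) =
        ((D.filter fun x => g - x ∈ E).card : ℤ) + ((D.filter fun x => g - x ∈ E).card : ℤ) := by
      rw [hsplit]
      push_cast
      congr 2
      · congr 1
        ext x
        simp only [Finset.mem_filter, Finset.mem_univ, true_and, hAA', hBA', sub_zero]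
      · refine Finset.card_nbij' (fun x => g - x) (fun x => g - x) ?_ ?_ (fun x _ => sub_sub_cancel g x)
          (fun x _ => sub_sub_cancel g x) <;>
        · intro x hx
          simp only [Finset.mem_coe, Finset.mem_filter, Finset.mem_univ, true_and, hBB', hAB', sub_zero,
            sub_sub_cancel, sub_sub_cancel_left, hDsym'] at hx ⊢
          first
          | exact ⟨by rw [← hDsym', neg_sub]; exact hx.2, hx.1⟩
          | exact ⟨hx.2, hx.1⟩
    rw [← hc]
    by_cases hgE : g ∈ E
    · rw [ha _ (hAU _) _ (hBU _) ((hEm g).mp hgE)]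
      simp [hgE]
    · rw [hμ _ (hAU _) _ (hBU _) (hAB 0 g) (fun e => hgE ((hEm g).mpr e))]
      simp [hgE]
  · intro hfull
    obtain ⟨v, hvU, hv0, hvR⟩ := hinc
    have hss : U.filter (fun x => R (A 0) x) ⊆ (U.erase (A 0)).erase v := by
      intro x hx
      obtain ⟨hxU, hxR⟩ := Finset.mem_filter.mp hx
      exact Finset.mem_erase.mpr ⟨fun e => hvR (e ▸ hxR),
        Finset.mem_erase.mpr ⟨fun e => hirr _ (hAU 0) (by rw [e] at hxR; exact hxR), hxU⟩⟩
    have hle := Finset.card_le_card hss
    rw [hval, Finset.card_erase_of_mem (Finset.mem_erase.mpr ⟨hv0, hvU⟩),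
      Finset.card_erase_of_mem (hAU 0)] at hle
    have hUc : U.card = h + h := by
      have := hsplit (fun _ => True)
      simpa [ZMod.card] using this
    have := NeZero.pos h
    omega
  · rw [← Nat.cast_add, ← hval]
    exact_mod_cast hμv

end CfsgLib.DihedralRing
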