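/-
A primitive group of twice odd degree whose rank is at most three and which is normalised by an
involution making a cyclic semiregular subgroup dihedral regular has rank two.
-/
import Mathlib
import Cfsg.Agent.Perm.DihedralRankThreeGroup

set_option autoImplicit false

namespace CfsgLib.DihedralRing

variable {X Ω : Type*} [Group X] [MulAction X Ω]

/-- The orbital of `v` under `K` at the base point `u₀`. -/
def Orbital (K : Subgroup X) (u₀ v x y : Ω) : Prop := ∃ k ∈ K, k • u₀ = x ∧ k • v = y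

variable [Fintype Ω] [DecidableEq Ω] {h : ℕ} [NeZero h]

/-- Rank at most three, primitive, with a regular dihedral group: rank two. -/
theorem two_point_transitive (hh : Odd h) (K : Subgroup X) (U : Finset Ω) (u₀ : Ω) (hu₀U : u₀ ∈ U)
    (hUcard : U.card = 2 * h)
    (hKU : ∀ k ∈ K, ∀ x ∈ U, k • x ∈ U) (hKtrans : ∀ x ∈ U, ∃ k ∈ K, k • u₀ = x)
    (hthree : ∀ v₁ ∈ U, ∀ v₂ ∈ U, ∀ v₃ ∈ U, v₁ ≠ u₀ → v₂ ≠ u₀ → v₃ ≠ u₀ →
      (∀ k ∈ K, k • u₀ = u₀ → k • v₁ ≠ v₂) →
      ∃ k ∈ K, k • u₀ = u₀ ∧ (k • v₁ = v₃ ∨ k • v₂ = v₃))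
    (hprim : ∀ B : Set Ω, B ⊆ U → u₀ ∈ B → (∃ v ∈ B, v ≠ u₀) → (∃ v ∈ U, v ∉ B) →
      (∀ k ∈ K, ∀ x ∈ B, k • x ∈ B → ∀ y ∈ B, k • y ∈ B) → False)
    (cp : ZMod h → X) (hcpK : ∀ i, cp i ∈ K) (hcp0 : cp 0 = 1)
    (hcpadd : ∀ i j, cp (i + j) = cp i * cp j) (w : X) (hww : w * w = 1)
    (hwK : ∀ k ∈ K, w * k * w ∈ K) (hwU : ∀ x ∈ U, w • x ∈ U)
    (hwcp : ∀ i, w * cp i = cp (-i) * w) (hAinj : Function.Injective fun i => cp i • u₀)
    (hfree : ∀ i, (cp i * w) • u₀ ≠ u₀) :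
    ∀ v ∈ U, ∀ v' ∈ U, v ≠ u₀ → v' ≠ u₀ → ∃ k ∈ K, k • u₀ = u₀ ∧ k • v = v' := by
  classical
  intro v₁ hv₁ v₂ hv₂ n1 n2
  by_contra hsep
  push Not at hsep
  let R : Ω → Ω → Ω → Prop := fun v x y => Orbital K u₀ v x y
  have hhpos := NeZero.pos h
  have hRinv : ∀ v x y, ∀ k ∈ K, R v x y → R v (k • x) (k • y) := by
    rintro v x y k hk ⟨m, hm, rfl, rfl⟩
    exact ⟨k * m, mul_mem hk hm, mul_smul _ _ _, mul_smul _ _ _⟩
  have hRU : ∀ v ∈ U, ∀ x y, R v x y → x ∈ U ∧ y ∈ U := by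
    rintro v hv x y ⟨m, hm, rfl, rfl⟩
    exact ⟨hKU m hm _ hu₀U, hKU m hm _ hv⟩
  have hRne : ∀ v, v ≠ u₀ → ∀ x y, R v x y → x ≠ y := by
    rintro v hv x y ⟨m, -, rfl, rfl⟩ h
    exact hv (smul_left_cancel m h).symm
  have hex : ∀ x y, R v₁ x y → ¬ R v₂ x y := by
    rintro x y ⟨m, hm, rfl, rfl⟩ ⟨m', hm', h1, h2⟩
    refine hsep (m'⁻¹ * m) (mul_mem (inv_mem hm') hm) ?_ ?_
    · rw [mul_smul, ← h1, inv_smul_smul]
    · rw [mul_smul, ← h2, inv_smul_smul]
  have hall : ∀ x ∈ U, ∀ y ∈ U, x ≠ y → R v₁ x y ∨ R v₂ x y := by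
    intro x hx y hy hxy
    obtain ⟨m, hm, rfl⟩ := hKtrans x hx
    obtain ⟨k, hk, hku, hkv⟩ := hthree v₁ hv₁ v₂ hv₂ (m⁻¹ • y) (hKU _ (inv_mem hm) _ hy) n1 n2
      (fun h => hxy (by rw [← h, smul_inv_smul])) hsep
    rcases hkv with h | h
    · exact Or.inl ⟨m * k, mul_mem hm hk, by rw [mul_smul, hku], by rw [mul_smul, h, smul_inv_smul]⟩
    · exact Or.inr ⟨m * k, mul_mem hm hk, by rw [mul_smul, hku], by rw [mul_smul, h, smul_inv_smul]⟩
  let N : Ω → Ω → Finset Ω := fun v x => U.filter fun y => R v x y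
  have hNle : ∀ v, ∀ x ∈ U, (N v x).card = (N v u₀).card := by
    intro v x hx
    obtain ⟨m, hm, rfl⟩ := hKtrans x hx
    refine Finset.card_nbij' (fun y => m⁻¹ • y) (fun y => m • y) ?_ ?_
      (fun y _ => smul_inv_smul m y) (fun y _ => inv_smul_smul m y)
    · intro y hy
      simp only [N, Finset.coe_filter, Set.mem_setOf_eq] at hy ⊢
      refine ⟨hKU _ (inv_mem hm) _ hy.1, ?_⟩
      simpa using hRinv v _ _ _ (inv_mem hm) hy.2
    · intro y hy
      simp only [N, Finset.coe_filter, Set.mem_setOf_eq] at hy ⊢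
      exact ⟨hKU _ hm _ hy.1, hRinv v _ _ _ hm hy.2⟩
  have hsum : (N v₁ u₀).card + (N v₂ u₀).card = 2 * h - 1 := by
    rw [← Finset.card_union_of_disjoint (Finset.disjoint_filter.mpr fun y _ => hex u₀ y)]
    have : N v₁ u₀ ∪ N v₂ u₀ = U.erase u₀ := by
      ext y
      simp only [N, Finset.mem_union, Finset.mem_filter, Finset.mem_erase]
      constructor
      · rintro (⟨hy, hR⟩ | ⟨hy, hR⟩)
        exacts [⟨(hRne v₁ n1 _ _ hR).symm, hy⟩, ⟨(hRne v₂ n2 _ _ hR).symm, hy⟩]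
      · rintro ⟨hne, hy⟩
        exact (hall u₀ hu₀U y hy hne.symm).imp (fun h => ⟨hy, h⟩) (fun h => ⟨hy, h⟩)
    rw [this, Finset.card_erase_of_mem hu₀U, hUcard]
  have hneq : (N v₁ u₀).card ≠ (N v₂ u₀).card := fun h => by omega
  -- self-paired
  have hsymm1 : ∀ x y, R v₁ x y → R v₁ y x := by
    have hvu : R v₁ v₁ u₀ := by
      by_contra hn
      have h2 := (hall v₁ hv₁ u₀ hu₀U n1).resolve_left hn
      have hfw : ∀ x y, R v₁ x y → R v₂ y x := by
        rintro x y ⟨m, hm, rfl, rfl⟩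
        exact hRinv _ _ _ m hm h2
      obtain ⟨m₀, hm₀, hma, hmb⟩ := h2
      have hbw : ∀ x y, R v₂ x y → R v₁ y x := by
        rintro x y ⟨m, hm, rfl, rfl⟩
        refine ⟨m * m₀⁻¹, mul_mem hm (inv_mem hm₀), ?_, ?_⟩
        · nth_rw 1 [← hmb]; rw [mul_smul, inv_smul_smul]
        · nth_rw 1 [← hma]; rw [mul_smul, inv_smul_smul]
      have hcount : ((U ×ˢ U).filter fun q => R v₁ q.1 q.2).card =
          ((U ×ˢ U).filter fun q => R v₂ q.1 q.2).card := by
        refine Finset.card_nbij' Prod.swap Prod.swap ?_ ?_ (fun _ _ => Prod.swap_swap _)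
          (fun _ _ => Prod.swap_swap _) <;>
        · intro q hq
          simp only [Finset.coe_filter, Finset.mem_product, Set.mem_setOf_eq, Prod.fst_swap,
            Prod.snd_swap] at hq ⊢
          first
          | exact ⟨hq.1.symm, hfw _ _ hq.2⟩
          | exact ⟨hq.1.symm, hbw _ _ hq.2⟩
      have hc : ∀ v, ((U ×ˢ U).filter fun q => R v q.1 q.2).card = U.card * (N v u₀).card := by
        intro v
        rw [Finset.card_filter, Finset.sum_product, ← smul_eq_mul, ← Finset.sum_const]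
        exact Finset.sum_congr rfl fun x hx => by rw [← hNle v x hx, Finset.card_filter]
      rw [hc, hc, hUcard] at hcount
      exact hneq (Nat.eq_of_mul_eq_mul_left (by omega) hcount)
    rintro x y ⟨m, hm, rfl, rfl⟩
    exact hRinv _ _ _ m hm hvu
  have hflip : ∀ (m : X) (x : Ω), (w * m * w) • w • x = w • m • x := fun m x => by
    rw [← mul_smul, mul_assoc, hww, mul_one, mul_smul]
  have hw1R : ∀ x y, R v₁ x y → R v₁ (w • x) (w • y) := by
    have hbase : R v₁ (w • u₀) (w • v₁) := by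
      by_contra hn
      have h2 := (hall _ (hwU _ hu₀U) _ (hwU _ hv₁)
        (fun h => n1 (smul_left_cancel w h).symm)).resolve_left hn
      have hfw : ∀ x y, R v₁ x y → R v₂ (w • x) (w • y) := by
        rintro x y ⟨m, hm, rfl, rfl⟩
        rw [← hflip m u₀, ← hflip m v₁]
        exact hRinv _ _ _ _ (hwK m hm) h2
      obtain ⟨m₀, hm₀, hma, hmb⟩ := h2
      have hbw : ∀ x y, R v₂ x y → R v₁ (w • x) (w • y) := by
        rintro x y ⟨m, hm, rfl, rfl⟩
        refine ⟨w * (m * m₀⁻¹) * w, hwK _ (mul_mem hm (inv_mem hm₀)), ?_, ?_⟩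
        · rw [mul_smul, ← hma, mul_smul, mul_smul, inv_smul_smul]
        · rw [mul_smul, ← hmb, mul_smul, mul_smul, inv_smul_smul]
      have hle : ∀ a b, (∀ x y, R a x y → R b (w • x) (w • y)) → (N a u₀).card ≤ (N b u₀).card := by
        intro a b hab
        rw [← hNle b _ (hwU _ hu₀U)]
        refine Finset.card_le_card_of_injOn (fun y => w • y) ?_ (fun _ _ _ _ h => smul_left_cancel w h)
        intro y hy
        simp only [N, Finset.coe_filter, Set.mem_setOf_eq] at hy ⊢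
        exact ⟨hwU _ hy.1, hab _ _ hy.2⟩
      exact hneq (le_antisymm (hle _ _ hfw) (hle _ _ hbw))
    rintro x y ⟨m, hm, rfl, rfl⟩
    rw [← hflip m u₀, ← hflip m v₁]
    exact hRinv _ _ _ _ (hwK m hm) hbase
  have hwR : ∀ x y, R v₁ (w • x) (w • y) ↔ R v₁ x y := fun x y =>
    ⟨fun h => by
      have h' := hw1R _ _ h
      rwa [← mul_smul, ← mul_smul, hww, one_smul, one_smul] at h', hw1R x y⟩
  -- parameters
  let com : Ω → Ω → ℕ := fun x y => (U.filter fun u => R v₁ x u ∧ R v₁ y u).card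
  have hcom : ∀ k ∈ K, ∀ x y, com (k • x) (k • y) = com x y := by
    intro k hk x y
    refine Finset.card_nbij' (fun u => k⁻¹ • u) (fun u => k • u) ?_ ?_
      (fun u _ => smul_inv_smul k u) (fun u _ => inv_smul_smul k u)
    · intro u hu
      simp only [Finset.coe_filter, Set.mem_setOf_eq] at hu ⊢
      refine ⟨hKU _ (inv_mem hk) _ hu.1, ?_, ?_⟩
      · simpa using hRinv _ _ _ _ (inv_mem hk) hu.2.1
      · simpa using hRinv _ _ _ _ (inv_mem hk) hu.2.2
    · intro u hu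
      simp only [Finset.coe_filter, Set.mem_setOf_eq] at hu ⊢
      exact ⟨hKU _ hk _ hu.1, hRinv _ _ _ _ hk hu.2.1, hRinv _ _ _ _ hk hu.2.2⟩
  have hcom' : ∀ v x y, R v x y → com x y = com u₀ v := by
    rintro v x y ⟨m, hm, rfl, rfl⟩
    exact hcom m hm u₀ v
  -- no equivalence
  have hequiv : ∀ v v', v ∈ U → v ≠ u₀ → v' ∈ U → v' ≠ u₀ → ¬ R v u₀ v' →
      (∀ x y u, R v x y → R v y u → x ≠ u → R v x u) → (∀ x y, R v x y → R v y x) → False := by
    intro v v' hvU hvu hv'U hv'u hsep' htr hsy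
    refine hprim {y | y = u₀ ∨ R v u₀ y} ?_ (Or.inl rfl)
      ⟨v, Or.inr ⟨1, one_mem _, one_smul _ _, one_smul _ _⟩, hvu⟩ ⟨v', hv'U, ?_⟩ ?_
    · rintro y (rfl | hy)
      exacts [hu₀U, (hRU v hvU _ _ hy).2]
    · rintro (h1 | h1)
      exacts [hv'u h1, hsep' h1]
    · intro k hk x hx hkx y hy
      let Eq' : Ω → Ω → Prop := fun a b => a = b ∨ R v a b
      have htr' : ∀ a b d, Eq' a b → Eq' b d → Eq' a d := by
        rintro a b d (rfl | h1) (rfl | h2)
        · exact Or.inl rfl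
        · exact Or.inr h2
        · exact Or.inr h1
        · by_cases had : a = d
          · exact Or.inl had
          · exact Or.inr (htr _ _ _ h1 h2 had)
      have hsy' : ∀ a b, Eq' a b → Eq' b a := fun a b h => h.imp Eq.symm (hsy _ _)
      have hB : ∀ y, y ∈ {y | y = u₀ ∨ R v u₀ y} ↔ Eq' u₀ y := fun y => or_congr_left eq_comm
      rw [hB] at hx hkx hy ⊢
      have hxy : Eq' x y := htr' _ _ _ (hsy' _ _ hx) hy
      exact htr' _ _ _ hkx (hxy.imp (fun h => by rw [h]) (hRinv _ _ _ _ hk))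
  have hself : ∀ v, R v u₀ v := fun v => ⟨1, one_mem _, one_smul _ _, one_smul _ _⟩
  -- the two parametrisations
  let A : ZMod h → Ω := fun i => cp i • u₀
  let B : ZMod h → Ω := fun i => w • cp (-i) • u₀
  have hBinj : Function.Injective B := fun i j hij => neg_injective (hAinj (smul_left_cancel w hij))
  have hAU : ∀ i, A i ∈ U := fun i => hKU _ (hcpK i) _ hu₀U
  have hBU : ∀ i, B i ∈ U := fun i => hwU _ (hKU _ (hcpK _) _ hu₀U)
  have hcancel : ∀ i, cp (-i) * cp i = 1 := fun i => by rw [← hcpadd, neg_add_cancel, hcp0]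
  have hBcp : ∀ i, B i = cp i • w • u₀ := fun i => by
    show w • cp (-i) • u₀ = _
    rw [← mul_smul, ← mul_smul, hwcp, neg_neg]
  have hAB : ∀ i j, A i ≠ B j := by
    intro i j hij
    rw [hBcp] at hij
    apply hfree (-i + j)
    rw [hcpadd, mul_smul, mul_smul, ← hij]
    show cp (-i) • cp i • u₀ = u₀
    rw [← mul_smul, hcancel, one_smul]
  have hcov : ∀ x ∈ U, (∃ i, x = A i) ∨ ∃ i, x = B i := by
    intro x hx
    have heq : Finset.univ.image A ∪ Finset.univ.image B = U := by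
      refine Finset.eq_of_subset_of_card_le ?_ ?_
      · intro y hy
        simp only [Finset.mem_union, Finset.mem_image, Finset.mem_univ, true_and] at hy
        rcases hy with ⟨i, rfl⟩ | ⟨i, rfl⟩
        exacts [hAU i, hBU i]
      · rw [Finset.card_union_of_disjoint, Finset.card_image_of_injective _ hAinj,
          Finset.card_image_of_injective _ hBinj, Finset.card_univ, ZMod.card, hUcard]
        · omega
        · rw [Finset.disjoint_left]
          simp only [Finset.mem_image, Finset.mem_univ, true_and]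
          rintro _ ⟨i, rfl⟩ ⟨j, hij⟩
          exact hAB i j hij.symm
    rw [← heq] at hx
    simp only [Finset.mem_union, Finset.mem_image, Finset.mem_univ, true_and] at hx
    exact hx.imp (fun ⟨i, hi⟩ => ⟨i, hi.symm⟩) (fun ⟨i, hi⟩ => ⟨i, hi.symm⟩)
  have hshiftA : ∀ i k, cp k • A i = A (i + k) := fun i k => by
    show cp k • cp i • u₀ = cp (i + k) • u₀
    rw [← mul_smul, ← hcpadd, add_comm]
  have hshiftB : ∀ i k, cp k • B i = B (i + k) := fun i k => by
    rw [hBcp, hBcp, ← mul_smul, ← hcpadd, add_comm]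
  have hA0 : A 0 = u₀ := by show cp 0 • u₀ = u₀; rw [hcp0, one_smul]
  refine no_dihedral_rank_three hh U (fun x y => R v₁ x y) A B hAU hBU hAinj hBinj hAB hcov
    (fun x _ y _ => hsymm1 x y) (fun x _ h => hRne v₁ n1 x x h rfl) ?_ ?_ (fun i j => hwR _ _)
    (com u₀ v₁) (com u₀ v₂) (fun x _ y _ h => hcom' v₁ x y h)
    (fun x hx y hy hne h => hcom' v₂ x y ((hall x hx y hy hne).resolve_left h))
    ⟨v₂, hv₂, by rw [hA0]; exact n2, fun h => hex u₀ v₂ (hA0 ▸ h) (hself v₂)⟩ ?_ ?_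
  · intro i j k
    constructor
    · intro h
      rw [← hshiftA, ← hshiftA]
      exact hRinv _ _ _ _ (hcpK k) h
    · intro h
      have := hRinv _ _ _ _ (hcpK (-k)) h
      rwa [hshiftA, hshiftA, add_neg_cancel_right, add_neg_cancel_right] at this
  · intro i j k
    constructor
    · intro h
      rw [← hshiftA, ← hshiftB]
      exact hRinv _ _ _ _ (hcpK k) h
    · intro h
      have := hRinv _ _ _ _ (hcpK (-k)) h
      rwa [hshiftA, hshiftB, add_neg_cancel_right, add_neg_cancel_right] at this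
  · -- disjoint cliques
    intro h0
    refine hequiv v₁ v₂ hv₁ n1 hv₂ n2 (fun h => hex _ _ h (hself v₂))
      (fun x y u hxy hyu hxu => ?_) hsymm1
    rcases hall x (hRU _ hv₁ _ _ hxy).1 u (hRU _ hv₁ _ _ hyu).2 hxu with h1 | h1
    · exact h1
    · exfalso
      have : y ∈ U.filter fun s => R v₁ x s ∧ R v₁ u s :=
        Finset.mem_filter.mpr ⟨(hRU _ hv₁ _ _ hxy).2, hxy, hsymm1 _ _ hyu⟩
      have := Finset.card_pos.mpr ⟨y, this⟩
      have h2 : com x u = com u₀ v₂ := hcom' v₂ x u h1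
      simp only [com] at h2 h0
      omega
  · -- complete multipartite
    intro hk
    have hNeq : ∀ x y, R v₂ x y → N v₁ x = N v₁ y := by
      intro x y hxy
      obtain ⟨hx, hy⟩ := hRU _ hv₂ _ _ hxy
      have hc : (U.filter fun s => R v₁ x s ∧ R v₁ y s).card = (N v₁ u₀).card := by
        have := hcom' v₂ x y hxy
        simp only [com] at this hk
        rw [this, hk, hA0]
      have e1 := Finset.eq_of_subset_of_card_le
        (Finset.monotone_filter_right U (fun s _ (h : R v₁ x s ∧ R v₁ y s) => h.1))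
        (by rw [hc]; exact (hNle v₁ x hx).le)
      have e2 := Finset.eq_of_subset_of_card_le
        (Finset.monotone_filter_right U (fun s _ (h : R v₁ x s ∧ R v₁ y s) => h.2))
        (by rw [hc]; exact (hNle v₁ y hy).le)
      exact e1.symm.trans e2
    have hsymm2 : ∀ x y, R v₂ x y → R v₂ y x := by
      intro x y hxy
      obtain ⟨hx, hy⟩ := hRU _ hv₂ _ _ hxy
      exact (hall y hy x hx (hRne v₂ n2 _ _ hxy).symm).resolve_left fun h => hex x y (hsymm1 _ _ h) hxy
    refine hequiv v₂ v₁ hv₂ n2 hv₁ n1 (fun h => hex _ _ (hself v₁) h)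
      (fun x y u hxy hyu hxu => ?_) hsymm2
    rcases hall x (hRU _ hv₂ _ _ hxy).1 u (hRU _ hv₂ _ _ hyu).2 hxu with h1 | h1
    · exfalso
      have h2 : u ∈ N v₁ x := Finset.mem_filter.mpr ⟨(hRU _ hv₂ _ _ hyu).2, h1⟩
      rw [hNeq x y hxy, hNeq y u hyu] at h2
      exact hRne v₁ n1 u u (Finset.mem_filter.mp h2).2 rfl
    · exact h1

end CfsgLib.DihedralRing
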