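/-
A five-transitive group of even permutations of degree `k r + k + 1`, `k = 2, 3`, `r > 4` prime,
contains the alternating group.
-/
import Mathlib
import Cfsg.Agent.S0713

set_option autoImplicit false

namespace CfsgLib.FiveTransitiveCycles

open Equiv Equiv.Perm MulAction

variable {Ω : Type*} [Fintype Ω] [DecidableEq Ω]

/-- Two permutations whose supports meet in one point have a three-cycle as commutator. -/
theorem isThreeCycle_commutator {e e' : Perm Ω} {a : Ω} (ha : a ∈ e.support) (ha' : a ∈ e'.support)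
    (h : ∀ z, z ∈ e.support → z ∈ e'.support → z = a) : (e * e' * e⁻¹ * e'⁻¹).IsThreeCycle := by
  classical
  rw [Equiv.Perm.mem_support] at ha ha'
  have h1 : ∀ z, z ≠ a → e z ≠ z → e' z = z := fun z hz hez => by
    by_contra h'
    exact hz (h z (mem_support.mpr hez) (mem_support.mpr h'))
  have h2 : ∀ z, z ≠ a → e' z ≠ z → e z = z := fun z hz hez => by
    by_contra h'
    exact hz (h z (mem_support.mpr h') (mem_support.mpr hez))
  have hea : e' (e a) = e a := h1 _ ha (fun h => ha (e.injective h))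
  have hea' : e (e' a) = e' a := h2 _ ha' (fun h => ha' (e'.injective h))
  have hne : e a ≠ e' a := fun h => ha (e.injective (h ▸ hea'))
  set c := e * e' * e⁻¹ * e'⁻¹ with hc
  have hcap : ∀ z, c z = e (e' (e.symm (e'.symm z))) := fun z => rfl
  have inv1 : e'.symm (e a) = e a := (Equiv.symm_apply_eq _).mpr hea.symm
  have inv2 : e.symm (e' a) = e' a := (Equiv.symm_apply_eq _).mpr hea'.symm
  have c1 : c (e a) = e' a := by rw [hcap, inv1, Equiv.symm_apply_apply, hea']
  have c2 : c (e' a) = a := by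
    rw [hcap, Equiv.symm_apply_apply]
    have : e' (e.symm a) = e.symm a := by
      refine h1 _ (fun h => ha ?_) (fun h => ha ?_)
      · nth_rw 1 [← h]; exact e.apply_symm_apply a
      · rw [e.apply_symm_apply] at h; nth_rw 1 [h]; exact e.apply_symm_apply a
    rw [this, e.apply_symm_apply]
  have c3 : c a = e a := by
    have hw : e'.symm a ≠ a := fun h => ha' (by nth_rw 1 [← h]; exact e'.apply_symm_apply a)
    have : e (e'.symm a) = e'.symm a := h2 _ hw (by rw [e'.apply_symm_apply]; exact hw.symm)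
    rw [hcap, (Equiv.symm_apply_eq _).mpr this.symm, e'.apply_symm_apply]
  have hfix : ∀ z, z ≠ a → z ≠ e a → z ≠ e' a → c z = z := by
    intro z za zb zc
    rw [hcap]
    by_cases hz : e' z = z
    · have hu : e'.symm z = z := (Equiv.symm_apply_eq _).mpr hz.symm
      rw [hu]
      by_cases hev : e (e.symm z) = e.symm z
      · rw [e.apply_symm_apply] at hev
        rw [← hev, hz]
        nth_rw 1 [hev]
        exact e.apply_symm_apply z
      · have hva : e.symm z ≠ a := fun h => zb (by rw [← h, e.apply_symm_apply])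
        rw [h1 _ hva hev, e.apply_symm_apply]
    · have hua : e'.symm z ≠ a := fun h => zc (by rw [← h, e'.apply_symm_apply])
      have hu : e (e'.symm z) = e'.symm z := h2 _ hua (by
        rw [e'.apply_symm_apply]
        intro h
        exact hz (by nth_rw 1 [h]; exact e'.apply_symm_apply z))
      rw [(Equiv.symm_apply_eq _).mpr hu.symm, e'.apply_symm_apply, h2 z za hz]
  rw [← card_support_eq_three_iff]
  have : c.support = {a, e a, e' a} := by
    ext z
    simp only [Equiv.Perm.mem_support, Finset.mem_insert, Finset.mem_singleton]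
    constructor
    · intro hz
      by_contra h
      push Not at h
      exact hz (hfix z h.1 h.2.1 h.2.2)
    · rintro (rfl | rfl | rfl)
      · rw [c3]; exact ha
      · rw [c1]; exact hne.symm
      · rw [c2]; exact ha'.symm
  rw [this, Finset.card_insert_of_notMem (by simp [Ne.symm ha, Ne.symm ha']),
    Finset.card_insert_of_notMem (by simp [hne]), Finset.card_singleton]

/-- A five-transitive group with a nontrivial element of support at most four contains `A_n`. -/
theorem alternating_le_of_small_support (G : Subgroup (Perm Ω)) (h5 : IsMultiplyPretransitive G Ω 5)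
    (hn : 8 ≤ Fintype.card Ω) {e : Perm Ω} (he : e ∈ G) (he1 : e ≠ 1) (hsupp : e.support.card ≤ 4) :
    alternatingGroup Ω ≤ G := by
  classical
  haveI h4 : IsMultiplyPretransitive G Ω 4 :=
    isMultiplyPretransitive_of_le (by norm_num : 4 ≤ 5) (by rw [Nat.card_eq_fintype_card]; omega)
  haveI hprim : IsPreprimitive G Ω := by
    haveI : IsMultiplyPretransitive G Ω 2 :=
      isMultiplyPretransitive_of_le (by norm_num : 2 ≤ 5) (by rw [Nat.card_eq_fintype_card]; omega)
    exact isPreprimitive_of_is_two_pretransitive inferInstance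
  obtain ⟨a, ha⟩ := Finset.card_pos.mp (Nat.pos_of_ne_zero fun h => he1 (support_eq_empty_iff.mp (Finset.card_eq_zero.mp h)))
  -- four points containing the support
  obtain ⟨T, hTs, -, hTc⟩ := Finset.exists_subsuperset_card_eq (Finset.subset_univ e.support) hsupp
    (by rw [Finset.card_univ]; omega)
  have haT : a ∈ T := hTs ha
  obtain ⟨T', hT's, hT'c⟩ := Finset.exists_subset_card_eq (s := (Finset.univ \ T)) (n := 3)
    (by rw [Finset.card_sdiff_of_subset (Finset.subset_univ T), Finset.card_univ, hTc]; omega)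
  have hd : ∀ z ∈ T', z ∉ T := fun z hz => (Finset.mem_sdiff.mp (hT's hz)).2
  obtain ⟨b, c, d, hbc, hbd, hcd, hTe⟩ := Finset.card_eq_three.mp
    (by rw [Finset.card_erase_of_mem haT, hTc] : (T.erase a).card = 3)
  obtain ⟨b', c', d', hbc', hbd', hcd', hT'e⟩ := Finset.card_eq_three.mp hT'c
  have hm : ∀ z, z ∈ T.erase a ↔ z = b ∨ z = c ∨ z = d := fun z => by rw [hTe]; simp
  have hm' : ∀ z, z ∈ T' ↔ z = b' ∨ z = c' ∨ z = d' := fun z => by rw [hT'e]; simp
  have hba : b ≠ a := (Finset.mem_erase.mp ((hm b).mpr (Or.inl rfl))).1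
  have hca : c ≠ a := (Finset.mem_erase.mp ((hm c).mpr (Or.inr (Or.inl rfl)))).1
  have hda : d ≠ a := (Finset.mem_erase.mp ((hm d).mpr (Or.inr (Or.inr rfl)))).1
  have hba' : b' ≠ a := fun h => hd b' ((hm' b').mpr (Or.inl rfl)) (h ▸ haT)
  have hca' : c' ≠ a := fun h => hd c' ((hm' c').mpr (Or.inr (Or.inl rfl))) (h ▸ haT)
  have hda' : d' ≠ a := fun h => hd d' ((hm' d').mpr (Or.inr (Or.inr rfl))) (h ▸ haT)
  let f : Fin 4 ↪ Ω := ⟨![a, b, c, d], by
    intro i j hij
    fin_cases i <;> fin_cases j <;> simp_all [hba.symm, hca.symm, hda.symm, hbc.symm, hbd.symm, hcd.symm]⟩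
  let f' : Fin 4 ↪ Ω := ⟨![a, b', c', d'], by
    intro i j hij
    fin_cases i <;> fin_cases j <;>
      simp_all [hba'.symm, hca'.symm, hda'.symm, hbc'.symm, hbd'.symm, hcd'.symm]⟩
  obtain ⟨g, hg⟩ := exists_smul_eq G f f'
  have g0 : (g : Perm Ω) a = a := DFunLike.congr_fun hg 0
  have g1 : (g : Perm Ω) b = b' := DFunLike.congr_fun hg 1
  have g2 : (g : Perm Ω) c = c' := DFunLike.congr_fun hg 2
  have g3 : (g : Perm Ω) d = d' := DFunLike.congr_fun hg 3
  set e' := (g : Perm Ω) * e * (g : Perm Ω)⁻¹ with he'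
  have h3 := isThreeCycle_commutator (e := e) (e' := e') ha
    (by
      rw [he', support_conj, Finset.mem_map]
      exact ⟨a, ha, g0⟩)
    (fun z hz hz' => by
      rw [he', support_conj, Finset.mem_map] at hz'
      obtain ⟨u, hu, huz⟩ := hz'
      by_cases hua : u = a
      · rw [← huz, hua]; exact g0
      exfalso
      have hzT : z ∈ T := hTs hz
      have : z ∈ T' := by
        rw [hm']
        rcases (hm u).mp (Finset.mem_erase.mpr ⟨hua, hTs hu⟩) with h | h | h
        · left; rw [← huz, h]; exact g1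
        · right; left; rw [← huz, h]; exact g2
        · right; right; rw [← huz, h]; exact g3
      exact hd z this hzT)
  have he'G : e' ∈ G := mul_mem (mul_mem g.2 he) (inv_mem g.2)
  exact alternatingGroup_le_of_isPreprimitive_of_isThreeCycle_mem hprim h3
    (mul_mem (mul_mem (mul_mem he he'G) (inv_mem he)) (inv_mem he'G))

/-- The general statement. -/
theorem alternating_le (G : Subgroup (Perm Ω)) (k r : ℕ) [Fact r.Prime] (hk : k = 2 ∨ k = 3) (hr : 4 < r)
    (hn : Fintype.card Ω = k * r + (k + 1)) (h5 : IsMultiplyPretransitive G Ω 5) :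
    alternatingGroup Ω ≤ G := by
  classical
  have hrp := (Fact.out : r.Prime)
  have hn8 : 8 ≤ Fintype.card Ω := by rcases hk with rfl | rfl <;> omega
  have hprim : IsPreprimitive G Ω := by
    haveI : IsMultiplyPretransitive G Ω 2 :=
      isMultiplyPretransitive_of_le (by norm_num : 2 ≤ 5) (by rw [Nat.card_eq_fintype_card]; omega)
    exact isPreprimitive_of_is_two_pretransitive inferInstance
  by_contra hnot
  obtain ⟨Δ, -, hΔ⟩ := Finset.exists_subset_card_eq (s := (Finset.univ : Finset Ω)) (n := k + 1)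
    (by rw [Finset.card_univ, hn]; omega)
  -- moves of five points
  have hmove : ∀ (m : ℕ), m ≤ 5 → ∀ (f f' : Fin m ↪ Ω), ∃ g ∈ G, ∀ i, g (f i) = f' i := by
    intro m hm f f'
    haveI : IsMultiplyPretransitive G Ω m :=
      isMultiplyPretransitive_of_le hm (by rw [Nat.card_eq_fintype_card]; omega)
    obtain ⟨g, hg⟩ := exists_smul_eq G f f'
    exact ⟨g, g.2, fun i => DFunLike.congr_fun hg i⟩
  let Gp : Subgroup (Perm Ω) :=
    { carrier := {g | g ∈ G ∧ ∀ d ∈ Δ, g d = d}
      one_mem' := ⟨one_mem _, fun d _ => rfl⟩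
      mul_mem' := fun {a b} ha hb => ⟨mul_mem ha.1 hb.1, fun d hd => by
        rw [Equiv.Perm.mul_apply, hb.2 d hd, ha.2 d hd]⟩
      inv_mem' := fun {a} ha => ⟨inv_mem ha.1, fun d hd => Equiv.Perm.inv_eq_iff_eq.mpr (ha.2 d hd).symm⟩ }
  let eΔ : Fin (k + 1) ≃ Δ := (Fintype.equivFinOfCardEq (by simpa using hΔ)).symm
  let fΔ : Fin (k + 1) ↪ Ω := eΔ.toEmbedding.trans (Function.Embedding.subtype _)
  have hfΔ : ∀ i, fΔ i ∈ Δ := fun i => (eΔ i).2
  have hfΔ' : ∀ d ∈ Δ, ∃ i, fΔ i = d := fun d hd => ⟨eΔ.symm ⟨d, hd⟩, by simp [fΔ]⟩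
  have hGpt : ∀ x y, x ∉ Δ → y ∉ Δ → ∃ g ∈ Gp, g x = y := by
    intro x y hx hy
    have hinj : ∀ z, z ∉ Δ → Function.Injective (Fin.cons z fΔ : Fin (k + 2) → Ω) := fun z hz =>
      Fin.cons_injective_iff.mpr ⟨fun ⟨i, hi⟩ => hz (hi ▸ hfΔ i), fΔ.injective⟩
    obtain ⟨g, hg, hgi⟩ := hmove (k + 2) (by omega) ⟨_, hinj x hx⟩ ⟨_, hinj y hy⟩
    refine ⟨g, ⟨hg, fun d hd => ?_⟩, by simpa using hgi 0⟩
    obtain ⟨i, rfl⟩ := hfΔ' d hd
    simpa using hgi i.succ
  -- the Sylow subgroup and its orbits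
  obtain ⟨S₀⟩ : Nonempty (Sylow r Gp) := inferInstance
  set S : Subgroup (Perm Ω) := (S₀ : Subgroup Gp).map Gp.subtype with hS
  have hSGp : S ≤ Gp := Subgroup.map_subtype_le _
  have hSΔ : ∀ s ∈ S, ∀ d ∈ Δ, s d = d := fun s hs => (hSGp hs).2
  have hSC : ∀ s ∈ S, ∀ x, x ∉ Δ → s x ∉ Δ := fun s hs x hx h => hx (by
    have := hSΔ s⁻¹ (inv_mem hs) _ h
    rw [Equiv.Perm.coe_inv, Equiv.symm_apply_apply] at this
    rwa [← this] at h)
  have hScard : Nat.card S = r ^ (Nat.card Gp).factorization r := by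
    rw [hS, Subgroup.card_map_of_injective Gp.subtype_injective, Sylow.card_eq_multiplicity]
  have horb : ∀ x, x ∉ Δ → Nat.card (orbit S x) = r := by
    intro x hx
    have hGx : orbit Gp x = (↑(Finset.univ \ Δ) : Set Ω) := by
      ext y
      simp only [Finset.coe_sdiff, Finset.coe_univ, Set.mem_sdiff, Set.mem_univ, true_and, Finset.mem_coe]
      constructor
      · rintro ⟨⟨g, hg⟩, rfl⟩ h
        have := (inv_mem hg : g⁻¹ ∈ Gp).2 _ h
        change g⁻¹ (g x) = g x at this
        rw [Equiv.Perm.coe_inv, Equiv.symm_apply_apply] at this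
        exact hx (this ▸ h)
      · intro hy
        obtain ⟨g, hg, rfl⟩ := hGpt x y hx hy
        exact ⟨⟨g, hg⟩, rfl⟩
    have hc : (stabilizer Gp x).index = k * r := by
      rw [index_stabilizer, hGx, Set.ncard_coe_finset,
        Finset.card_sdiff_of_subset (Finset.subset_univ _), Finset.card_univ, hn, hΔ]
      omega
    have h1 := (stabilizer Gp x).index_mul_card
    rw [hc] at h1
    have h2 := (stabilizer S x).index_mul_card
    rw [index_stabilizer, ← Nat.card_coe_set_eq] at h2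
    have h3 : Nat.card (stabilizer S x) ∣ Nat.card (stabilizer Gp x) := by
      refine Subgroup.card_dvd_of_injective
        ({ toFun := fun s => ⟨⟨((s : S) : Perm Ω), hSGp (s : S).2⟩, s.2⟩
           map_one' := rfl
           map_mul' := fun _ _ => rfl } : stabilizer S x →* stabilizer Gp x) ?_
      intro a b hab
      exact Subtype.ext (Subtype.ext (congrArg (fun u : stabilizer Gp x => ((u : Gp) : Perm Ω)) hab))
    set a := (Nat.card Gp).factorization r
    obtain ⟨i, -, hi⟩ : ∃ i ≤ a, Nat.card (orbit S x) = r ^ i :=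
      (Nat.dvd_prime_pow hrp).mp (hScard ▸ Dvd.intro _ h2)
    obtain ⟨j, -, hj⟩ : ∃ j ≤ a, Nat.card (stabilizer S x) = r ^ j :=
      (Nat.dvd_prime_pow hrp).mp (hScard ▸ Subgroup.card_subgroup_dvd_card _)
    rw [hi, hj, hScard, ← pow_add] at h2
    have hij : i + j = a := Nat.pow_right_injective hrp.two_le h2
    have hsub : orbit S x ⊆ (↑(Finset.univ \ Δ) : Set Ω) := by
      rintro _ ⟨⟨s, hs⟩, rfl⟩
      simpa using hSC s hs x hx
    have hle : r ^ i ≤ k * r := by
      rw [← hi, Nat.card_coe_set_eq]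
      refine (Set.ncard_le_ncard hsub (Finset.finite_toSet _)).trans ?_
      rw [Set.ncard_coe_finset, Finset.card_sdiff_of_subset (Finset.subset_univ _), Finset.card_univ, hn, hΔ]
      omega
    have hi2 : i < 2 := by
      by_contra h
      have : r ^ 2 ≤ r ^ i := Nat.pow_le_pow_right hrp.pos (by omega)
      have : k * r < r * r := Nat.mul_lt_mul_of_pos_right (by omega) hrp.pos
      rw [pow_two] at *
      omega
    have hi0 : i ≠ 0 := by
      intro h0
      have hja : j = a := by omega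
      have h4 : r ^ (a + 1) ∣ Nat.card Gp := by
        rw [← h1, pow_succ, mul_comm (r ^ a)]
        exact mul_dvd_mul (Dvd.intro_left k rfl) (hja ▸ hj ▸ h3)
      exact Nat.not_succ_le_self a ((hrp.pow_dvd_iff_le_factorization Nat.card_pos.ne').mp h4)
    rw [hi, show i = 1 by omega, pow_one]
  -- commutative of exponent `r`
  have hidx : ∀ x, x ∉ Δ → (stabilizer S x).index = r := fun x hx => by
    rw [index_stabilizer, ← Nat.card_coe_set_eq, horb x hx]
  have hSp : IsPGroup r S := IsPGroup.of_card hScard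
  have hnor : ∀ x, x ∉ Δ → (stabilizer S x).Normal := fun x hx => by
    refine Subgroup.normal_of_index_eq_minFac_card ?_
    have hd : r ∣ Nat.card S := hidx x hx ▸ Subgroup.index_dvd_card _
    have ha : (Nat.card Gp).factorization r ≠ 0 := fun h => by
      rw [hScard, h, pow_zero] at hd; exact hrp.not_dvd_one hd
    rw [hidx x hx, hScard, Nat.Prime.pow_minFac hrp ha]
  have hfixorb : ∀ x, x ∉ Δ → ∀ s : S, (s : Perm Ω) x = x → ∀ u : S, (s : Perm Ω) ((u : Perm Ω) x) = (u : Perm Ω) x := by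
    intro x hx s hs u
    have h1 : u⁻¹ * s * u ∈ stabilizer S x := by
      simpa using (hnor x hx).conj_mem s hs u⁻¹
    have h2 : ((u⁻¹ * s * u : S) : Perm Ω) x = x := h1
    simp only [Subgroup.coe_mul, Subgroup.coe_inv, Equiv.Perm.mul_apply] at h2
    exact Equiv.Perm.inv_eq_iff_eq.mp h2 |>.trans rfl
  have hcyc : ∀ x, x ∉ Δ → ∀ σ : S, (σ : Perm Ω) x ≠ x → ∀ s : S, ∃ i : ℕ,
      (s : Perm Ω) x = ((σ ^ i : S) : Perm Ω) x := by
    intro x hx σ hσ s
    haveI := hnor x hx
    haveI : Fact ((stabilizer S x).index).Prime := ⟨by rw [hidx x hx]; exact hrp⟩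
    have hne : (σ : S ⧸ stabilizer S x) ≠ 1 := fun h => hσ ((QuotientGroup.eq_one_iff σ).mp h)
    obtain ⟨i, hi⟩ := mem_powers_of_prime_card (p := r) (by rw [← hidx x hx, Subgroup.index])
      hne (g' := (s : S ⧸ stabilizer S x))
    simp only at hi
    rw [← QuotientGroup.mk_pow, QuotientGroup.eq] at hi
    refine ⟨i, ?_⟩
    have h2 : (((σ ^ i)⁻¹ * s : S) : Perm Ω) x = x := hi
    simp only [Subgroup.coe_mul, Subgroup.coe_inv, Equiv.Perm.mul_apply] at h2
    exact Equiv.Perm.inv_eq_iff_eq.mp h2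
  have hmoves : ∀ x, x ∉ Δ → ∃ σ : S, (σ : Perm Ω) x ≠ x := by
    intro x hx
    by_contra h
    push Not at h
    have : (stabilizer S x) = ⊤ := (Subgroup.eq_top_iff' _).mpr h
    have h1 := hidx x hx
    rw [this, Subgroup.index_top] at h1
    omega
  have hext : ∀ a b : Perm Ω, (∀ d ∈ Δ, a d = b d) → (∀ x, x ∉ Δ → a x = b x) → a = b := fun a b h1 h2 =>
    Equiv.ext fun x => if h : x ∈ Δ then h1 x h else h2 x h
  have hexp : ∀ s : S, s ^ r = 1 := fun s => Subtype.ext (hext _ _
    (fun d hd => hSΔ _ (s ^ r).2 d hd) fun x hx => by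
      haveI := hnor x hx
      have h1 : s ^ (stabilizer S x).index ∈ stabilizer S x := Subgroup.pow_index_mem _ s
      rw [hidx x hx] at h1
      exact h1)
  have hcomm : ∀ s u : S, s * u = u * s := fun s u => Subtype.ext (hext _ _
    (fun d hd => by rw [hSΔ _ (s * u).2 d hd, hSΔ _ (u * s).2 d hd]) fun x hx => by
      obtain ⟨σ, hσ⟩ := hmoves x hx
      obtain ⟨i, hi⟩ := hcyc x hx σ hσ s
      obtain ⟨j, hj⟩ := hcyc x hx σ hσ u
      have agree : ∀ (s : S) (i : ℕ), (s : Perm Ω) x = ((σ ^ i : S) : Perm Ω) x →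
          ∀ v : S, (s : Perm Ω) ((v : Perm Ω) x) = ((σ ^ i : S) : Perm Ω) ((v : Perm Ω) x) := by
        intro s i h v
        have h1 : (((σ ^ i)⁻¹ * s : S) : Perm Ω) x = x := by
          simp only [Subgroup.coe_mul, Subgroup.coe_inv, Equiv.Perm.mul_apply]
          rw [h, Equiv.Perm.coe_inv, Equiv.symm_apply_apply]
        have h2 := hfixorb x hx _ h1 v
        simp only [Subgroup.coe_mul, Subgroup.coe_inv, Equiv.Perm.mul_apply] at h2
        exact Equiv.Perm.inv_eq_iff_eq.mp h2
      rw [Subgroup.coe_mul, Subgroup.coe_mul, Equiv.Perm.mul_apply, Equiv.Perm.mul_apply]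
      rw [hj, agree s i hi, hi, agree u j hj, ← Equiv.Perm.mul_apply, ← Equiv.Perm.mul_apply,
        ← Subgroup.coe_mul, ← Subgroup.coe_mul, ← pow_add, ← pow_add, add_comm])
  -- no element of `S` is a single cycle
  have hnosingle : ∀ (s : S) (x : Ω), x ∉ Δ →
      (∀ y, y ∉ Δ → y ∉ orbit S x → (s : Perm Ω) y = y) → (s : Perm Ω) x ≠ x → False := by
    intro s x hx hout hsx
    apply hnot
    have hsupp : (s : Perm Ω).support = (orbit S x).toFinset := by
      ext y
      rw [Equiv.Perm.mem_support, Set.mem_toFinset]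
      constructor
      · intro hy
        by_contra hyo
        exact hy (hout y (fun h => hy (hSΔ _ s.2 y h)) hyo)
      · rintro ⟨u, rfl⟩ h
        exact hsx (by
          have h1 : ((u⁻¹ * s * u : S) : Perm Ω) x = x := by
            simp only [Subgroup.coe_mul, Subgroup.coe_inv, Equiv.Perm.mul_apply]
            rw [show (s : Perm Ω) ((u : Perm Ω) x) = (u : Perm Ω) x from h, Equiv.Perm.coe_inv, Equiv.symm_apply_apply]
          rwa [mul_assoc, hcomm s u, inv_mul_cancel_left] at h1)
    have hcard : (s : Perm Ω).support.card = r := by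
      rw [hsupp, Set.toFinset_card, ← Nat.card_eq_fintype_card, horb x hx]
    have hs1 : (s : Perm Ω) ≠ 1 := fun h => hsx (by rw [h]; rfl)
    have hord : orderOf (s : Perm Ω) = r :=
      orderOf_eq_prime (congrArg Subtype.val (hexp s)) hs1
    refine Cfsg.Agent.S0713.result G hprim hrp (by omega) (by rcases hk with rfl | rfl <;> omega)
      (Equiv.Perm.isCycle_of_prime_order (by rw [hord]; exact hrp) (by rw [hcard, hord]; omega)) hcard
      (hSGp s.2).1
  -- the normaliser
  let N : Subgroup (Perm Ω) := G ⊓ Subgroup.normalizer (S : Set (Perm Ω))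
  have hNS : ∀ n ∈ N, ∀ s ∈ S, n * s * n⁻¹ ∈ S := fun n hn s hs =>
    (Subgroup.mem_normalizer_iff.mp hn.2 s).mp hs
  have hNΔ : ∀ n ∈ N, ∀ d ∈ Δ, n d ∈ Δ := by
    intro n hn d hd
    by_contra h
    obtain ⟨σ, hσ⟩ := hmoves _ h
    have h1 := hSΔ _ (hNS n⁻¹ (inv_mem hn) σ σ.2) d hd
    simp only [inv_inv, Equiv.Perm.mul_apply] at h1
    exact hσ (Equiv.Perm.inv_eq_iff_eq.mp h1)
  have hNC : ∀ n ∈ N, ∀ x, x ∉ Δ → n x ∉ Δ := fun n hn x hx h => hx (by
    have := hNΔ n⁻¹ (inv_mem hn) _ h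
    rwa [Equiv.Perm.coe_inv, Equiv.symm_apply_apply] at this)
  -- every permutation of `Δ` comes from `N`
  have hwitt : ∀ π : Perm Δ, ∃ n ∈ N, ∀ d : Δ, n d = (π d : Ω) := by
    intro π
    let f' : Fin (k + 1) ↪ Ω := (eΔ.trans π).toEmbedding.trans (Function.Embedding.subtype _)
    obtain ⟨g, hgG, hg⟩ := hmove (k + 1) (by omega) fΔ f'
    have hgd : ∀ d : Δ, g d = (π d : Ω) := fun d => by
      have := hg (eΔ.symm d)
      simpa [fΔ, f'] using this
    have hconj : ∀ s ∈ S, g * s * g⁻¹ ∈ Gp := fun s hs => by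
      refine ⟨mul_mem (mul_mem hgG (hSGp hs).1) (inv_mem hgG), fun d hd => ?_⟩
      obtain ⟨d₀, hd₀⟩ := π.surjective ⟨d, hd⟩
      have hgd₀ : g d₀ = d := by rw [hgd, hd₀]
      rw [Equiv.Perm.mul_apply, Equiv.Perm.mul_apply, Equiv.Perm.inv_eq_iff_eq.mpr hgd₀.symm,
        hSΔ s hs _ d₀.2, hgd₀]
    let φ : S₀ →* Gp :=
      { toFun := fun s => ⟨g * ((s : Gp) : Perm Ω) * g⁻¹, hconj _ ⟨(s : Gp), s.2, rfl⟩⟩
        map_one' := Subtype.ext (by simp)
        map_mul' := fun a b => Subtype.ext (by simp [mul_assoc]) }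
    have hφ : Function.Injective φ := fun a b hab =>
      Subtype.ext (Subtype.ext (by simpa [φ] using congrArg Subtype.val hab))
    let S₁ : Sylow r Gp := Sylow.ofCard φ.range (by
      rw [← MonoidHom.ofInjective hφ |>.toEquiv |> Nat.card_congr, Sylow.card_eq_multiplicity])
    obtain ⟨h, hh⟩ := MulAction.exists_smul_eq Gp S₁ S₀
    have key : ∀ s ∈ S, ((h : Perm Ω) * g) * s * ((h : Perm Ω) * g)⁻¹ ∈ S := by
      rintro s ⟨s₀, hs₀, rfl⟩
      have hm : MulAut.conj h (φ ⟨s₀, hs₀⟩) ∈ (S₀ : Subgroup Gp) := by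
        have e1 : ((h • S₁ : Sylow r Gp) : Subgroup Gp) = (S₀ : Subgroup Gp) :=
          congrArg (fun T : Sylow r Gp => (T : Subgroup Gp)) hh
        refine (SetLike.ext_iff.mp e1 _).mp ?_
        rw [Sylow.coe_subgroup_smul]
        exact Subgroup.smul_mem_pointwise_smul _ _ _ (⟨⟨s₀, hs₀⟩, rfl⟩ : φ ⟨s₀, hs₀⟩ ∈ φ.range)
      exact ⟨_, hm, by simp [φ, mul_assoc]⟩
    refine ⟨(h : Perm Ω) * g, ⟨mul_mem h.2.1 hgG, ?_⟩, fun d => by
      rw [Equiv.Perm.mul_apply, hgd, h.2.2 _ (π d).2]⟩
    show (h : Perm Ω) * g ∈ Subgroup.normalizer (S : Set (Perm Ω))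
    rw [Subgroup.mem_normalizer_iff_map_conj_eq]
    refine Subgroup.eq_of_le_of_card_ge ?_ ?_
    · rintro _ ⟨s, hs, rfl⟩
      exact key s hs
    · exact (Subgroup.card_map_of_injective
        (f := (MulAut.conj ((h : Perm Ω) * g)).toMonoidHom)
        (MulAut.conj ((h : Perm Ω) * g)).injective).ge
  -- agreement at a point
  have agree : ∀ x, x ∉ Δ → ∀ a b : S, (a : Perm Ω) x = (b : Perm Ω) x ↔
      (a : S ⧸ stabilizer S x) = (b : S ⧸ stabilizer S x) := fun x hx a b => by
    rw [QuotientGroup.eq, mem_stabilizer_iff]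
    show _ ↔ ((a⁻¹ * b : S) : Perm Ω) x = x
    rw [Subgroup.coe_mul, Subgroup.coe_inv, Equiv.Perm.mul_apply, Equiv.Perm.inv_eq_iff_eq, eq_comm]
  have hmem : ∀ x y, y ∈ orbit S x ↔ ∃ u : S, (u : Perm Ω) x = y := fun x y => Iff.rfl
  have agreeOrb : ∀ x, x ∉ Δ → ∀ a b : S, (a : Perm Ω) x = (b : Perm Ω) x →
      ∀ y ∈ orbit S x, (a : Perm Ω) y = (b : Perm Ω) y := by
    intro x hx a b h y hy
    obtain ⟨u, rfl⟩ := (hmem x y).mp hy
    show ((a * u : S) : Perm Ω) x = ((b * u : S) : Perm Ω) x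
    rw [hcomm a u, hcomm b u]
    exact congrArg (u : Perm Ω) h
  let cn : ∀ n ∈ N, S →* S := fun n hn =>
    { toFun := fun u => ⟨n * u * n⁻¹, hNS n hn u u.2⟩
      map_one' := Subtype.ext (by simp)
      map_mul' := fun a b => Subtype.ext (by simp [mul_assoc]) }
  let Fx : Perm Ω → Prop := fun n => ∀ x, x ∉ Δ → n x ∈ orbit S x
  have hFinv : ∀ n, Fx n → ∀ x, x ∉ Δ → n⁻¹ x ∈ orbit S x := by
    intro n hn x hx
    have hsub : ∀ y ∈ (orbit S x).toFinset, n y ∈ (orbit S x).toFinset := by
      intro y hy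
      rw [Set.mem_toFinset] at hy ⊢
      have hy' : y ∉ Δ := by
        obtain ⟨u, rfl⟩ := (hmem x y).mp hy
        exact hSC _ u.2 x hx
      rw [← orbit_eq_iff.mpr hy]
      exact hn y hy'
    have himg : (orbit S x).toFinset.image (fun y => n y) = (orbit S x).toFinset :=
      Finset.eq_of_subset_of_card_le (Finset.image_subset_iff.mpr hsub)
        (Finset.card_image_of_injective _ n.injective).ge
    have hx' : x ∈ (orbit S x).toFinset.image (fun y => n y) := by
      rw [himg, Set.mem_toFinset]; exact mem_orbit_self x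
    obtain ⟨y, hy, hyx⟩ := Finset.mem_image.mp hx'
    rw [Set.mem_toFinset] at hy
    rwa [Equiv.Perm.inv_eq_iff_eq.mpr hyx.symm]
  have hfixcn : ∀ n (hn : n ∈ N), Fx n → ∀ x, x ∉ Δ → ∀ u : S, (u : Perm Ω) x = x →
      (cn n hn u : Perm Ω) x = x := by
    intro n hn hF x hx u hu
    show n ((u : Perm Ω) (n⁻¹ x)) = x
    have h1 := agreeOrb x hx u 1 (by rw [hu]; rfl) _ (hFinv n hF x hx)
    rw [h1, Subgroup.coe_one, Equiv.Perm.one_apply, Equiv.Perm.coe_inv, Equiv.apply_symm_apply]
  have hgen : ∀ n (hn : n ∈ N), Fx n → ∀ x, x ∉ Δ → ∀ σ : S, (σ : Perm Ω) x ≠ x → ∀ t : ℕ,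
      (cn n hn σ : Perm Ω) x = ((σ ^ t : S) : Perm Ω) x → ∀ u : S,
      (cn n hn u : Perm Ω) x = ((u ^ t : S) : Perm Ω) x := by
    intro n hn hF x hx σ hσ t ht u
    haveI := hnor x hx
    obtain ⟨i, hi⟩ := hcyc x hx σ hσ u
    rw [agree x hx] at hi ht ⊢
    obtain ⟨v, hv, rfl⟩ : ∃ v : S, (v : Perm Ω) x = x ∧ u = σ ^ i * v := by
      refine ⟨(σ ^ i)⁻¹ * u, ?_, by group⟩
      rw [QuotientGroup.eq] at hi
      have h1 := inv_mem hi
      rw [mul_inv_rev, inv_inv] at h1
      exact h1
    have hv1 : (v : S ⧸ stabilizer S x) = 1 := (QuotientGroup.eq_one_iff v).mpr hv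
    have hv2 : ((cn n hn v : S) : S ⧸ stabilizer S x) = 1 :=
      (QuotientGroup.eq_one_iff _).mpr (hfixcn n hn hF x hx v hv)
    rw [map_mul, map_pow, QuotientGroup.mk_mul, hv2, mul_one, QuotientGroup.mk_pow, ht,
      QuotientGroup.mk_pow, QuotientGroup.mk_pow, QuotientGroup.mk_mul, hv1, mul_one,
      QuotientGroup.mk_pow, ← pow_mul, ← pow_mul, mul_comm]
  -- the orbits
  let O : Ω → Finset Ω := fun x => (orbit S x).toFinset
  let Q : Finset (Finset Ω) := (Finset.univ \ Δ).image O
  have hmemC : ∀ x, x ∈ Finset.univ \ Δ ↔ x ∉ Δ := fun x => by simp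
  have hOeq : ∀ x y, O x = O y ↔ x ∈ orbit S y := fun x y => by
    rw [← orbit_eq_iff]
    exact Set.toFinset_inj
  have horbC : ∀ x y, x ∉ Δ → y ∈ orbit S x → y ∉ Δ := fun x y hx hy => by
    obtain ⟨u, rfl⟩ := (hmem x y).mp hy
    exact hSC _ u.2 x hx
  have hQ : Q.card = k := by
    have hfib : ∀ q ∈ Q, ((Finset.univ \ Δ).filter fun x => O x = q).card = r := by
      intro q hq
      obtain ⟨x, hx, rfl⟩ := Finset.mem_image.mp hq
      rw [hmemC] at hx
      have : ((Finset.univ \ Δ).filter fun y => O y = O x) = (orbit S x).toFinset := by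
        ext y
        rw [Finset.mem_filter, hmemC, hOeq, Set.mem_toFinset]
        exact ⟨fun h => h.2, fun h => ⟨horbC x y hx h, h⟩⟩
      rw [this, Set.toFinset_card, ← Nat.card_eq_fintype_card, horb x hx]
    have := Finset.card_eq_sum_card_fiberwise (f := O) (s := Finset.univ \ Δ) (t := Q)
      (fun x hx => Finset.mem_image_of_mem _ hx)
    rw [Finset.sum_congr rfl hfib, Finset.sum_const, smul_eq_mul,
      Finset.card_sdiff_of_subset (Finset.subset_univ _), Finset.card_univ, hn, hΔ,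
      Nat.add_sub_cancel] at this
    exact (Nat.eq_of_mul_eq_mul_right hrp.pos this).symm
  -- one multiplier
  have hmult : ∀ n (hn : n ∈ N), Fx n → ∃ t : ℕ, ∀ u : S, cn n hn u = u ^ t := by
    intro n hn hF
    obtain ⟨x, hx⟩ : ∃ x, x ∉ Δ := by
      by_contra h
      push Not at h
      have := Finset.card_le_card (show (Finset.univ : Finset Ω) ⊆ Δ from fun x _ => h x)
      rw [Finset.card_univ] at this
      have hkr : 0 < k * r := Nat.mul_pos (by omega) hrp.pos
      omega
    obtain ⟨σ, hσ⟩ := hmoves x hx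
    obtain ⟨t, ht⟩ := hcyc x hx σ hσ (cn n hn σ)
    have hat : ∀ u : S, ∀ y ∈ orbit S x, (cn n hn u : Perm Ω) y = ((u ^ t : S) : Perm Ω) y :=
      fun u => agreeOrb x hx _ _ (hgen n hn hF x hx σ hσ t ht u)
    refine ⟨t, fun u => Subtype.ext (hext _ _
      (fun d hd => by rw [hSΔ _ (cn n hn u).2 d hd, hSΔ _ (u ^ t).2 d hd]) fun y hy => ?_)⟩
    by_cases hyx : y ∈ orbit S x
    · exact hat u y hyx
    by_cases hbig : Nat.card S = r
    · -- a cyclic group of order `r`: agreement at `x` is equality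
      have hx1 : stabilizer S x = ⊥ := by
        have := (stabilizer S x).index_mul_card
        rw [hidx x hx, hbig] at this
        exact Subgroup.card_eq_one.mp (Nat.eq_of_mul_eq_mul_left hrp.pos (by rw [this, mul_one]))
      have h := hat u x (mem_orbit_self x)
      rw [agree x hx, QuotientGroup.eq, hx1, Subgroup.mem_bot, inv_mul_eq_one] at h
      rw [h]
    obtain ⟨s, hs1, hsout⟩ : ∃ s : S, s ≠ 1 ∧
        ∀ z, z ∉ Δ → z ∉ orbit S x → z ∉ orbit S y → (s : Perm Ω) z = z := by
      by_cases hz : ∃ z, z ∉ Δ ∧ z ∉ orbit S x ∧ z ∉ orbit S y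
      · obtain ⟨z, hzΔ, hzx, hzy⟩ := hz
        have honly : ∀ w, w ∉ Δ → w ∉ orbit S x → w ∉ orbit S y → w ∈ orbit S z := by
          intro w hwΔ hwx hwy
          by_contra hwz
          have hsub : ({O x, O y, O z, O w} : Finset (Finset Ω)) ⊆ Q := by
            simp only [Finset.insert_subset_iff, Finset.singleton_subset_iff]
            exact ⟨Finset.mem_image_of_mem _ ((hmemC _).mpr hx), Finset.mem_image_of_mem _ ((hmemC _).mpr hy),
              Finset.mem_image_of_mem _ ((hmemC _).mpr hzΔ), Finset.mem_image_of_mem _ ((hmemC _).mpr hwΔ)⟩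
          have hc := Finset.card_le_card hsub
          have d1 : O x ≠ O y := fun h => hyx ((hOeq _ _).mp h.symm)
          have d2 : O x ≠ O z := fun h => hzx ((hOeq _ _).mp h.symm)
          have d3 : O x ≠ O w := fun h => hwx ((hOeq _ _).mp h.symm)
          have d4 : O y ≠ O z := fun h => hzy ((hOeq _ _).mp h.symm)
          have d5 : O y ≠ O w := fun h => hwy ((hOeq _ _).mp h.symm)
          have d6 : O z ≠ O w := fun h => hwz ((hOeq _ _).mp h.symm)
          rw [Finset.card_insert_of_notMem (by simp [d1, d2, d3]),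
            Finset.card_insert_of_notMem (by simp [d4, d5]),
            Finset.card_insert_of_notMem (by simp [d6]), Finset.card_singleton, hQ] at hc
          omega
        have hz1 : stabilizer S z ≠ ⊥ := by
          intro hz1
          have hcardS : Nat.card S = r := by rw [← hidx z hzΔ, hz1, Subgroup.index_bot]
          exact hbig (hcardS)
        obtain ⟨s, hs, hs1⟩ := (Subgroup.bot_or_exists_ne_one _).resolve_left hz1
        refine ⟨s, hs1, fun w hwΔ hwx hwy => ?_⟩
        have := agreeOrb z hzΔ s 1 (by rw [Subgroup.coe_one]; exact hs) w (honly w hwΔ hwx hwy)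
        simpa using this
      · push Not at hz
        obtain ⟨σ', hσ'⟩ := hmoves x hx
        exact ⟨σ', fun h => hσ' (by rw [h]; rfl), fun z h1 h2 h3 => absurd (hz z h1 h2) h3⟩
    have hsy : (s : Perm Ω) y ≠ y := by
      intro hsy
      have hyo : ∀ z ∈ orbit S y, (s : Perm Ω) z = z := fun z hz => by
        simpa using agreeOrb y hy s 1 (by rw [hsy]; rfl) z hz
      by_cases hsx : (s : Perm Ω) x = x
      · refine hs1 (Subtype.ext (hext _ _ (fun d hd => hSΔ _ s.2 d hd) fun z hz => ?_))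
        by_cases hzx : z ∈ orbit S x
        · simpa using agreeOrb x hx s 1 (by rw [hsx]; rfl) z hzx
        by_cases hzy : z ∈ orbit S y
        · exact hyo z hzy
        · exact hsout z hz hzx hzy
      · exact hnosingle s x hx (fun z hz hzx => by
          by_cases hzy : z ∈ orbit S y
          · exact hyo z hzy
          · exact hsout z hz hzx hzy) hsx
    -- `s' = n s n⁻¹ / s ^ t` can only live on the orbit of `y`
    set s' : S := (s ^ t)⁻¹ * cn n hn s with hs'
    have hs'y : (s' : Perm Ω) y = y := by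
      by_contra hne
      refine hnosingle s' y hy (fun z hz hzy => ?_) hne
      rw [hs', Subgroup.coe_mul, Subgroup.coe_inv, Equiv.Perm.mul_apply, Equiv.Perm.inv_eq_iff_eq]
      by_cases hzx : z ∈ orbit S x
      · rw [hat s z hzx]
      · have h1 : (s : Perm Ω) z = z := hsout z hz hzx hzy
        rw [hfixcn n hn hF z hz s h1]
        have : ((s ^ t : S) : Perm Ω) z = z := (stabilizer S z).pow_mem (show s ∈ stabilizer S z from h1) t
        exact this.symm
    rw [hs', Subgroup.coe_mul, Subgroup.coe_inv, Equiv.Perm.mul_apply, Equiv.Perm.inv_eq_iff_eq] at hs'y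
    exact hgen n hn hF y hy s hsy t hs'y u
  -- some element of `N` fixing the orbits moves a point of `Δ`
  obtain ⟨m, hm, hmF, d, hd, hmd⟩ : ∃ m ∈ N, Fx m ∧ ∃ d ∈ Δ, m d ≠ d := by
    by_contra hno
    push Not at hno
    choose ν hν hνd using hwitt
    have himg : ∀ (n : Perm Ω), n ∈ N → ∀ x, x ∉ Δ → (O x).image (fun z => n z) = O (n x) := by
      intro n hn x hx
      refine Finset.eq_of_subset_of_card_le ?_ ?_
      · intro z hz
        obtain ⟨y, hy, rfl⟩ := Finset.mem_image.mp hz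
        rw [Set.mem_toFinset, hmem] at hy ⊢
        obtain ⟨u, rfl⟩ := hy
        exact ⟨cn n hn u, by show n ((u : Perm Ω) (n⁻¹ (n x))) = _; simp⟩
      · rw [Finset.card_image_of_injective _ n.injective, Set.toFinset_card, Set.toFinset_card,
          ← Nat.card_eq_fintype_card, ← Nat.card_eq_fintype_card, horb x hx, horb _ (hNC n hn x hx)]
    let F : Perm Δ → (Q ↪ Q) := fun π =>
      ⟨fun q => ⟨q.1.image (fun z => ν π z), by
        obtain ⟨x, hx, hq⟩ := Finset.mem_image.mp q.2
        rw [hmemC] at hx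
        rw [← hq, himg _ (hν π) x hx]
        exact Finset.mem_image_of_mem _ ((hmemC _).mpr (hNC _ (hν π) x hx))⟩,
        fun a b hab => Subtype.ext (Finset.image_injective (ν π).injective (congrArg Subtype.val hab))⟩
    have hinj : Function.Injective F := by
      intro π π' hππ
      have hFx : Fx ((ν π)⁻¹ * ν π') := by
        intro x hx
        have h1 := congrArg Subtype.val (DFunLike.congr_fun hππ
          ⟨O x, Finset.mem_image_of_mem _ ((hmemC _).mpr hx)⟩)
        change (O x).image (fun z => ν π z) = (O x).image (fun z => ν π' z) at h1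
        have h2 : ν π' x ∈ (O x).image (fun z => ν π z) := by
          rw [h1]
          exact Finset.mem_image_of_mem _ (Set.mem_toFinset.mpr (mem_orbit_self x))
        obtain ⟨y, hy, hyx⟩ := Finset.mem_image.mp h2
        rw [Set.mem_toFinset] at hy
        show ((ν π)⁻¹ * ν π') x ∈ orbit S x
        rw [Equiv.Perm.mul_apply, ← hyx, Equiv.Perm.coe_inv, Equiv.symm_apply_apply]
        exact hy
      refine Equiv.ext fun d => Subtype.ext ?_
      have h1 := hno _ (mul_mem (inv_mem (hν π)) (hν π')) hFx (d : Ω) d.2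
      rw [Equiv.Perm.mul_apply, Equiv.Perm.inv_eq_iff_eq] at h1
      rw [← hνd π d, ← hνd π' d, h1]
    have hle := Fintype.card_le_of_injective F hinj
    rw [Fintype.card_perm, Fintype.card_coe, hΔ, Fintype.card_embedding_eq, Fintype.card_coe, hQ,
      Nat.descFactorial_self, Nat.factorial_succ] at hle
    have := Nat.factorial_pos k
    have : 3 * k.factorial ≤ (k + 1) * k.factorial := Nat.mul_le_mul_right _ (by omega)
    omega
  -- a second point and the transposition
  obtain ⟨e', he', hee⟩ : ∃ e' ∈ Δ, e' ≠ d ∧ e' ≠ m d := by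
    by_contra h
    push Not at h
    have hsub : Δ ⊆ {d, m d} := fun z hz => by
      by_cases hzd : z = d
      · simp [hzd]
      · simp [h z hz hzd]
    have := (Finset.card_le_card hsub).trans Finset.card_le_two
    omega
  obtain ⟨n, hn, hnd⟩ := hwitt (Equiv.swap ⟨d, hd⟩ ⟨e', he'⟩)
  have hnd1 : n d = e' := by rw [hnd ⟨d, hd⟩, Equiv.swap_apply_left]
  have hnmd : n (m d) = m d := by
    rw [hnd ⟨m d, hNΔ m hm d hd⟩, Equiv.swap_apply_of_ne_of_ne]
    · exact fun h => hmd (congrArg Subtype.val h)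
    · exact fun h => hee.2 (congrArg Subtype.val h).symm
  set c := n * m * n⁻¹ * m⁻¹ with hc
  have hnmN : n * m * n⁻¹ ∈ N := mul_mem (mul_mem hn hm) (inv_mem hn)
  have hcN : c ∈ N := mul_mem hnmN (inv_mem hm)
  have hcd : c (m d) ≠ m d := by
    rw [hc]
    simp only [Equiv.Perm.mul_apply, Equiv.Perm.coe_inv, Equiv.symm_apply_apply]
    intro h
    have h1 : m (n.symm d) = m d := by
      apply n.injective
      rw [h, hnmd]
    exact hee.1 (by
      have h2 := m.injective h1
      rw [Equiv.symm_apply_eq] at h2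
      exact hnd1.symm.trans h2.symm)
  -- `c` centralises `S` and fixes the orbits
  obtain ⟨t, ht⟩ := hmult m hm hmF
  have ht' : ∀ u ∈ S, m * u * m⁻¹ = u ^ t := fun u hu => congrArg Subtype.val (ht ⟨u, hu⟩)
  have hcS : ∀ u ∈ S, c * u = u * c := by
    intro u hu
    have h1 : m⁻¹ * u * m ∈ S := by simpa using hNS m⁻¹ (inv_mem hm) u hu
    have h2 : n⁻¹ * (m⁻¹ * u * m) * n ∈ S := by simpa using hNS n⁻¹ (inv_mem hn) _ h1
    have h3 := ht' _ h2
    have h4 := ht' _ h1
    have h5 : n * (m * (n⁻¹ * (m⁻¹ * u * m) * n) * m⁻¹) * n⁻¹ = (m⁻¹ * u * m) ^ t := by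
      rw [h3, ← conj_pow]
      congr 1; group
    rw [← h4] at h5
    have h6 : c * u * c⁻¹ = u := by
      rw [hc]
      calc _ = n * (m * (n⁻¹ * (m⁻¹ * u * m) * n) * m⁻¹) * n⁻¹ := by group
        _ = m * (m⁻¹ * u * m) * m⁻¹ := h5
        _ = u := by group
    exact mul_inv_eq_iff_eq_mul.mp h6
  have hcF : Fx c := by
    intro x hx
    have h1 : m⁻¹ x ∈ orbit S x := hFinv m hmF x hx
    obtain ⟨u, hu⟩ := (hmem x _).mp h1
    have hx' : n⁻¹ x ∉ Δ := hNC _ (inv_mem hn) x hx
    obtain ⟨u', hu'⟩ := (hmem (n⁻¹ x) _).mp (hmF (n⁻¹ x) hx')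
    -- push `u` through
    rw [hmem]
    refine ⟨(cn _ hnmN u) * (cn n hn u'), ?_⟩
    show (n * m * n⁻¹) ((u : Perm Ω) ((n * m * n⁻¹)⁻¹ ((n : Perm Ω) ((u' : Perm Ω) (n⁻¹ x))))) = c x
    rw [hu']
    have h2 : (n * m * n⁻¹)⁻¹ (n (m (n⁻¹ x))) = x := by
      rw [Equiv.Perm.inv_eq_iff_eq]
      simp
    rw [h2, hu, hc]
    simp
  have hcr : ∀ x, x ∉ Δ → (c ^ r) x = x := by
    intro x hx
    obtain ⟨u, hu⟩ := (hmem x _).mp (hcF x hx)
    have hit : ∀ i : ℕ, (c ^ i) x = ((u : Perm Ω) ^ i) x := by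
      intro i
      induction i with
      | zero => simp
      | succ i ih =>
        rw [pow_succ', Equiv.Perm.mul_apply, ih, ← Equiv.Perm.mul_apply,
          hcS _ (pow_mem u.2 i), Equiv.Perm.mul_apply, ← hu, ← Equiv.Perm.mul_apply, ← pow_succ]
    rw [hit]
    have := congrArg Subtype.val (hexp u)
    simp only [SubmonoidClass.coe_pow, Subgroup.coe_one] at this
    rw [this]; rfl
  have hcr1 : c ^ r ≠ 1 := by
    intro h1
    have hd2 : ∀ i : ℕ, (c ^ i) (m d) ∈ Δ := fun i => hNΔ _ (pow_mem hcN i) _ (hNΔ m hm d hd)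
    -- the orbit of `m d` under `c` has length `r`
    have hord : orderOf c = r := orderOf_eq_prime h1 (fun h => hcd (by rw [h]; rfl))
    have hinj : Set.InjOn (fun i : ℕ => (c ^ i) (m d)) (Finset.range r : Set ℕ) := by
      intro i hi j hj hij
      simp only [Finset.coe_range, Set.mem_Iio] at hi hj
      by_contra hne
      wlog hlt : i < j generalizing i j
      · exact this hij.symm hj hi (Ne.symm hne) (by omega)
      have h2 : (c ^ (j - i)) (m d) = m d := by
        apply (c ^ i).injective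
        rw [← Equiv.Perm.mul_apply, ← pow_add, Nat.add_sub_cancel' hlt.le]
        exact hij.symm
      have hcop : (j - i).Coprime r := (Nat.coprime_comm.mp ((hrp.coprime_iff_not_dvd).mpr
        (fun hdvd => by have := Nat.le_of_dvd (by omega) hdvd; omega)))
      obtain ⟨e, he⟩ := exists_pow_eq_self_of_coprime (x := c) (n := j - i) (by rw [hord]; exact hcop)
      apply hcd
      conv_lhs => rw [← he]
      exact Equiv.Perm.pow_apply_eq_self_of_apply_eq_self h2 e
    have := Finset.card_le_card_of_injOn (s := Finset.range r) (t := Δ) _ (fun i _ => hd2 i) hinj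
    rw [Finset.card_range] at this
    omega
  apply hnot
  refine alternating_le_of_small_support G h5 hn8 (pow_mem hcN.1 r) hcr1 ?_
  refine (Finset.card_le_card (fun x hx => ?_ : (c ^ r).support ⊆ Δ)).trans (by omega)
  by_contra hxΔ
  exact Equiv.Perm.mem_support.mp hx (hcr x hxΔ)

end CfsgLib.FiveTransitiveCycles
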