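import Mathlib.GroupTheory.GroupAction.Primitive
import Mathlib.GroupTheory.GroupAction.MultipleTransitivity
import Mathlib.InformationTheory.Hamming

/-! The automorphism group of the Hamming scheme is primitive and not doubly transitive. -/

set_option autoImplicit false

namespace CfsgLib.Hamming

open MulAction
open scoped Pointwise

variable {ι : Type*} [Fintype ι] [DecidableEq ι] {α : Type*} [DecidableEq α]

variable (ι α) in
/-- The permutations preserving the Hamming distance. -/
def isom : Subgroup (Equiv.Perm (ι → α)) where
  carrier := {σ | ∀ x y, hammingDist (σ x) (σ y) = hammingDist x y}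
  one_mem' := fun _ _ => rfl
  mul_mem' := fun {a b} ha hb x y => (ha (b x) (b y)).trans (hb x y)
  inv_mem' := fun {a} ha x y => by
    have := ha (a⁻¹ x) (a⁻¹ y)
    simp only [Equiv.Perm.coe_inv, Equiv.apply_symm_apply] at this ⊢
    exact this.symm

/-- Coordinatewise permutations. -/
theorem piCongr_mem (π : ι → Equiv.Perm α) : Equiv.piCongrRight π ∈ isom ι α := fun x y =>
  hammingDist_comp (fun i => π i) fun i => (π i).injective

/-- Applying a permutation at one coordinate. -/
def atCoord (i : ι) (s : Equiv.Perm α) : isom ι α :=
  ⟨Equiv.piCongrRight (Function.update 1 i s), piCongr_mem _⟩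

theorem atCoord_apply (i : ι) (s : Equiv.Perm α) (x : ι → α) :
    atCoord i s • x = Function.update x i (s (x i)) := by
  funext k
  show (Function.update (1 : ι → Equiv.Perm α) i s k) (x k) = _
  by_cases hk : k = i
  · subst hk; simp
  · simp [Function.update_of_ne hk]

theorem hammingDist_update {x : ι → α} {i : ι} {c : α} (h : c ≠ x i) :
    hammingDist x (Function.update x i c) = 1 := by
  rw [hammingDist, Finset.card_eq_one]
  refine ⟨i, ?_⟩
  ext k
  by_cases hk : k = i
  · subst hk; simp [h.symm]
  · simp [Function.update_of_ne hk, hk]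

/-- Exchanging two coordinates. -/
def coordPerm (τ : Equiv.Perm ι) : isom ι α :=
  ⟨Equiv.arrowCongr τ (Equiv.refl α), fun x y => by
    unfold hammingDist
    refine Finset.card_bij (fun k _ => τ.symm k) (fun k hk => ?_) (fun _ _ _ _ e => τ.symm.injective e)
      fun k hk => ⟨τ k, ?_, τ.symm_apply_apply k⟩
    · simpa using hk
    · simpa using hk⟩

theorem isPretransitive : IsPretransitive (isom ι α) (ι → α) :=
  ⟨fun x y => ⟨⟨Equiv.piCongrRight fun i => Equiv.swap (x i) (y i), piCongr_mem _⟩,
    funext fun i => Equiv.swap_apply_left _ _⟩⟩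

theorem isPreprimitive [Fintype α] (hα : 3 ≤ Fintype.card α) :
    IsPreprimitive (isom ι α) (ι → α) := by
  have := isPretransitive (ι := ι) (α := α)
  refine ⟨fun {B} hB => ?_⟩
  by_contra hnt
  rw [IsTrivialBlock, not_or, Set.not_subsingleton_iff] at hnt
  obtain ⟨⟨x, hx, y, hy, hxy⟩, hBu⟩ := hnt
  obtain ⟨i, hi⟩ : ∃ i, x i ≠ y i := Function.ne_iff.1 hxy
  obtain ⟨c, hc1, hc2⟩ : ∃ c, c ≠ x i ∧ c ≠ y i := by
    obtain ⟨c, -, hc⟩ := Finset.exists_mem_notMem_of_card_lt_card
      (s := {x i, y i}) (t := Finset.univ) (by
        rw [Finset.card_univ]; exact lt_of_le_of_lt Finset.card_le_two (by omega))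
    simp only [Finset.mem_insert, Finset.mem_singleton, not_or] at hc
    exact ⟨c, hc⟩
  -- a neighbour of `x` in the block
  have h1 : Function.update x i c ∈ B := by
    have hy' : atCoord i (Equiv.swap (x i) c) • y = y := by
      rw [atCoord_apply, Equiv.swap_apply_of_ne_of_ne hi.symm hc2.symm, Function.update_eq_self]
    have h := hB.smul_eq_of_mem hy (by rw [hy']; exact hy)
    have h' := Set.smul_mem_smul_set (a := atCoord i (Equiv.swap (x i) c)) hx
    rwa [h, atCoord_apply, Equiv.swap_apply_left] at h'
  -- every neighbour of `x` is in the block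
  have h2 : ∀ j b, Function.update x j b ∈ B := by
    intro j b
    by_cases hb : b = x j
    · rw [hb, Function.update_eq_self]; exact hx
    -- an element fixing `x` moving the first neighbour to this one
    let g : isom ι α := ⟨Equiv.piCongrRight fun k => Equiv.swap (x (Equiv.swap i j k)) (x k), piCongr_mem _⟩ *
      coordPerm (Equiv.swap i j)
    have hg : ∀ (z : ι → α) k, (g • z) k = Equiv.swap (x (Equiv.swap i j k)) (x k) (z (Equiv.swap i j k)) :=
      fun z k => rfl
    have hgx : g • x = x := funext fun k => by rw [hg]; exact Equiv.swap_apply_left _ _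
    set c' := Equiv.swap (x i) (x j) c
    have hc' : c' ≠ x j := by
      intro e
      exact hc1 ((Equiv.swap (x i) (x j)).injective (e.trans (Equiv.swap_apply_left _ _).symm))
    have hgu : g • Function.update x i c = Function.update x j c' := by
      funext k
      rw [hg]
      by_cases hk : k = j
      · subst hk; simp [c']
      · rw [Function.update_of_ne hk, Function.update_of_ne]
        · exact Equiv.swap_apply_left _ _
        · intro e
          exact hk (by rw [← Equiv.swap_apply_self i j k, e, Equiv.swap_apply_left])
    have hgB : g • B = B := hB.smul_eq_of_mem hx (by rw [hgx]; exact hx)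
    have h3 : Function.update x j c' ∈ B := hgB ▸ hgu ▸ Set.smul_mem_smul_set h1
    have hx' : atCoord j (Equiv.swap c' b) • x = x := by
      rw [atCoord_apply, Equiv.swap_apply_of_ne_of_ne hc'.symm (Ne.symm hb), Function.update_eq_self]
    have h := hB.smul_eq_of_mem hx (by rw [hx']; exact hx)
    have h' := Set.smul_mem_smul_set (a := atCoord j (Equiv.swap c' b)) h3
    rwa [h, atCoord_apply, Function.update_self, Equiv.swap_apply_left, Function.update_idem] at h'
  -- so every point is
  refine hBu (Set.eq_univ_of_forall fun z => ?_)
  suffices H : ∀ s : Finset ι, ∀ w : ι → α, (∀ k ∉ s, w k = x k) → w ∈ B from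
    H Finset.univ z fun k hk => absurd (Finset.mem_univ k) hk
  intro s
  induction s using Finset.induction with
  | empty => intro w hw; rwa [show w = x from funext fun k => hw k (Finset.notMem_empty k)]
  | insert j s hj ih =>
    intro w hw
    have h3 : Function.update w j (x j) ∈ B := ih _ fun k hk => by
      by_cases hkj : k = j
      · subst hkj; rw [Function.update_self]
      · rw [Function.update_of_ne hkj, hw k]; simp [hkj, hk]
    have hsw : atCoord j (Equiv.swap (x j) (w j)) • B = B :=
      hB.smul_eq_of_mem hx (by rw [atCoord_apply, Equiv.swap_apply_left]; exact h2 j (w j))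
    have h' := Set.smul_mem_smul_set (a := atCoord j (Equiv.swap (x j) (w j))) h3
    rwa [hsw, atCoord_apply, Function.update_self, Equiv.swap_apply_left, Function.update_idem,
      Function.update_eq_self] at h'

theorem not_two_transitive [Nontrivial α] [Nontrivial ι] :
    ¬ IsMultiplyPretransitive (isom ι α) (ι → α) 2 := by
  intro h
  have h' : ∀ {a b c d : ι → α}, a ≠ b → c ≠ d → ∃ g : isom ι α, g • a = c ∧ g • b = d :=
    is_two_pretransitive_iff.1 h
  obtain ⟨a, b, hab⟩ := exists_pair_ne α
  obtain ⟨i, j, hij⟩ := exists_pair_ne ι
  set x : ι → α := fun _ => a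
  set z : ι → α := Function.update (Function.update x i b) j b
  have h1 : hammingDist x (Function.update x i b) = 1 := hammingDist_update hab.symm
  have h2 : 2 ≤ hammingDist x z := by
    rw [hammingDist]
    refine le_trans ?_ (Finset.card_le_card (s := {i, j}) fun k hk => ?_)
    · rw [Finset.card_pair hij]
    · simp only [Finset.mem_insert, Finset.mem_singleton] at hk
      rcases hk with rfl | rfl
      · simp [z, x, Function.update_of_ne hij, hab]
      · simp [z, x, hab]
  obtain ⟨g, hg1, hg2⟩ := h' (a := x) (b := Function.update x i b) (c := x) (d := z)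
    (fun e => by rw [← e, hammingDist_self] at h1; omega)
    (fun e => by rw [← e, hammingDist_self] at h2; omega)
  have := g.2 x (Function.update x i b)
  rw [show (g : Equiv.Perm (ι → α)) x = x from hg1,
    show (g : Equiv.Perm (ι → α)) (Function.update x i b) = z from hg2, h1] at this
  omega

end CfsgLib.Hamming
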