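import Mathlib.GroupTheory.GroupAction.Jordan
import Mathlib.GroupTheory.GroupAction.Primitive
import Mathlib.GroupTheory.GroupAction.MultipleTransitivity
import Mathlib.Algebra.Order.BigOperators.Group.Finset

/-! Marggraff: a primitive group with a Jordan set of at most half the points is 3-transitive. -/

set_option autoImplicit false

namespace CfsgLib.Marggraff

open MulAction SubMulAction
open scoped Pointwise

variable {G Ω : Type*} [Group G] [MulAction G Ω]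

/-- A Jordan set avoiding `a` and cutting a block of `G_a` lies inside that block. -/
theorem translate_subset_block {Γ : Set Ω}
    (htr : ∀ x ∈ Γ, ∀ y ∈ Γ, ∃ g : G, (∀ z ∉ Γ, g • z = z) ∧ g • x = y)
    {a : Ω} {B : Set (ofStabilizer G a)} (hB : IsBlock (stabilizer G a) B) {g : G}
    (ha : g⁻¹ • a ∉ Γ) {x w : ofStabilizer G a} (hxB : x ∈ B) (hxT : g⁻¹ • (x : Ω) ∈ Γ)
    (hwB : w ∈ B) (hwT : g⁻¹ • (w : Ω) ∉ Γ) {y : ofStabilizer G a} (hyT : g⁻¹ • (y : Ω) ∈ Γ) :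
    y ∈ B := by
  obtain ⟨j, hj, hjx⟩ := htr _ hxT _ hyT
  have hfix : ∀ z : Ω, g⁻¹ • z ∉ Γ → (g * j * g⁻¹) • z = z := fun z hz => by
    rw [mul_smul, mul_smul, hj _ hz, smul_inv_smul]
  have hha : g * j * g⁻¹ ∈ stabilizer G a := hfix a ha
  set h : stabilizer G a := ⟨g * j * g⁻¹, hha⟩
  have hw : h • w = w := Subtype.ext (hfix w hwT)
  have hhB : h • B = B := hB.smul_eq_of_mem hwB (by rw [hw]; exact hwB)
  have hxy : h • x = y := Subtype.ext (show (g * j * g⁻¹) • (x : Ω) = y by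
    rw [mul_smul, mul_smul, hjx, smul_inv_smul])
  rw [← hhB, ← hxy]
  exact Set.smul_mem_smul_set hxB

variable [Finite G] [Finite Ω]

/-- Counting translates of a set through given points in a doubly transitive group. -/
theorem exists_count [IsMultiplyPretransitive G Ω 2] (Γ : Set Ω) :
    ∃ N : ℕ, (∀ u v : Ω, u ≠ v → Nat.card {g : G // g⁻¹ • u ∈ Γ ∧ g⁻¹ • v ∈ Γ} = N) ∧
      ∀ u : Ω, N * (Nat.card Ω - 1) = Nat.card {g : G // g⁻¹ • u ∈ Γ} * (Γ.ncard - 1) := by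
  classical
  haveI := Fintype.ofFinite G
  haveI := Fintype.ofFinite Ω
  have h2 : ∀ {a b c d : Ω}, a ≠ b → c ≠ d → ∃ g : G, g • a = c ∧ g • b = d :=
    is_two_pretransitive_iff.1 ‹IsMultiplyPretransitive G Ω 2›
  have hconst : ∀ u v u' v' : Ω, u ≠ v → u' ≠ v' →
      Nat.card {g : G // g⁻¹ • u ∈ Γ ∧ g⁻¹ • v ∈ Γ} =
        Nat.card {g : G // g⁻¹ • u' ∈ Γ ∧ g⁻¹ • v' ∈ Γ} := by
    intro u v u' v' huv huv'
    obtain ⟨k, hku, hkv⟩ := h2 huv huv'
    refine Nat.card_congr ((Equiv.mulLeft k).subtypeEquiv fun g => ?_)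
    rw [Equiv.coe_mulLeft, mul_inv_rev, mul_smul, mul_smul, ← hku, ← hkv, inv_smul_smul, inv_smul_smul]
  obtain ⟨N, hN⟩ : ∃ N : ℕ, ∀ u v : Ω, u ≠ v →
      Nat.card {g : G // g⁻¹ • u ∈ Γ ∧ g⁻¹ • v ∈ Γ} = N := by
    by_cases h : ∃ u v : Ω, u ≠ v
    · obtain ⟨u, v, huv⟩ := h
      exact ⟨_, fun u' v' h' => hconst u' v' u v h' huv⟩
    · exact ⟨0, fun u v huv => absurd ⟨u, v, huv⟩ h⟩
  refine ⟨N, hN, fun u => ?_⟩
  have e1 : Nat.card {g : G // g⁻¹ • u ∈ Γ} = (Finset.univ.filter fun g : G => g⁻¹ • u ∈ Γ).card := by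
    rw [Nat.card_eq_fintype_card, Fintype.card_subtype]
  have hrow : ∀ g ∈ Finset.univ.filter (fun g : G => g⁻¹ • u ∈ Γ),
      ((Finset.univ.erase u).filter fun v => g⁻¹ • v ∈ Γ).card = Γ.ncard - 1 := by
    intro g hg
    have hgu : g⁻¹ • u ∈ Γ := (Finset.mem_filter.1 hg).2
    rw [← Set.ncard_coe_finset]
    have : (((Finset.univ.erase u).filter fun v => g⁻¹ • v ∈ Γ : Finset Ω) : Set Ω) =
        ((g • ·) '' Γ) \ {u} := by
      ext v
      simp only [Finset.coe_filter, Finset.mem_erase, Finset.mem_univ, and_true, Set.mem_ofPred_eq,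
        Set.mem_sdiff, Set.mem_singleton_iff, Set.mem_image]
      constructor
      · rintro ⟨hvu, hv⟩; exact ⟨⟨_, hv, smul_inv_smul g v⟩, hvu⟩
      · rintro ⟨⟨z, hz, rfl⟩, hvu⟩; exact ⟨hvu, by rwa [inv_smul_smul]⟩
    rw [this, Set.ncard_sdiff_singleton_of_mem ((Set.mem_image _ _ _).2 ⟨_, hgu, smul_inv_smul g u⟩),
      Set.ncard_image_of_injective _ (MulAction.injective g)]
  have hcol : ∀ v ∈ Finset.univ.erase u,
      ((Finset.univ.filter fun g : G => g⁻¹ • u ∈ Γ).filter fun g => g⁻¹ • v ∈ Γ).card = N := by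
    intro v hv
    rw [Finset.filter_filter, ← hN u v (Ne.symm (Finset.mem_erase.1 hv).1),
      Nat.card_eq_fintype_card, Fintype.card_subtype]
  have hswap : ∑ g ∈ Finset.univ.filter (fun g : G => g⁻¹ • u ∈ Γ),
      ((Finset.univ.erase u).filter fun v => g⁻¹ • v ∈ Γ).card =
      ∑ v ∈ Finset.univ.erase u,
        ((Finset.univ.filter fun g : G => g⁻¹ • u ∈ Γ).filter fun g => g⁻¹ • v ∈ Γ).card := by
    simp only [Finset.card_filter]
    exact Finset.sum_comm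
  rw [Finset.sum_congr rfl hrow, Finset.sum_congr rfl hcol, Finset.sum_const, Finset.sum_const,
    Finset.card_erase_of_mem (Finset.mem_univ u), Finset.card_univ, ← Nat.card_eq_fintype_card,
    smul_eq_mul, smul_eq_mul, ← e1] at hswap
  rw [mul_comm]
  exact hswap.symm

/-- In a doubly transitive group with a Jordan set of at most half the points, point stabilizers
are primitive on the remaining points. -/
theorem isPreprimitive_ofStabilizer [IsMultiplyPretransitive G Ω 2] (Γ : Set Ω)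
    (h1 : 1 < Γ.ncard) (h2 : 2 * Γ.ncard ≤ Nat.card Ω)
    (htr : ∀ x ∈ Γ, ∀ y ∈ Γ, ∃ g : G, (∀ z ∉ Γ, g • z = z) ∧ g • x = y) (a : Ω) :
    IsPreprimitive (stabilizer G a) (ofStabilizer G a) := by
  classical
  have : IsPretransitive G Ω := isPretransitive_of_is_two_pretransitive
  have hpre : IsPretransitive (stabilizer G a) (ofStabilizer G a) := by
    rw [← is_one_pretransitive_iff, ← ofStabilizer.isMultiplyPretransitive]
    exact ‹IsMultiplyPretransitive G Ω 2›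
  obtain ⟨N, hN, hsum⟩ := exists_count (G := G) Γ
  have hcardX := nat_card_ofStabilizer_add_one_eq G a
  refine ⟨fun {B} hB => ?_⟩
  by_contra hnt
  rw [IsTrivialBlock, not_or, Set.not_subsingleton_iff] at hnt
  obtain ⟨⟨x, hxB, y, hyB, hxy⟩, hBu⟩ := hnt
  obtain ⟨z, hzB⟩ := (Set.ne_univ_iff_exists_notMem B).1 hBu
  have hxy' : (x : Ω) ≠ y := fun h => hxy (Subtype.ext h)
  have hxz : (x : Ω) ≠ z := fun h => hzB ((Subtype.ext h : x = z) ▸ hxB)
  have hxa : (x : Ω) ≠ a := x.2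
  -- the block has at most half of the remaining points
  have hb : 2 * B.ncard ≤ Nat.card (ofStabilizer G a) := by
    by_contra hlt
    exact hBu (hB.eq_univ_of_card_lt (by omega))
  set A1 := Nat.card {g : G // g⁻¹ • (x : Ω) ∈ Γ}
  have hs := hsum x
  have hA1 : 0 < A1 := by
    obtain ⟨c, hc⟩ : Γ.Nonempty := Set.nonempty_of_ncard_ne_zero (by omega)
    obtain ⟨g, hg⟩ := MulAction.exists_smul_eq G c (x : Ω)
    have : Nonempty {g : G // g⁻¹ • (x : Ω) ∈ Γ} := ⟨⟨g, by rw [← hg, inv_smul_smul]; exact hc⟩⟩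
    exact Nat.card_pos
  have hN0 : 0 < N := by
    rcases Nat.eq_zero_or_pos N with h | h
    · rw [h, zero_mul] at hs
      rcases mul_eq_zero.1 hs.symm with h' | h' <;> omega
    · exact h
  -- some translate through `x` avoids `y` and `a`
  obtain ⟨g, hgx, hgy, hga⟩ : ∃ g : G, g⁻¹ • (x : Ω) ∈ Γ ∧ g⁻¹ • (y : Ω) ∉ Γ ∧ g⁻¹ • a ∉ Γ := by
    by_contra hno
    push Not at hno
    have hle : A1 ≤ N + N := by
      refine le_trans (le_trans (Nat.card_le_card_of_injective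
        (fun g : {g : G // g⁻¹ • (x : Ω) ∈ Γ} =>
          if h : g.1⁻¹ • (y : Ω) ∈ Γ then
            (Sum.inl ⟨g.1, g.2, h⟩ : {g : G // g⁻¹ • (x : Ω) ∈ Γ ∧ g⁻¹ • (y : Ω) ∈ Γ} ⊕
              {g : G // g⁻¹ • (x : Ω) ∈ Γ ∧ g⁻¹ • a ∈ Γ})
          else Sum.inr ⟨g.1, g.2, hno g.1 g.2 h⟩) ?_) Nat.card_sum.le) ?_
      · intro g g' e
        dsimp only at e
        split_ifs at e <;> simp at e <;> exact Subtype.ext e
      · rw [hN _ _ hxy', hN _ _ hxa]
    have h3 : A1 * (Γ.ncard - 1) * 2 ≥ A1 * (Nat.card Ω - 1) := by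
      rw [← hs]
      calc A1 * (Nat.card Ω - 1) ≤ (N + N) * (Nat.card Ω - 1) := Nat.mul_le_mul_right _ hle
        _ = _ := by ring
    rw [mul_assoc] at h3
    have := Nat.le_of_mul_le_mul_left h3 hA1
    omega
  have hTB : ∀ w : ofStabilizer G a, g⁻¹ • (w : Ω) ∈ Γ → w ∈ B := fun w hw =>
    translate_subset_block htr hB hga hxB hgx hyB hgy hw
  have hmb : Γ.ncard < B.ncard := by
    have hsub : (g • ·) '' Γ ⊆ Subtype.val '' B := by
      rintro _ ⟨c, hc, rfl⟩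
      have hne : g • c ≠ a := fun h => hga (by rw [← h, inv_smul_smul]; exact hc)
      exact ⟨⟨g • c, hne⟩, hTB _ (by rw [inv_smul_smul]; exact hc), rfl⟩
    have hlt : (g • ·) '' Γ ⊂ Subtype.val '' B := by
      refine ⟨hsub, fun h => ?_⟩
      obtain ⟨c, hc, hcy⟩ := h ⟨y, hyB, rfl⟩
      exact hgy (by rw [← hcy, inv_smul_smul]; exact hc)
    have := Set.ncard_lt_ncard hlt
    rwa [Set.ncard_image_of_injective _ (MulAction.injective g),
      Set.ncard_image_of_injective _ Subtype.val_injective] at this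
  -- translates through `x` and a point outside the block contain `a`
  have hout : ∀ w : ofStabilizer G a, w ∉ B → ∀ k : G, k⁻¹ • (x : Ω) ∈ Γ → k⁻¹ • (w : Ω) ∈ Γ →
      k⁻¹ • a ∈ Γ := by
    intro w hwB k hkx hkw
    by_contra hka
    by_cases hsub : ∀ v ∈ B, k⁻¹ • ((v : ofStabilizer G a) : Ω) ∈ Γ
    · have : B.ncard ≤ Γ.ncard :=
        Set.ncard_le_ncard_of_injOn (fun v : ofStabilizer G a => k⁻¹ • (v : Ω)) (fun v hv => hsub v hv)
          (fun u _ v _ e => Subtype.ext (MulAction.injective _ e)) Γ.toFinite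
      omega
    · push Not at hsub
      obtain ⟨v, hvB, hv⟩ := hsub
      exact hwB (translate_subset_block htr hB hka hxB hkx hvB hv hkw)
  -- hence every translate through `x` and `a` contains all points outside the block
  have hall : ∀ w : ofStabilizer G a, w ∉ B → ∀ k : G, k⁻¹ • (x : Ω) ∈ Γ → k⁻¹ • a ∈ Γ →
      k⁻¹ • (w : Ω) ∈ Γ := by
    intro w hwB k hkx hka
    have hxw : (x : Ω) ≠ w := fun h => hwB ((Subtype.ext h : x = w) ▸ hxB)
    have hsub : {g : G | g⁻¹ • (x : Ω) ∈ Γ ∧ g⁻¹ • (w : Ω) ∈ Γ} ⊆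
        {g : G | g⁻¹ • (x : Ω) ∈ Γ ∧ g⁻¹ • a ∈ Γ} := fun q hq => ⟨hq.1, hout w hwB q hq.1 hq.2⟩
    have heq := Set.eq_of_subset_of_ncard_le hsub (le_of_eq ((Nat.card_coe_set_eq _).symm.trans
      ((hN _ _ hxa).trans ((hN _ _ hxw).symm.trans (Nat.card_coe_set_eq _)))))
    have hk : k ∈ {g : G | g⁻¹ • (x : Ω) ∈ Γ ∧ g⁻¹ • a ∈ Γ} := ⟨hkx, hka⟩
    rw [← heq] at hk
    exact hk.2
  obtain ⟨⟨k, hkx, hka⟩⟩ : Nonempty {g : G // g⁻¹ • (x : Ω) ∈ Γ ∧ g⁻¹ • a ∈ Γ} :=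
    (Nat.card_pos_iff.1 (by rw [hN _ _ hxa]; exact hN0)).1
  have hsub : insert (x : Ω) (insert a (Subtype.val '' Bᶜ)) ⊆ (k • ·) '' Γ := by
    rintro v (rfl | rfl | ⟨w, hw, rfl⟩)
    · exact ⟨_, hkx, smul_inv_smul k _⟩
    · exact ⟨_, hka, smul_inv_smul k _⟩
    · exact ⟨_, hall w hw k hkx hka, smul_inv_smul k _⟩
  have hle := Set.ncard_le_ncard hsub
  have hx' : (x : Ω) ∉ insert a (Subtype.val '' Bᶜ) := by
    rintro (h | ⟨w, hw, h⟩)
    · exact hxa h
    · exact hw ((Subtype.ext h : w = x) ▸ hxB)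
  have ha' : a ∉ Subtype.val '' Bᶜ := fun ⟨w, _, h⟩ => w.2 h
  rw [Set.ncard_image_of_injective _ (MulAction.injective k), Set.ncard_insert_of_notMem hx',
    Set.ncard_insert_of_notMem ha', Set.ncard_image_of_injective _ Subtype.val_injective] at hle
  have := Set.ncard_add_ncard_compl B
  omega

theorem isPretransitive_fixing {Γ : Set Ω}
    (htr : ∀ x ∈ Γ, ∀ y ∈ Γ, ∃ g : G, (∀ z ∉ Γ, g • z = z) ∧ g • x = y) :
    IsPretransitive (fixingSubgroup G Γᶜ) (ofFixingSubgroup G Γᶜ) := by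
  refine ⟨fun u v => ?_⟩
  have hu : (u : Ω) ∈ Γ := Set.notMem_compl_iff.1 u.2
  have hv : (v : Ω) ∈ Γ := Set.notMem_compl_iff.1 v.2
  obtain ⟨g, hg, hgu⟩ := htr _ hu _ hv
  exact ⟨⟨g, (mem_fixingSubgroup_iff G).2 fun z hz => hg z hz⟩, Subtype.ext hgu⟩

/-- Marggraff's theorem. -/
theorem isMultiplyPretransitive_three (hprim : IsPreprimitive G Ω) (Γ : Set Ω)
    (h1 : 1 < Γ.ncard) (h2 : 2 * Γ.ncard ≤ Nat.card Ω)
    (htr : ∀ x ∈ Γ, ∀ y ∈ Γ, ∃ g : G, (∀ z ∉ Γ, g • z = z) ∧ g • x = y) :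
    IsMultiplyPretransitive G Ω 3 := by
  classical
  have hc := Set.ncard_add_ncard_compl Γ
  have h2t : IsMultiplyPretransitive G Ω 2 :=
    hprim.is_two_pretransitive (s := Γᶜ) (n := Γᶜ.ncard - 1) (by omega) (by omega)
      (isPretransitive_fixing htr)
  haveI := h2t
  haveI : IsPretransitive G Ω := hprim.toIsPretransitive
  obtain ⟨a, ha⟩ : Γᶜ.Nonempty := Set.nonempty_of_ncard_ne_zero (by omega)
  have hp := isPreprimitive_ofStabilizer Γ h1 h2 htr a
  rw [ofStabilizer.isMultiplyPretransitive (a := a)]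
  have hcardX := nat_card_ofStabilizer_add_one_eq G a
  set Γ' : Set (ofStabilizer G a) := Subtype.val ⁻¹' Γ
  have hΓ' : Γ'.ncard = Γ.ncard := by
    rw [← Set.ncard_image_of_injective Γ' Subtype.val_injective, Set.image_preimage_eq_inter_range]
    congr 1
    ext v
    simp only [Set.mem_inter_iff, Subtype.range_coe_subtype, Set.mem_ofPred_eq, mem_ofStabilizer_iff,
      and_iff_left_iff_imp]
    intro hv e
    exact ha (e ▸ hv)
  have hc' := Set.ncard_add_ncard_compl Γ'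
  have htr' : ∀ x ∈ Γ', ∀ y ∈ Γ', ∃ g : stabilizer G a, (∀ z ∉ Γ', g • z = z) ∧ g • x = y := by
    intro x hx y hy
    obtain ⟨g, hg, hgx⟩ := htr _ hx _ hy
    exact ⟨⟨g, hg a ha⟩, fun z hz => Subtype.ext (hg z hz), Subtype.ext hgx⟩
  exact hp.is_two_pretransitive (s := Γ'ᶜ) (n := Γ'ᶜ.ncard - 1) (by omega) (by omega)
    (isPretransitive_fixing htr')

end CfsgLib.Marggraff
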