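import Mathlib.GroupTheory.Perm.Cycle.Type
import Mathlib.GroupTheory.GroupAction.Jordan
import Mathlib.Data.Fintype.CardEmbedding

/-! Two permutations whose supports meet in one point give a 3-cycle. -/

set_option autoImplicit false

namespace CfsgLib.OnePointMeet

open Equiv Equiv.Perm

variable {α : Type*} [Fintype α] [DecidableEq α]

omit [Fintype α] [DecidableEq α] in
theorem apply_inv_cancel (f : Perm α) (x : α) : f (f⁻¹ x) = x := f.apply_symm_apply x

omit [Fintype α] [DecidableEq α] in
theorem inv_apply_cancel (f : Perm α) (x : α) : f⁻¹ (f x) = x := f.symm_apply_apply x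

theorem isThreeCycle_commutator (g h : Perm α) (c : α) (hgc : g c ≠ c) (hhc : h c ≠ c)
    (hI : ∀ x, g x ≠ x → h x ≠ x → x = c) : (g * h * g⁻¹ * h⁻¹).IsThreeCycle := by
  have hinvne : ∀ (f : Perm α) x, f x ≠ x → f⁻¹ x ≠ x ∧ f (f⁻¹ x) ≠ f⁻¹ x := by
    intro f x hx
    have h1 : f⁻¹ x ≠ x := fun e => hx (Equiv.Perm.inv_eq_iff_eq.1 e).symm
    refine ⟨h1, ?_⟩
    simpa using h1.symm
  have hinvfix : ∀ (f : Perm α) x, f x = x → f⁻¹ x = x := fun f x hx =>
    Equiv.Perm.inv_eq_iff_eq.2 hx.symm
  have happ : ∀ x, (g * h * g⁻¹ * h⁻¹) x = g (h (g⁻¹ (h⁻¹ x))) := fun x => rfl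
  have hggc : g (g c) ≠ g c := fun e => hgc (g.injective e)
  have hhhc : h (h c) ≠ h c := fun e => hhc (h.injective e)
  have hh_gc : h (g c) = g c := by
    by_contra e; exact hgc (hI _ hggc e)
  have hg_hc : g (h c) = h c := by
    by_contra e; exact hhc (hI _ e hhhc)
  obtain ⟨hg1, hg2⟩ := hinvne g c hgc
  obtain ⟨hh1, hh2⟩ := hinvne h c hhc
  have hh_gic : h (g⁻¹ c) = g⁻¹ c := by
    by_contra e; exact hg1 (hI _ hg2 e)
  have hg_hic : g (h⁻¹ c) = h⁻¹ c := by
    by_contra e; exact hh1 (hI _ e hh2)
  have k1 : (g * h * g⁻¹ * h⁻¹) c = g c := by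
    rw [happ, hinvfix g _ hg_hic, apply_inv_cancel]
  have k2 : (g * h * g⁻¹ * h⁻¹) (g c) = h c := by
    rw [happ, hinvfix h _ hh_gc, inv_apply_cancel, hg_hc]
  have k3 : (g * h * g⁻¹ * h⁻¹) (h c) = c := by
    rw [happ, inv_apply_cancel, hh_gic, apply_inv_cancel]
  have hne : g c ≠ h c := fun e => hggc (by rw [e]; exact hg_hc)
  rw [← _root_.card_support_eq_three_iff]
  have hsupp : (g * h * g⁻¹ * h⁻¹).support = {c, g c, h c} := by
    ext x
    simp only [mem_support, Finset.mem_insert, Finset.mem_singleton]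
    constructor
    · intro hx
      by_contra hn
      push Not at hn
      obtain ⟨hxc, hxg, hxh⟩ := hn
      apply hx
      rw [happ]
      by_cases hT : h x = x
      · rw [hinvfix h x hT]
        by_cases hS : g x = x
        · rw [hinvfix g x hS, hT, hS]
        · obtain ⟨-, hy⟩ := hinvne g x hS
          have : h (g⁻¹ x) = g⁻¹ x := by
            by_contra e
            exact hxg (Equiv.Perm.inv_eq_iff_eq.1 (hI _ hy e))
          rw [this, apply_inv_cancel]
      · obtain ⟨-, hy⟩ := hinvne h x hT
        have : g (h⁻¹ x) = h⁻¹ x := by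
          by_contra e
          exact hxh (Equiv.Perm.inv_eq_iff_eq.1 (hI _ e hy))
        rw [hinvfix g _ this, apply_inv_cancel]
        by_contra e
        exact hxc (hI x e hT)
    · rintro (rfl | rfl | rfl)
      · rw [k1]; exact hgc
      · rw [k2]; exact hne.symm
      · rw [k3]; exact hhc.symm
  rw [hsupp, Finset.card_insert_of_notMem, Finset.card_pair hne]
  simp only [Finset.mem_insert, Finset.mem_singleton, not_or]
  exact ⟨hgc.symm, hhc.symm⟩

/-- Bochert's bound. -/
theorem bochert (H : Subgroup (Perm α)) (hprim : MulAction.IsPreprimitive H α)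
    (hA : ¬ alternatingGroup α ≤ H) :
    Nat.card H * Nat.factorial ((Fintype.card α + 1) / 2) ≤ Nat.factorial (Fintype.card α) := by
  classical
  let S : Finset (Finset α) := Finset.univ.filter fun D => ∀ g ∈ H, (∀ x ∈ D, g x = x) → g = 1
  have huniv : Finset.univ ∈ S := by
    simp only [S, Finset.mem_filter, Finset.mem_univ, true_and]
    exact fun g _ hg => Equiv.ext fun x => hg x trivial
  obtain ⟨D, hDS, hmin⟩ := Finset.exists_min_image S Finset.card ⟨_, huniv⟩
  simp only [S, Finset.mem_filter, Finset.mem_univ, true_and] at hDS hmin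
  have hle : 2 * D.card ≤ Fintype.card α := by
    by_contra hlt
    have hcompl : ¬ ∀ g ∈ H, (∀ x ∈ Dᶜ, g x = x) → g = 1 := fun hall => by
      have := hmin _ hall
      rw [Finset.card_compl] at this
      have := D.card_le_univ
      omega
    push Not at hcompl
    obtain ⟨h, hhH, hhfix, hh1⟩ := hcompl
    obtain ⟨d, hd, hhd⟩ : ∃ d ∈ D, h d ≠ d := by
      by_contra hno
      push Not at hno
      exact hh1 (Equiv.ext fun x => if hx : x ∈ D then hno x hx else
        hhfix x (Finset.mem_compl.2 hx))
    have her : ¬ ∀ g ∈ H, (∀ x ∈ D.erase d, g x = x) → g = 1 := fun hall => by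
      have := hmin _ hall
      rw [Finset.card_erase_of_mem hd] at this
      have := Finset.card_pos.2 ⟨d, hd⟩
      omega
    push Not at her
    obtain ⟨g, hgH, hgfix, hg1⟩ := her
    have hgd : g d ≠ d := fun e => hg1 (hDS g hgH fun x hx => by
      by_cases hxd : x = d
      · rw [hxd, e]
      · exact hgfix x (Finset.mem_erase.2 ⟨hxd, hx⟩))
    refine hA (alternatingGroup_le_of_isPreprimitive_of_isThreeCycle_mem hprim
      (isThreeCycle_commutator g h d hgd hhd fun x hgx hhx => ?_)
      (H.mul_mem (H.mul_mem (H.mul_mem hgH hhH) (H.inv_mem hgH)) (H.inv_mem hhH)))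
    by_contra hxd
    by_cases hx : x ∈ D
    · exact hgx (hgfix x (Finset.mem_erase.2 ⟨hxd, hx⟩))
    · exact hhx (hhfix x (Finset.mem_compl.2 hx))
  have hcard : Nat.card H ≤ (Fintype.card α).descFactorial D.card := by
    let f : H → (D ↪ α) := fun g => ⟨fun x => (g : Perm α) x,
      (g : Perm α).injective.comp Subtype.val_injective⟩
    have hf : Function.Injective f := by
      intro a b e
      have hab : (b : Perm α)⁻¹ * a = 1 := hDS _ (H.mul_mem (H.inv_mem b.2) a.2) fun x hx => by
        have : (a : Perm α) x = (b : Perm α) x := congrArg (fun F : D ↪ α => F ⟨x, hx⟩) e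
        rw [Perm.mul_apply, this, inv_apply_cancel]
      exact Subtype.ext (inv_mul_eq_one.1 hab).symm
    have := Nat.card_le_card_of_injective f hf
    rwa [Nat.card_eq_fintype_card (α := D ↪ α), Fintype.card_embedding_eq, Fintype.card_coe] at this
  calc Nat.card H * Nat.factorial ((Fintype.card α + 1) / 2)
      ≤ (Fintype.card α).descFactorial D.card * Nat.factorial (Fintype.card α - D.card) :=
        Nat.mul_le_mul hcard (Nat.factorial_le (by omega))
    _ = Nat.factorial (Fintype.card α) := by
        rw [mul_comm]; exact Nat.factorial_mul_descFactorial D.card_le_univ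

end CfsgLib.OnePointMeet
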