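import Cfsg.Agent.Perm.Marggraff
import Cfsg.Agent.Perm.OnePointMeet
import Cfsg.Agent.Perm.Multi
import Mathlib.Data.Nat.Choose.Basic
import Mathlib.Tactic.Linarith
import Mathlib.Tactic.Positivity
import Mathlib.Tactic.Ring
import Mathlib.GroupTheory.SpecificGroups.Alternating

/-! Marggraff: a primitive group with a Jordan set of fewer than half the points contains the
alternating group. -/

set_option autoImplicit false

namespace CfsgLib.MarggraffAlt

open MulAction SubMulAction
open scoped Pointwise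

variable {G Ω : Type*} [Group G] [MulAction G Ω]

/-- The group elements whose translate of `Γ` contains `I` and misses `U`. -/
def pat [Fintype G] [DecidableEq Ω] (Γ I U : Finset Ω) : Finset G :=
  Finset.univ.filter fun g => (∀ v ∈ I, g⁻¹ • v ∈ Γ) ∧ ∀ v ∈ U, g⁻¹ • v ∉ Γ

theorem exists_smul_eqOn [Fintype Ω] {k : ℕ} [IsMultiplyPretransitive G Ω k]
    (hk : k ≤ Fintype.card Ω) (S : Finset Ω) (hS : S.card ≤ k) (f : Ω → Ω)
    (hf : Set.InjOn f S) : ∃ g : G, ∀ s ∈ S, g • s = f s := by
  haveI : IsMultiplyPretransitive G Ω S.card :=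
    isMultiplyPretransitive_of_le hS (by rw [Nat.card_eq_fintype_card]; exact hk)
  let a : Fin S.card ↪ Ω := S.equivFin.symm.toEmbedding.trans (Function.Embedding.subtype _)
  have hinj : Function.Injective fun i => f (a i) := fun i j h =>
    a.injective (hf (S.equivFin.symm i).2 (S.equivFin.symm j).2 h)
  obtain ⟨g, hg⟩ := exists_smul_eq G a ⟨fun i => f (a i), hinj⟩
  refine ⟨g, fun s hs => ?_⟩
  have h := congrArg (fun e : Fin S.card ↪ Ω => e (S.equivFin ⟨s, hs⟩)) hg
  simpa [a, Function.Embedding.smul_apply] using h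

variable [Fintype Ω] [DecidableEq Ω] {k : ℕ} [IsMultiplyPretransitive G Ω k]

theorem exists_smul_pattern (hk : k ≤ Fintype.card Ω) {I U I' U' : Finset Ω}
    (hd : Disjoint I U) (hd' : Disjoint I' U') (hle : I.card + U.card ≤ k)
    (hI : I.card ≤ I'.card) (hU : U.card ≤ U'.card) :
    ∃ g : G, (∀ v ∈ I, g • v ∈ I') ∧ ∀ v ∈ U, g • v ∈ U' := by
  obtain ⟨e1⟩ : Nonempty (I ↪ I') :=
    Function.Embedding.nonempty_of_card_le (by simpa using hI)
  obtain ⟨e2⟩ : Nonempty (U ↪ U') :=
    Function.Embedding.nonempty_of_card_le (by simpa using hU)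
  let f : Ω → Ω := fun v => if h : v ∈ I then e1 ⟨v, h⟩ else if h' : v ∈ U then e2 ⟨v, h'⟩ else v
  have hfI : ∀ v (h : v ∈ I), f v = e1 ⟨v, h⟩ := fun v h => by simp only [f, dif_pos h]
  have hfU : ∀ v (h : v ∈ U), f v = e2 ⟨v, h⟩ := fun v h => by
    simp only [f, dif_neg (fun h' => Finset.disjoint_left.1 hd h' h), dif_pos h]
  have hinj : Set.InjOn f (↑(I ∪ U) : Set Ω) := by
    intro a ha b hb hab
    rw [Finset.mem_coe, Finset.mem_union] at ha hb
    rcases ha with ha | ha <;> rcases hb with hb | hb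
    · rw [hfI a ha, hfI b hb] at hab
      exact congrArg Subtype.val (e1.injective (Subtype.ext hab))
    · rw [hfI a ha, hfU b hb] at hab
      exact absurd (hab ▸ (e1 ⟨a, ha⟩).2) (Finset.disjoint_right.1 hd' (e2 ⟨b, hb⟩).2)
    · rw [hfU a ha, hfI b hb] at hab
      exact absurd (hab ▸ (e2 ⟨a, ha⟩).2) (Finset.disjoint_left.1 hd' (e1 ⟨b, hb⟩).2)
    · rw [hfU a ha, hfU b hb] at hab
      exact congrArg Subtype.val (e2.injective (Subtype.ext hab))
  obtain ⟨g, hg⟩ := exists_smul_eqOn (G := G) hk (I ∪ U)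
    (by rw [Finset.card_union_of_disjoint hd]; exact hle) f hinj
  refine ⟨g, fun v hv => ?_, fun v hv => ?_⟩
  · rw [hg v (Finset.mem_union_left _ hv), hfI v hv]; exact (e1 _).2
  · rw [hg v (Finset.mem_union_right _ hv), hfU v hv]; exact (e2 _).2

variable [Fintype G]

theorem mem_pat {Γ I U : Finset Ω} {g : G} :
    g ∈ pat Γ I U ↔ (∀ v ∈ I, g⁻¹ • v ∈ Γ) ∧ ∀ v ∈ U, g⁻¹ • v ∉ Γ := by simp [pat]

omit [IsMultiplyPretransitive G Ω k] in
theorem pat_insert_left (Γ I U : Finset Ω) (v : Ω) :
    pat (G := G) Γ (insert v I) U = (pat Γ I U).filter fun g => g⁻¹ • v ∈ Γ := by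
  ext g
  simp only [mem_pat, Finset.mem_filter, Finset.forall_mem_insert]
  tauto

omit [IsMultiplyPretransitive G Ω k] in
theorem pat_insert_right (Γ I U : Finset Ω) (v : Ω) :
    pat (G := G) Γ I (insert v U) = (pat Γ I U).filter fun g => g⁻¹ • v ∉ Γ := by
  ext g
  simp only [mem_pat, Finset.mem_filter, Finset.forall_mem_insert]
  tauto

omit [IsMultiplyPretransitive G Ω k] in
theorem card_pat_split (Γ I U : Finset Ω) (v : Ω) :
    (pat (G := G) Γ (insert v I) U).card + (pat (G := G) Γ I (insert v U)).card =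
      (pat (G := G) Γ I U).card := by
  rw [pat_insert_left, pat_insert_right]
  exact Finset.card_filter_add_card_filter_not _

theorem card_pat_congr (hk : k ≤ Fintype.card Ω) (Γ : Finset Ω) {I U I' U' : Finset Ω}
    (hd : Disjoint I U) (hd' : Disjoint I' U') (hle : I.card + U.card ≤ k)
    (hI : I.card = I'.card) (hU : U.card = U'.card) :
    (pat (G := G) Γ I U).card ≤ (pat (G := G) Γ I' U').card := by
  obtain ⟨g, hgI, hgU⟩ := exists_smul_pattern (G := G) hk hd hd' hle hI.le hU.le
  refine Finset.card_le_card_of_injOn (fun q => g * q) (fun q hq => ?_)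
    (fun a _ b _ h => mul_left_cancel h)
  rw [Finset.mem_coe, mem_pat] at hq ⊢
  have hI' : I.image (g • ·) = I' := Finset.eq_of_subset_of_card_le
    (fun w hw => by obtain ⟨v, hv, rfl⟩ := Finset.mem_image.1 hw; exact hgI v hv)
    (by rw [Finset.card_image_of_injective _ (MulAction.injective g), hI])
  have hU' : U.image (g • ·) = U' := Finset.eq_of_subset_of_card_le
    (fun w hw => by obtain ⟨v, hv, rfl⟩ := Finset.mem_image.1 hw; exact hgU v hv)
    (by rw [Finset.card_image_of_injective _ (MulAction.injective g), hU])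
  constructor
  · intro w hw
    rw [← hI'] at hw
    obtain ⟨v, hv, rfl⟩ := Finset.mem_image.1 hw
    simpa [mul_smul] using hq.1 v hv
  · intro w hw
    rw [← hU'] at hw
    obtain ⟨v, hv, rfl⟩ := Finset.mem_image.1 hw
    simpa [mul_smul] using hq.2 v hv

theorem pat_nonempty (hk : k ≤ Fintype.card Ω) (Γ : Finset Ω) {I U : Finset Ω}
    (hd : Disjoint I U) (hle : I.card + U.card ≤ k) (hI : I.card ≤ Γ.card)
    (hU : U.card + Γ.card ≤ Fintype.card Ω) : (pat (G := G) Γ I U).Nonempty := by
  obtain ⟨g, hgI, hgU⟩ := exists_smul_pattern (G := G) hk hd (disjoint_compl_right (a := Γ)) hle hI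
    (by rw [Finset.card_compl]; omega)
  refine ⟨g⁻¹, mem_pat.2 ⟨fun v hv => by rw [inv_inv]; exact hgI v hv, fun v hv => ?_⟩⟩
  rw [inv_inv]
  exact Finset.mem_compl.1 (hgU v hv)

omit [IsMultiplyPretransitive G Ω k] in
/-- Double counting over the points outside the pattern. -/
theorem sum_card_filter (Γ I U Δ : Finset Ω) (c : ℕ)
    (h : ∀ g ∈ pat (G := G) Γ I U, ((I ∪ U)ᶜ.filter fun v => g⁻¹ • v ∈ Δ).card = c) :
    ∑ v ∈ (I ∪ U)ᶜ, ((pat (G := G) Γ I U).filter fun g => g⁻¹ • v ∈ Δ).card =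
      (pat (G := G) Γ I U).card * c := by
  rw [← smul_eq_mul, ← Finset.sum_const, ← Finset.sum_congr rfl h]
  simp only [Finset.card_filter]
  exact Finset.sum_comm

/-- Moving one point between the two sides of a pattern. -/
theorem ratio (hk : k ≤ Fintype.card Ω) (Γ : Finset Ω) {I U : Finset Ω} (hd : Disjoint I U)
    (hlt : I.card + U.card + 1 = k) {I₁ U₁ I₂ U₂ : Finset Ω} (hd₁ : Disjoint I₁ U₁)
    (hd₂ : Disjoint I₂ U₂) (h1 : I₁.card = I.card + 1) (h1' : U₁.card = U.card)
    (h2 : I₂.card = I.card) (h2' : U₂.card = U.card + 1) :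
    (pat (G := G) Γ I₁ U₁).card * (Fintype.card Ω - Γ.card - U.card) =
      (pat (G := G) Γ I₂ U₂).card * (Γ.card - I.card) := by
  have hr : (I ∪ U)ᶜ.card + (I.card + U.card) = Fintype.card Ω := by
    rw [← Finset.card_union_of_disjoint hd, Finset.card_compl_add_card]
  have hin : ∀ g ∈ pat (G := G) Γ I U,
      ((I ∪ U)ᶜ.filter fun v => g⁻¹ • v ∈ Γ).card = Γ.card - I.card := by
    intro g hg
    rw [mem_pat] at hg
    have e : ((I ∪ U)ᶜ.filter fun v => g⁻¹ • v ∈ Γ) = Γ.image (g • ·) \ I := by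
      ext v
      simp only [Finset.mem_filter, Finset.mem_compl, Finset.mem_union, not_or, Finset.mem_sdiff,
        Finset.mem_image]
      constructor
      · rintro ⟨⟨h, -⟩, hv⟩; exact ⟨⟨_, hv, smul_inv_smul g v⟩, h⟩
      · rintro ⟨⟨w, hw, rfl⟩, h⟩
        exact ⟨⟨h, fun hU => hg.2 _ hU (by rwa [inv_smul_smul])⟩, by rwa [inv_smul_smul]⟩
    rw [e, Finset.card_sdiff_of_subset, Finset.card_image_of_injective _ (MulAction.injective g)]
    exact fun v hv => Finset.mem_image.2 ⟨_, hg.1 v hv, smul_inv_smul g v⟩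
  have hout : ∀ g ∈ pat (G := G) Γ I U,
      ((I ∪ U)ᶜ.filter fun v => g⁻¹ • v ∈ Γᶜ).card = Fintype.card Ω - Γ.card - U.card := by
    intro g hg
    rw [mem_pat] at hg
    have e : ((I ∪ U)ᶜ.filter fun v => g⁻¹ • v ∈ Γᶜ) = Γᶜ.image (g • ·) \ U := by
      ext v
      simp only [Finset.mem_filter, Finset.mem_compl, Finset.mem_union, not_or, Finset.mem_sdiff,
        Finset.mem_image]
      constructor
      · rintro ⟨⟨-, h⟩, hv⟩; exact ⟨⟨_, hv, smul_inv_smul g v⟩, h⟩
      · rintro ⟨⟨w, hw, rfl⟩, h⟩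
        exact ⟨⟨fun hI => hw (by simpa using hg.1 _ hI), h⟩, by rwa [inv_smul_smul]⟩
    rw [e, Finset.card_sdiff_of_subset, Finset.card_image_of_injective _ (MulAction.injective g),
      Finset.card_compl]
    exact fun v hv => Finset.mem_image.2 ⟨_, Finset.mem_compl.2 (hg.2 v hv), smul_inv_smul g v⟩
  have s1 := sum_card_filter Γ I U Γ _ hin
  have s2 := sum_card_filter Γ I U Γᶜ _ hout
  rw [Finset.sum_congr rfl (g := fun _ => (pat (G := G) Γ I₁ U₁).card) ?_, Finset.sum_const,
    smul_eq_mul] at s1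
  swap
  · intro v hv
    rw [Finset.mem_compl, Finset.mem_union, not_or] at hv
    rw [← pat_insert_left]
    have c1 := Finset.card_insert_of_notMem hv.1
    have hdv : Disjoint (insert v I) U := Finset.disjoint_insert_left.2 ⟨hv.2, hd⟩
    exact le_antisymm (card_pat_congr hk Γ hdv hd₁ (by omega) (by omega) (by omega))
      (card_pat_congr hk Γ hd₁ hdv (by omega) (by omega) (by omega))
  rw [Finset.sum_congr rfl (g := fun _ => (pat (G := G) Γ I₂ U₂).card) ?_, Finset.sum_const,
    smul_eq_mul] at s2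
  swap
  · intro v hv
    rw [Finset.mem_compl, Finset.mem_union, not_or] at hv
    have e : (pat (G := G) Γ I U).filter (fun g => g⁻¹ • v ∈ Γᶜ) = pat Γ I (insert v U) := by
      rw [pat_insert_right]; simp only [Finset.mem_compl]
    rw [e]
    have c1 := Finset.card_insert_of_notMem hv.2
    have hdv : Disjoint I (insert v U) := Finset.disjoint_insert_right.2 ⟨hv.1, hd⟩
    exact le_antisymm (card_pat_congr hk Γ hdv hd₂ (by omega) (by omega) (by omega))
      (card_pat_congr hk Γ hd₂ hdv (by omega) (by omega) (by omega))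
  refine Nat.eq_of_mul_eq_mul_left (show 0 < (I ∪ U)ᶜ.card by omega) ?_
  rw [← mul_assoc, s1, ← mul_assoc, s2]
  ring

/-- Binomial coefficients increase strictly up to the middle. -/
theorem choose_lt {M a b : ℕ} (hab : a < b) (hb : 2 * b ≤ M) : M.choose a < M.choose b := by
  induction b with
  | zero => omega
  | succ b ih =>
    have hstep : M.choose b < M.choose (b + 1) := by
      have h := Nat.choose_succ_right_eq M b
      have hpos : 0 < M.choose b := Nat.choose_pos (by omega)
      by_contra hle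
      have h1 : M.choose (b + 1) * (b + 1) ≤ M.choose b * (b + 1) :=
        Nat.mul_le_mul_right _ (not_lt.1 hle)
      rw [h] at h1
      have := Nat.le_of_mul_le_mul_left h1 hpos
      omega
    rcases Nat.lt_succ_iff_lt_or_eq.1 hab with h | h
    · exact (ih h (by omega)).trans hstep
    · exact h ▸ hstep

variable {m : ℕ}

/-- Pattern numbers on `k` points are proportional to binomial coefficients. -/
theorem pat_eq_choose (hn : Fintype.card Ω = 2 * m + 1) (Γ : Finset Ω) (hΓ : Γ.card = m)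
    (hkm : k < m) {I₀ U₀ : Finset Ω} (hd₀ : Disjoint I₀ U₀) (h0 : I₀.card = 1)
    (h0' : U₀.card + 1 = k) : ∀ (i : ℕ) (I U : Finset Ω), Disjoint I U → I.card = i + 1 →
      I.card + U.card = k →
      (pat (G := G) Γ I U).card * (2 * m + 1 - k).choose (m - 1) =
        (pat (G := G) Γ I₀ U₀).card * (2 * m + 1 - k).choose (m - I.card) := by
  intro i
  induction i with
  | zero =>
    intro I U hd hI hIU
    rw [hI, zero_add]
    congr 1
    exact le_antisymm (card_pat_congr (k := k) (by omega) Γ hd hd₀ (by omega) (by omega) (by omega))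
      (card_pat_congr (k := k) (by omega) Γ hd₀ hd (by omega) (by omega) (by omega))
  | succ i ih =>
    intro I U hd hI hIU
    obtain ⟨v, hv⟩ : I.Nonempty := Finset.card_pos.1 (by omega)
    have hvU : v ∉ U := Finset.disjoint_left.1 hd hv
    have hd' : Disjoint (I.erase v) U := hd.mono_left (Finset.erase_subset v I)
    have hd'' : Disjoint (I.erase v) (insert v U) :=
      Finset.disjoint_insert_right.2 ⟨Finset.notMem_erase v I, hd'⟩
    have c1 : (I.erase v).card = i + 1 := by rw [Finset.card_erase_of_mem hv]; omega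
    have c2 := Finset.card_insert_of_notMem hvU
    have hr := ratio (G := G) (k := k) (by omega) Γ hd' (by omega) hd hd''
      (by omega) rfl rfl c2
    have hIH := ih _ (insert v U) hd'' c1 (by omega)
    have hc := Nat.choose_succ_right_eq (2 * m + 1 - k) (m - I.card)
    rw [show m - I.card + 1 = m - (I.erase v).card by omega] at hc
    rw [hΓ, hn] at hr
    rw [show 2 * m + 1 - k - (m - I.card) = 2 * m + 1 - m - U.card by omega] at hc
    refine Nat.eq_of_mul_eq_mul_right (show 0 < 2 * m + 1 - m - U.card by omega) ?_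
    rw [mul_right_comm, hr, mul_right_comm, hIH, mul_assoc, hc, mul_assoc]

/-- With `2 m + 1` points and `k < m`, every pattern with one point inside and `k` outside
occurs. -/
theorem exists_pattern (hn : Fintype.card Ω = 2 * m + 1) (Γ : Finset Ω) (hΓ : Γ.card = m)
    (hk2 : 2 ≤ k) (hkm : k < m) {x : Ω} {U : Finset Ω} (hxU : x ∉ U) (hU : U.card = k) :
    (pat (G := G) Γ {x} U).Nonempty := by
  rw [← Finset.card_pos]
  by_contra hzero
  have hQ0 : (pat (G := G) Γ {x} U).card = 0 := by omega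
  obtain ⟨u, hu⟩ : U.Nonempty := Finset.card_pos.1 (by omega)
  have hd₀ : Disjoint ({x} : Finset Ω) (U.erase u) :=
    Finset.disjoint_singleton_left.2 fun h => hxU (Finset.mem_of_mem_erase h)
  have h0' : (U.erase u).card + 1 = k := by rw [Finset.card_erase_of_mem hu]; omega
  set P1 := (pat (G := G) Γ {x} (U.erase u)).card with hP1
  have hP1pos : 0 < P1 := Finset.card_pos.2 (pat_nonempty (G := G) (k := k) (by omega) Γ hd₀
    (by rw [Finset.card_singleton]; omega) (by rw [Finset.card_singleton]; omega) (by omega))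
  set M := 2 * m - k with hM
  set C := (2 * m + 1 - k).choose (m - 1) with hC
  have key : ∀ J : Finset Ω, J ⊆ U →
      ((pat (G := G) Γ (insert x J) (U \ J)).card : ℤ) * C =
        P1 * ((M.choose (m - (J.card + 1)) : ℤ) - (-1) ^ J.card * M.choose (m - 1)) := by
    intro J
    induction J using Finset.induction with
    | empty => intro _; simp [hQ0]
    | insert v J hv ih =>
      intro hJU
      rw [Finset.insert_subset_iff] at hJU
      have hvx : v ≠ x := fun h => hxU (h ▸ hJU.1)
      have hcJ := Finset.card_le_card (s := insert v J) (t := U)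
        (Finset.insert_subset_iff.2 hJU)
      rw [Finset.card_insert_of_notMem hv] at hcJ ⊢
      set R := U \ insert v J with hR
      have hUJ : U \ J = insert v R := by
        ext w
        simp only [hR, Finset.mem_sdiff, Finset.mem_insert]
        by_cases hw : w = v
        · subst hw; simp [hv, hJU.1]
        · simp [hw]
      have hxJ : x ∉ J := fun h => hxU (hJU.2 h)
      have hd : Disjoint (insert x J) R := by
        rw [Finset.disjoint_insert_left]
        refine ⟨fun h => hxU (Finset.mem_sdiff.1 h).1, ?_⟩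
        rw [Finset.disjoint_left]
        intro w hw hwR
        exact (Finset.mem_sdiff.1 hwR).2 (Finset.mem_insert_of_mem hw)
      have hcR : R.card + (J.card + 1) = k := by
        have h1 : R.card + (insert v J).card = U.card :=
          Finset.card_sdiff_add_card_eq_card (Finset.insert_subset_iff.2 hJU)
        rw [Finset.card_insert_of_notMem hv] at h1
        omega
      have hP := pat_eq_choose (G := G) hn Γ hΓ hkm hd₀ (Finset.card_singleton x) h0' J.card
        (insert x J) R hd (Finset.card_insert_of_notMem hxJ)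
        (by rw [Finset.card_insert_of_notMem hxJ]; omega)
      rw [Finset.card_insert_of_notMem hxJ, ← hP1, ← hC] at hP
      have hsplit := card_pat_split (G := G) Γ (insert x J) R v
      rw [← hUJ, Finset.insert_comm] at hsplit
      have hpascal : (2 * m + 1 - k).choose (m - (J.card + 1)) =
          M.choose (m - (J.card + 1 + 1)) + M.choose (m - (J.card + 1)) := by
        rw [show 2 * m + 1 - k = M + 1 by omega,
          show m - (J.card + 1) = m - (J.card + 1 + 1) + 1 by omega, Nat.choose_succ_succ']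
      have h1 := ih hJU.2
      rw [hpascal] at hP
      have h2 : ((pat (G := G) Γ (insert x J) R).card : ℤ) * C =
          P1 * ((M.choose (m - (J.card + 1 + 1)) : ℤ) + M.choose (m - (J.card + 1))) := by
        exact_mod_cast hP
      rw [← hsplit, Nat.cast_add, add_mul] at h2
      rw [pow_succ]
      linarith
  obtain ⟨J, hJU, hJe, hJ⟩ : ∃ J ⊆ U, Even J.card ∧ k ≤ J.card + 1 := by
    rcases Nat.even_or_odd k with he | ho
    · exact ⟨U, subset_rfl, hU ▸ he, by omega⟩
    · refine ⟨U.erase u, Finset.erase_subset _ _, ?_, by omega⟩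
      obtain ⟨r, hr⟩ := ho
      exact ⟨r, by omega⟩
  have hJle := Finset.card_le_card hJU
  have h := key J hJU
  rw [hJe.neg_one_pow, one_mul] at h
  have hlt : M.choose (m - (J.card + 1)) < M.choose (m - 1) := by
    rw [show M.choose (m - 1) = M.choose (m - k + 1) from Nat.choose_symm_of_eq_add (by omega)]
    exact choose_lt (by omega) (by omega)
  have hlt' : (M.choose (m - (J.card + 1)) : ℤ) < M.choose (m - 1) := by exact_mod_cast hlt
  have : (0 : ℤ) ≤ ((pat (G := G) Γ (insert x J) (U \ J)).card : ℤ) * C := by positivity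
  have hP1' : (0 : ℤ) < P1 := by exact_mod_cast hP1pos
  rw [h] at this
  nlinarith

/-- On `2 m + 1` points with a Jordan set of size `m`, transitivity climbs up to `m`. -/
theorem step (hn : Fintype.card Ω = 2 * m + 1) (Γ : Finset Ω) (hΓ : Γ.card = m)
    (htr : ∀ x ∈ Γ, ∀ y ∈ Γ, ∃ g : G, (∀ z ∉ Γ, g • z = z) ∧ g • x = y)
    (hk2 : 2 ≤ k) (hkm : k < m) : IsMultiplyPretransitive G Ω (k + 1) := by
  classical
  refine CfsgLib.PermMulti.isMultiplyPretransitive_of_fixing (by omega) fun s hs b c hbs hcs => ?_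
  obtain ⟨v, hv⟩ : s.Nonempty := Finset.card_pos.1 (by omega)
  set F := s.erase v with hF
  have hFc : F.card + 1 = k := by rw [hF, Finset.card_erase_of_mem hv]; omega
  have hXc : Nat.card (ofFixingSubgroup G (F : Set Ω)) + F.card = 2 * m + 1 := by
    have h1 : Nat.card (ofFixingSubgroup G (F : Set Ω)) = Fᶜ.card := by
      rw [← Nat.card_eq_finsetCard]
      exact Nat.card_congr (Equiv.subtypeEquivRight fun z => by
        simp [mem_ofFixingSubgroup_iff])
    rw [h1, Finset.card_compl_add_card, hn]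
  have hpre : IsPretransitive (fixingSubgroup G (F : Set Ω)) (ofFixingSubgroup G (F : Set Ω)) := by
    refine ⟨fun y z => ?_⟩
    have hy : (y : Ω) ∉ F := fun h => y.2 h
    have hz : (z : Ω) ∉ F := fun h => z.2 h
    obtain ⟨g, hg⟩ := exists_smul_eqOn (G := G) (k := k) (by omega) (insert (y : Ω) F)
      (by rw [Finset.card_insert_of_notMem hy]; omega) (fun w => if w = (y : Ω) then (z : Ω) else w)
      (by
        intro a ha b hb hab
        rw [Finset.coe_insert, Set.mem_insert_iff, Finset.mem_coe] at ha hb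
        simp only at hab
        split_ifs at hab with h1 h2
        · rw [h1, h2]
        · exact absurd (hab ▸ hb.resolve_left h2) hz
        · exact absurd (hab ▸ ha.resolve_left h1) hz
        · exact hab)
    refine ⟨⟨g, (mem_fixingSubgroup_iff G).2 fun w hw => ?_⟩, Subtype.ext ?_⟩
    · rw [Finset.mem_coe] at hw
      rw [hg w (Finset.mem_insert_of_mem hw), if_neg (fun e : w = (y : Ω) => hy (e ▸ hw))]
    · show g • (y : Ω) = z
      rw [hg _ (Finset.mem_insert_self _ _), if_pos rfl]
  have hprim : IsPreprimitive (fixingSubgroup G (F : Set Ω)) (ofFixingSubgroup G (F : Set Ω)) := by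
    refine ⟨fun {B} hB => ?_⟩
    by_contra hnt
    rw [IsTrivialBlock, not_or, Set.not_subsingleton_iff] at hnt
    obtain ⟨⟨x, hxB, y, hyB, hxy⟩, hBu⟩ := hnt
    have hb : 2 * B.ncard ≤ Nat.card (ofFixingSubgroup G (F : Set Ω)) := by
      by_contra hlt
      exact hBu (hB.eq_univ_of_card_lt (by omega))
    have hyF : (y : Ω) ∉ F := fun h => y.2 h
    have hxF : (x : Ω) ∉ F := fun h => x.2 h
    obtain ⟨g, hg⟩ := exists_pattern (G := G) (k := k) hn Γ hΓ hk2 hkm (x := (x : Ω))
      (U := insert (y : Ω) F) (by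
        rw [Finset.mem_insert, not_or]; exact ⟨fun e => hxy (Subtype.ext e), hxF⟩)
      (by rw [Finset.card_insert_of_notMem hyF]; omega)
    rw [mem_pat] at hg
    have hgx : g⁻¹ • (x : Ω) ∈ Γ := hg.1 _ (Finset.mem_singleton_self _)
    have hgy : g⁻¹ • (y : Ω) ∉ Γ := hg.2 _ (Finset.mem_insert_self _ _)
    -- the translate lies in the block, which is too small
    have hTB : ∀ w ∈ Γ, g • w ∈ Subtype.val '' B := by
      intro w hw
      obtain ⟨j, hj, hjx⟩ := htr _ hgx w hw
      have hfix : ∀ z : Ω, g⁻¹ • z ∉ Γ → (g * j * g⁻¹) • z = z := fun z hz => by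
        rw [mul_smul, mul_smul, hj _ hz, smul_inv_smul]
      have hh : g * j * g⁻¹ ∈ fixingSubgroup G (F : Set Ω) := (mem_fixingSubgroup_iff G).2
        fun z hz => hfix z (hg.2 z (Finset.mem_insert_of_mem hz))
      set h : fixingSubgroup G (F : Set Ω) := ⟨g * j * g⁻¹, hh⟩
      have hy' : h • y = y := Subtype.ext (hfix y hgy)
      have hhB : h • B = B := hB.smul_eq_of_mem hyB (by rw [hy']; exact hyB)
      refine ⟨h • x, hhB ▸ Set.smul_mem_smul_set hxB, ?_⟩
      show (g * j * g⁻¹) • (x : Ω) = g • w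
      rw [mul_smul, mul_smul, hjx]
    have hlt : Γ.card < B.ncard := by
      rw [← Set.ncard_image_of_injective B Subtype.val_injective, ← Set.ncard_coe_finset,
        ← Set.ncard_image_of_injective (Γ : Set Ω) (MulAction.injective g)]
      refine Set.ncard_lt_ncard ⟨?_, fun h => ?_⟩
      · rintro _ ⟨w, hw, rfl⟩; exact hTB w hw
      · obtain ⟨w, hw, hwy⟩ := h ⟨y, hyB, rfl⟩
        have hwy' : g • w = (y : Ω) := hwy
        exact hgy (by rw [← hwy', inv_smul_smul]; exact hw)
    omega
  -- a translate avoiding `F` gives double transitivity on the rest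
  obtain ⟨g, hg⟩ := pat_nonempty (G := G) (k := k) (by omega) Γ (I := ∅) (U := F)
    (Finset.disjoint_empty_left _) (by rw [Finset.card_empty]; omega) (by simp) (by omega)
  rw [mem_pat] at hg
  set T : Set (ofFixingSubgroup G (F : Set Ω)) := {z | g⁻¹ • (z : Ω) ∈ Γ} with hT
  have hTc : T.ncard = m := by
    rw [← Set.ncard_image_of_injective T Subtype.val_injective, ← hΓ, ← Set.ncard_coe_finset,
      ← Set.ncard_image_of_injective (Γ : Set Ω) (MulAction.injective g)]
    congr 1
    ext w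
    constructor
    · rintro ⟨z, hz, rfl⟩; exact ⟨_, hz, smul_inv_smul g _⟩
    · rintro ⟨u, hu, rfl⟩
      have hnF : g • u ∉ (F : Set Ω) := fun h => hg.2 _ h (by rw [inv_smul_smul]; exact hu)
      exact ⟨⟨g • u, hnF⟩, by
        show g⁻¹ • g • u ∈ Γ
        rw [inv_smul_smul]; exact hu, rfl⟩
  have htr' : ∀ y ∈ T, ∀ z ∈ T, ∃ h : fixingSubgroup G (F : Set Ω),
      (∀ w ∉ T, h • w = w) ∧ h • y = z := by
    intro y hy z hz
    obtain ⟨j, hj, hjy⟩ := htr _ hy _ hz
    have hfix : ∀ w : Ω, g⁻¹ • w ∉ Γ → (g * j * g⁻¹) • w = w := fun w hw => by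
      rw [mul_smul, mul_smul, hj _ hw, smul_inv_smul]
    exact ⟨⟨g * j * g⁻¹, (mem_fixingSubgroup_iff G).2 fun w hw => hfix w (hg.2 w hw)⟩,
      fun w hw => Subtype.ext (hfix w hw), Subtype.ext (show (g * j * g⁻¹) • (y : Ω) = z by
        rw [mul_smul, mul_smul, hjy, smul_inv_smul])⟩
  have hTcc := Set.ncard_add_ncard_compl T
  have h2 := hprim.is_two_pretransitive (s := Tᶜ) (n := Tᶜ.ncard - 1) (by omega) (by omega)
    (CfsgLib.Marggraff.isPretransitive_fixing htr')
  have h2' : ∀ {a b c d : ofFixingSubgroup G (F : Set Ω)}, a ≠ b → c ≠ d →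
      ∃ h : fixingSubgroup G (F : Set Ω), h • a = c ∧ h • b = d := is_two_pretransitive_iff.1 h2
  have hmem : ∀ z, z ∉ s → z ∉ (F : Set Ω) := fun z hz h => hz (Finset.mem_of_mem_erase h)
  obtain ⟨⟨h, hh⟩, hv', hbc⟩ := h2'
    (a := ⟨v, fun hm => Finset.notMem_erase v s hm⟩) (b := ⟨b, hmem b hbs⟩)
    (c := ⟨v, fun hm => Finset.notMem_erase v s hm⟩) (d := ⟨c, hmem c hcs⟩)
    (fun e => hbs (by rwa [show v = b from congrArg Subtype.val e] at hv))
    (fun e => hcs (by rwa [show v = c from congrArg Subtype.val e] at hv))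
  refine ⟨h, fun w hw => ?_, congrArg Subtype.val hbc⟩
  by_cases hwv : w = v
  · subst hwv; exact congrArg Subtype.val hv'
  · exact (mem_fixingSubgroup_iff G).1 hh w (Finset.mem_erase.2 ⟨hwv, hw⟩)

omit [IsMultiplyPretransitive G Ω k] in
/-- The case of `2 m + 1` points. -/
theorem exists_threeCycle_base (hprim : IsPreprimitive G Ω) (hn : Fintype.card Ω = 2 * m + 1)
    (Γ : Finset Ω) (hΓ : Γ.card = m) (hm : 2 ≤ m)
    (htr : ∀ x ∈ Γ, ∀ y ∈ Γ, ∃ g : G, (∀ z ∉ Γ, g • z = z) ∧ g • x = y) :
    ∃ g : G, (MulAction.toPerm g : Equiv.Perm Ω).IsThreeCycle := by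
  classical
  have h3 := CfsgLib.Marggraff.isMultiplyPretransitive_three hprim (Γ : Set Ω)
    (by rw [Set.ncard_coe_finset]; omega)
    (by rw [Set.ncard_coe_finset, Nat.card_eq_fintype_card]; omega) htr
  have hall : ∀ j, j + 2 ≤ m → IsMultiplyPretransitive G Ω (j + 2) := by
    intro j
    induction j with
    | zero =>
      intro _
      exact isMultiplyPretransitive_of_le (show 2 ≤ 3 by omega)
        (by rw [Nat.card_eq_fintype_card]; omega)
    | succ j ih =>
      intro hj
      haveI := ih (by omega)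
      exact step (k := j + 2) hn Γ hΓ htr (by omega) (by omega)
  haveI : IsMultiplyPretransitive G Ω m := by
    have := hall (m - 2) (by omega)
    rwa [Nat.sub_add_cancel hm] at this
  obtain ⟨c, hc⟩ : Γ.Nonempty := Finset.card_pos.1 (by omega)
  obtain ⟨g, hg⟩ := pat_nonempty (G := G) (k := m) (by omega) Γ (I := {c}) (U := Γ.erase c)
    (Finset.disjoint_singleton_left.2 (Finset.notMem_erase c Γ))
    (by rw [Finset.card_singleton, Finset.card_erase_of_mem hc]; omega)
    (by rw [Finset.card_singleton]; omega) (by rw [Finset.card_erase_of_mem hc]; omega)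
  rw [mem_pat] at hg
  have hgc : g⁻¹ • c ∈ Γ := hg.1 c (Finset.mem_singleton_self c)
  obtain ⟨c', hc', hcc'⟩ := Finset.exists_mem_ne (show 1 < Γ.card by omega) c
  obtain ⟨d, hd, hdd⟩ := Finset.exists_mem_ne (show 1 < Γ.card by omega) (g⁻¹ • c)
  obtain ⟨j₁, hj₁, hj₁c⟩ := htr c hc c' hc'
  obtain ⟨j₂, hj₂, hj₂c⟩ := htr _ hgc d hd
  refine ⟨j₁ * (g * j₂ * g⁻¹) * j₁⁻¹ * (g * j₂ * g⁻¹)⁻¹, ?_⟩
  have e : (MulAction.toPerm (j₁ * (g * j₂ * g⁻¹) * j₁⁻¹ * (g * j₂ * g⁻¹)⁻¹) : Equiv.Perm Ω) =
      MulAction.toPerm j₁ * MulAction.toPerm (g * j₂ * g⁻¹) * (MulAction.toPerm j₁)⁻¹ *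
        (MulAction.toPerm (g * j₂ * g⁻¹))⁻¹ := by
    show MulAction.toPermHom G Ω _ = MulAction.toPermHom G Ω _ * MulAction.toPermHom G Ω _ *
      (MulAction.toPermHom G Ω _)⁻¹ * (MulAction.toPermHom G Ω _)⁻¹
    simp only [map_mul, map_inv]
  rw [e]
  refine CfsgLib.OnePointMeet.isThreeCycle_commutator _ _ c ?_ ?_ fun x hx1 hx2 => ?_
  · show j₁ • c ≠ c
    rw [hj₁c]; exact hcc'
  · show (g * j₂ * g⁻¹) • c ≠ c
    rw [mul_smul, mul_smul, hj₂c]
    exact fun h => hdd (eq_inv_smul_iff.2 h)
  · have hxΓ : x ∈ Γ := by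
      by_contra h; exact hx1 (hj₁ x h)
    have hgx : g⁻¹ • x ∈ Γ := by
      by_contra h
      apply hx2
      show (g * j₂ * g⁻¹) • x = x
      rw [mul_smul, mul_smul, hj₂ _ h, smul_inv_smul]
    by_contra hne
    exact hg.2 x (Finset.mem_erase.2 ⟨hne, hxΓ⟩) hgx

end CfsgLib.MarggraffAlt

namespace CfsgLib.MarggraffAlt

open MulAction SubMulAction

universe u v

/-- Marggraff: some element is a 3-cycle. -/
theorem exists_threeCycle : ∀ (n : ℕ) {G : Type u} {Ω : Type v} [Group G] [MulAction G Ω] [Finite G]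
    [Fintype Ω] [DecidableEq Ω], IsPreprimitive G Ω → Fintype.card Ω = n → ∀ Γ : Finset Ω,
    1 < Γ.card → 2 * Γ.card < n →
    (∀ x ∈ Γ, ∀ y ∈ Γ, ∃ g : G, (∀ z ∉ Γ, g • z = z) ∧ g • x = y) →
    ∃ g : G, (MulAction.toPerm g : Equiv.Perm Ω).IsThreeCycle := by
  intro n
  induction n using Nat.strong_induction_on with
  | h n ih =>
    intro G Ω _ _ _ _ _ hprim hn Γ h1 h2 htr
    classical
    haveI := Fintype.ofFinite G
    by_cases hbase : n = 2 * Γ.card + 1
    · exact exists_threeCycle_base hprim (hn.trans hbase) Γ rfl (by omega) htr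
    haveI h2t : IsMultiplyPretransitive G Ω 2 := by
      haveI := CfsgLib.Marggraff.isMultiplyPretransitive_three hprim (Γ : Set Ω)
        (by rw [Set.ncard_coe_finset]; omega)
        (by rw [Set.ncard_coe_finset, Nat.card_eq_fintype_card]; omega) htr
      exact isMultiplyPretransitive_of_le (show 2 ≤ 3 by omega)
        (by rw [Nat.card_eq_fintype_card]; omega)
    obtain ⟨a, ha⟩ : (Γᶜ).Nonempty := Finset.card_pos.1 (by rw [Finset.card_compl]; omega)
    rw [Finset.mem_compl] at ha
    have hp := CfsgLib.Marggraff.isPreprimitive_ofStabilizer (Γ : Set Ω)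
      (by rw [Set.ncard_coe_finset]; omega)
      (by rw [Set.ncard_coe_finset, Nat.card_eq_fintype_card]; omega) htr a
    haveI : Fintype (ofStabilizer G a) := Fintype.ofFinite _
    have hcard := nat_card_ofStabilizer_add_one_eq G a
    rw [Nat.card_eq_fintype_card, Nat.card_eq_fintype_card] at hcard
    let Γ' : Finset (ofStabilizer G a) := Finset.univ.filter fun z => (z : Ω) ∈ Γ
    have hΓ' : Γ'.card = Γ.card := by
      refine Finset.card_bij (fun z _ => (z : Ω)) (fun z hz => (Finset.mem_filter.1 hz).2)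
        (fun z _ w _ h => Subtype.ext h) fun w hw => ?_
      exact ⟨⟨w, fun h => ha (h ▸ hw)⟩, Finset.mem_filter.2 ⟨Finset.mem_univ _, hw⟩, rfl⟩
    have htr' : ∀ x ∈ Γ', ∀ y ∈ Γ', ∃ g : stabilizer G a, (∀ z ∉ Γ', g • z = z) ∧ g • x = y := by
      intro x hx y hy
      obtain ⟨g, hg, hgx⟩ := htr _ (Finset.mem_filter.1 hx).2 _ (Finset.mem_filter.1 hy).2
      exact ⟨⟨g, hg a ha⟩, fun z hz => Subtype.ext (hg z fun h =>
        hz (Finset.mem_filter.2 ⟨Finset.mem_univ _, h⟩)), Subtype.ext hgx⟩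
    obtain ⟨h, hh⟩ := ih (n - 1) (by omega) hp (by omega) Γ' (by omega) (by omega) htr'
    refine ⟨h, ?_⟩
    rw [← _root_.card_support_eq_three_iff] at hh ⊢
    rw [← hh]
    refine (Finset.card_bij (fun z _ => ((z : ofStabilizer G a) : Ω)) ?_
      (fun z _ w _ e => Subtype.ext e) ?_).symm
    · intro z hz
      rw [Equiv.Perm.mem_support] at hz ⊢
      exact fun e => hz (Subtype.ext e)
    · intro w hw
      rw [Equiv.Perm.mem_support] at hw
      have hwa : w ≠ a := fun e => hw (by rw [e]; exact h.2)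
      exact ⟨⟨w, hwa⟩, Equiv.Perm.mem_support.2 fun e => hw (congrArg Subtype.val e), rfl⟩

/-- Marggraff's theorem. -/
theorem alternatingGroup_le {G : Type u} {Ω : Type v} [Group G] [MulAction G Ω] [Finite G]
    [Fintype Ω] [DecidableEq Ω] (hprim : IsPreprimitive G Ω) (Γ : Finset Ω) (h1 : 1 < Γ.card)
    (h2 : 2 * Γ.card < Fintype.card Ω)
    (htr : ∀ x ∈ Γ, ∀ y ∈ Γ, ∃ g : G, (∀ z ∉ Γ, g • z = z) ∧ g • x = y) :
    alternatingGroup Ω ≤ (MulAction.toPermHom G Ω).range := by
  haveI := hprim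
  obtain ⟨g, hg⟩ := exists_threeCycle _ hprim rfl Γ h1 h2 htr
  have hH : IsPreprimitive (MulAction.toPermHom G Ω).range Ω :=
    IsPreprimitive.of_surjective
      (f := ({ toFun := id, map_smul' := fun g x => rfl } :
        Ω →ₑ[fun g : G => (⟨MulAction.toPermHom G Ω g, g, rfl⟩ : (MulAction.toPermHom G Ω).range)] Ω))
      Function.surjective_id
  exact Equiv.Perm.alternatingGroup_le_of_isPreprimitive_of_isThreeCycle_mem hH hg ⟨g, rfl⟩

end CfsgLib.MarggraffAlt
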