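import Mathlib.GroupTheory.GroupAction.Blocks
import Mathlib.GroupTheory.GroupAction.Primitive
import Mathlib.Tactic
import Cfsg.Agent.Perm.OnePointMeet

/-! Classification-free minimal degree bound for primitive groups: a non-trivial element
moves at least `√(n-1)/2` points unless the group contains the alternating group. -/

set_option autoImplicit false
set_option maxHeartbeats 400000

namespace CfsgLib.MinDegreeBound

open MulAction
open scoped Pointwise

variable {G Ω : Type*} [Group G] [MulAction G Ω]

/-- An invariant relation in a finite primitive action connects everything. -/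
theorem reach_all [Finite Ω] (hprim : IsPreprimitive G Ω) (R : Ω → Ω → Prop)
    (hinv : ∀ (t : G) x y, R x y → R (t • x) (t • y)) {a b : Ω} (hab : a ≠ b) (hR : R a b) :
    ∀ x y, Relation.ReflTransGen R x y := by
  classical
  haveI := hprim.toIsPretransitive
  let T := Relation.ReflTransGen R
  have hTinv : ∀ (t : G) x y, T x y → T (t • x) (t • y) := by
    intro t x y h
    induction h with
    | refl => exact Relation.ReflTransGen.refl
    | tail _ h2 ih => exact ih.tail (hinv t _ _ h2)
  let out : Ω → Set Ω := fun x => {y | T x y}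
  have hsmul : ∀ (t : G) x, out (t • x) = (fun y => t • y) '' out x := by
    intro t x
    ext y
    constructor
    · exact fun h => ⟨t⁻¹ • y, by simpa [out] using hTinv t⁻¹ _ _ h, smul_inv_smul t y⟩
    · rintro ⟨z, hz, rfl⟩; exact hTinv t x z hz
  have heqout : ∀ x y, y ∈ out x → out y = out x := by
    intro x y hy
    apply Set.eq_of_subset_of_ncard_le (fun z hz => Relation.ReflTransGen.trans hy hz) ?_
      (Set.toFinite _)
    obtain ⟨t, rfl⟩ := exists_smul_eq G x y
    show (out x).ncard ≤ (out (t • x)).ncard
    rw [hsmul, Set.ncard_image_of_injective _ (MulAction.injective t)]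
  have hblock : IsBlock G (out a) := by
    rw [isBlock_iff_smul_eq_or_disjoint]
    intro t
    by_cases hd : Disjoint (t • out a) (out a)
    · exact Or.inr hd
    · left
      obtain ⟨z, hz1, hz2⟩ := Set.not_disjoint_iff.1 hd
      rw [← Set.image_smul, ← hsmul] at hz1 ⊢
      rw [← heqout _ _ hz1, heqout _ _ hz2]
  rcases hprim.isTrivialBlock_of_isBlock hblock with hs | hu
  · exact absurd (hs (show a ∈ out a from Relation.ReflTransGen.refl)
      (Relation.ReflTransGen.single hR)) hab
  · intro x y
    have hx : x ∈ out a := hu ▸ Set.mem_univ x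
    have : y ∈ out x := by rw [heqout a x hx, hu]; trivial
    exact this

variable [Fintype Ω] [DecidableEq Ω]

/-- Points telling `x` from `y`. -/
noncomputable def dist (G : Type*) [Group G] [MulAction G Ω] (x y : Ω) : Finset Ω := by
  classical
  exact Finset.univ.filter fun z => (x, z) ∉ orbit G (y, z)

theorem mem_dist {x y z : Ω} : z ∈ dist G x y ↔ (x, z) ∉ orbit G (y, z) := by
  classical
  simp [dist]

theorem orbit_inv {R : Ω → Ω → Prop} (hinv : ∀ (t : G) x y, R x y → R (t • x) (t • y))
    {x y z : Ω} (hx : R x z) (hy : ¬ R y z) : z ∈ dist G x y ∧ z ∈ dist G y x := by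
  refine ⟨mem_dist.2 ?_, mem_dist.2 ?_⟩
  · rintro ⟨t, ht⟩
    apply hy
    have h1 : t • y = x := congrArg Prod.fst ht
    have h2 : t • z = z := congrArg Prod.snd ht
    have := hinv t⁻¹ _ _ hx
    rwa [← h1, inv_smul_smul, inv_smul_eq_iff.2 h2.symm] at this
  · rintro ⟨t, ht⟩
    apply hy
    have h1 : t • x = y := congrArg Prod.fst ht
    have h2 : t • z = z := congrArg Prod.snd ht
    have := hinv t _ _ hx
    rwa [h1, h2] at this

theorem card_dist_smul (t : G) (x y : Ω) : (dist G (t • x) (t • y)).card = (dist G x y).card := by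
  classical
  have : dist G (t • x) (t • y) = (dist G x y).image (fun z => t • z) := by
    ext z
    simp only [Finset.mem_image, mem_dist]
    constructor
    · intro h
      refine ⟨t⁻¹ • z, fun hc => h ?_, smul_inv_smul t z⟩
      obtain ⟨s, hs⟩ := hc
      refine ⟨t * s * t⁻¹, ?_⟩
      have h1 : s • y = x := congrArg Prod.fst hs
      have h2 : s • t⁻¹ • z = t⁻¹ • z := congrArg Prod.snd hs
      simp [Prod.smul_mk, mul_smul, h1, h2]
    · rintro ⟨w, hw, rfl⟩ ⟨s, hs⟩
      apply hw
      refine ⟨t⁻¹ * s * t, ?_⟩
      have h1 : s • t • y = t • x := congrArg Prod.fst hs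
      have h2 : s • t • w = t • w := congrArg Prod.snd hs
      simp [Prod.smul_mk, mul_smul, h1, h2]
  rw [this, Finset.card_image_of_injective _ (MulAction.injective t)]

theorem dist_comm (x y : Ω) : dist G x y = dist G y x := by
  ext z
  rw [mem_dist, mem_dist, not_iff_not]
  exact mem_orbit_symm

theorem dist_triangle (x y w : Ω) : dist G x w ⊆ dist G x y ∪ dist G y w := by
  intro z hz
  rw [Finset.mem_union]
  by_contra hc
  push Not at hc
  simp only [mem_dist, not_not] at hc hz
  exact hz ((orbit_eq_iff.2 hc.2) ▸ hc.1)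

theorem dist_subset_moved (g : G) (a : Ω) :
    dist G (g • a) a ⊆ Finset.univ.filter fun z => g • z ≠ z := by
  intro z hz
  simp only [Finset.mem_filter, Finset.mem_univ, true_and]
  intro hzf
  exact mem_dist.1 hz ⟨g, by simp [Prod.smul_mk, hzf]⟩

/-- Neighbour count: every point is told apart from `x` by some neighbour of `x`. -/
theorem card_le_mul (hprim : IsPreprimitive G Ω) (R : Ω → Ω → Prop) [DecidableRel R]
    (hinv : ∀ (t : G) x y, R x y → R (t • x) (t • y)) {a b : Ω} (hab : a ≠ b) (hR : R a b)
    (x : Ω) (M : ℕ) (hM : ∀ y, R x y → (dist G x y).card ≤ M) :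
    Fintype.card Ω - 1 ≤ (Finset.univ.filter (R x)).card * M := by
  classical
  have hsub : Finset.univ.erase x ⊆ (Finset.univ.filter (R x)).biUnion (dist G x) := by
    intro z hz
    by_contra hc
    simp only [Finset.mem_biUnion, Finset.mem_filter, Finset.mem_univ, true_and, not_exists,
      not_and, mem_dist, not_not] at hc
    have key : ∀ w, Relation.ReflTransGen R x w → (w, z) ∈ orbit G (x, z) := by
      intro w hw
      induction hw with
      | refl => exact mem_orbit_self _
      | @tail u v _ h2 ih =>
        obtain ⟨t, ht⟩ := ih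
        have h1 : t • x = u := congrArg Prod.fst ht
        have hz' : t • z = z := congrArg Prod.snd ht
        have h3 : R x (t⁻¹ • v) := by
          have := hinv t⁻¹ _ _ h2
          rwa [← h1, inv_smul_smul] at this
        obtain ⟨s, hs⟩ := mem_orbit_symm.1 (hc _ h3)
        have k1 : s • x = t⁻¹ • v := congrArg Prod.fst hs
        have k2 : s • z = z := congrArg Prod.snd hs
        exact ⟨t * s, by simp [Prod.smul_mk, mul_smul, k1, k2, hz']⟩
    obtain ⟨t, ht⟩ := key z (reach_all hprim R hinv hab hR x z)
    have h1 : t • x = z := congrArg Prod.fst ht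
    have h2 : t • z = z := congrArg Prod.snd ht
    exact (Finset.mem_erase.1 hz).1 (MulAction.injective t (h2.trans h1.symm))
  have h1 := (Finset.card_le_card hsub).trans (Finset.card_biUnion_le_card_mul _ _ M (fun y hy => hM y (Finset.mem_filter.1 hy).2))
  simpa using h1

theorem sq_bound (hprim : IsPreprimitive G Ω) (g : G) (a : Ω) (ha : g • a ≠ a)
    (hrank : ∃ x y u v : Ω, x ≠ y ∧ u ≠ v ∧ (u, v) ∉ orbit G (x, y)) :
    Fintype.card Ω - 1 ≤ 4 * (Finset.univ.filter fun z : Ω => g • z ≠ z).card ^ 2 := by
  classical
  haveI := hprim.toIsPretransitive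
  set m := (Finset.univ.filter fun z : Ω => g • z ≠ z).card
  let E : Ω → Ω → Prop := fun x y => (x, y) ∈ orbit G (g • a, a) ∨ (y, x) ∈ orbit G (g • a, a)
  have hEsymm : ∀ {x y}, E x y → E y x := fun h => h.symm
  have hEinv : ∀ (t : G) x y, E x y → E (t • x) (t • y) := by
    intro t x y h
    refine h.imp (fun h => ?_) (fun h => ?_)
    · exact (orbit_eq_iff.2 h) ▸ mem_orbit (x, y) t
    · exact (orbit_eq_iff.2 h) ▸ mem_orbit (y, x) t
  have hEd : ∀ x y, E x y → (dist G x y).card ≤ m := by
    intro x y h
    rcases h with ⟨t, ht⟩ | ⟨t, ht⟩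
    · have h1 : t • g • a = x := congrArg Prod.fst ht
      have h2 : t • a = y := congrArg Prod.snd ht
      rw [← h1, ← h2, card_dist_smul]
      exact Finset.card_le_card (dist_subset_moved g a)
    · have h1 : t • g • a = y := congrArg Prod.fst ht
      have h2 : t • a = x := congrArg Prod.snd ht
      rw [dist_comm, ← h1, ← h2, card_dist_smul]
      exact Finset.card_le_card (dist_subset_moved g a)
  have hEa : E (g • a) a := Or.inl (mem_orbit_self _)
  have htri : ∀ x y w : Ω, (dist G x w).card ≤ (dist G x y).card + (dist G y w).card := fun x y w =>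
    (Finset.card_le_card (dist_triangle x y w)).trans (Finset.card_union_le _ _)
  by_cases hall : ∀ x w : Ω, (dist G x w).card ≤ 2 * m
  · -- all distances small: use a colour of small degree
    obtain ⟨x₁, y₁, u₁, v₁, hxy, huv, horb⟩ := hrank
    have hdeg : ∀ (p : Ω × Ω) (x x' : Ω),
        (Finset.univ.filter fun z : Ω => (x, z) ∈ orbit G p).card
          = (Finset.univ.filter fun z : Ω => (x', z) ∈ orbit G p).card := by
      intro p x x'
      obtain ⟨t, rfl⟩ := exists_smul_eq G x x'
      refine Finset.card_bij' (fun z _ => t • z) (fun z _ => t⁻¹ • z) ?_ ?_ ?_ ?_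
      · intro z hz
        simp only [Finset.mem_filter, Finset.mem_univ, true_and] at hz ⊢
        exact (orbit_eq_iff.2 hz) ▸ mem_orbit (x, z) t
      · intro z hz
        simp only [Finset.mem_filter, Finset.mem_univ, true_and] at hz ⊢
        have := (orbit_eq_iff.2 hz) ▸ mem_orbit (t • x, z) t⁻¹
        simpa [Prod.smul_mk] using this
      · simp
      · simp
    have hsum2 : (Finset.univ.filter fun z : Ω => (a, z) ∈ orbit G (x₁, y₁)).card
        + (Finset.univ.filter fun z : Ω => (a, z) ∈ orbit G (u₁, v₁)).card ≤ Fintype.card Ω - 1 := by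
      rw [← Finset.card_union_of_disjoint]
      · refine (Finset.card_le_card (t := Finset.univ.erase a) ?_).trans (by simp)
        intro z hz
        simp only [Finset.mem_union, Finset.mem_filter, Finset.mem_univ, true_and] at hz
        refine Finset.mem_erase.2 ⟨?_, Finset.mem_univ _⟩
        rintro rfl
        rcases hz with ⟨t, ht⟩ | ⟨t, ht⟩
        · exact hxy (MulAction.injective t ((congrArg Prod.fst ht).trans (congrArg Prod.snd ht).symm))
        · exact huv (MulAction.injective t ((congrArg Prod.fst ht).trans (congrArg Prod.snd ht).symm))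
      · rw [Finset.disjoint_filter]
        intro z _ h1 h2
        have e := (orbit_eq_iff.2 h1).symm.trans (orbit_eq_iff.2 h2)
        exact horb (by rw [e]; exact mem_orbit_self _)
    obtain ⟨p, hp, hk⟩ : ∃ p : Ω × Ω, p.1 ≠ p.2 ∧
        2 * (Finset.univ.filter fun z : Ω => (a, z) ∈ orbit G p).card ≤ Fintype.card Ω := by
      rcases le_total (Finset.univ.filter fun z : Ω => (a, z) ∈ orbit G (x₁, y₁)).card
        (Finset.univ.filter fun z : Ω => (a, z) ∈ orbit G (u₁, v₁)).card with h | h
      · exact ⟨(x₁, y₁), hxy, by omega⟩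
      · exact ⟨(u₁, v₁), huv, by omega⟩
    set F : Ω → Ω → Prop := fun x y => (x, y) ∈ orbit G p with hF
    set k := (Finset.univ.filter fun z => F a z).card with hkdef
    have hFinv : ∀ (t : G) x y, F x y → F (t • x) (t • y) := fun t x y h => by
      show (t • x, t • y) ∈ orbit G p
      rw [← orbit_eq_iff.2 h]
      exact mem_orbit (x, y) t
    have hpF : F p.1 p.2 := mem_orbit_self _
    have h1 : Fintype.card Ω - 1 ≤ k * (2 * m) :=
      card_le_mul hprim F hFinv hp hpF a (2 * m) (fun y _ => hall a y)
    have hout : ∀ w, (Finset.univ.filter (F w)).card = k := fun w => hdeg p w a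
    have hin : ∀ z, (Finset.univ.filter fun w => F w z).card = k := by
      have hconst : ∀ z z', (Finset.univ.filter fun w => F w z).card
          = (Finset.univ.filter fun w => F w z').card := by
        intro z z'
        obtain ⟨t, rfl⟩ := exists_smul_eq G z z'
        refine Finset.card_bij' (fun w _ => t • w) (fun w _ => t⁻¹ • w) ?_ ?_ ?_ ?_
        · intro w hw
          simp only [Finset.mem_filter, Finset.mem_univ, true_and] at hw ⊢
          exact hFinv t _ _ hw
        · intro w hw
          simp only [Finset.mem_filter, Finset.mem_univ, true_and] at hw ⊢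
          simpa using hFinv t⁻¹ _ _ hw
        · simp
        · simp
      intro z
      have hswap : ∑ w, (Finset.univ.filter (F w)).card
          = ∑ z', (Finset.univ.filter fun w => F w z').card := by
        simp only [Finset.card_filter]
        exact Finset.sum_comm
      rw [Finset.sum_congr rfl (fun w _ => hout w),
        Finset.sum_congr rfl (fun z' _ => hconst z' z), Finset.sum_const, Finset.sum_const] at hswap
      simp only [Finset.card_univ, smul_eq_mul] at hswap
      exact (Nat.eq_of_mul_eq_mul_left (Fintype.card_pos_iff.2 ⟨a⟩) hswap).symm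
    have hpair : ∀ w, ((Finset.univ.filter (F a)) \ (Finset.univ.filter (F w))).card
        + ((Finset.univ.filter (F w)) \ (Finset.univ.filter (F a))).card ≤ 2 * m := by
      intro w
      rw [← Finset.card_union_of_disjoint disjoint_sdiff_sdiff]
      refine (Finset.card_le_card ?_).trans (hall a w)
      intro z hz
      simp only [Finset.mem_union, Finset.mem_sdiff, Finset.mem_filter, Finset.mem_univ,
        true_and] at hz
      rcases hz with ⟨h1, h2⟩ | ⟨h1, h2⟩
      · exact (orbit_inv hFinv h1 h2).1
      · exact (orbit_inv hFinv h1 h2).2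
    have hcap : ∑ w, ((Finset.univ.filter (F w)) ∩ (Finset.univ.filter (F a))).card = k * k := by
      have : ∀ w, ((Finset.univ.filter (F w)) ∩ (Finset.univ.filter (F a))).card
          = ∑ z ∈ Finset.univ.filter (F a), if F w z then 1 else 0 := by
        intro w
        rw [← Finset.card_filter]
        congr 1
        ext z
        simp [and_comm]
      simp only [this]
      rw [Finset.sum_comm]
      have : ∀ z, (∑ w, if F w z then 1 else 0) = k := fun z => by
        rw [← Finset.card_filter]; exact hin z
      simp only [this, Finset.sum_const, smul_eq_mul]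
      rfl
    have hsum : 2 * (Fintype.card Ω * k) ≤ Fintype.card Ω * (2 * m) + 2 * (k * k) := by
      have h2 : ∑ w : Ω, (2 * k) ≤ ∑ w, (2 * m
          + 2 * ((Finset.univ.filter (F w)) ∩ (Finset.univ.filter (F a))).card) := by
        refine Finset.sum_le_sum fun w _ => ?_
        have e1 := Finset.card_sdiff_add_card_inter (Finset.univ.filter (F w))
          (Finset.univ.filter (F a))
        have e2 := Finset.card_sdiff_add_card_inter (Finset.univ.filter (F a))
          (Finset.univ.filter (F w))
        rw [Finset.inter_comm (Finset.univ.filter (F a))] at e2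
        have e3 := hpair w
        have e4 := hout w
        have e5 := hout a
        omega
      simp only [Finset.sum_add_distrib, ← Finset.mul_sum, Finset.sum_const, hcap, Finset.card_univ,
        smul_eq_mul] at h2
      linarith
    have hkm : k ≤ 2 * m := by
      have hn : 0 < Fintype.card Ω := Fintype.card_pos_iff.2 ⟨a⟩
      have h2k : 2 * k ≤ Fintype.card Ω := hk
      have : Fintype.card Ω * k ≤ Fintype.card Ω * (2 * m) := by nlinarith
      exact Nat.le_of_mul_le_mul_left this hn
    nlinarith
  · -- some pair is far apart in `E`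
    push Not at hall
    obtain ⟨x₀, w₀, hxw⟩ := hall
    let R2 : Ω → Ω → Prop := fun x w => x = w ∨ E x w ∨ ∃ y, E x y ∧ E y w
    have hR2d : ∀ x w, R2 x w → (dist G x w).card ≤ 2 * m := by
      rintro x w (rfl | h | ⟨y, h1, h2⟩)
      · have : dist G x x = ∅ := by
          ext z
          simp [mem_dist]
        simp [this]
      · exact (hEd x w h).trans (by omega)
      · exact (htri x y w).trans (by linarith [hEd x y h1, hEd y w h2])
    obtain ⟨w, hnw, y₁, y₂, e1, e2, e3⟩ : ∃ w, ¬ R2 x₀ w ∧ ∃ y₁ y₂, E x₀ y₁ ∧ E y₁ y₂ ∧ E y₂ w := by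
      by_contra hc
      push Not at hc
      have key : ∀ w, Relation.ReflTransGen E x₀ w → R2 x₀ w := by
        intro w hw
        induction hw with
        | refl => exact Or.inl rfl
        | @tail u v _ h2 ih =>
          rcases ih with rfl | h | ⟨y, h1, h3⟩
          · exact Or.inr (Or.inl h2)
          · exact Or.inr (Or.inr ⟨u, h, h2⟩)
          · by_contra hv
            exact hc v hv y u h1 h3 h2
      exact absurd (hR2d x₀ w₀ (key w₀ (reach_all hprim E hEinv ha hEa x₀ w₀))) (by omega)
    have hdisj : Disjoint (Finset.univ.filter (E x₀)) (Finset.univ.filter (E w)) := by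
      rw [Finset.disjoint_filter]
      exact fun y _ h1 h2 => hnw (Or.inr (Or.inr ⟨y, h1, hEsymm h2⟩))
    have hN : ∀ x, (Finset.univ.filter (E x)).card = (Finset.univ.filter (E x₀)).card := by
      intro x
      obtain ⟨t, rfl⟩ := exists_smul_eq G x₀ x
      refine (Finset.card_bij' (fun z _ => t • z) (fun z _ => t⁻¹ • z) ?_ ?_ ?_ ?_).symm
      · intro z hz
        simp only [Finset.mem_filter, Finset.mem_univ, true_and] at hz ⊢
        exact hEinv t _ _ hz
      · intro z hz
        simp only [Finset.mem_filter, Finset.mem_univ, true_and] at hz ⊢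
        simpa using hEinv t⁻¹ _ _ hz
      · simp
      · simp
    have hbig : 2 * (Finset.univ.filter (E x₀)).card ≤ (dist G x₀ w).card := by
      have hsub : (Finset.univ.filter (E x₀)) ∪ (Finset.univ.filter (E w)) ⊆ dist G x₀ w := by
        intro z hz
        simp only [Finset.mem_union, Finset.mem_filter, Finset.mem_univ, true_and] at hz
        rcases hz with h | h
        · exact (orbit_inv hEinv h (fun h' => hnw (Or.inr (Or.inr ⟨z, h, hEsymm h'⟩)))).1
        · exact (orbit_inv hEinv h (fun h' => hnw (Or.inr (Or.inr ⟨z, h', hEsymm h⟩)))).2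
      have := Finset.card_le_card hsub
      rw [Finset.card_union_of_disjoint hdisj, hN w] at this
      omega
    have h3 : (dist G x₀ w).card ≤ 3 * m := by
      linarith [htri x₀ y₁ w, htri y₁ y₂ w, hEd _ _ e1, hEd _ _ e2, hEd _ _ e3]
    have h1 := card_le_mul hprim E hEinv ha hEa x₀ m (fun y hy => hEd x₀ y hy)
    nlinarith

theorem two_trans_bound [Finite G] (hprim : IsPreprimitive G Ω)
    (hA : ¬ alternatingGroup Ω ≤ (MulAction.toPermHom G Ω).range)
    (g : G) (a : Ω) (ha : g • a ≠ a)
    (h2 : ∀ x y u v : Ω, x ≠ y → u ≠ v → (u, v) ∈ orbit G (x, y)) :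
    Fintype.card Ω - 1 ≤ 4 * (Finset.univ.filter fun z : Ω => g • z ≠ z).card ^ 2 := by
  classical
  haveI := Fintype.ofFinite G
  by_contra hlt
  push Not at hlt
  set S := Finset.univ.filter fun z : Ω => g • z ≠ z with hS
  have haS : a ∈ S := by simp [hS, ha]
  let K := Finset.univ.filter fun t : G => t • a = a
  have hK : K.Nonempty := ⟨1, by simp [K]⟩
  let c : Ω → Ω → ℕ := fun u v => (K.filter fun t => t • u = v).card
  have hc : ∀ u, u ≠ a → ∀ v, v ≠ a → c u v * (Fintype.card Ω - 1) = K.card := by
    intro u hu v hv
    have hfib : K.card = ∑ v' ∈ Finset.univ.erase a, c u v' := by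
      refine Finset.card_eq_sum_card_fiberwise ?_
      intro t ht
      simp only [K, Finset.coe_filter, Finset.mem_univ, true_and, Set.mem_setOf_eq] at ht
      simp only [Finset.coe_erase, Finset.coe_univ, Set.mem_diff, Set.mem_univ,
        Set.mem_singleton_iff, true_and]
      exact fun e => hu (MulAction.injective t (e.trans ht.symm))
    have hconst : ∀ v' ∈ Finset.univ.erase a, c u v' = c u v := by
      intro v' hv'
      obtain ⟨s, hs⟩ := h2 a v a v' (Ne.symm hv) (Finset.mem_erase.1 hv').1.symm
      have s1 : s • a = a := congrArg Prod.fst hs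
      have s2 : s • v = v' := congrArg Prod.snd hs
      refine Finset.card_bij' (fun t _ => s⁻¹ * t) (fun t _ => s * t) ?_ ?_ ?_ ?_
      · intro t ht
        simp only [K, Finset.mem_filter, Finset.mem_univ, true_and] at ht ⊢
        refine ⟨?_, ?_⟩
        · rw [mul_smul, ht.1, inv_smul_eq_iff, s1]
        · rw [mul_smul, ht.2, inv_smul_eq_iff, s2]
      · intro t ht
        simp only [K, Finset.mem_filter, Finset.mem_univ, true_and] at ht ⊢
        simp [mul_smul, ht.1, ht.2, s1, s2]
      · simp
      · simp
    rw [hfib, Finset.sum_congr rfl hconst, Finset.sum_const, smul_eq_mul,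
      Finset.card_erase_of_mem (Finset.mem_univ _), Finset.card_univ, mul_comm]
  obtain ⟨t, htK, hto⟩ : ∃ t ∈ K, ∀ u ∈ S.erase a, t • u ∉ S.erase a := by
    by_contra hno
    push Not at hno
    have hle : K.card ≤ ∑ u ∈ S.erase a, ∑ v ∈ S.erase a, c u v := by
      have hsub : K ⊆ (S.erase a).biUnion fun u => (S.erase a).biUnion fun v =>
          K.filter fun t => t • u = v := by
        intro t ht
        obtain ⟨u, hu, huv⟩ := hno t ht
        simp only [Finset.mem_biUnion, Finset.mem_filter]
        exact ⟨u, hu, t • u, huv, ht, rfl⟩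
      refine (Finset.card_le_card hsub).trans (Finset.card_biUnion_le.trans ?_)
      exact Finset.sum_le_sum fun u _ => Finset.card_biUnion_le
    have htot : (∑ u ∈ S.erase a, ∑ v ∈ S.erase a, c u v) * (Fintype.card Ω - 1)
        = (S.erase a).card ^ 2 * K.card := by
      rw [Finset.sum_mul, Finset.sum_congr rfl fun u hu => ?_, Finset.sum_const, smul_eq_mul]
      · rw [pow_two, mul_assoc]
      · rw [Finset.sum_mul, Finset.sum_congr rfl fun v hv =>
          hc u (Finset.mem_erase.1 hu).1 v (Finset.mem_erase.1 hv).1, Finset.sum_const, smul_eq_mul]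
    have hKpos := hK.card_pos
    have hSle : (S.erase a).card ≤ S.card := Finset.card_le_card (Finset.erase_subset _ _)
    have : (S.erase a).card ^ 2 < Fintype.card Ω - 1 := by nlinarith
    nlinarith [Nat.mul_le_mul_right (Fintype.card Ω - 1) hle]
  simp only [K, Finset.mem_filter, Finset.mem_univ, true_and] at htK
  apply hA
  have hrange : IsPreprimitive (MulAction.toPermHom G Ω).range Ω := by
    haveI := hprim
    let f : Ω →ₑ[(MulAction.toPermHom G Ω).rangeRestrict] Ω :=
      { toFun := id, map_smul' := fun _ _ => rfl }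
    exact IsPreprimitive.of_surjective (f := f) Function.surjective_id
  refine Equiv.Perm.alternatingGroup_le_of_isPreprimitive_of_isThreeCycle_mem hrange
    (CfsgLib.OnePointMeet.isThreeCycle_commutator (MulAction.toPermHom G Ω g)
      (MulAction.toPermHom G Ω (t * g * t⁻¹)) a ?_ ?_ ?_) ⟨g * (t * g * t⁻¹) * g⁻¹ * (t * g * t⁻¹)⁻¹, ?_⟩
  · simpa using ha
  · simp only [MulAction.toPermHom_apply, MulAction.toPerm_apply]
    have : t⁻¹ • a = a := inv_smul_eq_iff.2 htK.symm
    rw [mul_smul, mul_smul, this]
    exact fun e => ha (MulAction.injective t (e.trans htK.symm))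
  · intro x hx hx'
    simp only [MulAction.toPermHom_apply, MulAction.toPerm_apply] at hx hx'
    by_contra hxa
    have hxS : x ∈ S.erase a := by simp [hS, hx, hxa]
    have hu : t⁻¹ • x ∈ S.erase a := by
      simp only [hS, Finset.mem_erase, Finset.mem_filter, Finset.mem_univ, true_and]
      refine ⟨fun e => hxa ?_, fun e => hx' ?_⟩
      · rw [inv_smul_eq_iff] at e; rw [e, htK]
      · rw [mul_smul, mul_smul, e, smul_inv_smul]
    exact hto _ hu (by rw [smul_inv_smul]; exact hxS)
  · simp only [map_mul, map_inv]

theorem main [Finite G] [FaithfulSMul G Ω] (hprim : IsPreprimitive G Ω)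
    (hA : ¬ alternatingGroup Ω ≤ (MulAction.toPermHom G Ω).range) (g : G) (hg : g ≠ 1) :
    Fintype.card Ω - 1 ≤ 4 * (Finset.univ.filter fun z : Ω => g • z ≠ z).card ^ 2 := by
  classical
  obtain ⟨a, ha⟩ : ∃ a : Ω, g • a ≠ a := by
    by_contra h
    push Not at h
    exact hg (eq_of_smul_eq_smul fun x : Ω => by rw [h x, one_smul])
  by_cases h2 : ∀ x y u v : Ω, x ≠ y → u ≠ v → (u, v) ∈ orbit G (x, y)
  · exact two_trans_bound hprim hA g a ha h2
  · push Not at h2
    exact sq_bound hprim g a ha h2

end CfsgLib.MinDegreeBound
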