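import Mathlib

/-!
Divisibility of geometric sums, as used for Dickson pairs.
-/

set_option autoImplicit false

namespace CfsgLib.GeomArith

open Finset

/-- `1 + q + … + q ^ (i - 1)`. -/
def S (q i : ℕ) : ℕ := ∑ j ∈ range i, q ^ j

theorem S_succ (q i : ℕ) : S q (i + 1) = S q i + q ^ i := sum_range_succ _ _

theorem S_add (q a b : ℕ) : S q (a + b) = S q a + q ^ a * S q b := by
  simp [S, sum_range_add, mul_sum, pow_add]

theorem S_mul (q a b : ℕ) : S q (a * b) = S q a * S (q ^ a) b := by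
  induction b with
  | zero => simp [S]
  | succ b ih => rw [Nat.mul_succ, S_add, ih, S_succ, ← pow_mul]; ring

theorem S_eq (x i : ℕ) : S (x + 1) i * x + 1 = (x + 1) ^ i := geom_sum_mul_add x i

theorem S_dvd_S (q : ℕ) {a b : ℕ} (h : a ∣ b) : S q a ∣ S q b := by
  obtain ⟨c, rfl⟩ := h
  exact S_mul q a c ▸ dvd_mul_right _ _

theorem modEq_one {s q : ℕ} (hq : 1 ≤ q) (h : s ∣ q - 1) : q ≡ 1 [MOD s] :=
  ((Nat.modEq_iff_dvd' hq).2 h).symm

theorem S_modEq {s q : ℕ} (h : q ≡ 1 [MOD s]) (i : ℕ) : S q i ≡ i [MOD s] := by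
  induction i with
  | zero => rfl
  | succ i ih => rw [S_succ]; simpa using ih.add (h.pow i)

/-- If every prime of `k` divides `q - 1` then `k ∣ S q k`, in prime power form. -/
theorem pow_dvd_S {s : ℕ} : ∀ (e q i : ℕ), q ≡ 1 [MOD s] → s ^ e ∣ i → s ^ e ∣ S q i := by
  intro e
  induction e with
  | zero => simp
  | succ e ih =>
    intro q i hq hi
    obtain ⟨i', rfl⟩ : s ∣ i := (dvd_pow_self s (by omega)).trans hi
    by_cases hs : s = 0
    · subst hs; simp [S]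
    rw [pow_succ'] at hi ⊢
    rw [S_mul]
    refine mul_dvd_mul (Nat.modEq_zero_iff_dvd.1 ((S_modEq hq s).trans ?_))
      (ih _ _ (by simpa using hq.pow s) ((Nat.mul_dvd_mul_iff_left (Nat.pos_of_ne_zero hs)).1 hi))
    simp [Nat.ModEq]

theorem not_sq_dvd {s q : ℕ} (hs : s.Prime) (hq : q ≡ 1 [MOD s]) (h4 : s ≠ 2 ∨ q ≡ 1 [MOD 4]) :
    ¬ s ^ 2 ∣ S q s := by
  intro hd
  rcases eq_or_ne s 2 with rfl | hs2
  · have h4' := h4.resolve_left (fun h => h rfl)
    simp [S, sum_range_succ, Nat.ModEq] at hd h4'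
    omega
  rcases Nat.eq_zero_or_pos q with rfl | hq1
  · have := Nat.modEq_zero_iff_dvd.1 hq.symm
    exact hs.one_lt.ne' (Nat.dvd_one.1 this)
  obtain ⟨k, hk⟩ : s ∣ q - 1 := (Nat.modEq_iff_dvd' hq1).1 hq.symm
  obtain rfl : q = 1 + k * s := by rw [mul_comm]; omega
  have hsum : S (1 + k * s) s ≡ ∑ j ∈ range s, (1 + j * (k * s)) [MOD s ^ 2] := by
    refine Nat.ModEq.sum fun j hj => ?_
    clear hj
    induction j with
    | zero => simp [Nat.ModEq]
    | succ j ih =>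
      rw [pow_succ]
      refine (ih.mul_right _).trans ?_
      have e : (1 + j * (k * s)) * (1 + k * s) = (1 + (j + 1) * (k * s)) + j * k * k * s ^ 2 := by ring
      rw [e]
      simp [Nat.ModEq]
  rw [sum_add_distrib, ← sum_mul, sum_const, card_range, smul_eq_mul, mul_one] at hsum
  have hdv : s ∣ ∑ j ∈ range s, j := by
    rw [sum_range_id]
    obtain ⟨c, hc⟩ := hs.odd_of_ne_two hs2
    rw [hc, show (2 * c + 1 - 1) = c * 2 by omega, ← mul_assoc, Nat.mul_div_cancel _ (by norm_num)]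
    exact dvd_mul_right _ _
  have h0 : (∑ j ∈ range s, j) * (k * s) ≡ 0 [MOD s ^ 2] := by
    refine Nat.modEq_zero_iff_dvd.2 ?_
    rw [sq]
    exact mul_dvd_mul hdv (dvd_mul_left _ _)
  have := (hsum.trans (h0.add_left s)).dvd_iff (dvd_refl _) |>.1 hd
  rw [add_zero, sq] at this
  have := Nat.le_of_dvd hs.pos this
  nlinarith [hs.two_le]

theorem pow_dvd_of_dvd_S {s : ℕ} (hs : s.Prime) : ∀ (e q i : ℕ), q ≡ 1 [MOD s] →
    (e ≤ 1 ∨ s ≠ 2 ∨ q ≡ 1 [MOD 4]) → s ^ e ∣ S q i → s ^ e ∣ i := by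
  intro e
  induction e with
  | zero => simp
  | succ e ih =>
    intro q i hq h4 hd
    have hi : s ∣ i := ((S_modEq hq i).dvd_iff (dvd_refl _)).1 ((dvd_pow_self s (by omega)).trans hd)
    rcases Nat.eq_zero_or_pos e with rfl | he
    · simpa using hi
    have h4' : s ≠ 2 ∨ q ≡ 1 [MOD 4] := h4.resolve_left (by omega)
    obtain ⟨i', rfl⟩ := hi
    obtain ⟨u, hu⟩ : s ∣ S q s :=
      Nat.modEq_zero_iff_dvd.1 ((S_modEq hq s).trans (by simp [Nat.ModEq]))
    have hcop : Nat.Coprime (s ^ e) u := by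
      refine Nat.Coprime.pow_left _ (hs.coprime_iff_not_dvd.2 fun h => not_sq_dvd hs hq h4' ?_)
      rw [hu, sq]
      exact mul_dvd_mul_left s h
    rw [S_mul, hu, pow_succ', mul_assoc] at hd
    rw [pow_succ']
    exact mul_dvd_mul_left s (ih _ _ (by simpa using hq.pow s)
      (h4'.imp_right (fun h => by simpa using h.pow s) |> Or.inr)
      (hcop.dvd_of_dvd_mul_left ((Nat.mul_dvd_mul_iff_left hs.pos).1 hd)))

theorem modEq_one_iff (x n i : ℕ) (hx : 0 < x) :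
    (x + 1) ^ i ≡ 1 [MOD n * x] ↔ n ∣ S (x + 1) i := by
  rw [← S_eq, Nat.ModEq.comm, Nat.modEq_iff_dvd' (by omega), Nat.add_sub_cancel]
  exact Nat.mul_dvd_mul_iff_right hx

/-- For a prime `s ∤ q - 1` dividing `n`, dividing the exponent by `r` keeps `s ^ f ∣ S`. -/
theorem bad_prime_dvd {x n s f r : ℕ} (hs : s.Prime) (hr : r.Prime) (hsx : ¬ s ∣ x) (hn : 0 < n)
    (hf : s ^ f ∣ n) (hf0 : 1 ≤ f) (h : n ∣ S (x + 1) n) (hrn : r ∣ n)
    (hrs : (r = s ∧ ¬ s ^ (f + 1) ∣ n) ∨ s < r) : s ^ f ∣ S (x + 1) (n / r) := by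
  haveI : NeZero (s ^ f) := ⟨pow_ne_zero _ hs.ne_zero⟩
  have hpow : ((x + 1 : ℕ) : ZMod (s ^ f)) ^ n = 1 := by
    have h1 : (x + 1) ^ n ≡ 1 [MOD s ^ f] := by
      rw [← S_eq]
      simpa using (Nat.modEq_zero_iff_dvd.2 (dvd_mul_of_dvd_left (hf.trans h) x)).add_right 1
    exact_mod_cast (ZMod.natCast_eq_natCast_iff _ _ _).2 h1
  set u := ((x + 1 : ℕ) : ZMod (s ^ f)) with hu
  obtain ⟨v, hv⟩ : IsUnit u := IsUnit.of_pow_eq_one hpow hn.ne'
  have hD1 : orderOf u ∣ n := orderOf_dvd_of_pow_eq_one hpow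
  have hD2 : orderOf u ∣ (s - 1) * s ^ (f - 1) := by
    rw [← hv, orderOf_units, mul_comm, ← Nat.totient_prime_pow hs hf0, ← ZMod.card_units_eq_totient]
    exact orderOf_dvd_card
  have key : orderOf u ∣ n / r := by
    obtain ⟨m, rfl⟩ := hrn
    rw [Nat.mul_div_cancel_left _ hr.pos]
    obtain ⟨d, hd⟩ := hD1
    have hrd : r ∣ d := by
      by_contra hrd
      rcases hrs with ⟨rfl, hnf⟩ | hlt
      · have h2 : r ^ f ∣ orderOf u :=
          ((Nat.Coprime.pow_left _ (hr.coprime_iff_not_dvd.2 hrd))).dvd_of_dvd_mul_right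
            (hd ▸ hf)
        have h3 := h2.trans hD2
        have h4 : r ^ f ∣ r ^ (f - 1) := by
          refine (Nat.Coprime.pow_left _ (hr.coprime_iff_not_dvd.2 fun h5 => ?_)).dvd_of_dvd_mul_left h3
          have := Nat.le_of_dvd (by have := hr.two_le; omega) h5
          have := hr.two_le
          omega
        have := (Nat.pow_dvd_pow_iff_le_right hr.one_lt).1 h4
        omega
      · have h2 : r ∣ orderOf u := (hr.dvd_mul.1 (hd ▸ dvd_mul_right r m)).resolve_right hrd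
        rcases hr.dvd_mul.1 (h2.trans hD2) with h3 | h3
        · have := Nat.le_of_dvd (by have := hs.two_le; omega) h3
          omega
        · exact hlt.ne' ((Nat.prime_dvd_prime_iff_eq hr hs).1 (hr.dvd_of_dvd_pow h3))
    obtain ⟨d', rfl⟩ := hrd
    exact ⟨d', Nat.eq_of_mul_eq_mul_left hr.pos (by rw [hd]; ring)⟩
  have h1 : u ^ (n / r) = 1 := orderOf_dvd_iff_pow_eq_one.1 key
  have h2 : (x + 1) ^ (n / r) ≡ 1 [MOD s ^ f] := by
    refine (ZMod.natCast_eq_natCast_iff _ _ _).1 ?_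
    push_cast
    rw [hu] at h1
    exact_mod_cast h1
  rw [← S_eq, Nat.ModEq.comm, Nat.modEq_iff_dvd' (by omega), Nat.add_sub_cancel] at h2
  exact (Nat.Coprime.pow_left _ (hs.coprime_iff_not_dvd.2 hsx)).dvd_of_dvd_mul_right h2

end CfsgLib.GeomArith
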