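import Mathlib

/-!
Regular normal subgroups of 2- and 3-primitive groups.
-/

set_option autoImplicit false
set_option linter.style.haveILetI false

namespace CfsgLib.RegularNormal

open MulAction
open scoped Pointwise

variable {G : Type*} [Group G] {X : Type*} [MulAction G X] (N : Subgroup G) [N.Normal]

theorem eq_of_smul_eq (hreg : ∀ x : X, stabilizer N x = ⊥) {m n : G} (hm : m ∈ N) (hn : n ∈ N)
    {x : X} (h : m • x = n • x) : m = n := by
  have h1 : (⟨n⁻¹ * m, mul_mem (inv_mem hn) hm⟩ : N) ∈ stabilizer N x := by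
    rw [mem_stabilizer_iff]
    change (n⁻¹ * m) • x = x
    rw [mul_smul, h, inv_smul_smul]
  rw [hreg x, Subgroup.mem_bot] at h1
  exact (inv_mul_eq_one.1 (congrArg Subtype.val h1)).symm

theorem smul_smul_eq {g n : G} {x : X} (hg : g • x = x) : g • n • x = (g * n * g⁻¹) • x := by
  rw [mul_smul, mul_smul, show g⁻¹ • x = x from inv_smul_eq_iff.2 hg.symm]

theorem isPretransitive_top (htrans : IsPretransitive N X) : IsPretransitive G X :=
  ⟨fun a b => let ⟨n, hn⟩ := htrans.exists_smul_eq a b; ⟨(n : G), hn⟩⟩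

theorem two_primitive [Fintype X] (hX : 2 ≤ Fintype.card X) (h2 : IsMultiplyPreprimitive G X 2)
    (htrans : IsPretransitive N X) (hreg : ∀ x : X, stabilizer N x = ⊥) :
    Fintype.card X = 3 ∨ ∀ n ∈ N, n ^ 2 = 1 := by
  classical
  by_contra hcon
  push Not at hcon
  obtain ⟨h3, n, hn, hn2⟩ := hcon
  haveI := isPretransitive_top N htrans
  obtain ⟨x⟩ : Nonempty X := Fintype.card_pos_iff.1 (by omega)
  haveI : IsMultiplyPreprimitive G X (Nat.succ 1) := h2
  haveI : IsPreprimitive (stabilizer G x) (SubMulAction.ofStabilizer G x) :=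
    (is_one_preprimitive_iff _ _).1 (isMultiplyPreprimitive_ofStabilizer G X (n := 1) (a := x))
  have hne : n • x ≠ n⁻¹ • x := fun h => hn2 (by
    rw [sq, mul_eq_one_iff_eq_inv]; exact eq_of_smul_eq N hreg hn (inv_mem hn) h)
  have hn1 : n ≠ 1 := fun h => hn2 (by rw [h, one_pow])
  have hx1 : ∀ m ∈ N, m ≠ 1 → m • x ≠ x := fun m hm hm1 h =>
    hm1 (eq_of_smul_eq N hreg hm (one_mem N) (x := x) (by rw [h, one_smul]))
  set B : Set (SubMulAction.ofStabilizer G x) :=
    Subtype.val ⁻¹' ({n • x, n⁻¹ • x} : Set X) with hB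
  have hblock : IsBlock (stabilizer G x) B := by
    rw [isBlock_iff_smul_eq_of_nonempty]
    rintro ⟨g, hg⟩ ⟨u, hu1, hu2⟩
    have hgx : g • x = x := hg
    obtain ⟨v, hv, rfl⟩ := hu1
    have key : g • ({n • x, n⁻¹ • x} : Set X) = {n • x, n⁻¹ • x} := by
      have hm : g * n * g⁻¹ ∈ N := (inferInstance : N.Normal).conj_mem n hn g
      have hv' : (v : X) = n • x ∨ (v : X) = n⁻¹ • x := hv
      have hu' : g • (v : X) = n • x ∨ g • (v : X) = n⁻¹ • x := hu2
      have hcase : g * n * g⁻¹ = n ∨ g * n * g⁻¹ = n⁻¹ := by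
        rcases hv' with hv' | hv' <;> rw [hv', smul_smul_eq hgx] at hu'
        · exact hu'.imp (eq_of_smul_eq N hreg hm hn) (eq_of_smul_eq N hreg hm (inv_mem hn))
        · have hmi : g * n⁻¹ * g⁻¹ ∈ N := (inferInstance : N.Normal).conj_mem _ (inv_mem hn) g
          rcases hu' with h | h
          · right
            rw [show g * n * g⁻¹ = (g * n⁻¹ * g⁻¹)⁻¹ by group, eq_of_smul_eq N hreg hmi hn h]
          · left
            rw [show g * n * g⁻¹ = (g * n⁻¹ * g⁻¹)⁻¹ by group, eq_of_smul_eq N hreg hmi (inv_mem hn) h,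
              inv_inv]
      rw [Set.smul_set_insert, Set.smul_set_singleton, smul_smul_eq hgx, smul_smul_eq hgx,
        show g * n⁻¹ * g⁻¹ = (g * n * g⁻¹)⁻¹ by group]
      rcases hcase with h | h <;> rw [h]
      rw [inv_inv, Set.pair_comm]
    ext w
    rw [hB, Set.mem_smul_set_iff_inv_smul_mem, Set.mem_preimage, Set.mem_preimage]
    constructor
    · intro hw
      rw [← key]
      exact ⟨_, hw, by
        change g • g⁻¹ • (w : X) = w
        rw [smul_inv_smul]⟩
    · intro hw
      rw [← key] at hw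
      obtain ⟨z, hz, hzw⟩ := hw
      change g⁻¹ • (w : X) ∈ _
      rw [← hzw]
      simp only [inv_smul_smul]
      exact hz
  have huniv : ∀ y : X, y ≠ x → y = n • x ∨ y = n⁻¹ • x := by
    intro y hy
    rcases hblock.subsingleton_or_eq_univ with h | h
    · exact absurd (congrArg Subtype.val (h (x := ⟨n • x, hx1 n hn hn1⟩) (Or.inl rfl)
        (y := ⟨n⁻¹ • x, hx1 _ (inv_mem hn) (inv_ne_one.2 hn1)⟩) (Or.inr rfl))) hne
    · have : (⟨y, hy⟩ : SubMulAction.ofStabilizer G x) ∈ B := h ▸ Set.mem_univ _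
      exact this
  apply h3
  have : (Finset.univ : Finset X) = {x, n • x, n⁻¹ • x} := by
    ext y
    simp only [Finset.mem_univ, Finset.mem_insert, Finset.mem_singleton, true_iff]
    by_cases hy : y = x
    · exact Or.inl hy
    · exact Or.inr (huniv y hy)
  rw [← Finset.card_univ, this, Finset.card_insert_of_notMem (by
      simp only [Finset.mem_insert, Finset.mem_singleton, not_or]
      exact ⟨(hx1 n hn hn1).symm, (hx1 _ (inv_mem hn) (inv_ne_one.2 hn1)).symm⟩),
    Finset.card_pair hne]

theorem three_primitive [Fintype X] (hX : 3 ≤ Fintype.card X) (h3 : IsMultiplyPreprimitive G X 3)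
    (htrans : IsPretransitive N X) (hreg : ∀ x : X, stabilizer N x = ⊥) :
    Fintype.card X = 3 ∨ Fintype.card X = 4 := by
  classical
  have h2 : IsMultiplyPreprimitive G X 2 := isMultiplyPreprimitive_of_le G X h3 (by norm_num)
    (by rw [ENat.card_eq_coe_fintype_card]; exact_mod_cast hX)
  refine (two_primitive N (by omega) h2 htrans hreg).imp id fun hexp => ?_
  obtain ⟨x⟩ : Nonempty X := Fintype.card_pos_iff.1 (by omega)
  obtain ⟨y, hy⟩ : ∃ y, y ≠ x := Fintype.exists_ne_of_one_lt_card (by omega) x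
  obtain ⟨⟨n, hn⟩, hnx⟩ := htrans.exists_smul_eq x y
  change n • x = y at hnx
  obtain ⟨z, hz⟩ : ∃ z, z ∉ ({x, y} : Finset X) := by
    by_contra h
    push Not at h
    have := Finset.card_le_card (show Finset.univ ⊆ ({x, y} : Finset X) from fun z _ => h z)
    rw [Finset.card_univ, Finset.card_pair hy.symm] at this
    omega
  simp only [Finset.mem_insert, Finset.mem_singleton, not_or] at hz
  obtain ⟨⟨m, hm⟩, hmx⟩ := htrans.exists_smul_eq x z
  change m • x = z at hmx
  have hn1 : n ≠ 1 := fun h => hy (by rw [← hnx, h, one_smul])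
  have hm1 : m ≠ 1 := fun h => hz.1 (by rw [← hmx, h, one_smul])
  have hmn : m ≠ n := fun h => hz.2 (by rw [← hmx, h, hnx])
  have hnm : n * m ∈ N := mul_mem hn hm
  have hw1 : (n * m) • x ≠ x := fun h => hmn (by
    have := eq_of_smul_eq N hreg hnm (one_mem N) (x := x) (by rw [h, one_smul])
    rw [mul_eq_one_iff_inv_eq] at this
    rw [← this, inv_eq_of_mul_eq_one_right (by rw [← sq, hexp n hn])])
  have hw2 : (n * m) • x ≠ y := fun h => hm1 (by
    rw [← hnx] at h
    exact mul_eq_left.1 (eq_of_smul_eq N hreg hnm hn h))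
  set s : Set X := {x, y} with hs
  haveI : IsPreprimitive (fixingSubgroup G s) (SubMulAction.ofFixingSubgroup G s) :=
    h3.isPreprimitive_ofFixingSubgroup (s := s) (by rw [hs, Set.encard_pair hy.symm]; norm_num)
  set B : Set (SubMulAction.ofFixingSubgroup G s) :=
    Subtype.val ⁻¹' ({m • x, (n * m) • x} : Set X) with hB
  have hblock : IsBlock (fixingSubgroup G s) B := by
    rw [isBlock_iff_smul_eq_of_nonempty]
    rintro ⟨g, hg⟩ ⟨u, hu1, hu2⟩
    have hgx : g • x = x := (mem_fixingSubgroup_iff G).1 hg x (by simp [hs])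
    have hgy : g • y = y := (mem_fixingSubgroup_iff G).1 hg y (by simp [hs])
    have hgn : g * n * g⁻¹ = n := by
      refine eq_of_smul_eq N hreg ((inferInstance : N.Normal).conj_mem n hn g) hn (x := x) ?_
      rw [← smul_smul_eq hgx, hnx, hgy]
    obtain ⟨v, hv, rfl⟩ := hu1
    have key : g • ({m • x, (n * m) • x} : Set X) = {m • x, (n * m) • x} := by
      have hgm : g * m * g⁻¹ ∈ N := (inferInstance : N.Normal).conj_mem m hm g
      have hv' : (v : X) = m • x ∨ (v : X) = (n * m) • x := hv
      have hu' : g • (v : X) = m • x ∨ g • (v : X) = (n * m) • x := hu2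
      have e : g * (n * m) * g⁻¹ = n * (g * m * g⁻¹) := by
        conv_rhs => rw [← hgn]
        group
      have hnn : n * n = 1 := by rw [← sq, hexp n hn]
      have hcase : g * m * g⁻¹ = m ∨ g * m * g⁻¹ = n * m := by
        rcases hv' with hv' | hv' <;> rw [hv', smul_smul_eq hgx] at hu'
        · exact hu'.imp (eq_of_smul_eq N hreg hgm hm) (eq_of_smul_eq N hreg hgm hnm)
        · rw [e] at hu'
          rcases hu' with h | h
          · right
            have := eq_of_smul_eq N hreg (mul_mem hn hgm) hm h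
            calc g * m * g⁻¹ = n * (n * (g * m * g⁻¹)) := by rw [← mul_assoc n n, hnn, one_mul]
              _ = n * m := by rw [this]
          · left
            exact mul_left_cancel (eq_of_smul_eq N hreg (mul_mem hn hgm) hnm h)
      rw [Set.smul_set_insert, Set.smul_set_singleton, smul_smul_eq hgx, smul_smul_eq hgx, e]
      rcases hcase with h | h <;> rw [h]
      rw [← mul_assoc, hnn, one_mul, Set.pair_comm]
    ext w
    rw [hB, Set.mem_smul_set_iff_inv_smul_mem, Set.mem_preimage, Set.mem_preimage]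
    constructor
    · intro hw
      rw [← key]
      exact ⟨_, hw, by
        change g • g⁻¹ • (w : X) = w
        rw [smul_inv_smul]⟩
    · intro hw
      rw [← key] at hw
      obtain ⟨z, hz, hzw⟩ := hw
      change g⁻¹ • (w : X) ∈ _
      rw [← hzw]
      simp only [inv_smul_smul]
      exact hz
  have hmem : ∀ w : X, w ≠ x → w ≠ y → w ∈ SubMulAction.ofFixingSubgroup G s := fun w h1 h2 => by
    rw [SubMulAction.mem_ofFixingSubgroup_iff]
    simp [hs, h1, h2]
  have hne : m • x ≠ (n * m) • x := fun h =>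
    hn1 (mul_eq_right.1 (eq_of_smul_eq N hreg hm hnm h).symm)
  have huniv : ∀ w : X, w ≠ x → w ≠ y → w = m • x ∨ w = (n * m) • x := by
    intro w hwx hwy
    rcases hblock.subsingleton_or_eq_univ with h | h
    · exact absurd (congrArg Subtype.val (h (x := ⟨m • x, hmem _ (hmx ▸ hz.1) (hmx ▸ hz.2)⟩) (Or.inl rfl)
        (y := ⟨(n * m) • x, hmem _ hw1 hw2⟩) (Or.inr rfl))) hne
    · have : (⟨w, hmem w hwx hwy⟩ : SubMulAction.ofFixingSubgroup G s) ∈ B := h ▸ Set.mem_univ _
      exact this
  have : (Finset.univ : Finset X) = {x, y, m • x, (n * m) • x} := by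
    ext w
    simp only [Finset.mem_univ, Finset.mem_insert, Finset.mem_singleton, true_iff]
    by_cases h1 : w = x
    · exact Or.inl h1
    by_cases h2 : w = y
    · exact Or.inr (Or.inl h2)
    exact Or.inr (Or.inr (huniv w h1 h2))
  rw [← Finset.card_univ, this, Finset.card_insert_of_notMem (by
      simp only [Finset.mem_insert, Finset.mem_singleton, not_or]
      exact ⟨hy.symm, hmx ▸ (Ne.symm hz.1), hw1.symm⟩),
    Finset.card_insert_of_notMem (by
      simp only [Finset.mem_insert, Finset.mem_singleton, not_or]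
      exact ⟨hmx ▸ (Ne.symm hz.2), hw2.symm⟩),
    Finset.card_pair hne]

end CfsgLib.RegularNormal
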