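import Mathlib
import Cfsg.Agent.Perm.Basic
import Cfsg.Agent.Perm.RegularNormal

/-!
Normal subgroups of multiply primitive groups.
-/

set_option autoImplicit false
set_option linter.style.haveILetI false

namespace CfsgLib.NormalMulti

open MulAction
open scoped Pointwise

variable {G : Type*} [Group G] {α : Type*} [MulAction G α]

/-- The action of a point stabiliser on the remaining points is faithful. -/
theorem faithful_ofStabilizer [FaithfulSMul G α] (a : α) :
    FaithfulSMul (stabilizer G a) (SubMulAction.ofStabilizer G a) := by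
  refine ⟨fun {g h} hgh => Subtype.ext (FaithfulSMul.eq_of_smul_eq_smul (α := α) fun x => ?_)⟩
  by_cases hx : x = a
  · subst hx
    exact (g.2 : (g : G) • x = x).trans (h.2 : (h : G) • x = x).symm
  · exact congrArg Subtype.val (hgh ⟨x, hx⟩)

theorem stabilizer_conditions {H : Subgroup G} (a : α) {h : G}
    (hh : h ∈ H) (h1 : h ≠ 1) (ha : h • a = a) :
    H.subgroupOf (stabilizer G a) ≠ ⊥ := fun he => h1 (by
  have : (⟨h, ha⟩ : stabilizer G a) ∈ H.subgroupOf (stabilizer G a) := hh
  rw [he, Subgroup.mem_bot] at this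
  exact congrArg Subtype.val this)

/-- If every point stabiliser in a transitive normal subgroup is regular on the other points and
the stabiliser in the whole group is 2-primitive there, the degree is at most four. -/
theorem card_le_four [Fintype α] [FaithfulSMul G α] {k : ℕ} (hk : 3 ≤ k) (hkn : k ≤ Fintype.card α)
    (hG : IsMultiplyPreprimitive G α k) (H : Subgroup G) [hHn : H.Normal]
    (hHt : IsPretransitive H α) {a₀ : α} {h₀ : G} (hh₀ : h₀ ∈ H) (h₀1 : h₀ ≠ 1)
    (h₀a : h₀ • a₀ = a₀)
    (hsemi : ∀ h ∈ H, h • a₀ = a₀ → ∀ x, x ≠ a₀ → h • x = x → h = 1) :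
    Fintype.card α ≤ 4 := by
  classical
  have hG3 : IsMultiplyPreprimitive G α 3 := isMultiplyPreprimitive_of_le G α hG hk
    (by rw [ENat.card_eq_coe_fintype_card]; exact_mod_cast hkn)
  haveI : IsPretransitive G α := RegularNormal.isPretransitive_top H hHt
  -- the hypotheses hold at every point
  have hmove : ∀ a : α, ∃ c : G, c ∈ H ∧ c • a₀ = a := fun a => by
    obtain ⟨c, hc⟩ := hHt.exists_smul_eq a₀ a
    exact ⟨c, c.2, hc⟩
  have hfree : ∀ a : α, ∀ h ∈ H, h • a = a → ∀ x, x ≠ a → h • x = x → h = 1 := by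
    intro a h hh ha x hx hhx
    obtain ⟨c, hc, rfl⟩ := hmove a
    have h1 : c⁻¹ * h * c = 1 := hsemi _ (H.mul_mem (H.mul_mem (H.inv_mem hc) hh) hc)
      (by rw [mul_smul, mul_smul, ha, inv_smul_smul]) (c⁻¹ • x)
      (fun e => hx (by rw [← e, smul_inv_smul]))
      (by rw [mul_smul, mul_smul, smul_inv_smul, hhx])
    calc h = c * (c⁻¹ * h * c) * c⁻¹ := by group
      _ = 1 := by rw [h1]; group
  have hnt : ∀ a : α, ∃ h ∈ H, h ≠ 1 ∧ h • a = a := by
    intro a
    obtain ⟨c, hc, rfl⟩ := hmove a
    exact ⟨c * h₀ * c⁻¹, H.mul_mem (H.mul_mem hc hh₀) (H.inv_mem hc),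
      fun e => h₀1 (conj_eq_one_iff.1 e), by rw [mul_smul, mul_smul, inv_smul_smul, h₀a]⟩
  by_contra hn
  push Not at hn
  -- regularity and exponent two
  have hlocal : ∀ a : α, (∀ b c : α, b ≠ a → c ≠ a → ∃ t ∈ H, t • a = a ∧ t • b = c) ∧
      ∀ t ∈ H, t • a = a → t * t = 1 := by
    intro a
    haveI := faithful_ofStabilizer (G := G) a
    haveI : IsMultiplyPreprimitive G α (Nat.succ 2) := hG3
    have h2 : IsMultiplyPreprimitive (stabilizer G a) (SubMulAction.ofStabilizer G a) 2 :=
      isMultiplyPreprimitive_ofStabilizer G α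
    haveI : Fintype (SubMulAction.ofStabilizer G a) := Fintype.ofFinite _
    have hcard : Fintype.card (SubMulAction.ofStabilizer G a) = Fintype.card α - 1 := by
      rw [← Nat.card_eq_fintype_card, ← Nat.card_eq_fintype_card,
        SubMulAction.nat_card_ofStabilizer_eq]
    haveI : IsPreprimitive (stabilizer G a) (SubMulAction.ofStabilizer G a) :=
      (is_one_preprimitive_iff _ _).1 (isMultiplyPreprimitive_of_le _ _ h2 one_le_two
        (by rw [ENat.card_eq_coe_fintype_card]; exact_mod_cast (by omega : 2 ≤ _)))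
    obtain ⟨h, hh, h1, ha⟩ := hnt a
    set M := H.subgroupOf (stabilizer G a) with hM
    have hMt : IsPretransitive M (SubMulAction.ofStabilizer G a) :=
      PermBasic.isPretransitive_of_normal M (stabilizer_conditions a hh h1 ha)
    have hreg : ∀ x : SubMulAction.ofStabilizer G a, stabilizer M x = ⊥ := by
      intro x
      rw [Subgroup.eq_bot_iff_forall]
      intro m hm
      have := hfree a _ (show ((m : stabilizer G a) : G) ∈ H from m.2) (m : stabilizer G a).2 (x : α) x.2
        (congrArg Subtype.val (mem_stabilizer_iff.1 hm))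
      exact Subtype.ext (Subtype.ext this)
    refine ⟨fun b c hb hc => ?_, fun t ht hta => ?_⟩
    · obtain ⟨m, hm⟩ := hMt.exists_smul_eq ⟨b, hb⟩ ⟨c, hc⟩
      exact ⟨((m : stabilizer G a) : G), m.2, (m : stabilizer G a).2, congrArg Subtype.val hm⟩
    · rcases RegularNormal.two_primitive M (by omega) h2 hMt hreg with h3 | h3
      · omega
      · have := congrArg Subtype.val (h3 ⟨t, hta⟩ ht)
        rw [sq] at this
        exact this
  obtain ⟨a, b, hab⟩ : ∃ a b : α, a ≠ b := Fintype.exists_pair_of_one_lt_card (by omega)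
  obtain ⟨c, hc⟩ : ∃ c, c ∉ ({a, b} : Finset α) := by
    by_contra h
    push Not at h
    have := Finset.card_le_card (show Finset.univ ⊆ ({a, b} : Finset α) from fun z _ => h z)
    rw [Finset.card_univ, Finset.card_pair hab] at this
    omega
  simp only [Finset.mem_insert, Finset.mem_singleton, not_or] at hc
  obtain ⟨d, hd⟩ : ∃ d, d ∉ ({a, b, c} : Finset α) := by
    by_contra h
    push Not at h
    have := Finset.card_le_card (show Finset.univ ⊆ ({a, b, c} : Finset α) from fun z _ => h z)
    rw [Finset.card_univ] at this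
    have h3 := Finset.card_insert_le a ({b, c} : Finset α)
    have h4 : ({b, c} : Finset α).card ≤ 2 := (Finset.card_insert_le _ _).trans (by simp)
    omega
  simp only [Finset.mem_insert, Finset.mem_singleton, not_or] at hd
  obtain ⟨t, ht, hta, htb⟩ := (hlocal a).1 b c hab.symm hc.1
  obtain ⟨u, hu, hud, hub⟩ := (hlocal d).1 b c (Ne.symm hd.2.1) (Ne.symm hd.2.2)
  have htc : t • c = b := by rw [← htb, ← mul_smul, (hlocal a).2 t ht hta, one_smul]
  have huc : u • c = b := by rw [← hub, ← mul_smul, (hlocal d).2 u hu hud, one_smul]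
  have heq : u⁻¹ * t = 1 := hfree b _ (H.mul_mem (H.inv_mem hu) ht)
    (by rw [mul_smul, htb, ← hub, inv_smul_smul]) c hc.2
    (by rw [mul_smul, htc, ← huc, inv_smul_smul])
  have htd : t • d = d := by rw [← inv_mul_eq_one.1 heq]; exact hud
  have := hfree a t ht hta d hd.1 htd
  rw [this, one_smul] at htb
  exact hc.2 htb.symm

theorem main : ∀ (k : ℕ) {G α : Type*} [Group G] [MulAction G α] [Fintype α] [FaithfulSMul G α],
    IsMultiplyPreprimitive G α k → k ≤ Fintype.card α → (3 ≤ k → k + 2 ≤ Fintype.card α) →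
    ∀ (H : Subgroup G) [H.Normal], H ≠ ⊥ →
      (k ≤ 1 ∨ ∃ a : α, ∃ h ∈ H, h ≠ 1 ∧ h • a = a) → IsMultiplyPretransitive H α k := by
  intro k
  induction k with
  | zero => intros; exact is_zero_pretransitive
  | succ k ih =>
    intro G α _ _ _ _ hG hkn hbig H _ hH hns
    classical
    haveI : IsPreprimitive G α := (is_one_preprimitive_iff G α).1
      (isMultiplyPreprimitive_of_le G α hG (by omega)
        (by rw [ENat.card_eq_coe_fintype_card]; exact_mod_cast hkn))
    haveI hHt : IsPretransitive H α := PermBasic.isPretransitive_of_normal H hH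
    rcases Nat.eq_zero_or_pos k with rfl | hk
    · exact is_one_pretransitive_iff.2 hHt
    obtain ⟨a, h, hh, h1, ha⟩ := hns.resolve_left (by omega)
    haveI : IsPretransitive G α := RegularNormal.isPretransitive_top H hHt
    haveI := faithful_ofStabilizer (G := G) a
    haveI : IsMultiplyPreprimitive G α (Nat.succ k) := hG
    have hGa : IsMultiplyPreprimitive (stabilizer G a) (SubMulAction.ofStabilizer G a) k :=
      isMultiplyPreprimitive_ofStabilizer G α
    haveI : Fintype (SubMulAction.ofStabilizer G a) := Fintype.ofFinite _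
    have hcard : Fintype.card (SubMulAction.ofStabilizer G a) = Fintype.card α - 1 := by
      rw [← Nat.card_eq_fintype_card, ← Nat.card_eq_fintype_card,
        SubMulAction.nat_card_ofStabilizer_eq]
    set M := H.subgroupOf (stabilizer G a)
    have hM : M ≠ ⊥ := stabilizer_conditions a hh h1 ha
    have hns' : k ≤ 1 ∨ ∃ b : SubMulAction.ofStabilizer G a, ∃ m ∈ M, m ≠ 1 ∧ m • b = b := by
      by_contra hcon
      push Not at hcon
      have := card_le_four (G := G) (k := k + 1) (by omega) hkn hG H hHt hh h1 ha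
        (fun h' hh' ha' x hx hx' => by
          by_contra hne
          exact hcon.2 ⟨x, hx⟩ ⟨h', ha'⟩ hh' (fun e => hne (congrArg Subtype.val e)) (Subtype.ext hx'))
      have := hbig (by omega)
      omega
    have hMk := ih hGa (by omega) (fun _ => by have := hbig (by omega); omega) M hM hns'
    rw [SubMulAction.ofStabilizer.isMultiplyPretransitive (a := a)]
    let σ : M → stabilizer H a := fun m => ⟨⟨((m : stabilizer G a) : G), m.2⟩, (m : stabilizer G a).2⟩
    let f : SubMulAction.ofStabilizer G a →ₑ[σ] SubMulAction.ofStabilizer H a :=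
      { toFun := fun x => ⟨x.1, x.2⟩
        map_smul' := fun _ _ => Subtype.ext rfl }
    exact IsPretransitive.of_embedding (f := f) fun y => ⟨⟨y.1, y.2⟩, rfl⟩

theorem two_le_gap {α : Type*} [Fintype α] {G : Subgroup (Equiv.Perm α)} {k : ℕ}
    (hkn : k ≤ Fintype.card α) (hG : IsMultiplyPreprimitive G α k) (htop : G ≠ ⊤) :
    k + 2 ≤ Fintype.card α := by
  by_contra h
  refine htop (Equiv.Perm.eq_top_of_isMultiplyPretransitive ?_)
  haveI := hG.isMultiplyPretransitive
  rw [Nat.card_eq_fintype_card]
  exact isMultiplyPretransitive_of_le (n := k) (by omega) (by rwa [Nat.card_eq_fintype_card])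

end CfsgLib.NormalMulti
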