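/-
Kernels of maps onto a non-abelian simple group: subdirect products of non-abelian simple groups.
-/
import Mathlib.GroupTheory.Subgroup.Simple
import Mathlib.Algebra.Group.Subgroup.Finite
import Mathlib.GroupTheory.Commutator.Basic

set_option autoImplicit false
set_option linter.style.haveILetI false

namespace CfsgLib.SimplePowers

variable {D S : Type*} [Group D] [Group S] [IsSimpleGroup S]

theorem map_eq_bot_or_top {f : D →* S} (hf : Function.Surjective f) (L : Subgroup D) [L.Normal] :
    L.map f = ⊥ ∨ L.map f = ⊤ :=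
  IsSimpleGroup.eq_bot_or_eq_top_of_normal _ (Subgroup.Normal.map inferInstance f hf)

/-- If one kernel lies below another, they are equal. -/
theorem ker_eq_of_le {f g : D →* S} (hf : Function.Surjective f) (hg : Function.Surjective g)
    (h : f.ker ≤ g.ker) : f.ker = g.ker := by
  refine le_antisymm h ?_
  rcases map_eq_bot_or_top hf g.ker with h1 | h1
  · rwa [Subgroup.map_eq_bot_iff] at h1
  · exfalso
    have : g.ker = ⊤ := by
      rw [eq_top_iff]
      intro x _
      obtain ⟨y, hy, hxy⟩ := (h1.symm ▸ Subgroup.mem_top (f x) : f x ∈ g.ker.map f)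
      have hm : x * y⁻¹ ∈ g.ker := h (by rw [MonoidHom.mem_ker, map_mul, map_inv, hxy, mul_inv_cancel])
      have := g.ker.mul_mem hm hy
      rwa [inv_mul_cancel_right] at this
    obtain ⟨s, hs⟩ := exists_ne (1 : S)
    obtain ⟨x, rfl⟩ := hg s
    exact hs (MonoidHom.mem_ker.1 (this.symm ▸ Subgroup.mem_top x))

/-- An intersection of kernels lies below a further one only if that is one of them. -/
theorem exists_ker_eq {ι : Type*} (hna : ¬ IsMulCommutative S) (f : ι → D →* S)
    (hf : ∀ i, Function.Surjective (f i)) {g : D →* S} (hg : Function.Surjective g)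
    (I : Finset ι) (h : ∀ d, (∀ i ∈ I, f i d = 1) → g d = 1) : ∃ i ∈ I, (f i).ker = g.ker := by
  classical
  induction I using Finset.induction_on with
  | empty =>
    obtain ⟨s, hs⟩ := exists_ne (1 : S)
    obtain ⟨x, rfl⟩ := hg s
    exact absurd (h x (by simp)) hs
  | insert j I' hj ih =>
    by_cases h' : ∀ d, (∀ i ∈ I', f i d = 1) → g d = 1
    · obtain ⟨i, hi, he⟩ := ih h'
      exact ⟨i, Finset.mem_insert_of_mem hi, he⟩
    let L : Subgroup D := ⨅ i : I', (f (i : ι)).ker
    haveI : L.Normal := Subgroup.normal_iInf_normal fun i => inferInstance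
    have hL : L.map g = ⊤ := by
      refine (map_eq_bot_or_top hg L).resolve_left fun hb => h' fun d hd => ?_
      rw [← Subgroup.mem_bot, ← hb]
      exact ⟨d, Subgroup.mem_iInf.2 fun i => MonoidHom.mem_ker.2 (hd i i.2), rfl⟩
    refine ⟨j, Finset.mem_insert_self _ _, ker_eq_of_le (hf j) hg ?_⟩
    rcases map_eq_bot_or_top hg (f j).ker with hb | ht
    · rwa [Subgroup.map_eq_bot_iff] at hb
    exfalso
    refine hna ⟨⟨fun a b => ?_⟩⟩
    obtain ⟨x, hx, rfl⟩ := (hL.symm ▸ Subgroup.mem_top a : a ∈ L.map g)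
    obtain ⟨y, hy, rfl⟩ := (ht.symm ▸ Subgroup.mem_top b : b ∈ (f j).ker.map g)
    rw [← map_mul, ← map_mul, ← div_eq_one, ← map_div]
    refine h _ fun i hi => ?_
    rw [div_eq_mul_inv]
    rcases Finset.mem_insert.1 hi with rfl | hi
    · simp [MonoidHom.mem_ker.1 hy]
    · simp [MonoidHom.mem_ker.1 (Subgroup.mem_iInf.1 hx ⟨i, hi⟩)]

/-- Maps with distinct kernels onto a non-abelian simple group are jointly surjective. -/
theorem pi_surjective {ι : Type*} [Finite ι] (hna : ¬ IsMulCommutative S) (f : ι → D →* S)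
    (hf : ∀ i, Function.Surjective (f i)) (hker : Function.Injective fun i => (f i).ker) :
    Function.Surjective (MonoidHom.pi f) := by
  classical
  haveI := Fintype.ofFinite ι
  rw [← MonoidHom.range_eq_top, eq_top_iff]
  intro x _
  refine Subgroup.pi_mem_of_mulSingle_mem x fun i => ?_
  let L : Subgroup D := ⨅ j : {j // j ≠ i}, (f (j : ι)).ker
  haveI : L.Normal := Subgroup.normal_iInf_normal fun j => inferInstance
  rcases map_eq_bot_or_top (hf i) L with hb | ht
  · exfalso
    obtain ⟨j, hj, hje⟩ := exists_ker_eq hna f hf (hf i) (Finset.univ.erase i) fun d hd => by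
      rw [← Subgroup.mem_bot, ← hb]
      exact ⟨d, Subgroup.mem_iInf.2 fun j => MonoidHom.mem_ker.2
        (hd j (Finset.mem_erase.2 ⟨j.2, Finset.mem_univ _⟩)), rfl⟩
    exact (Finset.mem_erase.1 hj).1 (hker hje)
  · obtain ⟨d, hd, hdi⟩ := (ht.symm ▸ Subgroup.mem_top (x i) : x i ∈ L.map (f i))
    refine ⟨d, funext fun j => ?_⟩
    by_cases hji : j = i
    · subst hji; rw [Pi.mulSingle_eq_same]; exact hdi
    · rw [Pi.mulSingle_eq_of_ne hji]; exact MonoidHom.mem_ker.1 (Subgroup.mem_iInf.1 hd ⟨j, hji⟩)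

end CfsgLib.SimplePowers
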