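/-
The stabiliser of a point meets a non-abelian minimal normal subgroup of a primitive group in a
product of proper subgroups or in a product of diagonals.
-/
import Cfsg.Agent.Perm.SimplePowers
import Cfsg.Agent.Perm.Basic
import Cfsg.Agent.S0722
import Cfsg.Agent.Perm.MinimalNormal
import Mathlib.Data.Fintype.Quotient

set_option autoImplicit false
set_option linter.style.haveILetI false

namespace CfsgLib.ONanScott

open MulAction

/-- The kernel of a coordinate, in the ambient group. -/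
def kap {G S : Type*} [Group G] [Group S] {m : ℕ} {N : Subgroup G} (e : N ≃* (Fin m → S))
    (i : Fin m) : Subgroup G :=
  (((Pi.evalMonoidHom (fun _ : Fin m => S) i).comp e.toMonoidHom).ker).map N.subtype

theorem mem_kap {G S : Type*} [Group G] [Group S] {m : ℕ} {N : Subgroup G}
    {e : N ≃* (Fin m → S)} {i : Fin m} {n : G} :
    n ∈ kap e i ↔ ∃ hn : n ∈ N, e ⟨n, hn⟩ i = 1 := by
  constructor
  · rintro ⟨x, hx, rfl⟩
    exact ⟨x.2, hx⟩
  · rintro ⟨hn, h⟩
    exact ⟨⟨n, hn⟩, h, rfl⟩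

theorem kap_injective {G S : Type*} [Group G] [Group S] [Nontrivial S] {m : ℕ} {N : Subgroup G}
    (e : N ≃* (Fin m → S)) : Function.Injective (kap e) := by
  classical
  intro i j h
  by_contra hne
  obtain ⟨s, hs⟩ := exists_ne (1 : S)
  have h1 : ((e.symm (Pi.mulSingle j s) : N) : G) ∈ kap e i :=
    mem_kap.2 ⟨(e.symm (Pi.mulSingle j s)).2, by simp [Pi.mulSingle_eq_of_ne hne]⟩
  rw [h, mem_kap] at h1
  obtain ⟨hn, h1⟩ := h1
  exact hs (by simpa using h1)

set_option maxHeartbeats 1000000 in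
theorem main {α : Type*} [Finite α] (H : Subgroup (Equiv.Perm α)) [IsPreprimitive H α]
    (N : Subgroup H) [N.Normal] (hN : N ≠ ⊥)
    (hmin : ∀ M : Subgroup H, M.Normal → M ≤ N → M = ⊥ ∨ M = N) (hnab : ¬ IsMulCommutative N)
    (a : α) :
    ∃ (T : Type) (_ : Group T) (m : ℕ) (e : N ≃* (Fin m → T)), IsSimpleGroup T ∧
      ¬ IsMulCommutative T ∧ 0 < m ∧
      ((∃ K : Fin m → Subgroup T, (∀ i, K i ≠ ⊤) ∧
          ∀ n : N, (n : H) ∈ stabilizer H a ↔ ∀ i, e n i ∈ K i) ∨
        (∃ (k : ℕ) (c : Fin m → Fin m), 2 ≤ k ∧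
          (∀ j : Fin m, Nat.card {i : Fin m // c i = j} = k ∨ Nat.card {i : Fin m // c i = j} = 0) ∧
          ∀ n : N, (n : H) ∈ stabilizer H a ↔ ∀ i j : Fin m, c i = c j → e n i = e n j)) := by
  classical
  obtain ⟨S, _, m, hS, hm, ⟨e⟩⟩ := CfsgLib.MinimalNormal.exists_mulEquiv_pi_simple N hN hmin
  have hna : ¬ IsMulCommutative S := fun hc =>
    hnab ⟨⟨fun u v => e.injective (by
      rw [map_mul, map_mul]; funext i; exact hc.is_comm.comm _ _)⟩⟩
  haveI : Finite (Fin m → S) := Finite.of_equiv N e.toEquiv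
  haveI : Finite S := Finite.of_injective (fun s : S => (Pi.mulSingle ⟨0, hm⟩ s : Fin m → S))
    (Pi.mulSingle_injective (M := fun _ : Fin m => S) (⟨0, hm⟩ : Fin m))
  let pr : Fin m → N →* S := fun i => (Pi.evalMonoidHom (fun _ : Fin m => S) i).comp e.toMonoidHom
  have hprs : ∀ i, Function.Surjective (pr i) := fun i s =>
    ⟨e.symm (Pi.mulSingle i s), by simp [pr]⟩
  let cn : H → N →* N := fun g =>
    { toFun := fun n => ⟨g * n * g⁻¹, Subgroup.Normal.conj_mem (inferInstance : N.Normal) n n.2 g⟩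
      map_one' := Subtype.ext (by simp)
      map_mul' := fun u v => Subtype.ext (by simp [mul_assoc]) }
  have hcn : ∀ g, Function.Surjective (cn g) := fun g n =>
    ⟨⟨g⁻¹ * n * g, by simpa using Subgroup.Normal.conj_mem (inferInstance : N.Normal) n n.2 g⁻¹⟩,
      Subtype.ext (by simp [cn, mul_assoc])⟩
  -- a conjugation permutes the coordinates
  have hmove : ∀ (g : H) (j : Fin m), ∃ (i : Fin m) (θ : S →* S), Function.Bijective θ ∧
      ∀ n : N, pr j (cn g n) = θ (pr i n) := by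
    intro g j
    have hs : Function.Surjective ((pr j).comp (cn g)) := (hprs j).comp (hcn g)
    obtain ⟨i, -, hi⟩ := SimplePowers.exists_ker_eq hna pr hprs hs Finset.univ fun d hd => by
      have : d = 1 := e.injective (by rw [map_one]; funext i; exact hd i (Finset.mem_univ i))
      rw [this, map_one]
    let θ := MonoidHom.liftOfSurjective (pr i) (hprs i) ⟨(pr j).comp (cn g), hi.le⟩
    have hθ : ∀ n, θ (pr i n) = pr j (cn g n) := fun n =>
      MonoidHom.liftOfRightInverse_comp_apply _ _ _ _ n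
    refine ⟨i, θ, Finite.surjective_iff_bijective.1 fun s => ?_, fun n => (hθ n).symm⟩
    obtain ⟨n, rfl⟩ := hs s
    exact ⟨pr i n, hθ n⟩
  have hkap : ∀ (g : H) (i j : Fin m) (θ : S →* S), Function.Bijective θ →
      (∀ n : N, pr j (cn g n) = θ (pr i n)) → ExtPrim.cj g (kap e i) = kap e j := by
    intro g i j θ hθ h
    ext y
    rw [ExtPrim.mem_cj, mem_kap, mem_kap]
    constructor
    · rintro ⟨hn, h1⟩
      have hy : y ∈ N := by
        have := Subgroup.Normal.conj_mem (inferInstance : N.Normal) _ hn g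
        simpa [mul_assoc] using this
      refine ⟨hy, ?_⟩
      have h2 := h ⟨g⁻¹ * y * g, hn⟩
      rw [show cn g ⟨g⁻¹ * y * g, hn⟩ = ⟨y, hy⟩ from Subtype.ext (by simp [cn, mul_assoc])] at h2
      show pr j ⟨y, hy⟩ = 1
      rw [h2, show pr i ⟨g⁻¹ * y * g, hn⟩ = 1 from h1, map_one]
    · rintro ⟨hy, h1⟩
      have hn : g⁻¹ * y * g ∈ N := by
        simpa using Subgroup.Normal.conj_mem (inferInstance : N.Normal) _ hy g⁻¹
      refine ⟨hn, ?_⟩
      have h2 := h ⟨g⁻¹ * y * g, hn⟩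
      rw [show cn g ⟨g⁻¹ * y * g, hn⟩ = ⟨y, hy⟩ from Subtype.ext (by simp [cn, mul_assoc]),
        show pr j ⟨y, hy⟩ = 1 from h1] at h2
      exact hθ.1 (h2.symm.trans (map_one θ).symm)
  -- the orbit of a coordinate is everything
  let i₀ : Fin m := ⟨0, hm⟩
  have htrans : ∀ j, ∃ g : H, ExtPrim.cj g (kap e i₀) = kap e j := by
    let O : Fin m → Prop := fun j => ∃ g : H, ExtPrim.cj g (kap e i₀) = kap e j
    have hO : ∀ (g : H) (i j : Fin m), ExtPrim.cj g (kap e i) = kap e j → O i → O j := by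
      rintro g i j h ⟨g', hg'⟩
      exact ⟨g * g', by rw [← ExtPrim.cj_cj, hg', h]⟩
    let M : Subgroup H := (⨅ j : {j // ¬ O j}, (pr (j : Fin m)).ker).map N.subtype
    have hM : M.Normal := by
      refine ⟨?_⟩
      rintro _ ⟨n, hn, rfl⟩ g
      refine ⟨cn g n, ?_, rfl⟩
      simp only [SetLike.mem_coe, Subgroup.mem_iInf, MonoidHom.mem_ker] at hn ⊢
      rintro ⟨j, hj⟩
      obtain ⟨i, θ, hθ, h⟩ := hmove g j
      have hi : ¬ O i := fun hi => hj (hO g i j (hkap g i j θ hθ h) hi)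
      rw [h n, hn ⟨i, hi⟩, map_one]
    rcases hmin M hM (Subgroup.map_subtype_le _) with hb | hb
    · exfalso
      obtain ⟨s, hs⟩ := exists_ne (1 : S)
      have hmem : ((e.symm (Pi.mulSingle i₀ s) : N) : H) ∈ M := by
        refine ⟨_, ?_, rfl⟩
        simp only [SetLike.mem_coe, Subgroup.mem_iInf, MonoidHom.mem_ker]
        rintro ⟨j, hj⟩
        have hne : j ≠ i₀ := fun h => hj ⟨1, by rw [ExtPrim.cj_one, h]⟩
        simp [pr, Pi.mulSingle_eq_of_ne hne]
      rw [hb, Subgroup.mem_bot] at hmem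
      exact hs (Pi.mulSingle_injective (M := fun _ => S) i₀ (e.symm.injective (Subtype.ext (by
        rw [hmem, Pi.mulSingle_one, map_one]; rfl))))
    · intro j
      by_contra hj
      obtain ⟨s, hs⟩ := exists_ne (1 : S)
      have hmem : ((e.symm (Pi.mulSingle j s) : N) : H) ∈ M := hb.symm ▸ SetLike.coe_mem _
      obtain ⟨n, hn, hne⟩ := hmem
      simp only [SetLike.mem_coe, Subgroup.mem_iInf, MonoidHom.mem_ker] at hn
      have := hn ⟨j, hj⟩
      rw [show n = e.symm (Pi.mulSingle j s) from Subtype.ext hne] at this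
      simp [pr] at this
      exact hs this
  haveI : IsPretransitive N α := PermBasic.isPretransitive_of_normal N hN
  have htransK : ∀ i j, ∃ k ∈ stabilizer H a, ExtPrim.cj k (kap e i) = kap e j := by
    intro i j
    obtain ⟨g, hg⟩ := htrans j
    obtain ⟨g', hg'⟩ := htrans i
    have hgg : ExtPrim.cj (g * g'⁻¹) (kap e i) = kap e j := by
      rw [← hg', ExtPrim.cj_cj, inv_mul_cancel_right, hg]
    obtain ⟨n, hn⟩ := exists_smul_eq N ((g * g'⁻¹) • a) a
    refine ⟨(n : H) * (g * g'⁻¹), by rw [mem_stabilizer_iff, mul_smul]; exact hn, ?_⟩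
    rw [← ExtPrim.cj_cj, hgg]
    ext y
    rw [ExtPrim.mem_cj, mem_kap, mem_kap]
    have hconj : ∀ z : N, pr j (n⁻¹ * z * n) = 1 ↔ pr j z = 1 := fun z => by
      rw [map_mul, map_mul, map_inv, mul_assoc, inv_mul_eq_one]
      exact ⟨fun h => by rwa [eq_comm, mul_eq_right] at h, fun h => by rw [h, one_mul]⟩
    constructor
    · rintro ⟨h1, h2⟩
      have hy : y ∈ N := by
        have := N.mul_mem (N.mul_mem n.2 h1) (N.inv_mem n.2)
        simpa [mul_assoc] using this
      exact ⟨hy, (hconj ⟨y, hy⟩).1 h2⟩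
    · rintro ⟨hy, h2⟩
      exact ⟨N.mul_mem (N.mul_mem (N.inv_mem n.2) hy) n.2, (hconj ⟨y, hy⟩).2 h2⟩
  -- the equation along a stabiliser element
  have hKmove : ∀ i j, ∃ k ∈ stabilizer H a, ∃ θ : S →* S, Function.Bijective θ ∧
      ∀ n : N, pr j (cn k n) = θ (pr i n) := by
    intro i j
    obtain ⟨k, hk, hkij⟩ := htransK i j
    obtain ⟨i', θ, hθ, h⟩ := hmove k j
    have : i' = i := kap_injective e (Subgroup.map_injective (f := (MulAut.conj k).toMonoidHom) (MulAut.conj k).injective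
      ((hkap k i' j θ hθ h).trans hkij.symm))
    subst this
    exact ⟨k, hk, θ, hθ, h⟩
  let D : Subgroup N := (stabilizer H a).subgroupOf N
  have hD : ∀ n, n ∈ D ↔ (n : H) ∈ stabilizer H a := fun n => Iff.rfl
  have hDinv : ∀ k ∈ stabilizer H a, ∀ n, cn k n ∈ D ↔ n ∈ D := fun k hk n =>
    ⟨fun h => by
      have := Subgroup.mul_mem _ (Subgroup.mul_mem _ (inv_mem hk) h) hk
      simpa [cn, mul_assoc, hD] using this,
    fun h => Subgroup.mul_mem _ (Subgroup.mul_mem _ hk h) (inv_mem hk)⟩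
  have hDtop : D ≠ ⊤ := by
    intro h
    apply hN
    rw [eq_bot_iff]
    intro n hn
    rw [Subgroup.mem_bot]
    refine Subtype.ext (Equiv.ext fun x => ?_)
    obtain ⟨u, hu⟩ := exists_smul_eq N a x
    have h1 : (u⁻¹ * ⟨n, hn⟩ * u : N) ∈ D := h ▸ Subgroup.mem_top _
    have h2 : ((u⁻¹ * ⟨n, hn⟩ * u : N) : H) • a = a := mem_stabilizer_iff.1 h1
    simp only [Subgroup.coe_mul, Subgroup.coe_inv, mul_smul, inv_smul_eq_iff] at h2
    rw [show ((u : H) • a) = x from hu] at h2
    exact h2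
  by_cases hproper : ∃ i, D.map (pr i) ≠ ⊤
  · -- a product of proper subgroups
    obtain ⟨i₁, hi₁⟩ := hproper
    have hall : ∀ i, D.map (pr i) ≠ ⊤ := by
      intro i htop
      obtain ⟨k, hk, θ, hθ, h⟩ := hKmove i i₁
      refine hi₁ ((Subgroup.eq_top_iff' _).2 fun s => ?_)
      obtain ⟨s', rfl⟩ := hθ.2 s
      obtain ⟨n, hn, rfl⟩ := (htop.symm ▸ Subgroup.mem_top s' : s' ∈ D.map (pr i))
      exact ⟨cn k n, (hDinv k hk n).2 hn, h n⟩
    refine ⟨S, inferInstance, m, e, hS, hna, hm, Or.inl ⟨fun i => D.map (pr i), hall, fun n =>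
      ⟨fun hn i => ⟨n, hn, rfl⟩, fun hn => ?_⟩⟩⟩
    let Y : Subgroup H := (⨅ i, (D.map (pr i)).comap (pr i)).map N.subtype
    have hYN : Y ≤ N := Subgroup.map_subtype_le _
    have hKY : stabilizer H a ⊓ N ≤ Y := fun y hy => ⟨⟨y, hy.2⟩, by
      simp only [SetLike.mem_coe, Subgroup.mem_iInf, Subgroup.mem_comap]
      exact fun i => ⟨⟨y, hy.2⟩, hy.1, rfl⟩, rfl⟩
    have hstab : ∀ k ∈ stabilizer H a, ∀ y ∈ Y, k * y * k⁻¹ ∈ Y := by
      rintro k hk _ ⟨n, hn, rfl⟩
      refine ⟨cn k n, ?_, rfl⟩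
      simp only [SetLike.mem_coe, Subgroup.mem_iInf, Subgroup.mem_comap] at hn ⊢
      intro j
      obtain ⟨i, θ, hθ, h⟩ := hmove k j
      obtain ⟨d, hd, hdn⟩ := hn i
      rw [h n, ← hdn, ← h d]
      exact ⟨cn k d, (hDinv k hk d).2 hd, rfl⟩
    have hnorm : stabilizer H a ≤ Subgroup.normalizer (Y : Set H) := fun k hk =>
      Subgroup.mem_normalizer_iff.2 fun y => ⟨hstab k hk y, fun h => by
        have := hstab k⁻¹ (inv_mem hk) _ h
        simpa [mul_assoc] using this⟩
    have hnY : (n : H) ∈ Y := ⟨n, by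
      simp only [SetLike.mem_coe, Subgroup.mem_iInf, Subgroup.mem_comap]; exact hn, rfl⟩
    rcases Cfsg.Agent.S0722.result H N hN hmin a Y hYN hKY hnorm with h | h
    · exact (h ▸ hnY).1
    · exfalso
      obtain ⟨s, hs⟩ : ∃ s, s ∉ D.map (pr i₁) := by
        by_contra hc
        push Not at hc
        exact hi₁ ((Subgroup.eq_top_iff' _).2 hc)
      obtain ⟨w, rfl⟩ := hprs i₁ s
      obtain ⟨w', hw', hww⟩ := (h.symm ▸ w.2 : (w : H) ∈ Y)
      simp only [SetLike.mem_coe, Subgroup.mem_iInf, Subgroup.mem_comap] at hw'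
      exact hs (Subtype.ext hww ▸ hw' i₁)
  -- a product of diagonals
  push Not at hproper
  let f : Fin m → D →* S := fun i => (pr i).comp D.subtype
  have hfs : ∀ i, Function.Surjective (f i) := fun i s => by
    obtain ⟨n, hn, h⟩ := (hproper i).symm ▸ Subgroup.mem_top s
    exact ⟨⟨n, hn⟩, h⟩
  let c : Fin m → Fin m := fun i =>
    (Finset.univ.filter fun j => (f j).ker = (f i).ker).min' ⟨i, by simp⟩
  have hcker : ∀ i, (f (c i)).ker = (f i).ker := fun i =>
    (Finset.mem_filter.1 (Finset.min'_mem (Finset.univ.filter fun j => (f j).ker = (f i).ker)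
      ⟨i, by simp⟩)).2
  have hceq : ∀ i j, c i = c j ↔ (f i).ker = (f j).ker := fun i j =>
    ⟨fun h => by rw [← hcker i, h, hcker], fun h => by simp only [c, h]⟩
  have htw : ∀ i, ∃ θ : S ≃* S, ∀ d : D, θ (f i d) = f (c i) d := by
    intro i
    let θ := MonoidHom.liftOfSurjective (f i) (hfs i) ⟨f (c i), (hcker i).ge⟩
    have hθ : ∀ d, θ (f i d) = f (c i) d := fun d => MonoidHom.liftOfRightInverse_comp_apply _ _ _ _ d
    have hθs : Function.Surjective θ := fun s => by
      obtain ⟨d, rfl⟩ := hfs (c i) s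
      exact ⟨_, hθ d⟩
    exact ⟨MulEquiv.ofBijective θ (Finite.surjective_iff_bijective.1 hθs), hθ⟩
  choose θ hθ using htw
  refine ⟨S, inferInstance, m, e.trans (MulEquiv.piCongrRight θ), hS, hna, hm, Or.inr ?_⟩
  have hclass : ∀ i j : Fin m,
      Nat.card {x // c x = c i} ≤ Nat.card {x // c x = c j} := by
    intro i j
    obtain ⟨k, hk, hkij⟩ := htransK i j
    have hfun : ∀ x, ∃ y, ExtPrim.cj k (kap e x) = kap e y ∧ ∀ x' y',
        ExtPrim.cj k (kap e x') = kap e y' → (f x).ker = (f x').ker → (f y).ker = (f y').ker := by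
      intro x
      have hy : ∃ y, ExtPrim.cj k (kap e x) = kap e y := by
        obtain ⟨y, θ, hθ, h⟩ := hmove k⁻¹ x
        exact ⟨y, by rw [← hkap k⁻¹ y x θ hθ h, ExtPrim.cj_cj, mul_inv_cancel, ExtPrim.cj_one]⟩
      obtain ⟨y, hy⟩ := hy
      refine ⟨y, hy, fun x' y' hy' hxx => ?_⟩
      ext d
      have hpre : ∀ (x y : Fin m), ExtPrim.cj k (kap e x) = kap e y →
          (d ∈ (f y).ker ↔ ∃ d' : D, (k⁻¹ * (d : N) * k : H) = ((d' : N) : H) ∧ d' ∈ (f x).ker) := by
        intro x y hxy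
        have h1 : d ∈ (f y).ker ↔ ((d : N) : H) ∈ kap e y :=
          ⟨fun h => mem_kap.2 ⟨(d : N).2, h⟩, fun h => (mem_kap.1 h).2⟩
        rw [h1, ← hxy, ExtPrim.mem_cj, mem_kap]
        have hn : k⁻¹ * ((d : N) : H) * k ∈ N := by
          simpa using Subgroup.Normal.conj_mem (inferInstance : N.Normal) _ (d : N).2 k⁻¹
        have hdD : (⟨_, hn⟩ : N) ∈ D :=
          Subgroup.mul_mem _ (Subgroup.mul_mem _ (inv_mem hk) d.2) hk
        constructor
        · rintro ⟨hn', h⟩
          exact ⟨⟨⟨_, hn⟩, hdD⟩, rfl, h⟩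
        · rintro ⟨d', hd', h⟩
          exact ⟨hn, by rw [show (⟨_, hn⟩ : N) = (d' : N) from Subtype.ext hd']; exact h⟩
      rw [hpre x y hy, hpre x' y' hy', hxx]
    choose σ hσ hσ' using hfun
    have hσi : σ i = j := kap_injective e ((hσ i).symm.trans hkij)
    refine Nat.card_le_card_of_injective (fun x => (⟨σ x, ?_⟩ : {x // c x = c j}))
      fun x x' h => ?_
    · rw [hceq, ← hσi]
      exact hσ' x i (σ i) (hσ i) ((hceq _ _).1 x.2)
    · refine Subtype.ext (kap_injective e (Subgroup.map_injective (f := (MulAut.conj k).toMonoidHom) (MulAut.conj k).injective ?_))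
      show ExtPrim.cj k (kap e x) = ExtPrim.cj k (kap e x')
      rw [hσ, hσ]
      exact congrArg (kap e) (congrArg Subtype.val h)
  refine ⟨Nat.card {x // c x = c i₀}, c, ?_, fun j => ?_, fun n => ?_⟩
  · by_contra hk2
    have hinj : Function.Injective fun i => (f i).ker := by
      intro i j h
      haveI : Subsingleton {x // c x = c i} :=
        Finite.card_le_one_iff_subsingleton.1 (le_trans (hclass i i₀) (by omega))
      exact congrArg Subtype.val (Subsingleton.elim (⟨i, rfl⟩ : {x // c x = c i})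
        ⟨j, ((hceq i j).2 h).symm⟩)
    refine hDtop ((Subgroup.eq_top_iff' _).2 fun n => ?_)
    obtain ⟨d, hd⟩ := SimplePowers.pi_surjective hna f hfs hinj (fun i => pr i n)
    rw [show n = (d : N) from e.injective (funext fun i => (congrFun hd i).symm)]
    exact d.2
  · by_cases hj : ∃ i, c i = j
    · obtain ⟨i, rfl⟩ := hj
      exact Or.inl (le_antisymm (hclass i i₀) (hclass i₀ i))
    · haveI : IsEmpty {i : Fin m // c i = j} := ⟨fun i => hj ⟨i.1, i.2⟩⟩
      exact Or.inr Nat.card_of_isEmpty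
  · show n ∈ D ↔ ∀ i j, c i = c j → θ i (pr i n) = θ j (pr j n)
    constructor
    · intro hn i j hij
      exact ((hθ i ⟨n, hn⟩).trans (by rw [hij])).trans (hθ j ⟨n, hn⟩).symm
    · intro hn
      let R := {r : Fin m // c r = r}
      have hinj : Function.Injective fun r : R => (f (r : Fin m)).ker := fun r r' h =>
        Subtype.ext (r.2.symm.trans (((hceq _ _).2 h).trans r'.2))
      have hcc : ∀ i, c (c i) = c i := fun i => (hceq _ _).2 (hcker i)
      obtain ⟨d, hd⟩ := SimplePowers.pi_surjective hna (fun r : R => f (r : Fin m))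
        (fun r => hfs _) hinj (fun r => θ r (pr r n))
      suffices h : n = (d : N) from h ▸ d.2
      refine e.injective (funext fun i => (θ i).injective ?_)
      show θ i (pr i n) = θ i (f i d)
      rw [hθ i d, hn i (c i) (hcc i).symm]
      exact (congrFun hd ⟨c i, hcc i⟩).symm

end CfsgLib.ONanScott
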