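import Mathlib

/-!
Transitive permutation groups on `p + 1` points whose order is `(p + 1) p d` with `d < p`: the point
stabilizers.
-/

set_option autoImplicit false
set_option linter.unusedSectionVars false
set_option linter.style.haveILetI false
set_option linter.deprecated false

namespace CfsgLib.PrimeAddOne

open MulAction Subgroup

variable {α : Type*} [Fintype α] [DecidableEq α] {p d : ℕ}

/-- The hypotheses. -/
structure Small (G : Subgroup (Equiv.Perm α)) (p d : ℕ) : Prop where
  prime : p.Prime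
  degree : Fintype.card α = p + 1
  trans : IsPretransitive G α
  order : Nat.card G = (p + 1) * p * d
  lt : d < p

variable {G : Subgroup (Equiv.Perm α)}

theorem moves_all (S : Small G p d) {x : G} {a : α} (hx : orderOf x = p) (ha : x • a = a) {c : α}
    (hc : c ≠ a) : x • c ≠ c := by
  haveI : Fact p.Prime := ⟨S.prime⟩
  set σ : Equiv.Perm α := x.1 with hσ
  have hord : orderOf σ = p := by rw [hσ, Subgroup.orderOf_coe, hx]
  obtain ⟨n, hn⟩ := Equiv.Perm.cycleType_prime_order (σ := σ) (hord ▸ S.prime)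
  have hsum := σ.sum_cycleType
  rw [hn, Multiset.sum_replicate, hord, smul_eq_mul] at hsum
  have hsub : σ.support ⊆ Finset.univ.erase a := fun y hy => by
    refine Finset.mem_erase.2 ⟨fun e => ?_, Finset.mem_univ _⟩
    subst e
    exact Equiv.Perm.mem_support.1 hy ha
  have heq : σ.support = Finset.univ.erase a := by
    refine Finset.eq_of_subset_of_card_le hsub ?_
    rw [Finset.card_erase_of_mem (Finset.mem_univ _), Finset.card_univ, S.degree, ← hsum,
      Nat.add_sub_cancel]
    exact Nat.le_mul_of_pos_left _ (by omega)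
  have : c ∈ σ.support := by rw [heq]; simp [hc]
  exact Equiv.Perm.mem_support.1 this

theorem card_stab (S : Small G p d) (a : α) : Nat.card (stabilizer G a) = p * d := by
  haveI := S.trans
  have h := (stabilizer G a).card_mul_index
  rw [MulAction.index_stabilizer, orbit_eq_univ, Set.ncard_univ, Nat.card_eq_fintype_card (α := α),
    S.degree, S.order] at h
  exact Nat.eq_of_mul_eq_mul_right (show 0 < p + 1 by omega) (by rw [h]; ring)

theorem pos (S : Small G p d) : 0 < d := by
  by_contra h
  have := (Nat.card_pos (α := G)).ne'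
  rw [S.order, show d = 0 by omega, mul_zero] at this
  exact this rfl

theorem exists_gen (S : Small G p d) (a : α) : ∃ x : G, orderOf x = p ∧ x • a = a := by
  haveI : Fact p.Prime := ⟨S.prime⟩
  obtain ⟨⟨x, hxa⟩, hx⟩ := exists_prime_orderOf_dvd_card' (G := stabilizer G a) p
    (by rw [card_stab S a]; exact dvd_mul_right _ _)
  exact ⟨x, by rwa [Subgroup.orderOf_mk] at hx, hxa⟩

theorem zpowers_le_stab {x : G} {a : α} (ha : x • a = a) : zpowers x ≤ stabilizer G a :=
  zpowers_le.2 ha

theorem orderOf_zpowers (S : Small G p d) {x y : G} (hx : orderOf x = p) (hy : y ∈ zpowers x)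
    (hy1 : y ≠ 1) : orderOf y = p ∧ zpowers y = zpowers x := by
  have hc : Nat.card (zpowers x) = p := by rw [Nat.card_zpowers, hx]
  have h1 := Subgroup.orderOf_dvd_natCard _ hy
  rw [hc] at h1
  have h := ((Nat.dvd_prime S.prime).1 h1).resolve_left fun e => hy1 (orderOf_eq_one_iff.1 e)
  exact ⟨h, eq_of_le_of_card_ge (zpowers_le.2 hy) (by rw [hc, Nat.card_zpowers, h])⟩

/-- The group of order `p` is regular on the other points. -/
theorem bijective_orbit (S : Small G p d) {x : G} {a b : α} (hx : orderOf x = p) (ha : x • a = a)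
    (hb : b ≠ a) :
    Function.Bijective fun u : zpowers x => (⟨(u : G) • b, fun e => hb
      (smul_left_cancel (u : G) (e.trans (zpowers_le_stab ha u.2).symm))⟩ : {c : α // c ≠ a}) := by
  classical
  rw [Fintype.bijective_iff_injective_and_card]
  refine ⟨fun u v h => ?_, ?_⟩
  · have h' : (u : G) • b = (v : G) • b := congrArg Subtype.val h
    by_contra hne
    have hw : (v : G)⁻¹ * u ≠ 1 := fun e => hne (Subtype.ext (inv_mul_eq_one.1 e).symm)
    have hm : (v : G)⁻¹ * u ∈ zpowers x := mul_mem (inv_mem v.2) u.2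
    refine moves_all S (orderOf_zpowers S hx hm hw).1 (zpowers_le_stab ha hm) hb ?_
    rw [mul_smul, h', inv_smul_smul]
  · rw [Fintype.card_subtype_compl, Fintype.card_subtype_eq, S.degree, ← Nat.card_eq_fintype_card,
      Nat.card_zpowers, hx, Nat.add_sub_cancel]

theorem mem_zpowers_of_order (S : Small G p d) {x y : G} {a : α} (hx : orderOf x = p) (ha : x • a = a)
    (hy : orderOf y = p) (hya : y • a = a) : y ∈ zpowers x := by
  by_contra hmem
  have hinj : Function.Injective fun u : zpowers x × zpowers y =>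
      (⟨(u.1 : G) * u.2, mul_mem (zpowers_le_stab ha u.1.2) (zpowers_le_stab hya u.2.2)⟩ :
        stabilizer G a) := by
    rintro ⟨u, v⟩ ⟨u', v'⟩ h
    have h' : (u : G) * v = u' * v' := congrArg Subtype.val h
    have e : (u' : G)⁻¹ * u = v' * (v : G)⁻¹ := by
      calc (u' : G)⁻¹ * u = (u' : G)⁻¹ * (u * v) * (v : G)⁻¹ := by group
        _ = _ := by rw [h']; group
    by_cases h1 : (u' : G)⁻¹ * u = 1
    · have hu : u = u' := Subtype.ext (inv_mul_eq_one.1 h1).symm
      have hv : v = v' := Subtype.ext (by rw [← hu] at h'; exact mul_left_cancel h')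
      rw [hu, hv]
    · exfalso
      have hm1 : (u' : G)⁻¹ * u ∈ zpowers x := mul_mem (inv_mem u'.2) u.2
      have hm2 : (u' : G)⁻¹ * u ∈ zpowers y := e ▸ mul_mem v'.2 (inv_mem v.2)
      exact hmem (by
        rw [← (orderOf_zpowers S hx hm1 h1).2, (orderOf_zpowers S hy hm2 h1).2]
        exact mem_zpowers y)
  have h := Nat.card_le_card_of_injective _ hinj
  rw [Nat.card_prod, Nat.card_zpowers, Nat.card_zpowers, hx, hy, card_stab S] at h
  exact absurd (Nat.le_of_mul_le_mul_left h S.prime.pos) (not_le.2 S.lt)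

theorem conj_mem (S : Small G p d) {x h : G} {a : α} (hx : orderOf x = p) (ha : x • a = a)
    (hh : h • a = a) : ∀ u ∈ zpowers x, h * u * h⁻¹ ∈ zpowers x := by
  have h1 : h * x * h⁻¹ ∈ zpowers x := by
    refine mem_zpowers_of_order S hx ha ?_ ?_
    · rw [show h * x * h⁻¹ = MulAut.conj h x from rfl, MulEquiv.orderOf_eq, hx]
    · have hi : h⁻¹ • a = a := inv_smul_eq_iff.2 hh.symm
      rw [mul_smul, mul_smul, hi, ha, hh]
  intro u hu
  obtain ⟨i, rfl⟩ := mem_zpowers_iff.1 hu
  rw [← conj_zpow]
  exact zpow_mem h1 i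

theorem two_trans (S : Small G p d) : IsMultiplyPretransitive G α 2 := by
  haveI := S.trans
  rw [is_two_pretransitive_iff]
  intro a b c e hab hce
  obtain ⟨g, hg⟩ := exists_smul_eq G a c
  obtain ⟨x, hx, hxc⟩ := exists_gen S c
  have hgb : g • b ≠ c := fun h => hab (smul_left_cancel g (hg.trans h.symm))
  obtain ⟨u, hu⟩ := (bijective_orbit S hx hxc hgb).2 ⟨e, hce.symm⟩
  refine ⟨(u : G) * g, ?_, ?_⟩
  · rw [mul_smul, hg]; exact zpowers_le_stab hxc u.2
  · rw [mul_smul]; exact congrArg Subtype.val hu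

theorem card_pair (S : Small G p d) {a b : α} (hab : a ≠ b) :
    Nat.card ↥(stabilizer G a ⊓ stabilizer G b) = d := by
  obtain ⟨x, hx, hxa⟩ := exists_gen S a
  set E := stabilizer G a ⊓ stabilizer G b
  have hbij : Function.Bijective fun u : zpowers x × E =>
      (⟨(u.1 : G) * u.2, mul_mem (zpowers_le_stab hxa u.1.2) (mem_inf.1 u.2.2).1⟩ : stabilizer G a) := by
    constructor
    · rintro ⟨u, v⟩ ⟨u', v'⟩ h
      have h' : (u : G) * v = u' * v' := congrArg Subtype.val h
      have hu : u = u' := by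
        refine (bijective_orbit S hx hxa hab.symm).1 (Subtype.ext ?_)
        have := congrArg (fun g : G => g • b) h'
        simp only [mul_smul] at this
        rwa [(mem_inf.1 v.2).2, (mem_inf.1 v'.2).2] at this
      subst hu
      rw [Subtype.ext (mul_left_cancel h') (a1 := v) (a2 := v')]
    · rintro ⟨g, hg⟩
      have hgb : g • b ≠ a := fun e => hab (smul_left_cancel g ((mem_stabilizer_iff.1 hg).trans e.symm))
      obtain ⟨u, hu⟩ := (bijective_orbit S hx hxa hab.symm).2 ⟨g • b, hgb⟩
      have hu' : (u : G) • b = g • b := congrArg Subtype.val hu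
      refine ⟨(u, ⟨(u : G)⁻¹ * g, mem_inf.2 ⟨mul_mem (inv_mem (zpowers_le_stab hxa u.2)) hg, ?_⟩⟩),
        Subtype.ext (mul_inv_cancel_left _ _)⟩
      show ((u : G)⁻¹ * g) • b = b
      rw [mul_smul, ← hu', inv_smul_smul]
  have h := Nat.card_eq_of_bijective _ hbij
  rw [Nat.card_prod, Nat.card_zpowers, hx, card_stab S] at h
  exact Nat.eq_of_mul_eq_mul_left S.prime.pos h

theorem eq_one_of_commute (S : Small G p d) {x g : G} {a b : α} (hx : orderOf x = p) (ha : x • a = a)
    (hab : a ≠ b) (hga : g • a = a) (hgb : g • b = b) (hc : g * x = x * g) : g = 1 := by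
  refine Subtype.ext (Equiv.ext fun c => ?_)
  show g • c = c
  by_cases hca : c = a
  · rw [hca, hga]
  obtain ⟨⟨u, hu⟩, he⟩ := (bijective_orbit S hx ha hab.symm).2 ⟨c, hca⟩
  have he' : u • b = c := congrArg Subtype.val he
  obtain ⟨i, rfl⟩ := mem_zpowers_iff.1 hu
  rw [← he', ← mul_smul, ((show Commute g x from hc).zpow_right i).eq, mul_smul, hgb]

theorem three_fixed (S : Small G p d) {g : G} {a b c : α} (hab : a ≠ b) (hbc : b ≠ c) (hac : a ≠ c)
    (hga : g • a = a) (hgb : g • b = b) (hgc : g • c = c) : g = 1 := by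
  obtain ⟨x, hx, hxa⟩ := exists_gen S a
  obtain ⟨⟨u, hu⟩, he⟩ := (bijective_orbit S hx hxa hab.symm).2 ⟨c, hac.symm⟩
  have he' : u • b = c := congrArg Subtype.val he
  have hu1 : u ≠ 1 := fun e => hbc (by rw [← he', e, one_smul])
  have hconj : (⟨g * u * g⁻¹, conj_mem S hx hxa hga u hu⟩ : zpowers x) = ⟨u, hu⟩ := by
    refine (bijective_orbit S hx hxa hab.symm).1 (Subtype.ext ?_)
    show (g * u * g⁻¹) • b = u • b
    rw [mul_smul, mul_smul, inv_smul_eq_iff.2 hgb.symm, he', hgc]
  have hcom : g * u = u * g := mul_inv_eq_iff_eq_mul.1 (congrArg Subtype.val hconj)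
  obtain ⟨i, hi⟩ := mem_zpowers_iff.1
    (show x ∈ zpowers u by rw [(orderOf_zpowers S hx hu hu1).2]; exact mem_zpowers x)
  refine eq_one_of_commute S hx hxa hab hga hgb ?_
  rw [← hi]
  exact ((show Commute g u from hcom).zpow_right i).eq

theorem dvd_sub_one (S : Small G p d) {a b : α} (hab : a ≠ b) : d ∣ p - 1 := by
  obtain ⟨x, hx, hxa⟩ := exists_gen S a
  set E := stabilizer G a ⊓ stabilizer G b
  have hEN : E ≤ normalizer ((zpowers x : Subgroup G) : Set G) := fun g hg => by
    refine mem_normalizer_iff.2 fun u => ⟨conj_mem S hx hxa (mem_inf.1 hg).1 u, fun h => ?_⟩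
    have := conj_mem S hx hxa (inv_smul_eq_iff.2 (mem_inf.1 hg).1.symm) _ h
    rwa [show g⁻¹ * (g * u * g⁻¹) * g⁻¹⁻¹ = u by group] at this
  let φ : E →* MulAut (zpowers x) :=
    (zpowers x).normalizerMonoidHom.comp (Subgroup.inclusion hEN)
  have hφ : Function.Injective φ := by
    rw [injective_iff_map_eq_one]
    intro g hg
    have h : (g : G) * x * (g : G)⁻¹ = x :=
      congrArg Subtype.val (DFunLike.congr_fun hg (⟨x, mem_zpowers x⟩ : zpowers x))
    exact Subtype.ext (eq_one_of_commute S hx hxa hab (mem_inf.1 g.2).1 (mem_inf.1 g.2).2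
      (mul_inv_eq_iff_eq_mul.1 h))
  have hdvd := Subgroup.card_dvd_of_injective φ hφ
  rwa [card_pair S hab, IsCyclic.card_mulAut, Nat.card_zpowers, hx, Nat.totient_prime S.prime] at hdvd

end CfsgLib.PrimeAddOne
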