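import Cfsg.Agent.Perm.PrimeAddOne
import Cfsg.Agent.Zassenhaus.SemilinearSolvable
import Cfsg.Agent.Recog.FieldSpan
import Cfsg.Prelude.Def_Perm

/-!
The semi-affine case of the groups of degree `p + 1` and order `(p + 1) p d`, `d < p`.
-/

set_option autoImplicit false
set_option linter.unusedSectionVars false
set_option linter.style.haveILetI false
set_option linter.deprecated false

namespace CfsgLib.PrimeAddOne

open MulAction Subgroup

universe u

variable {α : Type u} [Fintype α] [DecidableEq α] {p d : ℕ} {G : Subgroup (Equiv.Perm α)}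

theorem affine_case (S : Small G p d) (hp2 : p ≠ 2) {a : α} (N : Subgroup G) [N.Normal]
    (hreg : Function.Bijective fun n : N => (n : G) • a) :
    ∃ q : ℕ, q.Prime ∧ p + 1 = 2 ^ q ∧ (d = 1 ∨ d = q) ∧ ∃ e : α ≃ GaloisField 2 q,
      ∀ g : G, (e.symm.trans (((g : Equiv.Perm α)).trans e)) ∈
        Cfsg.semiaffineGroup (GaloisField 2 q) := by
  classical
  haveI : Fact (Nat.Prime 2) := ⟨Nat.prime_two⟩
  haveI : Fact p.Prime := ⟨S.prime⟩
  have hNc : Nat.card N = p + 1 := by
    rw [Nat.card_eq_of_bijective _ hreg, Nat.card_eq_fintype_card, S.degree]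
  obtain ⟨x, hx, hxa⟩ := exists_gen S a
  have horb : ∀ n : N, n ≠ 1 → ∀ n' : N, n' ≠ 1 →
      ∃ u ∈ zpowers x, u * (n : G) * u⁻¹ = n' := by
    intro n hn n' hn'
    have hne : ∀ m : N, m ≠ 1 → (m : G) • a ≠ a := fun m hm e =>
      hm (hreg.1 (e.trans (one_smul G a).symm))
    obtain ⟨⟨w, hw⟩, he⟩ := (bijective_orbit S hx hxa (hne n hn)).2 ⟨(n' : G) • a, hne n' hn'⟩
    have he' : w • ((n : G) • a) = (n' : G) • a := congrArg Subtype.val he
    refine ⟨w, hw, ?_⟩
    have hm : w * (n : G) * w⁻¹ ∈ N := (inferInstance : N.Normal).conj_mem _ n.2 w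
    have h1 : (⟨_, hm⟩ : N) = n' := hreg.1 (by
      show (w * (n : G) * w⁻¹) • a = (n' : G) • a
      rw [mul_smul, mul_smul, inv_smul_eq_iff.2 (zpowers_le_stab hxa hw).symm, he'])
    exact congrArg Subtype.val h1
  -- `N` is elementary abelian
  have hsq : ∀ n : N, n * n = 1 := by
    obtain ⟨t, ht⟩ := exists_prime_orderOf_dvd_card' (G := N) 2 (by
      rw [hNc]
      obtain ⟨r, hr⟩ := S.prime.odd_of_ne_two hp2
      omega)
    have ht1 : t ≠ 1 := fun e => by rw [e, orderOf_one] at ht; omega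
    have htt : (t : G) * t = 1 := by
      have h := pow_orderOf_eq_one t
      rw [ht, sq] at h
      exact congrArg Subtype.val h
    intro n
    by_cases hn : n = 1
    · rw [hn, mul_one]
    obtain ⟨w, -, hw⟩ := horb t ht1 n hn
    refine Subtype.ext ?_
    show (n : G) * n = 1
    rw [← hw, conj_mul, htt, mul_one, mul_inv_cancel]
  have hcomm : ∀ m n : N, m * n = n * m := fun m n => by
    have h := hsq (m * n)
    calc m * n = m * 1 * n := by rw [mul_one]
      _ = m * ((m * n) * (m * n)) * n := by rw [h]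
      _ = (m * m) * n * m * (n * n) := by group
      _ = n * m := by rw [hsq m, hsq n, one_mul, mul_one]
  obtain ⟨q, hq⟩ : ∃ q, Nat.card N = 2 ^ q := IsPGroup.iff_card.1 fun n =>
    ⟨1, by rw [pow_one, sq, hsq]⟩
  have hq' : p + 1 = 2 ^ q := by rw [← hNc, hq]
  have hqp : q.Prime := by
    have hq1 : q ≠ 1 := fun e => by
      rw [e, pow_one] at hq'
      have := S.prime.two_le
      omega
    exact Nat.prime_of_pow_sub_one_prime hq1
      (by rw [show 2 ^ q - 1 = p by omega]; exact S.prime) |>.2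
  -- the vector space
  letI : CommGroup N := { (inferInstance : Group N) with mul_comm := hcomm }
  letI : Module (ZMod 2) (Additive N) := AddCommGroup.zmodModule fun v => by
    rw [two_nsmul]
    exact hsq v.toMul
  haveI : Nontrivial N := Finite.one_lt_card_iff_nontrivial.1 (by
    rw [hNc]; have := S.prime.two_le; omega)
  let C : G → (Additive N ≃ₗ[ZMod 2] Additive N) := fun g =>
    { MulEquiv.toAdditive (MulAut.conjNormal g : MulAut N) with
      map_smul' := fun r v => ZMod.map_smul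
        (MulEquiv.toAdditive (MulAut.conjNormal g : MulAut N)).toAddMonoidHom r v }
  have hC : ∀ (g : G) (v : Additive N), ((C g v).toMul : G) = g * (v.toMul : G) * g⁻¹ := fun _ _ => rfl
  let ρ : stabilizer G a →* (Additive N ≃ₗ[ZMod 2] Additive N) :=
    MonoidHom.mk' (fun g => C g) fun g h => LinearEquiv.ext fun v => by
      apply Additive.toMul.injective
      refine Subtype.ext ?_
      rw [LinearEquiv.mul_apply, hC, hC, hC]
      push_cast
      group
  let x' : stabilizer G a := ⟨x, hxa⟩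
  set A : Subgroup ρ.range := zpowers ⟨ρ x', ⟨x', rfl⟩⟩ with hA
  haveI : A.Normal := by
    refine ⟨fun y hy h => ?_⟩
    obtain ⟨g, hg⟩ := h.2
    obtain ⟨i, rfl⟩ := mem_zpowers_iff.1 hy
    obtain ⟨j, hj⟩ := mem_zpowers_iff.1
      (conj_mem S hx hxa g.2 (x ^ i) (zpow_mem (mem_zpowers x) i))
    refine mem_zpowers_iff.2 ⟨j, Subtype.ext ?_⟩
    push_cast
    rw [← hg, ← map_zpow, ← map_zpow, ← map_inv, ← map_mul, ← map_mul]
    congr 1
    refine Subtype.ext ?_
    push_cast
    exact hj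
  obtain ⟨F, iF, iFt, e, he⟩ := CfsgLib.SemiReg.exists_semilinear A (fun W hW => by
    by_cases hW0 : W = ⊥
    · exact Or.inl hW0
    obtain ⟨w, hwW, hw0⟩ := Submodule.exists_mem_ne_zero_of_ne_bot hW0
    refine Or.inr (eq_top_iff.2 fun v _ => ?_)
    by_cases hv : v = 0
    · rw [hv]; exact zero_mem _
    obtain ⟨u, hu, huv⟩ := horb w.toMul (fun h => hw0 h) v.toMul fun h => hv h
    obtain ⟨i, rfl⟩ := mem_zpowers_iff.1 hu
    have h := hW _ (zpow_mem (mem_zpowers (⟨ρ x', ⟨x', rfl⟩⟩ : ρ.range)) i) w hwW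
    rw [Subgroup.coe_zpow, ← map_zpow] at h
    convert h
    apply Additive.toMul.injective
    refine Subtype.ext ?_
    rw [← huv]
    exact (hC _ w).symm.trans rfl)
  haveI : Finite (GaloisField 2 q) := inferInstance
  haveI : Fintype (GaloisField 2 q) := Fintype.ofFinite _
  have hFc : Fintype.card F = Fintype.card (GaloisField 2 q) := by
    rw [← Nat.card_eq_fintype_card, ← Nat.card_eq_fintype_card, GaloisField.card 2 q hqp.ne_zero, ← hq]
    exact (Nat.card_congr (Additive.ofMul.trans e.toEquiv)).symm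
  let ψ : F ≃+* GaloisField 2 q := FiniteField.ringEquivOfCardEq hFc
  -- coordinates normalized at a second point
  obtain ⟨v₁, hv₁⟩ := exists_ne (0 : Additive N)
  have he1 : e v₁ ≠ 0 := fun h => hv₁ (e.injective (h.trans (map_zero e).symm))
  let P : α ≃ N := (Equiv.ofBijective _ hreg).symm
  have hP : ∀ c : α, ((P c : N) : G) • a = c := fun c =>
    (Equiv.ofBijective _ hreg).apply_symm_apply c
  let E0 : α ≃ GaloisField 2 q :=
    P.trans (Additive.ofMul.trans (e.toEquiv.trans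
      ((Equiv.mulRight₀ (e v₁)⁻¹ (inv_ne_zero he1)).trans ψ.toEquiv)))
  have hE0 : ∀ n : N, E0 ((n : G) • a) = ψ (e (Additive.ofMul n) * (e v₁)⁻¹) := fun n => by
    show ψ (e (Additive.ofMul (P ((n : G) • a))) * (e v₁)⁻¹) = _
    rw [hreg.1 (hP ((n : G) • a))]
  have hstab : ∀ g : G, g • a = a → ∃ (s : GaloisField 2 q) (τ : GaloisField 2 q ≃+* GaloisField 2 q),
      s ≠ 0 ∧ ∀ c, E0 (g • c) = s * τ (E0 c) := by
    intro g hga
    obtain ⟨s, σ, hs⟩ := he ⟨ρ ⟨g, hga⟩, ⟨_, rfl⟩⟩
    refine ⟨ψ (s * σ (e v₁) * (e v₁)⁻¹), ψ.symm.trans (σ.trans ψ), fun h0 => ?_, fun c => ?_⟩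
    · have h := (map_eq_zero ψ).1 h0
      rw [mul_eq_zero, mul_eq_zero, inv_eq_zero, map_eq_zero] at h
      have hs0 : s = 0 := by tauto
      have h1 := hs v₁
      rw [hs0, zero_mul] at h1
      exact hv₁ ((LinearEquiv.map_eq_zero_iff _).1 (e.injective (h1.trans (map_zero e).symm)))
    · set n := P c with hn
      have hm : g * (n : G) * g⁻¹ ∈ N := (inferInstance : N.Normal).conj_mem _ n.2 g
      have hgc : g • c = ((⟨_, hm⟩ : N) : G) • a := by
        rw [← hP c, ← hn]
        show g • (n : G) • a = (g * (n : G) * g⁻¹) • a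
        rw [mul_smul, mul_smul, inv_smul_eq_iff.2 hga.symm]
      rw [hgc, hE0]
      conv_rhs => rw [← hP c, ← hn, hE0]
      have hval : e (Additive.ofMul (⟨_, hm⟩ : N)) = s * σ (e (Additive.ofMul n)) := by
        rw [← hs]
        rfl
      rw [hval]
      simp only [RingEquiv.trans_apply, RingEquiv.symm_apply_apply, map_mul, map_inv₀]
      have hσ : ψ (σ (e v₁)) ≠ 0 := fun h =>
        he1 ((map_eq_zero σ).1 ((map_eq_zero ψ).1 h))
      field_simp
  -- the order of a two-point stabilizer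
  obtain ⟨n₁, hn₁⟩ : ∃ n : N, Additive.ofMul n = v₁ := ⟨v₁.toMul, rfl⟩
  set b := (n₁ : G) • a with hb
  have hab : a ≠ b := fun h => hv₁ (by
    rw [← hn₁, hreg.1 (h.symm.trans (one_smul G a).symm : (n₁ : G) • a = (1 : G) • a) (a₂ := 1)]
    rfl)
  have hb1 : E0 b = 1 := by rw [hb, hE0, hn₁, mul_inv_cancel₀ he1, map_one]
  have hauto : ∀ g : ↥(stabilizer G a ⊓ stabilizer G b), ∃ τ : GaloisField 2 q ≃+* GaloisField 2 q,
      ∀ c, E0 ((g : G) • c) = τ (E0 c) := by
    intro g
    obtain ⟨s, τ, -, hτ⟩ := hstab g (mem_inf.1 g.2).1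
    have h1 := hτ b
    rw [(mem_inf.1 g.2).2, hb1, map_one, mul_one] at h1
    exact ⟨τ, fun c => by rw [hτ, ← h1, one_mul]⟩
  choose T hT using hauto
  let Φ : ↥(stabilizer G a ⊓ stabilizer G b) →* RingAut (GaloisField 2 q) :=
    MonoidHom.mk' T fun g h => RingEquiv.ext fun z => by
      obtain ⟨c, rfl⟩ := E0.surjective z
      rw [RingAut.mul_apply, ← hT, ← hT, ← hT, ← mul_smul]
      rfl
  have hΦ : Function.Injective Φ := fun g h hgh => Subtype.ext (Subtype.ext (Equiv.ext fun c => by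
    apply E0.injective
    show E0 ((g : G) • c) = E0 ((h : G) • c)
    rw [hT, hT]
    exact DFunLike.congr_fun hgh (E0 c)))
  letI : Algebra (ZMod 2) (GaloisField 2 q) := inferInstance
  have hd : d ∣ q := by
    have h := Subgroup.card_dvd_of_injective Φ hΦ
    rwa [card_pair S hab, CfsgLib.Recog.FieldSpan.card_aut, GaloisField.finrank 2 hqp.ne_zero] at h
  refine ⟨q, hqp, hq', (Nat.dvd_prime hqp).1 hd, E0, fun g => ?_⟩
  set n₀ := P (g • a) with hn₀
  have hh : ((n₀ : G)⁻¹ * g) • a = a := by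
    rw [mul_smul, inv_smul_eq_iff, hn₀, hP]
  obtain ⟨s, τ, hs, hτ⟩ := hstab _ hh
  refine ⟨Units.mk0 s hs, E0 (g • a), τ, fun z => ?_⟩
  obtain ⟨c, rfl⟩ := E0.surjective z
  show E0 ((g : Equiv.Perm α) (E0.symm (E0 c))) = s * τ (E0 c) + E0 (g • a)
  rw [E0.symm_apply_apply, ← hτ c]
  show E0 (g • c) = _
  set m := P (((n₀ : G)⁻¹ * g) • c) with hm
  have hgc : g • c = ((n₀ * m : N) : G) • a := by
    push_cast
    rw [mul_smul, hm, hP, ← mul_smul, mul_inv_cancel_left]
  conv_lhs => rw [hgc, hE0]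
  conv_rhs => rw [← hP (((n₀ : G)⁻¹ * g) • c), ← hm, hE0, ← hP (g • a), ← hn₀, hE0]
  rw [ofMul_mul, map_add, add_mul, map_add, add_comm]

end CfsgLib.PrimeAddOne
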