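/-
Prime degree `p ≡ 3 (mod 4)` with Sylow normaliser of order `p(p-1)/2`: at most four orbits of a
two-point stabiliser.
-/
import Mathlib
import Cfsg.Prelude.Def_Perm
import Cfsg.Agent.Perm.PrimeDegreeModule

set_option autoImplicit false

namespace CfsgLib.PrimeDegree

open MulAction

variable {p : ℕ} [Fact p.Prime] {G α : Type*} [Group G] [Finite G] [MulAction G α]
  [FaithfulSMul G α] [IsPretransitive G α]

/-- The affine chart of a half normaliser: all square multiplications occur. -/
theorem exists_square_mults (hcard : Nat.card α = p) (P : Sylow p G)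
    (hN : 2 * Nat.card (Subgroup.normalizer ((P : Subgroup G) : Set G)) = p * (p - 1)) :
    ∃ (g : G) (e : ZMod p ≃ α), orderOf g = p ∧ (P : Subgroup G) = Subgroup.zpowers g ∧
      (∀ (n : ℕ) (j : ZMod p), g ^ n • e j = e (j + n)) ∧
      ∀ t : ZMod p, t ≠ 0 → IsSquare t → ∃ s : G, ∀ i, s • e i = e (t * i) := by
  classical
  have hp := (Fact.out : p.Prime)
  obtain ⟨g, hgo, hgP⟩ := exists_sylow_generator hcard P
  obtain ⟨e, he⟩ := exists_chart hcard hgo
  refine ⟨g, e, hgo, hgP, he, ?_⟩
  let H : Subgroup (ZMod p)ˣ :=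
    { carrier := {r | ∃ n : G, ∀ i, n • e i = e ((r : ZMod p) * i)}
      one_mem' := ⟨1, fun i => by simp⟩
      mul_mem' := by
        rintro a b ⟨m, hm⟩ ⟨n, hn⟩
        exact ⟨m * n, fun i => by rw [mul_smul, hn, hm, Units.val_mul, mul_assoc]⟩
      inv_mem' := by
        rintro a ⟨m, hm⟩
        refine ⟨m⁻¹, fun i => ?_⟩
        rw [inv_smul_eq_iff, hm, ← mul_assoc, Units.mul_inv, one_mul] }
  -- every element of the normaliser is affine
  have haff : ∀ n : Subgroup.normalizer ((P : Subgroup G) : Set G),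
      ∃ (b : ZMod p) (r : (ZMod p)ˣ), ∀ i, (n : G) • e i = e (b + r * i) := by
    intro n
    have hconj : (n : G) * g * (n : G)⁻¹ ∈ Subgroup.zpowers g :=
      hgP.le ((Subgroup.mem_normalizer_iff.mp n.2 g).mp (hgP ▸ Subgroup.mem_zpowers g))
    obtain ⟨r, hr⟩ : ∃ r : ℕ, (n : G) * g * (n : G)⁻¹ = g ^ r := by
      obtain ⟨k, -, hk⟩ := Finset.mem_image.mp (mem_zpowers_iff_mem_range_orderOf.mp hconj)
      exact ⟨k, hk.symm⟩
    have hstep : ∀ i : ZMod p, (n : G) • e (i + 1) = g ^ r • ((n : G) • e i) := by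
      intro i
      have : e (i + 1) = g ^ 1 • e i := by rw [he]; norm_num
      rw [this, pow_one, ← hr, mul_smul, mul_smul, inv_smul_smul]
    set b := e.symm ((n : G) • e 0) with hb
    have hlin : ∀ i : ZMod p, (n : G) • e i = e (b + r * i) := by
      suffices ∀ k : ℕ, (n : G) • e (k : ZMod p) = e (b + r * k) by
        intro i
        have := this i.val
        rwa [ZMod.natCast_val, ZMod.cast_id] at this
      intro k
      induction k with
      | zero => simp [hb]
      | succ k ih => rw [Nat.cast_succ, hstep, ih, he]; congr 1; ring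
    have hr0 : (r : ZMod p) ≠ 0 := by
      intro h0
      have h01 : (n : G) • e 0 = (n : G) • e 1 := by rw [hlin, hlin, h0, zero_mul, zero_mul]
      exact zero_ne_one (e.injective (smul_left_cancel _ h01))
    exact ⟨b, Units.mk0 _ hr0, fun i => by simpa using hlin i⟩
  choose b r hbr using haff
  have hrH : ∀ n, r n ∈ H := fun n => ⟨g ^ (-b n).val * (n : G), fun i => by
    rw [mul_smul, hbr, he, ZMod.natCast_val, ZMod.cast_id]; congr 1; ring⟩
  have hinj : Function.Injective (fun n => (b n, (⟨r n, hrH n⟩ : H))) := by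
    intro m n hmn
    simp only [Prod.mk.injEq, Subtype.mk.injEq] at hmn
    refine Subtype.ext (eq_of_smul_eq_smul (α := α) fun u => ?_)
    obtain ⟨i, rfl⟩ := e.surjective u
    rw [hbr, hbr, hmn.1, hmn.2]
  have hle := Nat.card_le_card_of_injective _ hinj
  rw [Nat.card_prod, Nat.card_zmod] at hle
  have hH : H.index ≤ 2 := by
    have h1 : H.index * Nat.card H = p - 1 := by
      rw [H.index_mul_card, Nat.card_eq_fintype_card, ZMod.card_units]
    have hp1 : 0 < p - 1 := by have := hp.two_le; omega
    by_contra h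
    have h3 : 3 * Nat.card H ≤ p - 1 := h1 ▸ Nat.mul_le_mul_right _ (by omega)
    have : p * (p - 1) ≤ 2 * (p * Nat.card H) := by
      rw [← hN]; exact Nat.mul_le_mul_left _ hle
    have h4 : p - 1 ≤ 2 * Nat.card H := Nat.le_of_mul_le_mul_left (by linarith) hp.pos
    omega
  rintro t ht ⟨u, rfl⟩
  have hu : u ≠ 0 := fun h => ht (by simp [h])
  have hmem : (Units.mk0 u hu) ^ 2 ∈ H := by
    have h0 : H.index ≠ 0 := Subgroup.index_ne_zero_of_finite
    rcases (by omega : H.index = 1 ∨ H.index = 2) with h | h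
    · rw [Subgroup.index_eq_one.mp h]; exact Subgroup.mem_top _
    · exact h ▸ Subgroup.pow_index_mem H _
  obtain ⟨s, hs⟩ := hmem
  exact ⟨s, fun i => by rw [hs i]; simp [pow_two]⟩

/-- The bound of four on the orbits of a two-point stabiliser. -/
theorem card_orbits_two_point_le [Fintype α] (hcard : Nat.card α = p)
    (hns : ¬ Group.IsSolvable G) (h2t : IsMultiplyPretransitive G α 2) (hp3 : p % 4 = 3)
    (g : G) (e : ZMod p ≃ α) (he : ∀ (n : ℕ) (j : ZMod p), g ^ n • e j = e (j + n))
    (hsq : ∀ t : ZMod p, t ≠ 0 → IsSquare t → ∃ s : G, ∀ i, s • e i = e (t * i))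
    (a₀ b₀ : α) (hab : a₀ ≠ b₀) :
    Nat.card (orbitRel.Quotient ↥(stabilizer G a₀ ⊓ stabilizer G b₀) α) ≤ 4 := by
  classical
  set S := stabilizer G a₀ ⊓ stabilizer G b₀ with hS
  let Q := orbitRel.Quotient ↥S α
  let cl : α → Q := fun u => Quotient.mk _ u
  have hcl : ∀ (h : G), h ∈ S → ∀ u, cl (h • u) = cl u := fun h hh u =>
    Quotient.sound ⟨⟨h, hh⟩, rfl⟩
  letI : Fintype Q := Fintype.ofFinite _
  let F : (Q → ZMod p) → (α → ZMod p) → G → ZMod p := fun c v k => ∑ u, c (cl u) * v (k • u)
  have hdep : ∀ c v k k', k • a₀ = k' • a₀ → k • b₀ = k' • b₀ → F c v k = F c v k' := by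
    intro c v k k' ha hb
    have hmem : k⁻¹ * k' ∈ S := by
      constructor <;> simp [mem_stabilizer_iff, mul_smul, ← ha, ← hb]
    refine (Fintype.sum_equiv (MulAction.toPerm (k⁻¹ * k')) _ _ fun u => ?_).symm
    simp only [MulAction.toPerm_apply]
    rw [hcl _ hmem, mul_smul, smul_inv_smul]
  let x : α → ZMod p := fun u => e.symm u
  have hAdd : ∀ (c : Q → ZMod p) (n : ℕ) (k : G),
      F c x (g ^ n * k) = F c x k + n * ∑ u, c (cl u) := by
    intro c n k
    simp only [F, x, Finset.mul_sum, ← Finset.sum_add_distrib]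
    refine Finset.sum_congr rfl fun u _ => ?_
    obtain ⟨i, hi⟩ := e.surjective (k • u)
    rw [mul_smul, ← hi, he, Equiv.symm_apply_apply, Equiv.symm_apply_apply]
    ring
  have hMul : ∀ (c : Q → ZMod p) (t : ZMod p) (s k : G), (∀ i, s • e i = e (t * i)) →
      F c x (s * k) = t * F c x k := by
    intro c t s k hs
    simp only [F, x, Finset.mul_sum]
    refine Finset.sum_congr rfl fun u _ => ?_
    obtain ⟨i, hi⟩ := e.surjective (k • u)
    rw [mul_smul, ← hi, hs, Equiv.symm_apply_apply, Equiv.symm_apply_apply]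
    ring
  have h2 : ∀ a b c d : α, a ≠ b → c ≠ d → ∃ k : G, k • a = c ∧ k • b = d := fun a b c d h h' =>
    (MulAction.is_two_pretransitive_iff.mp h2t) h h'
  have hp1 : 1 < p := (Fact.out : p.Prime).one_lt
  obtain ⟨k₁, hk₁a, hk₁b⟩ := h2 a₀ b₀ (e 0) (e 1) hab (by simp)
  obtain ⟨k₂, hk₂a, hk₂b⟩ := h2 a₀ b₀ (e 0) (e (-1)) hab (by simp)
  let Ψ : (Q → ZMod p) →ₗ[ZMod p] ZMod p × ZMod p × ZMod p :=
    { toFun := fun c => (∑ u, c (cl u), F c x k₁, F c x k₂)
      map_add' := fun c d => by
        simp [F, add_mul, Finset.sum_add_distrib]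
      map_smul' := fun m c => by
        simp [F, Finset.mul_sum, mul_assoc] }
  have hker : LinearMap.ker Ψ ≤ Submodule.span (ZMod p) {(fun _ => 1 : Q → ZMod p)} := by
    intro c hc
    have hc' : (∑ u, c (cl u), F c x k₁, F c x k₂) = (0, 0, 0) := hc
    simp only [Prod.mk.injEq] at hc'
    obtain ⟨hA, hy₁, hy₂⟩ := hc'
    -- the translate of the coordinate function dies
    have hy : ∀ k, F c x k = 0 := by
      intro k
      obtain ⟨i, hi⟩ := e.surjective (k • a₀)
      obtain ⟨j, hj⟩ := e.surjective (k • b₀)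
      have hij : j - i ≠ 0 := by
        intro h
        rw [sub_eq_zero] at h
        exact hab (smul_left_cancel k (by rw [← hi, ← hj, h]))
      by_cases hd : IsSquare (j - i)
      · obtain ⟨s, hs⟩ := hsq _ hij hd
        rw [hdep c x k (g ^ i.val * (s * k₁)), hAdd, hMul c _ s k₁ hs, hy₁, hA]
        · ring
        · rw [← hi, mul_smul, mul_smul, hk₁a, hs, he, ZMod.natCast_val, ZMod.cast_id]; congr 1; ring
        · rw [← hj, mul_smul, mul_smul, hk₁b, hs, he, ZMod.natCast_val, ZMod.cast_id]; congr 1; ring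
      · have hne : -(j - i) ≠ 0 := neg_ne_zero.mpr hij
        have hsq' : IsSquare (-(j - i)) := by
          by_contra hns'
          have hq : ringChar (ZMod p) ≠ 2 := by rw [ZMod.ringChar_zmod_n]; omega
          have e1 : quadraticChar (ZMod p) (j - i) = -1 := quadraticChar_neg_one_iff_not_isSquare.mpr hd
          have e2 : quadraticChar (ZMod p) (-(j - i)) = -1 :=
            quadraticChar_neg_one_iff_not_isSquare.mpr hns'
          have e3 : quadraticChar (ZMod p) (-1) = -1 := by
            rw [quadraticChar_neg_one hq, ZMod.card, ZMod.χ₄_nat_three_mod_four hp3]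
          rw [show -(j - i) = -1 * (j - i) by ring, map_mul, e1, e3] at e2
          norm_num at e2
        obtain ⟨s, hs⟩ := hsq _ hne hsq'
        rw [hdep c x k (g ^ i.val * (s * k₂)), hAdd, hMul c _ s k₂ hs, hy₂, hA]
        · ring
        · rw [← hi, mul_smul, mul_smul, hk₂a, hs, he, ZMod.natCast_val, ZMod.cast_id]; congr 1; ring
        · rw [← hj, mul_smul, mul_smul, hk₂b, hs, he, ZMod.natCast_val, ZMod.cast_id]; congr 1; ring
    let Sz := Cfsg.permSumZero (ZMod p) G α
    let W : Subrepresentation (Cfsg.permRep (ZMod p) G α) :=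
      { toSubmodule :=
          { carrier := {v | v ∈ Sz.toSubmodule ∧ ∀ k, F c v k = 0}
            zero_mem' := ⟨Sz.toSubmodule.zero_mem, fun k => by simp [F]⟩
            add_mem' := fun {v w} hv hw => ⟨Sz.toSubmodule.add_mem hv.1 hw.1, fun k => by
              have e1 := hv.2 k
              have e2 := hw.2 k
              simp only [F, Pi.add_apply, mul_add, Finset.sum_add_distrib] at *
              rw [e1, e2, add_zero]⟩
            smul_mem' := fun m v hv => ⟨Sz.toSubmodule.smul_mem m hv.1, fun k => by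
              have e1 := hv.2 k
              simp only [F, Pi.smul_apply, smul_eq_mul, mul_left_comm _ m, ← Finset.mul_sum] at *
              rw [e1, mul_zero]⟩ }
        apply_mem_toSubmodule := by
          rintro m v ⟨hv, hv'⟩
          refine ⟨Sz.apply_mem_toSubmodule m hv, fun k => ?_⟩
          have := hv' (m⁻¹ * k)
          simp only [F, mul_smul] at this
          exact this }
    have hW₁ : (Cfsg.permConstants (ZMod p) G α).toSubmodule ≤ W.toSubmodule := by
      show Submodule.span (ZMod p) {fun _ => (1 : ZMod p)} ≤ _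
      rw [Submodule.span_le, Set.singleton_subset_iff]
      refine ⟨?_, fun k => by simp [F, hA]⟩
      show ∑ _u : α, (1 : ZMod p) = 0
      rw [Finset.sum_const, Finset.card_univ, ← Nat.card_eq_fintype_card, hcard]
      simp
    have hxW : x ∈ W.toSubmodule := by
      refine ⟨?_, hy⟩
      show ∑ u, e.symm u = 0
      rw [Equiv.sum_comp e.symm (fun i => i)]
      have := FiniteField.sum_pow_lt_card_sub_one (K := ZMod p) 1 (by
        rw [ZMod.card]; omega)
      simpa using this
    rcases heart_irreducible hcard hns W hW₁ (fun v hv => hv.1) with hW | hW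
    · rw [hW] at hxW
      obtain ⟨m, hm⟩ := Submodule.mem_span_singleton.mp hxW
      have h0 := congrFun hm (e 0)
      have h1 := congrFun hm (e 1)
      simp [x] at h0 h1
      exact absurd (h0.symm.trans h1) zero_ne_one
    · refine Submodule.mem_span_singleton.mpr ⟨c (cl a₀), funext fun q => ?_⟩
      obtain ⟨u, rfl⟩ := Quotient.exists_rep q
      let v : α → ZMod p := Pi.single u 1 - Pi.single a₀ 1
      have hv : v ∈ W.toSubmodule := by
        rw [hW]
        show ∑ w, v w = 0
        simp [v]
      have := hv.2 1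
      simp [F, v, mul_sub, Finset.sum_sub_distrib, Pi.single_apply, sub_eq_zero] at this
      simp [cl, this]
  have h1 : Module.finrank (ZMod p) (LinearMap.ker Ψ) ≤ 1 :=
    (Submodule.finrank_mono hker).trans ((finrank_span_le_card _).trans (by simp))
  have h2' : Module.finrank (ZMod p) (LinearMap.range Ψ) ≤ 3 :=
    (Submodule.finrank_le _).trans (by simp)
  have h3 := Ψ.finrank_range_add_finrank_ker
  rw [Module.finrank_fintype_fun_eq_card] at h3
  have h4 : Nat.card (orbitRel.Quotient ↥S α) = Fintype.card Q := Nat.card_eq_fintype_card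
  omega

end CfsgLib.PrimeDegree
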