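/-
Prime degree `p ≡ 3 (mod 4)` with half Sylow normaliser: a point stabiliser has no nontrivial
blocks for `p > 7`.

A block system of a point stabiliser gives a Steiner system whose lines are triples
`c + u·{1, w, w²}`; the sums of cubes show that a proper subsystem has at most three points, so the
stabiliser of a triangle is trivial and Sylow's theorem leaves only `p = 7`.
-/
import Mathlib
import Cfsg.Agent.Perm.PrimeDegreeHalf

set_option autoImplicit false

namespace CfsgLib.PrimeDegree

open MulAction Polynomial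

variable {p : ℕ} [Fact p.Prime]

/-- A set closed under third points of equilateral triples has at most three points or is everything. -/
theorem card_eq_of_cubic_closed (X : Finset (ZMod p)) (h4 : 3 < X.card) (σ : ZMod p → ZMod p → ZMod p)
    (hσ : ∀ a ∈ X, ∀ x ∈ X, x ≠ a → σ a x ∈ X ∧ σ a x ≠ a ∧ σ a x ≠ x ∧ σ a (σ a x) = x ∧
      (x - a) ^ 3 + (σ a x - a) ^ 3 = 0) : X.card = p := by
  classical
  let P : (ZMod p)[X] := ∑ x ∈ X, (C x - Polynomial.X) ^ 3
  have hdeg : P.natDegree ≤ 3 := by
    refine natDegree_sum_le_of_forall_le _ _ fun x _ => ?_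
    exact (natDegree_pow_le).trans (by
      have : (C x - Polynomial.X : (ZMod p)[X]).natDegree ≤ 1 := by compute_degree
      omega)
  have hev : ∀ a ∈ X, P.eval a = 0 := by
    intro a ha
    simp only [P, eval_finsetSum, eval_pow, eval_sub, eval_C, eval_X]
    refine Finset.sum_involution (fun x _ => if x = a then a else σ a x) ?_ ?_ ?_ ?_
    · intro x hx
      split_ifs with h
      · subst h; simp
      · exact (hσ a ha x hx h).2.2.2.2
    · intro x hx hne
      have h : x ≠ a := fun h => hne (by subst h; simp)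
      rw [if_neg h]
      exact (hσ a ha x hx h).2.2.1
    · intro x hx
      split_ifs with h
      · exact ha
      · exact (hσ a ha x hx h).1
    · intro x hx
      by_cases h : x = a
      · simp [h]
      · simp only [if_neg h, if_neg (hσ a ha x hx h).2.1]
        exact (hσ a ha x hx h).2.2.2.1
  have hP : P = 0 :=
    eq_zero_of_natDegree_lt_card_of_eval_eq_zero' P X hev (lt_of_le_of_lt hdeg h4)
  have hc : P.coeff 3 = -(X.card : ZMod p) := by
    have : ∀ x : ZMod p, ((C x - Polynomial.X : (ZMod p)[X]) ^ 3).coeff 3 = -1 := by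
      intro x
      have h : (C x - Polynomial.X : (ZMod p)[X]) ^ 3 =
          -(Polynomial.X ^ 3) + C (3 * x) * Polynomial.X ^ 2 - C (3 * x ^ 2) * Polynomial.X ^ 1 + C (x ^ 3) := by
        simp only [map_mul, map_pow, map_ofNat]; ring
      rw [h]
      simp only [coeff_add, coeff_sub, coeff_neg, coeff_C_mul_X_pow, coeff_X_pow, coeff_C]
      norm_num
    simp only [P, finsetSum_coeff, this, Finset.sum_const, nsmul_eq_mul, mul_neg, mul_one]
  rw [hP, coeff_zero, eq_comm, neg_eq_zero, ZMod.natCast_eq_zero_iff] at hc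
  exact le_antisymm ((Finset.card_le_univ X).trans (ZMod.card p).le) (Nat.le_of_dvd (by omega) hc)

variable {G α : Type*} [Group G] [Finite G] [MulAction G α] [FaithfulSMul G α] [IsPretransitive G α]

/-- For `p ≡ 3 (mod 4)`, `p > 7`, no set `B ∌ a₀` with at least two and not all other points is a block
of the stabiliser of `a₀`. -/
theorem no_point_stabilizer_block [Fintype α] (hcard : Nat.card α = p) (hns : ¬ Group.IsSolvable G)
    (P : Sylow p G)
    (hN : 2 * Nat.card (Subgroup.normalizer ((P : Subgroup G) : Set G)) = p * (p - 1))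
    (hp3 : p % 4 = 3) (hp7 : 7 < p) (a₀ b₀ c₀ d₀ : α) (B : Set α) (ha₀ : a₀ ∉ B) (hb₀ : b₀ ∈ B)
    (hc₀ : c₀ ∈ B) (hcb : c₀ ≠ b₀) (hd₀ : d₀ ∉ B) (hda : d₀ ≠ a₀)
    (hblock : ∀ k : G, k • a₀ = a₀ → ∀ u ∈ B, k • u ∈ B → ∀ v ∈ B, k • v ∈ B) : False := by
  classical
  have hp := (Fact.out : p.Prime)
  have hab : a₀ ≠ b₀ := fun h => ha₀ (h ▸ hb₀)
  have hca : c₀ ≠ a₀ := fun h => ha₀ (h ▸ hc₀)
  have hdb : d₀ ≠ b₀ := fun h => hd₀ (h ▸ hb₀)
  have hdc : d₀ ≠ c₀ := fun h => hd₀ (h ▸ hc₀)
  have h2t : IsMultiplyPretransitive G α 2 :=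
    (CfsgLib.Muller.solvable_or_two_transitive (p := p) hcard).resolve_left hns
  obtain ⟨g, e, -, -, he, hsq⟩ := exists_square_mults hcard P hN
  have h2 : ∀ a b c d : α, a ≠ b → c ≠ d → ∃ k : G, k • a = c ∧ k • b = d := fun a b c d h h' =>
    (MulAction.is_two_pretransitive_iff.mp h2t) h h'
  have hstab : ∀ k : G, k • a₀ = a₀ → k • b₀ = b₀ → ∀ u, (k • u ∈ B ↔ u ∈ B) := by
    intro k ha hb u
    refine ⟨fun h => ?_, fun h => hblock k ha b₀ hb₀ (hb.symm ▸ hb₀) u h⟩
    have := hblock k⁻¹ (inv_smul_eq_iff.mpr ha.symm) b₀ hb₀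
      ((inv_smul_eq_iff.mpr hb.symm).symm ▸ hb₀) _ h
    rwa [inv_smul_smul] at this
  -- the two-point stabiliser is transitive inside and outside the block
  have horb : ∀ u v, u ≠ a₀ → u ≠ b₀ → v ≠ a₀ → v ≠ b₀ → (u ∈ B ↔ v ∈ B) →
      ∃ k : G, k • a₀ = a₀ ∧ k • b₀ = b₀ ∧ k • u = v := by
    set S := stabilizer G a₀ ⊓ stabilizer G b₀ with hS
    let Q := orbitRel.Quotient ↥S α
    letI : Fintype Q := Fintype.ofFinite _
    let cl : α → Q := fun u => Quotient.mk _ u
    have hmem : ∀ u v, cl u = cl v → ∃ k : G, k • a₀ = a₀ ∧ k • b₀ = b₀ ∧ k • v = u := by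
      intro u v h
      obtain ⟨k, hk⟩ := Quotient.exact h
      exact ⟨k, k.2.1, k.2.2, hk⟩
    have hiff : ∀ u v, cl u = cl v → (u ∈ B ↔ v ∈ B) := by
      intro u v h
      obtain ⟨k, ha, hb, rfl⟩ := hmem u v h
      exact hstab k ha hb v
    have hA : ∀ u, cl u = cl a₀ → u = a₀ := fun u h => by
      obtain ⟨k, ha, -, rfl⟩ := hmem u a₀ h; exact ha
    have hB : ∀ u, cl u = cl b₀ → u = b₀ := fun u h => by
      obtain ⟨k, -, hb, rfl⟩ := hmem u b₀ h; exact hb
    have hle : Fintype.card Q ≤ 4 := by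
      have := card_orbits_two_point_le hcard hns h2t hp3 g e he hsq a₀ b₀ hab
      have h' : Nat.card (orbitRel.Quotient ↥(stabilizer G a₀ ⊓ stabilizer G b₀) α) = Fintype.card Q :=
        Nat.card_eq_fintype_card
      omega
    have hkey : ∀ u, u ≠ a₀ → u ≠ b₀ → cl u = cl c₀ ∨ cl u = cl d₀ := by
      intro u hua hub
      by_contra h
      push Not at h
      have n1 : cl a₀ ≠ cl b₀ := fun h => hab (hB _ h)
      have n2 : cl a₀ ≠ cl c₀ := fun h => hca (hA _ h.symm)
      have n3 : cl a₀ ≠ cl d₀ := fun h => hda (hA _ h.symm)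
      have n4 : cl b₀ ≠ cl c₀ := fun h => hcb (hB _ h.symm)
      have n5 : cl b₀ ≠ cl d₀ := fun h => hdb (hB _ h.symm)
      have n6 : cl c₀ ≠ cl d₀ := fun h => hd₀ ((hiff _ _ h).mp hc₀)
      have n7 : cl u ≠ cl a₀ := fun h => hua (hA _ h)
      have n8 : cl u ≠ cl b₀ := fun h => hub (hB _ h)
      have := (Finset.card_le_univ ({cl u, cl a₀, cl b₀, cl c₀, cl d₀} : Finset Q))
      rw [Finset.card_insert_of_notMem (by simp [h.1, h.2, n7, n8]),
        Finset.card_insert_of_notMem (by simp [n1, n2, n3]),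
        Finset.card_insert_of_notMem (by simp [n4, n5]),
        Finset.card_insert_of_notMem (by simp [n6]), Finset.card_singleton] at this
      omega
    intro u v hua hub hva hvb huv
    have : cl v = cl u := by
      rcases hkey u hua hub with h | h <;> rcases hkey v hva hvb with h' | h'
      · rw [h, h']
      · exact absurd ((hiff _ _ h').mp (huv.mp ((hiff _ _ h).mpr hc₀))) hd₀
      · exact absurd ((hiff _ _ h).mp (huv.mpr ((hiff _ _ h').mpr hc₀))) hd₀
      · rw [h, h']
    exact hmem v u this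
  -- the relation `R a b c`: `b` and `c` are in one block at `a`
  let R : α → α → α → Prop := fun a b c =>
    c ≠ b ∧ ∃ k : G, k • a₀ = a ∧ k • b₀ = b ∧ k⁻¹ • c ∈ B
  have hRk : ∀ (a b c : α) (k : G), k • a₀ = a → k • b₀ = b → R a b c → k⁻¹ • c ∈ B := by
    rintro a b c k ha hb ⟨-, k', ha', hb', hc⟩
    have h1 : (k⁻¹ * k') • a₀ = a₀ := by rw [mul_smul, ha', ← ha, inv_smul_smul]
    have h2 : (k⁻¹ * k') • b₀ = b₀ := by rw [mul_smul, hb', ← hb, inv_smul_smul]
    have := (hstab _ h1 h2 (k'⁻¹ • c)).mpr hc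
    rwa [mul_smul, smul_inv_smul] at this
  have hRne : ∀ a b c, R a b c → a ≠ b ∧ a ≠ c ∧ b ≠ c := by
    rintro a b c ⟨hne, k, rfl, rfl, hc⟩
    refine ⟨fun h => hab (smul_left_cancel k h), fun h => ha₀ ?_, hne.symm⟩
    rwa [← h, inv_smul_smul] at hc
  have hRinv : ∀ (m : G) a b c, R a b c → R (m • a) (m • b) (m • c) := by
    rintro m a b c ⟨hne, k, rfl, rfl, hc⟩
    exact ⟨fun h => hne (smul_left_cancel m h), m * k, mul_smul _ _ _, mul_smul _ _ _,
      by rwa [mul_inv_rev, mul_smul, inv_smul_smul]⟩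
  have hRswap : ∀ a b c, R a b c → R a c b := by
    rintro a b c h
    obtain ⟨hne, k, rfl, rfl, hc⟩ := h
    have hu : a₀ ≠ k⁻¹ • c := fun h => ha₀ (h ▸ hc)
    obtain ⟨m, hma, hmb⟩ := h2 a₀ b₀ a₀ (k⁻¹ • c) hab hu
    refine ⟨hne.symm, k * m, by rw [mul_smul, hma], by rw [mul_smul, hmb, smul_inv_smul], ?_⟩
    rw [mul_inv_rev, mul_smul, inv_smul_smul]
    refine hblock m⁻¹ (inv_smul_eq_iff.mpr hma.symm) _ hc ?_ b₀ hb₀
    rw [← hmb, inv_smul_smul]; exact hb₀
  have hRtrans : ∀ a b c d, R a b c → R a b d → c ≠ d → R a c d := by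
    rintro a b c d hc hd hcd
    obtain ⟨-, hac, -⟩ := hRne _ _ _ hc
    obtain ⟨k, hka, hkb⟩ := h2 a₀ b₀ a b hab (hRne _ _ _ hc).1
    have hcB := hRk _ _ _ k hka hkb hc
    have hdB := hRk _ _ _ k hka hkb hd
    obtain ⟨m, hma, hmb⟩ := h2 a₀ b₀ a₀ (k⁻¹ • c) hab (fun h => ha₀ (h ▸ hcB))
    refine ⟨hcd.symm, k * m, by rw [mul_smul, hma, hka], by rw [mul_smul, hmb, smul_inv_smul], ?_⟩
    rw [mul_inv_rev, mul_smul]
    refine hblock m⁻¹ (inv_smul_eq_iff.mpr hma.symm) _ hcB ?_ _ hdB
    rw [← hmb, inv_smul_smul]; exact hb₀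
  have hsame : ∀ a b c a' b' c', a ≠ b → a ≠ c → b ≠ c → a' ≠ b' → a' ≠ c' → b' ≠ c' →
      (R a b c ↔ R a' b' c') → ∃ m : G, m • a = a' ∧ m • b = b' ∧ m • c = c' := by
    intro a b c a' b' c' n1 n2 n3 n1' n2' n3' hiff
    obtain ⟨k, hka, hkb⟩ := h2 a₀ b₀ a b hab n1
    obtain ⟨k', hka', hkb'⟩ := h2 a₀ b₀ a' b' hab n1'
    obtain ⟨m, hma, hmb, hmc⟩ := horb (k⁻¹ • c) (k'⁻¹ • c')
      (fun h => n2 (by rw [← hka, ← h, smul_inv_smul]))
      (fun h => n3 (by rw [← hkb, ← h, smul_inv_smul]))
      (fun h => n2' (by rw [← hka', ← h, smul_inv_smul]))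
      (fun h => n3' (by rw [← hkb', ← h, smul_inv_smul]))
      ⟨fun h => hRk _ _ _ k' hka' hkb' (hiff.mp ⟨n3.symm, k, hka, hkb, h⟩),
        fun h => hRk _ _ _ k hka hkb (hiff.mpr ⟨n3'.symm, k', hka', hkb', h⟩)⟩
    refine ⟨k' * m * k⁻¹, ?_, ?_, ?_⟩
    · rw [mul_smul, mul_smul, inv_smul_eq_iff.mpr hka.symm, hma, hka']
    · rw [mul_smul, mul_smul, inv_smul_eq_iff.mpr hkb.symm, hmb, hkb']
    · rw [mul_smul, mul_smul, hmc, smul_inv_smul]
  -- total symmetry
  have hRsymm : ∀ a b c, R a b c → R b a c := by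
    intro a b c h
    by_contra hn
    have no : ∀ x y z, R x y z → ¬ R y x z := by
      intro x y z hx hy
      obtain ⟨n1, n2, n3⟩ := hRne _ _ _ h
      obtain ⟨n1', n2', n3'⟩ := hRne _ _ _ hx
      obtain ⟨m, rfl, rfl, rfl⟩ := hsame x y z a b c n1' n2' n3' n1 n2 n3 (iff_of_true hx h)
      exact hn (hRinv m _ _ _ hy)
    have yes : ∀ x y z, x ≠ y → x ≠ z → y ≠ z → ¬ R x y z → R y x z := by
      intro x y z n1' n2' n3' hx
      obtain ⟨n1, n2, n3⟩ := hRne _ _ _ h
      obtain ⟨m, rfl, rfl, rfl⟩ := hsame b a c x y z n1.symm n3 n2 n1' n2' n3' (iff_of_false hn hx)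
      exact hRinv m _ _ _ h
    obtain ⟨n1, n2, n3⟩ := hRne _ _ _ h
    have h1 : ¬ R b c a := fun h' => hn (hRswap _ _ _ h')
    have h2 : R c b a := yes b c a n3 n1.symm n2.symm h1
    exact no _ _ _ (hRswap _ _ _ h) (hRswap _ _ _ h2 |> fun h' => h')
  -- lines
  let L : α → α → Finset α := fun a b => Finset.univ.filter fun u => u = a ∨ u = b ∨ R a b u
  have hL : ∀ a b u, u ∈ L a b ↔ u = a ∨ u = b ∨ R a b u := fun a b u => by simp [L]
  have hLcomm : ∀ a b, L a b = L b a := by
    intro a b; ext u; simp only [hL]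
    constructor <;>
    · rintro (h | h | h)
      · exact Or.inr (Or.inl h)
      · exact Or.inl h
      · exact Or.inr (Or.inr (hRsymm _ _ _ h))
  have hLstep : ∀ a b c, c ∈ L a b → c ≠ a → L a c = L a b := by
    intro a b c hc hca'
    rw [hL] at hc
    rcases hc with rfl | rfl | hc
    · exact absurd rfl hca'
    · rfl
    have hsub : ∀ b c, R a b c → ∀ u, u ∈ L a b → u ∈ L a c := by
      intro b c hc u hu
      rw [hL] at hu ⊢
      rcases hu with rfl | rfl | hu
      · exact Or.inl rfl
      · exact Or.inr (Or.inr (hRswap _ _ _ hc))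
      · by_cases h : c = u
        · exact Or.inr (Or.inl h.symm)
        · exact Or.inr (Or.inr (hRtrans _ _ _ _ hc hu h))
    ext u
    exact ⟨hsub c b (hRswap _ _ _ hc) u, hsub b c hc u⟩
  have hLeq : ∀ a b a' b', a' ∈ L a b → b' ∈ L a b → a' ≠ b' → L a' b' = L a b := by
    intro a b a' b' ha' hb' hne
    by_cases h : a' = a
    · subst h; exact hLstep _ _ _ hb' hne.symm
    · have h1 : L a a' = L a b := hLstep _ _ _ ha' h
      have h2 : L a' a = L a b := by rw [hLcomm, h1]
      have h3 : b' ∈ L a' a := h2 ▸ hb'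
      rw [hLstep _ _ _ h3 hne.symm, h2]
  have hLinv : ∀ (m : G) a b u, u ∈ L a b → m • u ∈ L (m • a) (m • b) := by
    intro m a b u hu
    rw [hL] at hu ⊢
    rcases hu with rfl | rfl | hu
    · exact Or.inl rfl
    · exact Or.inr (Or.inl rfl)
    · exact Or.inr (Or.inr (hRinv m _ _ _ hu))
  -- every line is an equilateral triple
  have hline : ∀ a b d, R a b d → (∀ d', R a b d' → d' = d) ∧
      (e.symm b - e.symm a) ^ 3 + (e.symm d - e.symm a) ^ 3 = 0 := by
    intro a b d hd
    obtain ⟨n1, n2, n3⟩ := hRne _ _ _ hd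
    set Λ := L a b with hΛ
    have haΛ : a ∈ Λ := (hL _ _ _).2 (Or.inl rfl)
    have hbΛ : b ∈ Λ := (hL _ _ _).2 (Or.inr (Or.inl rfl))
    have hdΛ : d ∈ Λ := (hL _ _ _).2 (Or.inr (Or.inr hd))
    have h3n : 3 ≤ Λ.card := by
      have : ({a, b, d} : Finset α) ⊆ Λ := by
        simp [Finset.insert_subset_iff, haΛ, hbΛ, hdΛ]
      have h' := Finset.card_le_card this
      rwa [Finset.card_insert_of_notMem (by simp [n1, n2]),
        Finset.card_insert_of_notMem (by simp [n3]), Finset.card_singleton] at h'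
    have hnp : Λ.card < p := by
      obtain ⟨k, hka, hkb⟩ := h2 a₀ b₀ a b hab n1
      have hne : Λ ≠ Finset.univ := by
        intro hu
        have := (hu ▸ Finset.mem_univ (k • d₀) : k • d₀ ∈ Λ)
        rw [hL] at this
        rcases this with h | h | h
        · exact hda (smul_left_cancel k (h.trans hka.symm))
        · exact hdb (smul_left_cancel k (h.trans hkb.symm))
        · exact hd₀ (by simpa using hRk _ _ _ k hka hkb h)
      have := Finset.card_lt_card (lt_top_iff_ne_top.mpr hne : Λ < ⊤)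
      simpa [← Nat.card_eq_fintype_card, hcard] using this
    -- centre the line
    have hn0 : (Λ.card : ZMod p) ≠ 0 := by
      rw [Ne, ZMod.natCast_eq_zero_iff]
      exact fun h => absurd (Nat.le_of_dvd (by omega) h) (by omega)
    set c : ZMod p := (∑ u ∈ Λ, e.symm u) / Λ.card with hc
    set Z : Finset (ZMod p) := Λ.image (fun u => e.symm u - c) with hZ
    have hinj : Function.Injective (fun u => e.symm u - c) := fun u v h => by simpa using h
    have hZc : Z.card = Λ.card := Finset.card_image_of_injective _ hinj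
    have hZ0 : ∑ z ∈ Z, z = 0 := by
      rw [hZ, Finset.sum_image fun u _ v _ h => hinj h, Finset.sum_sub_distrib, Finset.sum_const,
        nsmul_eq_mul, hc]
      field_simp
      ring
    let T : Finset (ZMod p) := Finset.univ.filter fun t => t ≠ 0 ∧ IsSquare t ∧ ∀ z ∈ Z, t * z ∈ Z
    have hpair : ∀ x ∈ Z, ∀ y ∈ Z, ∀ x' ∈ Z, ∀ y' ∈ Z, x ≠ y → x' ≠ y' →
        ∃ t ∈ T, (t * x = x' ∧ t * y = y') ∨ (t * x = y' ∧ t * y = x') := by
      intro x hx y hy
      suffices ∀ x' ∈ Z, ∀ y' ∈ Z, x ≠ y → x' ≠ y' → IsSquare ((y' - x') / (y - x)) →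
          ∃ t ∈ T, t * x = x' ∧ t * y = y' by
        intro x' hx' y' hy' hxy hxy'
        by_cases hs : IsSquare ((y' - x') / (y - x))
        · obtain ⟨t, ht, h⟩ := this x' hx' y' hy' hxy hxy' hs
          exact ⟨t, ht, Or.inl h⟩
        · have hs' : IsSquare ((x' - y') / (y - x)) := by
            by_contra hns'
            have hq : ringChar (ZMod p) ≠ 2 := by rw [ZMod.ringChar_zmod_n]; omega
            have e1 := quadraticChar_neg_one_iff_not_isSquare.mpr hs
            have e2 := quadraticChar_neg_one_iff_not_isSquare.mpr hns'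
            have e3 : quadraticChar (ZMod p) (-1) = -1 := by
              rw [quadraticChar_neg_one hq, ZMod.card, ZMod.χ₄_nat_three_mod_four hp3]
            rw [show (x' - y') / (y - x) = -1 * ((y' - x') / (y - x)) by ring, map_mul, e1, e3] at e2
            norm_num at e2
          obtain ⟨t, ht, h⟩ := this y' hy' x' hx' hxy hxy'.symm hs'
          exact ⟨t, ht, Or.inr h⟩
      intro x' hx' y' hy' hxy hxy' hs
      set t := (y' - x') / (y - x) with ht
      have hyx : y - x ≠ 0 := sub_ne_zero.mpr hxy.symm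
      have ht0 : t ≠ 0 := div_ne_zero (sub_ne_zero.mpr hxy'.symm) hyx
      obtain ⟨s, hs'⟩ := hsq t ht0 hs
      -- the affine map of `G` with `x ↦ x'`, `y ↦ y'` in centred coordinates
      set β : ZMod p := x' + c - t * (x + c) with hβ
      set k := g ^ β.val * s with hk
      have hkact : ∀ u, e.symm (k • u) = t * e.symm u + β := by
        intro u
        obtain ⟨i, rfl⟩ := e.surjective u
        rw [hk, mul_smul, hs', he, Equiv.symm_apply_apply, Equiv.symm_apply_apply,
          ZMod.natCast_val, ZMod.cast_id]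
      obtain ⟨ux, hux, hx₁⟩ := Finset.mem_image.mp hx
      obtain ⟨uy, huy, hy₁⟩ := Finset.mem_image.mp hy
      obtain ⟨ux', hux', hx₁'⟩ := Finset.mem_image.mp hx'
      obtain ⟨uy', huy', hy₁'⟩ := Finset.mem_image.mp hy'
      have hkx : k • ux = ux' := e.symm.injective (by
        rw [hkact, hβ]; linear_combination t * hx₁ - hx₁')
      have hty : t * y - t * x = y' - x' := by rw [ht]; field_simp
      have hky : k • uy = uy' := e.symm.injective (by
        rw [hkact, hβ]; linear_combination t * hy₁ - hy₁' + hty)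
      have hne : ux ≠ uy := fun h => hxy (by rw [← hx₁, ← hy₁, h])
      have hne' : ux' ≠ uy' := fun h => hxy' (by rw [← hx₁', ← hy₁', h])
      have hmap : ∀ u ∈ Λ, k • u ∈ Λ := by
        intro u hu
        have := hLinv k ux uy u (by rwa [hLeq a b ux uy hux huy hne])
        rwa [hkx, hky, hLeq a b ux' uy' hux' huy' hne'] at this
      have himg : Λ.image (fun u => k • u) = Λ :=
        Finset.eq_of_subset_of_card_le (Finset.image_subset_iff.mpr hmap)
          (Finset.card_image_of_injective _ (MulAction.injective k)).ge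
      -- so it fixes the centre
      have hfix : t * c + β = c := by
        have h := congrArg (fun S : Finset α => ∑ u ∈ S, e.symm u) himg
        simp only [Finset.sum_image fun u _ v _ h => MulAction.injective k h, hkact,
          Finset.sum_add_distrib, ← Finset.mul_sum, Finset.sum_const, nsmul_eq_mul] at h
        have hsum : (∑ u ∈ Λ, e.symm u) = c * Λ.card := by rw [hc]; field_simp
        rw [hsum] at h
        exact mul_right_cancel₀ hn0 (by linear_combination h)
      refine ⟨t, ?_, ?_, ?_⟩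
      · refine Finset.mem_filter.mpr ⟨Finset.mem_univ _, ht0, hs, fun z hz => ?_⟩
        obtain ⟨u, hu, rfl⟩ := Finset.mem_image.mp hz
        exact Finset.mem_image.mpr ⟨k • u, hmap u hu, by rw [hkact]; linear_combination hfix⟩
      · linear_combination -hfix + hβ
      · linear_combination hty - hfix + hβ
    -- zero is not on the line
    have h0 : (0 : ZMod p) ∉ Z := by
      intro h0
      obtain ⟨x, hx, hx0⟩ := Finset.exists_mem_ne (by omega : 1 < Z.card) 0
      obtain ⟨y, hy, hy0, hyx⟩ : ∃ y ∈ Z, y ≠ 0 ∧ y ≠ x := by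
        have : ¬ Z ⊆ {0, x} := fun h => by
          have := (Finset.card_le_card h).trans Finset.card_le_two; omega
        obtain ⟨y, hy, hy'⟩ := Finset.not_subset.mp this
        simp at hy'
        exact ⟨y, hy, hy'.1, hy'.2⟩
      obtain ⟨t, -, ⟨h, -⟩ | ⟨h, -⟩⟩ := hpair 0 h0 x hx x hx y hy hx0.symm hyx.symm
      · exact hx0 (by rw [← h, mul_zero])
      · exact hy0 (by rw [← h, mul_zero])
    obtain ⟨x, hx⟩ := Finset.card_pos.mp (by omega : 0 < Z.card)
    obtain ⟨y, hy, hyx⟩ := Finset.exists_mem_ne (by omega : 1 < Z.card) x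
    have hx0 : x ≠ 0 := fun h => h0 (h ▸ hx)
    have hT1 : T.card ≤ Z.card := Finset.card_le_card_of_injOn (fun t => t * x)
      (fun t ht => (Finset.mem_filter.mp ht).2.2.2 x hx)
      (fun t _ t' _ h => mul_right_cancel₀ hx0 h)
    have hT2 : Z.offDiag ⊆ (T ×ˢ (Finset.univ : Finset Bool)).image
        (fun q => if q.2 then (q.1 * x, q.1 * y) else (q.1 * y, q.1 * x)) := by
      rintro ⟨x', y'⟩ h
      obtain ⟨hx', hy', hne⟩ := Finset.mem_offDiag.mp h
      obtain ⟨t, ht, ⟨h₁, h₂⟩ | ⟨h₁, h₂⟩⟩ := hpair x hx y hy x' hx' y' hy' hyx.symm hne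
      · exact Finset.mem_image.mpr ⟨(t, true), by simp [ht], by simp [h₁, h₂]⟩
      · exact Finset.mem_image.mpr ⟨(t, false), by simp [ht], by simp [h₁, h₂]⟩
    have hT3 := (Finset.card_le_card hT2).trans Finset.card_image_le
    rw [Finset.offDiag_card, Finset.card_product, Finset.card_univ, Fintype.card_bool] at hT3
    have hn3 : Λ.card = 3 := by
      by_contra hne
      have h4 : 4 ≤ Z.card := by omega
      have : 4 * Z.card ≤ Z.card * Z.card := Nat.mul_le_mul_right _ h4
      omega
    have huniq : ∀ u ∈ Λ, u = a ∨ u = b ∨ u = d := by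
      have heq : ({a, b, d} : Finset α) = Λ := Finset.eq_of_subset_of_card_le
        (by simp [Finset.insert_subset_iff, haΛ, hbΛ, hdΛ])
        (by rw [hn3, Finset.card_insert_of_notMem (by simp [n1, n2]),
          Finset.card_insert_of_notMem (by simp [n3]), Finset.card_singleton])
      intro u hu
      rw [← heq] at hu
      simpa using hu
    refine ⟨fun d' hd' => ?_, ?_⟩
    · obtain ⟨-, n2', n3'⟩ := hRne _ _ _ hd'
      rcases huniq d' ((hL _ _ _).2 (Or.inr (Or.inr hd'))) with h | h | h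
      · exact absurd h.symm n2'
      · exact absurd h.symm n3'
      · exact h
    -- a multiplier other than one kills the sum of squares
    rw [show Z.card = 3 from hZc.trans hn3] at hT3
    obtain ⟨t, ht, ht1⟩ := Finset.exists_mem_ne (show 1 < T.card by omega) (1 : ZMod p)
    obtain ⟨-, ht0, hts, htZ⟩ := Finset.mem_filter.mp ht
    have htimg : Z.image (fun z => t * z) = Z :=
      Finset.eq_of_subset_of_card_le (Finset.image_subset_iff.mpr htZ)
        (Finset.card_image_of_injective _ (mul_right_injective₀ ht0)).ge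
    have hsq0 : ∑ z ∈ Z, z ^ 2 = 0 := by
      have h := congrArg (fun S : Finset (ZMod p) => ∑ z ∈ S, z ^ 2) htimg
      simp only [Finset.sum_image fun u _ v _ h => mul_right_injective₀ ht0 h, mul_pow,
        ← Finset.mul_sum] at h
      have ht2 : t ^ 2 ≠ 1 := by
        intro h'
        rcases sq_eq_one_iff.mp h' with h' | h'
        · exact ht1 h'
        · subst h'
          exact absurd (FiniteField.isSquare_neg_one_iff.mp hts) (by rw [ZMod.card]; omega)
      have : (t ^ 2 - 1) * ∑ z ∈ Z, z ^ 2 = 0 := by linear_combination h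
      exact (mul_eq_zero.mp this).resolve_left (sub_ne_zero.mpr ht2)
    have hΛeq : ({a, b, d} : Finset α) = Λ := Finset.eq_of_subset_of_card_le
      (by simp [Finset.insert_subset_iff, haΛ, hbΛ, hdΛ])
      (by rw [hn3, Finset.card_insert_of_notMem (by simp [n1, n2]),
        Finset.card_insert_of_notMem (by simp [n3]), Finset.card_singleton])
    rw [hZ, Finset.sum_image fun u _ v _ h => hinj h, ← hΛeq,
      Finset.sum_insert (by simp [n1, n2]), Finset.sum_insert (by simp [n3]),
      Finset.sum_singleton] at hsq0 hZ0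
    have h2' : (2 : ZMod p) ≠ 0 := by
      intro h
      have h' : ((2 : ℕ) : ZMod p) = 0 := by exact_mod_cast h
      rw [ZMod.natCast_eq_zero_iff] at h'
      exact absurd (Nat.le_of_dvd (by norm_num) h') (by omega)
    refine (mul_eq_zero.mp ?_).resolve_left h2'
    linear_combination ((e.symm b - e.symm a) + (e.symm d - e.symm a)) *
      (3 * hsq0 - ((e.symm a - c) + (e.symm b - c) + (e.symm d - c)) * hZ0)
  -- the triangle stabiliser is trivial
  have hnR : ¬ R a₀ b₀ d₀ := fun h => hd₀ (by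
    simpa using hRk _ _ _ 1 (one_smul _ _) (one_smul _ _) h)
  have htriv : ∀ k : G, k • a₀ = a₀ → k • b₀ = b₀ → k • d₀ = d₀ → k = 1 := by
    intro k ha hb hd
    refine eq_of_smul_eq_smul (α := α) fun u => ?_
    rw [one_smul]
    let F : Finset α := Finset.univ.filter fun u => k • u = u
    let X : Finset (ZMod p) := F.image e.symm
    have hX : X.card = F.card := Finset.card_image_of_injective _ e.symm.injective
    have hRc : R a₀ b₀ c₀ := ⟨hcb, 1, one_smul _ _, one_smul _ _, by simpa using hc₀⟩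
    have hthird : ∀ a b, a ≠ b → ∃ d, R a b d := fun a b h => by
      obtain ⟨m, rfl, rfl⟩ := h2 a₀ b₀ a b hab h
      exact ⟨m • c₀, hRinv m _ _ _ hRc⟩
    have hfixR : ∀ a b d, k • a = a → k • b = b → R a b d → k • d = d := by
      intro a b d hka hkb h
      have := hRinv k _ _ _ h
      rw [hka, hkb] at this
      exact (hline _ _ _ h).1 _ this
    have hc : k • c₀ = c₀ := hfixR _ _ _ ha hb hRc
    have h4 : 3 < F.card := by
      have : ({a₀, b₀, c₀, d₀} : Finset α) ⊆ F := by
        simp [Finset.insert_subset_iff, F, ha, hb, hc, hd]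
      have h' := Finset.card_le_card this
      rw [Finset.card_insert_of_notMem (by simp [hab, hca.symm, hda.symm]),
        Finset.card_insert_of_notMem (by simp [hcb.symm, hdb.symm]),
        Finset.card_insert_of_notMem (by simp [hdc.symm]), Finset.card_singleton] at h'
      omega
    choose! σ₀ hσ₀ using hthird
    let σ : ZMod p → ZMod p → ZMod p := fun a x => e.symm (σ₀ (e a) (e x))
    have hXp : X.card = p := by
      refine card_eq_of_cubic_closed X (hX ▸ h4) σ fun a ha' x hx' hxa => ?_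
      have hmem : ∀ i, i ∈ X ↔ k • e i = e i := fun i => by simp [X, F, Equiv.symm_apply_eq]
      have hne : e a ≠ e x := fun h => hxa (e.injective h).symm
      have hR := hσ₀ _ _ hne
      obtain ⟨-, n2, n3⟩ := hRne _ _ _ hR
      refine ⟨(hmem _).mpr ?_, ?_, ?_, ?_, ?_⟩
      · simp only [σ, Equiv.apply_symm_apply]
        exact hfixR _ _ _ ((hmem _).mp ha') ((hmem _).mp hx') hR
      · exact fun h => n2 ((by simpa [σ, Equiv.symm_apply_eq] using h : σ₀ (e a) (e x) = e a).symm)
      · exact fun h => n3 ((by simpa [σ, Equiv.symm_apply_eq] using h : σ₀ (e a) (e x) = e x).symm)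
      · simp only [σ, Equiv.apply_symm_apply]
        rw [(hline _ _ _ (hRswap _ _ _ hR)).1 _ (hσ₀ _ _ n2), Equiv.symm_apply_apply]
      · simpa [σ] using (hline _ _ _ hR).2
    have hF : F = Finset.univ := Finset.eq_univ_of_card _ (by
      rw [← Nat.card_eq_fintype_card, hcard, ← hX, hXp])
    have := hF ▸ Finset.mem_univ u
    simpa [F] using this
  -- order of the group
  let S := stabilizer G a₀ ⊓ stabilizer G b₀
  have hLcard : (L a₀ b₀).card = 3 := by
    have hRc : R a₀ b₀ c₀ := ⟨hcb, 1, one_smul _ _, one_smul _ _, by simpa using hc₀⟩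
    have : L a₀ b₀ = {a₀, b₀, c₀} := by
      ext u
      simp only [hL, Finset.mem_insert, Finset.mem_singleton]
      exact ⟨fun h => h.imp_right (Or.imp_right ((hline _ _ _ hRc).1 u)),
        fun h => h.imp_right (Or.imp_right fun h => by subst h; exact hRc)⟩
    rw [this, Finset.card_insert_of_notMem (by simp [hab, hca.symm]),
      Finset.card_insert_of_notMem (by simp [hcb.symm]), Finset.card_singleton]
  have hS : Nat.card S = p - 3 := by
    let f : S → {u : α // u ∉ L a₀ b₀} := fun k => ⟨(k : G) • d₀, fun h => by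
      have := hLinv (k : G)⁻¹ _ _ _ h
      rw [inv_smul_smul, inv_smul_eq_iff.mpr k.2.1.symm, inv_smul_eq_iff.mpr k.2.2.symm, hL] at this
      rcases this with h | h | h
      exacts [hda h, hdb h, hnR h]⟩
    have hf : Function.Bijective f := by
      constructor
      · intro k k' h
        have h' : (k : G) • d₀ = (k' : G) • d₀ := congrArg Subtype.val h
        refine Subtype.ext (inv_mul_eq_one.mp (htriv _ ?_ ?_ ?_))
        · exact (k⁻¹ * k').2.1
        · exact (k⁻¹ * k').2.2
        · rw [mul_smul, ← h', inv_smul_smul]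
      · rintro ⟨u, hu⟩
        rw [hL] at hu
        push Not at hu
        obtain ⟨m, hma, hmb, hmd⟩ := horb d₀ u hda hdb hu.1 hu.2.1
          (iff_of_false hd₀ fun h => hu.2.2 ⟨hu.2.1, 1, one_smul _ _, one_smul _ _, by simpa using h⟩)
        exact ⟨⟨m, hma, hmb⟩, Subtype.ext hmd⟩
    rw [Nat.card_eq_of_bijective f hf, Nat.card_eq_fintype_card, Fintype.card_subtype_compl,
      Fintype.card_coe, hLcard, ← Nat.card_eq_fintype_card, hcard]
  have hG : Nat.card G = p * ((p - 1) * (p - 3)) := by
    let f : G → {q : α × α // q.1 ≠ q.2} :=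
      fun k => ⟨(k • a₀, k • b₀), fun h => hab (smul_left_cancel k h)⟩
    have hsurj : Function.Surjective f := by
      rintro ⟨⟨a, b⟩, h⟩
      obtain ⟨k, hk, hk'⟩ := h2 a₀ b₀ a b hab h
      exact ⟨k, Subtype.ext (by simp [f, hk, hk'])⟩
    obtain ⟨r, hr⟩ := hsurj.hasRightInverse
    let φ : G ≃ {q : α × α // q.1 ≠ q.2} × S :=
      { toFun := fun k => (f k, ⟨(r (f k))⁻¹ * k, by
          have h := congrArg Subtype.val (hr (f k))
          simp [f, Prod.ext_iff] at h
          exact ⟨mem_stabilizer_iff.mpr (by rw [mul_smul, inv_smul_eq_iff, h.1]),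
            mem_stabilizer_iff.mpr (by rw [mul_smul, inv_smul_eq_iff, h.2])⟩⟩)
        invFun := fun q => r q.1 * q.2
        left_inv := fun k => by simp
        right_inv := fun q => by
          have h1 : f (r q.1 * q.2) = q.1 := by
            refine Eq.trans (Subtype.ext ?_) (hr q.1)
            have ha : (q.2 : G) • a₀ = a₀ := q.2.2.1
            have hb : (q.2 : G) • b₀ = b₀ := q.2.2.2
            simp [f, mul_smul, ha, hb]
          ext1
          · exact h1
          · exact Subtype.ext (by simp [h1]) }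
    rw [Nat.card_congr φ, Nat.card_prod, hS]
    have : Nat.card {q : α × α // q.1 ≠ q.2} = p * (p - 1) := by
      rw [Nat.card_eq_fintype_card, Fintype.card_subtype]
      have : (Finset.univ.filter fun q : α × α => q.1 ≠ q.2) = Finset.univ.offDiag := by ext; simp
      rw [this, Finset.offDiag_card, Finset.card_univ, ← Nat.card_eq_fintype_card, hcard,
        Nat.mul_sub, mul_one]
    rw [this, mul_assoc]
  -- Sylow
  have hn : Nat.card (Sylow p G) = 2 * (p - 3) := by
    have h := (Subgroup.normalizer ((P : Subgroup G) : Set G)).index_mul_card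
    have hidx : Nat.card (Sylow p G) = (Subgroup.normalizer ((P : Subgroup G) : Set G)).index :=
      P.card_eq_index_normalizer
    rw [← hidx, hG] at h
    have h' : p * (p - 1) * Nat.card (Sylow p G) = p * (p - 1) * (2 * (p - 3)) := by
      calc p * (p - 1) * Nat.card (Sylow p G)
          = 2 * (Nat.card (Sylow p G) * Nat.card (Subgroup.normalizer ((P : Subgroup G) : Set G))) := by
            rw [← hN]; ring
        _ = _ := by rw [h]; ring
    exact Nat.eq_of_mul_eq_mul_left (Nat.mul_pos hp.pos (by omega)) h'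
  haveI : Finite (Sylow p G) := inferInstance
  have hmod := card_sylow_modEq_one p G
  rw [hn, ← ZMod.natCast_eq_natCast_iff] at hmod
  push_cast [Nat.cast_sub (show 3 ≤ p by omega), ZMod.natCast_self] at hmod
  have h7 : ((7 : ℕ) : ZMod p) = 0 := by push_cast; linear_combination -hmod
  rw [ZMod.natCast_eq_zero_iff] at h7
  exact absurd (Nat.le_of_dvd (by norm_num) h7) (by omega)

end CfsgLib.PrimeDegree
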