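/-
An even group of degree `p + 1` properly containing a two-transitive group with the local structure
of `PSL(2, p)` is four-fold transitive.
-/
import Mathlib
import Cfsg.Agent.S0676
import Cfsg.Agent.Suzuki.GroupLemmas
import Cfsg.Agent.Perm.PrimeDegreeSteiner
import Cfsg.Agent.Perm.DihedralOrbitals

set_option autoImplicit false

namespace CfsgLib.PrimeDegree

open MulAction

variable {p : ℕ} [Fact p.Prime]

/-- Multiplication by a nonsquare is an odd permutation. -/
theorem sign_mulLeft_nonsquare (hp2 : p ≠ 2) (r : ZMod p) (hr : r ≠ 0) (hns : ¬ IsSquare r) :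
    Equiv.Perm.sign (Equiv.mulLeft₀ r hr) = -1 := by
  classical
  obtain ⟨ν, hν⟩ := IsCyclic.exists_generator (α := (ZMod p)ˣ)
  obtain ⟨k, hk⟩ := mem_powers_iff_mem_zpowers.mpr (hν (Units.mk0 r hr))
  simp only at hk
  have hkodd : Odd k := by
    rcases Nat.even_or_odd k with ⟨j, rfl⟩ | h
    · exact absurd ⟨(ν : ZMod p) ^ j, by rw [← pow_add, ← Units.val_pow_eq_pow_val, hk]; rfl⟩ hns
    · exact h
  set σ : Equiv.Perm (ZMod p) := Equiv.mulLeft₀ (ν : ZMod p) ν.ne_zero
  have hσn : ∀ (n : ℕ) (i : ZMod p), (σ ^ n) i = (ν : ZMod p) ^ n * i := by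
    intro n
    induction n with
    | zero => simp
    | succ n ih =>
      intro i
      rw [pow_succ', Equiv.Perm.mul_apply, ih]
      simp [σ, pow_succ']
      ring
  have hpow : Equiv.mulLeft₀ r hr = σ ^ k := by
    ext i
    rw [hσn, ← Units.val_pow_eq_pow_val, hk]
    rfl
  have h1ν : (ν : ZMod p) ≠ 1 := by
    intro h1
    have : ν = 1 := Units.ext h1
    have h2 := hν (-1)
    rw [this, Subgroup.zpowers_one_eq_bot, Subgroup.mem_bot] at h2
    have h3 : (-1 : ZMod p) = 1 := by simpa using congrArg Units.val h2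
    have h4 : ((2 : ℕ) : ZMod p) = 0 := by push_cast; linear_combination -h3
    rw [ZMod.natCast_eq_zero_iff] at h4
    exact hp2 ((Nat.prime_dvd_prime_iff_eq Fact.out Nat.prime_two).mp h4)
  have hcyc : σ.IsCycle := by
    refine ⟨1, by simpa [σ] using h1ν, fun y hy => ?_⟩
    have hy0 : y ≠ 0 := fun h => hy (by simp [σ, h])
    obtain ⟨j, hj⟩ := mem_powers_iff_mem_zpowers.mpr (hν (Units.mk0 y hy0))
    simp only at hj
    refine ⟨(j : ℤ), ?_⟩
    rw [zpow_natCast, hσn, mul_one, ← Units.val_pow_eq_pow_val, hj]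
    rfl
  have hsupp : σ.support = Finset.univ.erase 0 := by
    ext i
    simp [σ, Equiv.Perm.mem_support, mul_left_eq_self₀, h1ν]
  have hsig : Equiv.Perm.sign σ = -1 := by
    rw [hcyc.sign, hsupp, Finset.card_erase_of_mem (Finset.mem_univ _), Finset.card_univ, ZMod.card]
    have : Even (p - 1) := by
      obtain ⟨m, hm⟩ := (Fact.out : p.Prime).odd_of_ne_two hp2
      exact ⟨m, by omega⟩
    rw [this.neg_one_pow]
  rw [hpow, map_pow, hsig, hkodd.neg_one_pow]

variable {G α : Type*} [Group G] [Finite G] [MulAction G α] [FaithfulSMul G α] [IsPretransitive G α]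

/-- An element normalising the chart's translations is affine. -/
theorem affine_of_conj_mem {g : G} {e : ZMod p ≃ α}
    (he : ∀ (n : ℕ) (j : ZMod p), g ^ n • e j = e (j + n)) (n : G)
    (hconj : n * g * n⁻¹ ∈ Subgroup.zpowers g) :
    ∃ b r : ZMod p, r ≠ 0 ∧ ∀ i, n • e i = e (b + r * i) := by
  classical
  obtain ⟨r, hr⟩ : ∃ r : ℕ, n * g * n⁻¹ = g ^ r := by
    obtain ⟨k, -, hk⟩ := Finset.mem_image.mp (mem_zpowers_iff_mem_range_orderOf.mp hconj)
    exact ⟨k, hk.symm⟩
  have hstep : ∀ i : ZMod p, n • e (i + 1) = g ^ r • (n • e i) := by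
    intro i
    have : e (i + 1) = g ^ 1 • e i := by rw [he]; norm_num
    rw [this, pow_one, ← hr, mul_smul, mul_smul, inv_smul_smul]
  set b := e.symm (n • e 0) with hb
  have hlin : ∀ i : ZMod p, n • e i = e (b + r * i) := by
    suffices ∀ k : ℕ, n • e (k : ZMod p) = e (b + r * k) by
      intro i
      have := this i.val
      rwa [ZMod.natCast_val, ZMod.cast_id] at this
    intro k
    induction k with
    | zero => simp [hb]
    | succ k ih => rw [Nat.cast_succ, hstep, ih, he]; congr 1; ring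
  refine ⟨b, r, fun h0 => ?_, hlin⟩
  have h01 : n • e 0 = n • e 1 := by rw [hlin, hlin, h0, zero_mul, zero_mul]
  exact zero_ne_one (e.injective (smul_left_cancel _ h01))

/-- In a soluble group of prime degree every cycle of length `p` generates a normal subgroup. -/
theorem conj_mem_of_solvable (hcard : Nat.card α = p) (hs : Group.IsSolvable G) {g : G}
    (hg : orderOf g = p) (n : G) : n * g * n⁻¹ ∈ Subgroup.zpowers g := by
  classical
  haveI := hs
  have hp := (Fact.out : p.Prime)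
  haveI : Finite α := Nat.finite_of_card_ne_zero (by rw [hcard]; exact hp.ne_zero)
  haveI : Fintype α := Fintype.ofFinite α
  haveI : Nontrivial G := ⟨g, 1, fun h => hp.one_lt.ne (by rw [← hg, h, orderOf_one])⟩
  obtain ⟨A, hAn, hA1, hAc⟩ := CfsgLib.Suzuki.exists_abelian_normal (Γ := G)
  haveI : IsPreprimitive G α := IsPreprimitive.of_prime_card (by rwa [hcard])
  have hfix : fixedPoints A α ≠ Set.univ := by
    intro h
    apply hA1
    rw [Subgroup.eq_bot_iff_forall]
    intro a ha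
    refine eq_of_smul_eq_smul (α := α) fun x => ?_
    rw [one_smul]
    have hx : x ∈ fixedPoints A α := h ▸ Set.mem_univ x
    exact hx ⟨a, ha⟩
  haveI : IsPretransitive A α := IsQuasiPreprimitive.isPretransitive_of_normal hfix
  obtain ⟨x₀⟩ : Nonempty α := (Nat.card_pos_iff.mp (hcard ▸ hp.pos)).1
  have hAcard : Nat.card A = p := by
    rw [← hcard]
    refine Nat.card_eq_of_bijective (fun a : A => a • x₀) ⟨fun a b hab => ?_, exists_smul_eq A x₀⟩
    refine Subtype.ext (eq_of_smul_eq_smul (α := α) fun x => ?_)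
    obtain ⟨d, rfl⟩ := exists_smul_eq A x₀ x
    show (a : G) • ((d : G) • x₀) = (b : G) • ((d : G) • x₀)
    rw [← mul_smul, ← mul_smul, hAc _ a.2 _ d.2, hAc _ b.2 _ d.2, mul_smul, mul_smul]
    exact congrArg _ hab
  have hfac : (Nat.card G).factorization p = 1 := by
    have h1 : Nat.card G ∣ p.factorial := by
      have := Subgroup.card_dvd_of_injective (toPermHom G α) toPerm_injective
      rwa [Nat.card_perm, hcard] at this
    have h2 : ¬ p ^ 2 ∣ p.factorial := by
      intro h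
      rw [← Nat.mul_factorial_pred hp.ne_zero, pow_two] at h
      have := (hp.dvd_factorial).mp (Nat.dvd_of_mul_dvd_mul_left hp.pos h)
      have := hp.pos
      omega
    have h3 : p ∣ Nat.card G := hg ▸ orderOf_dvd_natCard g
    have h4 : ¬ p ^ 2 ∣ Nat.card G := fun h => h2 (h.trans h1)
    rw [Nat.Prime.pow_dvd_iff_le_factorization hp Nat.card_pos.ne'] at h4
    have h5 := hp.factorization_pos_of_dvd Nat.card_pos.ne' h3
    omega
  let Q : Sylow p G := Sylow.ofCard (Subgroup.zpowers g) (by rw [hfac, pow_one, Nat.card_zpowers, hg])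
  let QA : Sylow p G := Sylow.ofCard A (by rw [hfac, pow_one, hAcard])
  haveI : (QA : Subgroup G).Normal := hAn
  have : (Subgroup.zpowers g : Subgroup G) = A := by
    haveI := Sylow.unique_of_normal QA hAn
    exact congrArg (fun S : Sylow p G => (S : Subgroup G)) (Subsingleton.elim Q QA)
  rw [this]
  exact hAn.conj_mem g (this ▸ Subgroup.mem_zpowers g) n

/-- An insoluble group of prime degree with a Sylow normaliser of even order is three-transitive. -/
theorem three_transitive_of_even_normalizer [Fintype α] (hcard : Nat.card α = p)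
    (hns : ¬ Group.IsSolvable G) (P : Sylow p G)
    (heven : Even (Nat.card (Subgroup.normalizer ((P : Subgroup G) : Set G)))) :
    IsMultiplyPretransitive G α 3 := by
  classical
  have hinj : Function.Injective (toPermHom G α) := toPerm_injective
  let φ := MonoidHom.ofInjective hinj
  haveI : IsPretransitive (toPermHom G α).range α := ⟨fun a b => by
    obtain ⟨k, hk⟩ := exists_smul_eq G a b
    exact ⟨φ k, hk⟩⟩
  have hns' : ¬ Group.IsSolvable (toPermHom G α).range := fun h =>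
    hns (solvable_of_solvable_injective (f := φ.toMonoidHom) φ.injective)
  let P' : Sylow p (toPermHom G α).range := P.mapSurjective (f := φ.toMonoidHom) φ.surjective
  have h : (Subgroup.normalizer ((P : Subgroup G) : Set G)).map φ.toMonoidHom =
      Subgroup.normalizer (((P : Subgroup G).map φ.toMonoidHom : Subgroup _) : Set (toPermHom G α).range) :=
    Subgroup.map_equiv_normalizer_eq _ φ
  have heven' : Even (Nat.card (Subgroup.normalizer
      ((P' : Subgroup (toPermHom G α).range) : Set (toPermHom G α).range))) := by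
    have hP' : (P' : Subgroup (toPermHom G α).range) = (P : Subgroup G).map φ.toMonoidHom := rfl
    rwa [hP', ← h, Subgroup.card_map_of_injective (f := φ.toMonoidHom) φ.injective]
  have h3t := Cfsg.Agent.S0676.result (α := α) (p := p) (by rw [← Nat.card_eq_fintype_card, hcard])
    (toPermHom G α).range hns' P' heven'
  exact ⟨fun f f' => by
    obtain ⟨⟨_, k, rfl⟩, hk⟩ := h3t.exists_smul_eq f f'
    exact ⟨k, DFunLike.ext _ _ fun i => by simpa using DFunLike.congr_fun hk i⟩⟩

/-- The sign of an element of a point stabiliser acting as a multiplication in a chart. -/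
theorem sign_point_stabilizer {X Ω : Type*} [Group X] [MulAction X Ω] [Fintype Ω] [DecidableEq Ω]
    (hp2 : p ≠ 2) (ω : Ω) (e : ZMod p ≃ SubMulAction.ofStabilizer X ω) (r : ZMod p) (hr : r ≠ 0)
    (m : stabilizer X ω) (hm : ∀ i, m • e i = e (r * i)) :
    Equiv.Perm.sign (MulAction.toPerm (m : X) : Equiv.Perm Ω) =
      Equiv.Perm.sign (Equiv.mulLeft₀ r hr) := by
  classical
  have hmω : (m : X) • ω = ω := m.2
  have hsub : ∀ x : Ω, x ≠ ω ↔ (m : X) • x ≠ ω := fun x =>
    ⟨fun h1 h2 => h1 (smul_left_cancel (m : X) (h2.trans hmω.symm)),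
      fun h1 h2 => h1 (h2 ▸ hmω)⟩
  rw [← Equiv.Perm.sign_subtypePerm (MulAction.toPerm (m : X)) (p := fun x => x ≠ ω)
    (fun x => (hsub x).symm) (fun x hx hxω => hx (by subst hxω; exact hmω))]
  exact Equiv.Perm.sign_eq_sign_of_equiv _ _
    ((Equiv.subtypeEquivRight fun _ => Iff.rfl :
      {u : Ω // u ≠ ω} ≃ SubMulAction.ofStabilizer X ω).trans e.symm)
    (fun x => by
      obtain ⟨i, hi⟩ := e.surjective ⟨x.1, x.2⟩
      have hxi : x = ⟨(e i : Ω), (e i).2⟩ := Subtype.ext (congrArg Subtype.val hi.symm)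
      subst hxi
      show e.symm (m • e i) = r * e.symm (e i)
      rw [hm, Equiv.symm_apply_apply, Equiv.symm_apply_apply])

/-- An even group of degree `p + 1` properly containing a two-transitive group of order
`(p + 1) p (p - 1) / 2` whose `p'`-elements are inverted by involutions is four-transitive. -/
theorem four_transitive_of_subgroup {X Ω : Type*} [Group X] [Finite X] [MulAction X Ω]
    [FaithfulSMul X Ω] [Fintype Ω] [DecidableEq Ω] (hp7 : 7 < p) (hΩ : Fintype.card Ω = p + 1)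
    (heven : ∀ x : X, Equiv.Perm.sign (MulAction.toPerm x : Equiv.Perm Ω) = 1)
    (L : Subgroup X) (hLcard : 2 * Nat.card L = (p + 1) * (p * (p - 1)))
    (hinvert : ∀ c : L, ¬ orderOf c ∣ p → ∃ w : L, w * w = 1 ∧ w * c * w⁻¹ = c⁻¹)
    (hLt : IsMultiplyPretransitive L Ω 2) (hLX : L ≠ ⊤) :
    IsMultiplyPretransitive X Ω 4 := by
  classical
  have hp := (Fact.out : p.Prime)
  have hp2 : p ≠ 2 := by omega
  obtain ⟨h, hph⟩ : ∃ h, p = 2 * h + 1 := by
    obtain ⟨k, hk⟩ := hp.odd_of_ne_two hp2; exact ⟨k, hk⟩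
  haveI : IsPretransitive L Ω := ⟨fun a b => by
    obtain ⟨c, hc⟩ : ∃ c, c ≠ a := Fintype.exists_ne_of_one_lt_card (by omega) a
    obtain ⟨d, hd⟩ : ∃ d, d ≠ b := Fintype.exists_ne_of_one_lt_card (by omega) b
    have h2 : ∀ {a b c d : Ω}, a ≠ b → c ≠ d → ∃ k : L, k • a = c ∧ k • b = d :=
      is_two_pretransitive_iff.mp hLt
    obtain ⟨k, hk, -⟩ := h2 hc.symm hd.symm
    exact ⟨k, hk⟩⟩
  haveI : IsPretransitive X Ω := ⟨fun a b => by
    obtain ⟨k, hk⟩ := exists_smul_eq L a b; exact ⟨k, hk⟩⟩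
  have hLx : ∀ x : Ω, Nat.card (stabilizer L x) = p * h := by
    intro x
    have h1 := (stabilizer L x).index_mul_card
    rw [index_stabilizer_of_transitive L x, Nat.card_eq_fintype_card, hΩ] at h1
    have h2 : 2 * ((p + 1) * Nat.card (stabilizer L x)) = 2 * ((p + 1) * (p * h)) := by
      rw [h1, hLcard, show p - 1 = 2 * h by omega]; ring
    exact Nat.eq_of_mul_eq_mul_left (by omega) (Nat.eq_of_mul_eq_mul_left (by omega) h2)
  obtain ⟨ω⟩ : Nonempty Ω := Fintype.card_pos_iff.mp (by omega)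
  let G := stabilizer X ω
  let Ω' := SubMulAction.ofStabilizer X ω
  letI : Fintype Ω' := Fintype.ofFinite _
  have hΩ' : Nat.card Ω' = p := by
    rw [Nat.card_congr (Equiv.subtypeEquivRight fun _ => Iff.rfl : Ω' ≃ {u : Ω // u ≠ ω}),
      Nat.card_eq_fintype_card, Fintype.card_subtype_compl, Fintype.card_subtype_eq, hΩ]
    omega
  haveI hfaith : FaithfulSMul G Ω' := ⟨fun {k k'} hk => Subtype.ext (eq_of_smul_eq_smul (α := Ω) fun u => by
    by_cases hu : u = ω
    · subst hu; exact k.2.trans k'.2.symm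
    · exact congrArg Subtype.val (hk ⟨u, hu⟩))⟩
  let LG : Subgroup G := L.subgroupOf G
  haveI : IsPretransitive LG Ω' := ⟨fun a b => by
    obtain ⟨k, hk, hk'⟩ := is_two_pretransitive_iff.mp hLt a.2 b.2
    exact ⟨⟨⟨(k : X), hk'⟩, k.2⟩, Subtype.ext hk⟩⟩
  haveI : IsPretransitive G Ω' := ⟨fun a b => by
    obtain ⟨k, hk⟩ := exists_smul_eq LG a b; exact ⟨k, hk⟩⟩
  let ι : LG ≃ stabilizer L ω :=
    { toFun := fun k => ⟨⟨((k : G) : X), k.2⟩, (k : G).2⟩
      invFun := fun k => ⟨⟨((k : L) : X), k.2⟩, (k : L).2⟩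
      left_inv := fun _ => rfl
      right_inv := fun _ => rfl }
  have hLGcard : Nat.card LG = p * h := by rw [Nat.card_congr ι, hLx]
  have hph' : ¬ p ∣ h := fun hd => by have := Nat.le_of_dvd (by omega) hd; omega
  obtain ⟨PL⟩ : Nonempty (Sylow p LG) := inferInstance
  have hPLcard : Nat.card PL = p := by
    rw [Sylow.card_eq_multiplicity, hLGcard, Nat.factorization_mul hp.ne_zero (by omega),
      Finsupp.add_apply, hp.factorization_self, Nat.factorization_eq_zero_of_not_dvd hph', add_zero, pow_one]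
  have hNL : 2 * Nat.card (Subgroup.normalizer ((PL : Subgroup LG) : Set LG)) = p * (p - 1) := by
    have hidx : (PL : Subgroup LG).index = h := by
      have := (PL : Subgroup LG).index_mul_card
      rw [hPLcard, hLGcard, mul_comm] at this
      exact Nat.eq_of_mul_eq_mul_left hp.pos this
    have hle : Nat.card (Sylow p LG) ≤ h :=
      Nat.le_of_dvd (by omega) (hidx ▸ PL.card_dvd_index)
    have hone : Nat.card (Sylow p LG) = 1 := by
      have hm := card_sylow_modEq_one p LG
      rwa [Nat.ModEq, Nat.mod_eq_of_lt (by omega), Nat.mod_eq_of_lt hp.one_lt] at hm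
    have hi : (Subgroup.normalizer ((PL : Subgroup LG) : Set LG)).index = 1 := by
      have hidx' : Nat.card (Sylow p LG) = (Subgroup.normalizer ((PL : Subgroup LG) : Set LG)).index :=
        PL.card_eq_index_normalizer
      rw [← hidx', hone]
    rw [Subgroup.index_eq_one.mp hi, Subgroup.card_top, hLGcard, hph]
    simp [Nat.succ_sub_one]; ring
  obtain ⟨g₀, e, hg₀o, hg₀P, he₀, hsq₀⟩ := exists_square_mults hΩ' PL hNL
  let g : G := (g₀ : G)
  have he : ∀ (n : ℕ) (j : ZMod p), g ^ n • e j = e (j + n) := fun n j => he₀ n j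
  have hgo : orderOf g = p := by rw [Subgroup.orderOf_coe, hg₀o]
  have hsqL : ∀ t : ZMod p, t ≠ 0 → IsSquare t →
      ∃ s : G, s ∈ LG ∧ ∀ i, s • e i = e (t * i) := fun t ht ht' => by
    obtain ⟨s, hs⟩ := hsq₀ t ht ht'
    exact ⟨s, s.2, hs⟩
  have hsq : ∀ t : ZMod p, t ≠ 0 → IsSquare t → ∃ s : G, ∀ i, s • e i = e (t * i) := fun t ht ht' => by
    obtain ⟨s, -, hs⟩ := hsqL t ht ht'
    exact ⟨s, hs⟩
  -- the normaliser of the translations is the stabiliser in `L`
  have hcardL' : 2 * Nat.card LG = p * (p - 1) := by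
    rw [hLGcard, show p - 1 = 2 * h by omega]; ring
  have hnorm : ∀ n : G, n * g * n⁻¹ ∈ Subgroup.zpowers g → n ∈ LG := by
    intro n hn
    obtain ⟨b, r, hr, hnr⟩ := affine_of_conj_mem he n hn
    let m : G := g ^ (-b).val * n
    have hm : ∀ i, m • e i = e (r * i) := fun i => by
      rw [mul_smul, hnr, he, ZMod.natCast_val, ZMod.cast_id]; congr 1; ring
    have hrs : IsSquare r := by
      by_contra hns'
      have hsign := heven (m : X)
      rw [sign_point_stabilizer hp2 ω e r hr m hm, sign_mulLeft_nonsquare hp2 r hr hns'] at hsign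
      exact absurd hsign (by decide)
    obtain ⟨s, hsL, hs'⟩ := hsqL r hr hrs
    have hms : m = s := eq_of_smul_eq_smul (α := Ω') fun u => by
      obtain ⟨i, rfl⟩ := e.surjective u
      rw [hm, hs']
    have : n = (g ^ (-b).val)⁻¹ * m := by simp [m]
    rw [this, hms]
    exact mul_mem (inv_mem (pow_mem g₀.2 _)) hsL
  have hns : ¬ Group.IsSolvable G := by
    intro hs
    apply hLX
    refine (Subgroup.eq_top_iff' L).mpr fun x => ?_
    obtain ⟨k, hk⟩ := exists_smul_eq L ω (x • ω)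
    have hmem : (k : X)⁻¹ * x ∈ stabilizer X ω := by
      rw [mem_stabilizer_iff, mul_smul, ← hk]; exact inv_smul_smul (k : X) ω
    have h1 : (k : X)⁻¹ * x ∈ L := hnorm ⟨_, hmem⟩ (conj_mem_of_solvable hΩ' hs hgo _)
    have := mul_mem k.2 h1
    rwa [mul_inv_cancel_left] at this
  obtain ⟨Q, hQle⟩ := (IsPGroup.of_card (p := p) (n := 1)
    (show Nat.card (Subgroup.zpowers g) = p ^ 1 by rw [Nat.card_zpowers, hgo, pow_one])).exists_le_sylow
  have hQc : (Q : Subgroup G) = Subgroup.zpowers g := by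
    obtain ⟨k, hk, hkQ⟩ := exists_sylow_generator hΩ' Q
    exact (Subgroup.eq_of_le_of_card_ge hQle (by rw [hkQ, Nat.card_zpowers, Nat.card_zpowers, hk, hgo])).symm
  have hNQ : Subgroup.normalizer ((Q : Subgroup G) : Set G) = LG := by
    have hnl : Subgroup.normalizer ((PL : Subgroup LG) : Set LG) = ⊤ :=
      Subgroup.eq_top_of_card_eq _ (by omega)
    rw [hQc]
    refine le_antisymm (fun n hn =>
      hnorm n ((Subgroup.mem_normalizer_iff.mp hn g).mp (Subgroup.mem_zpowers g))) ?_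
    intro n hn
    haveI : (PL : Subgroup LG).Normal := Subgroup.normalizer_eq_top_iff.mp hnl
    have hmap : Subgroup.zpowers g = (PL : Subgroup LG).map LG.subtype := by
      rw [hg₀P, MonoidHom.map_zpowers]; rfl
    rw [hmap]
    refine Subgroup.mem_normalizer_iff.mpr fun y => ⟨?_, ?_⟩
    · rintro ⟨y', hy', rfl⟩
      exact ⟨_, Subgroup.Normal.conj_mem inferInstance y' hy' ⟨n, hn⟩, rfl⟩
    · rintro ⟨y', hy', hy⟩
      refine ⟨_, Subgroup.Normal.conj_mem' inferInstance y' hy' (⟨n, hn⟩ : LG), ?_⟩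
      simp only [Subgroup.coe_subtype] at hy ⊢
      simp [hy, mul_assoc]
  have hN : 2 * Nat.card (Subgroup.normalizer ((Q : Subgroup G) : Set G)) = p * (p - 1) := by
    rw [hNQ, hcardL']
  have h2G : IsMultiplyPretransitive G Ω' 2 :=
    (CfsgLib.Muller.solvable_or_two_transitive (p := p) hΩ').resolve_left hns
  suffices h3 : IsMultiplyPretransitive G Ω' 3 from
    (SubMulAction.ofStabilizer.isMultiplyPretransitive (a := ω)).mpr h3
  rcases (show p % 4 = 1 ∨ p % 4 = 3 by omega) with hp4 | hp4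
  · refine three_transitive_of_even_normalizer hΩ' hns Q (even_iff_two_dvd.mpr ?_)
    rw [hNQ, hLGcard]
    exact dvd_mul_of_dvd_right (by omega) _
  -- `p ≡ 3 (mod 4)`
  have hhodd : Odd h := ⟨p / 4, by omega⟩
  haveI : NeZero h := ⟨by omega⟩
  set z : Ω := (e 0 : Ω) with hz
  set u₀ : Ω := (e 1 : Ω) with hu₀
  have hzω : z ≠ ω := (e 0).2
  have huω : u₀ ≠ ω := (e 1).2
  have huz : u₀ ≠ z := fun h => one_ne_zero (e.injective (Subtype.ext h))
  -- the dihedral group
  obtain ⟨ν, hν⟩ := IsCyclic.exists_generator (α := (ZMod p)ˣ)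
  have hνo : orderOf (ν : ZMod p) = 2 * h := by
    rw [orderOf_units, orderOf_eq_card_of_forall_mem_zpowers hν, Nat.card_eq_fintype_card,
      ZMod.card_units]; omega
  set t : ZMod p := (ν : ZMod p) ^ 2 with ht
  have hto : orderOf t = h := by
    rw [ht, orderOf_pow' _ two_ne_zero, hνo, Nat.gcd_eq_right (dvd_mul_right 2 h)]; omega
  obtain ⟨s, hsL, hs⟩ := hsqL t (pow_ne_zero _ ν.ne_zero) ⟨ν, by rw [ht, pow_two]⟩
  set c : X := (s : X) with hc
  have hcω : c • ω = ω := s.2
  have hcn : ∀ (n : ℕ) (i : ZMod p), c ^ n • (e i : Ω) = (e (t ^ n * i) : Ω) := by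
    intro n
    induction n with
    | zero => simp
    | succ n ih =>
      intro i
      rw [pow_succ', mul_smul, ih, hc]
      show (s : X) • (e (t ^ n * i) : Ω) = _
      rw [show (s : X) • (e (t ^ n * i) : Ω) = ((s • e (t ^ n * i) : Ω') : Ω) from rfl, hs]
      rw [pow_succ']; congr 2; ring
  have hcωn : ∀ n : ℕ, c ^ n • ω = ω := fun n => by
    have := (stabilizer X ω).pow_mem (show c ∈ stabilizer X ω from hcω) n
    exact this
  have hco : orderOf c = h := by
    rw [← hto]
    refine orderOf_eq_orderOf_iff.mpr fun n => ⟨fun h1 => ?_, fun h1 => ?_⟩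
    · have := hcn n 1
      rw [h1, one_smul, mul_one] at this
      exact (e.injective (Subtype.ext this)).symm
    · refine eq_of_smul_eq_smul (α := Ω) fun u => ?_
      rw [one_smul]
      by_cases hu : u = ω
      · rw [hu]; exact hcωn n
      · obtain ⟨i, hi⟩ := e.surjective ⟨u, hu⟩
        have hi' : (e i : Ω) = u := congrArg Subtype.val hi
        rw [← hi', hcn, h1, one_mul]
  have hcL : c ∈ L := hsL
  have hLodd : ∀ (y : X) (x : Ω), y ∈ L → y • x = x → y * y = 1 → y = 1 := by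
    intro y x hyL hyx hyy
    by_contra h1
    have h2 : orderOf y = 2 := orderOf_eq_prime (by rw [pow_two]; exact hyy) h1
    have h3 := orderOf_dvd_natCard (⟨⟨y, hyL⟩, hyx⟩ : stabilizer L x)
    rw [hLx, ← Subgroup.orderOf_coe, ← Subgroup.orderOf_coe] at h3
    simp only [h2] at h3
    have : Odd (p * h) := (hp.odd_of_ne_two hp2).mul hhodd
    exact (Nat.not_even_iff_odd.mpr this) (even_iff_two_dvd.mpr h3)
  obtain ⟨⟨w, hwL⟩, hww', hwc'⟩ := hinvert ⟨c, hcL⟩ (by
    rw [show orderOf (⟨c, hcL⟩ : L) = orderOf c from (Subgroup.orderOf_coe _).symm, hco]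
    intro hd
    rcases (Nat.dvd_prime hp).mp hd with h1 | h1 <;> omega)
  have hww : w * w = 1 := congrArg Subtype.val hww'
  have hwc : w * c * w⁻¹ = c⁻¹ := congrArg Subtype.val hwc'
  have hwinv : w⁻¹ = w := inv_eq_of_mul_eq_one_right hww
  have hfixc : ∀ x, c • x = x → x = ω ∨ x = z := by
    intro x hx
    by_cases hxω : x = ω
    · exact Or.inl hxω
    obtain ⟨i, hi⟩ := e.surjective ⟨x, hxω⟩
    have hi' : (e i : Ω) = x := congrArg Subtype.val hi
    rw [← hi', ← pow_one c, hcn, pow_one] at hx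
    have h1 : (t - 1) * i = 0 := by linear_combination e.injective (Subtype.ext hx)
    have ht1 : t ≠ 1 := fun h1 => by rw [h1, orderOf_one] at hto; omega
    rw [(mul_eq_zero.mp h1).resolve_left (sub_ne_zero.mpr ht1)] at hi'
    exact Or.inr hi'.symm
  have hw1 : w ≠ 1 := by
    intro h1
    rw [h1, one_mul, inv_one, mul_one] at hwc
    have h2 : orderOf c ∣ 2 := orderOf_dvd_of_pow_eq_one (by
      rw [pow_two]; nth_rw 1 [hwc]; rw [inv_mul_cancel])
    rw [hco] at h2
    have := Nat.le_of_dvd (by norm_num) h2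
    omega
  have hwω : w • ω = z := by
    refine (hfixc (w • ω) ?_).resolve_left fun h1 => hw1 (hLodd w ω hwL h1 hww)
    have : c * w = w * c⁻¹ := by
      rw [← hwc, ← mul_assoc, ← mul_assoc, hww, one_mul, hwinv]
    rw [← mul_smul, this, mul_smul, inv_smul_eq_iff.mpr hcω.symm]
  have hwz : w • z = ω := by rw [← hwω, ← mul_smul, hww, one_smul]
  set cp : ZMod h → X := fun i => c ^ i.val with hcp
  have hcpadd : ∀ i j, cp (i + j) = cp i * cp j := fun i j => by
    simp only [hcp]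
    rw [ZMod.val_add, ← pow_add]
    exact (pow_eq_pow_iff_modEq.mpr (by rw [hco]; exact Nat.mod_modEq _ _))
  have hcp0 : cp 0 = 1 := by simp [hcp]
  have hcpneg : ∀ i, cp (-i) = (cp i)⁻¹ := fun i =>
    eq_inv_of_mul_eq_one_left (by rw [← hcpadd, neg_add_cancel, hcp0])
  have hwcp : ∀ i, w * cp i = cp (-i) * w := fun i => by
    have h1 : (w * c * w⁻¹) ^ i.val = c⁻¹ ^ i.val := by rw [hwc]
    rw [conj_pow, inv_pow] at h1
    rw [hcpneg, hcp]
    calc w * c ^ i.val = w * c ^ i.val * w⁻¹ * w := by group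
      _ = _ := by rw [h1]
  have hcpω : ∀ i, cp i • ω = ω := fun i => hcωn _
  have hcpz : ∀ i, cp i • z = z := fun i => by rw [hz]; simp only [hcp]; rw [hcn, mul_zero]
  have hcpL : ∀ i, cp i ∈ L := fun i => pow_mem hcL _
  set U : Finset Ω := Finset.univ.filter fun x => x ≠ ω ∧ x ≠ z with hU
  have hUm : ∀ x, x ∈ U ↔ x ≠ ω ∧ x ≠ z := fun x => by simp [hU]
  have hu₀U : u₀ ∈ U := (hUm _).mpr ⟨huω, huz⟩
  have hwU : ∀ x ∈ U, w • x ∈ U := fun x hx => by
    obtain ⟨h1, h2⟩ := (hUm x).mp hx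
    exact (hUm _).mpr ⟨fun h => h2 (smul_left_cancel w (h.trans hwz.symm)),
      fun h => h1 (smul_left_cancel w (h.trans hwω.symm))⟩
  -- the group `K` of the two points
  set K : Subgroup X := stabilizer X ω ⊓ stabilizer X z with hK
  have hKU : ∀ k ∈ K, ∀ x ∈ U, k • x ∈ U := fun k hk x hx => by
    obtain ⟨h1, h2⟩ := (hUm x).mp hx
    exact (hUm _).mpr ⟨fun h => h1 (smul_left_cancel k (h.trans hk.1.symm)),
      fun h => h2 (smul_left_cancel k (h.trans hk.2.symm))⟩
  have hcpK : ∀ i, cp i ∈ K := fun i => ⟨hcpω i, hcpz i⟩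
  have hwK : ∀ k ∈ K, w * k * w ∈ K := fun k hk => by
    have h1 : k • ω = ω := hk.1
    have h2 : k • z = z := hk.2
    have a1 : (w * k * w) • ω = ω := by rw [mul_smul, mul_smul, hwω, h2, hwz]
    have a2 : (w * k * w) • z = z := by rw [mul_smul, mul_smul, hwz, h1, hwω]
    exact ⟨a1, a2⟩
  have hKtrans : ∀ x ∈ U, ∃ k ∈ K, k • u₀ = x := fun x hx => by
    obtain ⟨h1, h2⟩ := (hUm x).mp hx
    obtain ⟨k, hk0, hk1⟩ := is_two_pretransitive_iff.mp h2G
      (show e 0 ≠ e 1 by simp) (show e 0 ≠ (⟨x, h1⟩ : Ω') from fun h => h2 (congrArg Subtype.val h).symm)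
    exact ⟨(k : X), ⟨k.2, congrArg Subtype.val hk0⟩, congrArg Subtype.val hk1⟩
  -- two orbits of the three-point stabiliser
  have hthree : ∀ v₁ ∈ U, ∀ v₂ ∈ U, ∀ v₃ ∈ U, v₁ ≠ u₀ → v₂ ≠ u₀ → v₃ ≠ u₀ →
      (∀ k ∈ K, k • u₀ = u₀ → k • v₁ ≠ v₂) →
      ∃ k ∈ K, k • u₀ = u₀ ∧ (k • v₁ = v₃ ∨ k • v₂ = v₃) := by
    intro v₁ hv₁ v₂ hv₂ v₃ hv₃ n1 n2 n3 hne
    set S := stabilizer G (e 0) ⊓ stabilizer G (e 1)
    let Q := orbitRel.Quotient ↥S Ω'
    letI : Fintype Q := Fintype.ofFinite _
    let cl : ∀ x, x ∈ U → Q := fun x hx => Quotient.mk _ ⟨x, ((hUm x).mp hx).1⟩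
    have hrel : ∀ x hx y hy, cl x hx = cl y hy → ∃ k ∈ K, k • u₀ = u₀ ∧ k • y = x := by
      intro x hx y hy hxy
      obtain ⟨k, hk⟩ := Quotient.exact hxy
      exact ⟨((k : G) : X), ⟨(k : G).2, congrArg Subtype.val k.2.1⟩, congrArg Subtype.val k.2.2,
        congrArg Subtype.val hk⟩
    by_contra hno
    push Not at hno
    let q0 : Q := Quotient.mk _ (e 0)
    let q1 : Q := Quotient.mk _ (e 1)
    have hq : ∀ x hx, x ≠ u₀ → cl x hx ≠ q0 ∧ cl x hx ≠ q1 := by
      intro x hx hxu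
      constructor <;> intro hh <;> obtain ⟨k, hk⟩ := Quotient.exact hh
      · exact ((hUm x).mp hx).2 (congrArg Subtype.val (hk.symm.trans k.2.1))
      · exact hxu (congrArg Subtype.val (hk.symm.trans k.2.2))
    have hq01 : q0 ≠ q1 := by
      intro hh
      obtain ⟨k, hk⟩ := Quotient.exact hh
      exact huz.symm (congrArg Subtype.val (hk.symm.trans k.2.2))
    have e12 : cl v₁ hv₁ ≠ cl v₂ hv₂ := fun hh => by
      obtain ⟨k, hk, hku, hkv⟩ := hrel v₂ hv₂ v₁ hv₁ hh.symm
      exact hne k hk hku hkv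
    have e13 : cl v₁ hv₁ ≠ cl v₃ hv₃ := fun hh => by
      obtain ⟨k, hk, hku, hkv⟩ := hrel v₃ hv₃ v₁ hv₁ hh.symm
      exact (hno k hk hku).1 hkv
    have e23 : cl v₂ hv₂ ≠ cl v₃ hv₃ := fun hh => by
      obtain ⟨k, hk, hku, hkv⟩ := hrel v₃ hv₃ v₂ hv₂ hh.symm
      exact (hno k hk hku).2 hkv
    have hle := card_orbits_two_point_le hΩ' hns h2G hp4 g e he hsq (e 0) (e 1) (by simp)
    have hQ : Nat.card (orbitRel.Quotient ↥(stabilizer G (e 0) ⊓ stabilizer G (e 1)) Ω') = Fintype.card Q :=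
      Nat.card_eq_fintype_card
    have := Finset.card_le_univ ({q0, q1, cl v₁ hv₁, cl v₂ hv₂, cl v₃ hv₃} : Finset Q)
    rw [Finset.card_insert_of_notMem (by simp [hq01, (hq _ hv₁ n1).1.symm, (hq _ hv₂ n2).1.symm,
        (hq _ hv₃ n3).1.symm]),
      Finset.card_insert_of_notMem (by simp [(hq _ hv₁ n1).2.symm, (hq _ hv₂ n2).2.symm,
        (hq _ hv₃ n3).2.symm]),
      Finset.card_insert_of_notMem (by simp [e12, e13]),
      Finset.card_insert_of_notMem (by simp [e23]), Finset.card_singleton] at this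
    omega
  have hUcard : U.card = 2 * h := by
    have : U = (Finset.univ.erase ω).erase z := by ext x; simp [hU, and_comm]
    rw [this, Finset.card_erase_of_mem (Finset.mem_erase.mpr ⟨hzω, Finset.mem_univ _⟩),
      Finset.card_erase_of_mem (Finset.mem_univ _), Finset.card_univ, hΩ]
    omega
  -- the dihedral group forces rank two
  have htwo := CfsgLib.DihedralRing.two_point_transitive hhodd K U u₀ hu₀U hUcard hKU hKtrans hthree
    (by
      intro B hBU hu₀B hnt hout hblock
      obtain ⟨v, hvB, hvu⟩ := hnt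
      obtain ⟨v', hv'U, hv'B⟩ := hout
      refine no_point_stabilizer_block hΩ' hns Q hN hp4 hp7 (e 0) (e 1) ⟨v, ((hUm v).mp (hBU hvB)).1⟩
        ⟨v', ((hUm v').mp hv'U).1⟩ {y : Ω' | (y : Ω) ∈ B} ?_ hu₀B hvB
        (fun h => hvu (congrArg Subtype.val h)) hv'B
        (fun h => ((hUm v').mp hv'U).2 (congrArg Subtype.val h)) ?_
      · exact fun h => ((hUm _).mp (hBU h)).2 rfl
      · intro k hk x hx hkx y hy
        exact hblock (k : X) ⟨k.2, congrArg Subtype.val hk⟩ _ hx hkx _ hy)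
    cp hcpK hcp0 hcpadd w hww hwK hwU hwcp
    (fun i j hij => by
      simp only [hcp, hu₀, hcn, mul_one] at hij
      exact ZMod.val_injective h (pow_injOn_Iio_orderOf (by simpa [hto] using ZMod.val_lt i)
        (by simpa [hto] using ZMod.val_lt j) (e.injective (Subtype.ext hij))))
    (fun i hfix => by
      have hsqd : (cp i * w) * (cp i * w) = 1 := by
        rw [mul_assoc, ← mul_assoc w, hwcp, mul_assoc, hww, mul_one, ← hcpadd, add_neg_cancel, hcp0]
      have h1 := congrArg (fun x : X => x • ω) (hLodd _ u₀ (mul_mem (hcpL _) hwL) hfix hsqd)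
      simp only [mul_smul, hwω, hcpz, one_smul] at h1
      exact hzω h1)
  refine ⟨fun f f' => ?_⟩
  have nf : ∀ (f : Fin 3 ↪ Ω') i j, i ≠ j → f i ≠ f j := fun f i j h hh => h (f.injective hh)
  obtain ⟨a, ha0, ha1⟩ := is_two_pretransitive_iff.mp h2G (nf f 0 1 (by decide))
    (show e 0 ≠ e 1 by simp)
  obtain ⟨b, hb0, hb1⟩ := is_two_pretransitive_iff.mp h2G (nf f' 0 1 (by decide))
    (show e 0 ≠ e 1 by simp)
  have hmemU : ∀ (a : G) (f : Fin 3 ↪ Ω'), a • f 0 = e 0 → a • f 1 = e 1 →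
      ((a • f 2 : Ω') : Ω) ∈ U ∧ ((a • f 2 : Ω') : Ω) ≠ u₀ := by
    intro a f h0 h1
    refine ⟨(hUm _).mpr ⟨(a • f 2).2, fun h => nf f 2 0 (by decide) ?_⟩, fun h => nf f 2 1 (by decide) ?_⟩
    · exact smul_left_cancel a ((Subtype.ext h).trans h0.symm)
    · exact smul_left_cancel a ((Subtype.ext h).trans h1.symm)
  obtain ⟨k, hk, hku, hkv⟩ := htwo _ (hmemU a f ha0 ha1).1 _ (hmemU b f' hb0 hb1).1
    (hmemU a f ha0 ha1).2 (hmemU b f' hb0 hb1).2
  let kG : G := ⟨k, hk.1⟩
  refine ⟨b⁻¹ * kG * a, DFunLike.ext _ _ fun i => ?_⟩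
  rw [Function.Embedding.smul_apply, mul_smul, mul_smul, inv_smul_eq_iff]
  fin_cases i
  · show kG • a • f 0 = b • f' 0
    rw [ha0, hb0]; exact Subtype.ext hk.2
  · show kG • a • f 1 = b • f' 1
    rw [ha1, hb1]; exact Subtype.ext hku
  · exact Subtype.ext hkv

end CfsgLib.PrimeDegree
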