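/-
Prime degree `p = q + 2`, `q > 5` prime, with Sylow normaliser of order `p(p-1)/2`: five-fold
transitivity.
-/
import Mathlib
import Cfsg.Agent.Perm.PrimeAddOneFour
import Cfsg.Agent.Perm.CoprimeRankThree

set_option autoImplicit false

namespace CfsgLib.PrimeDegree

open MulAction

variable {p : ℕ} [Fact p.Prime] {G Ω : Type*} [Group G] [Finite G] [MulAction G Ω] [FaithfulSMul G Ω]
  [IsPretransitive G Ω] [Fintype Ω] [DecidableEq Ω]

/-- The sign is trivial. -/
theorem even_of_half_normalizer (hp2 : p ≠ 2) (hcard : Nat.card Ω = p) (P : Sylow p G)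
    (hN : 2 * Nat.card (Subgroup.normalizer ((P : Subgroup G) : Set G)) = p * (p - 1)) (x : G) :
    Equiv.Perm.sign (toPermHom G Ω x) = 1 := by
  classical
  have hp := (Fact.out : p.Prime)
  obtain ⟨g, e, hgo, hgP, he, hsq⟩ := exists_square_mults hcard P hN
  set σ : G →* ℤˣ := Equiv.Perm.sign.comp (toPermHom G Ω) with hσ
  suffices σ.ker = ⊤ by
    have := hσ ▸ (this ▸ Subgroup.mem_top x : x ∈ σ.ker)
    simpa using this
  have hg : σ g = 1 := by
    have h1 : σ g ^ p = 1 := by rw [← map_pow, ← hgo, pow_orderOf_eq_one, map_one]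
    rcases Int.units_eq_one_or (σ g) with h | h
    · exact h
    · rw [h, (hp.odd_of_ne_two hp2).neg_one_pow] at h1
      exact absurd h1 (by decide)
  have hPK : (P : Subgroup G) ≤ σ.ker := by
    rw [hgP, Subgroup.zpowers_le]
    exact hg
  have hNK : Subgroup.normalizer ((P : Subgroup G) : Set G) ≤ σ.ker := by
    intro n hn
    obtain ⟨b, r, hr, hnr⟩ := affine_of_conj_mem he n
      (hgP.le ((Subgroup.mem_normalizer_iff.mp hn g).mp (hgP ▸ Subgroup.mem_zpowers g)))
    have hiter : ∀ k : ℕ, ∀ i, ∃ c, n ^ k • e i = e (c + r ^ k * i) ∧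
        ∀ j, n ^ k • e j = e (c + r ^ k * j) := by
      intro k
      induction k with
      | zero => intro i; exact ⟨0, by simp, fun j => by simp⟩
      | succ k ih =>
        intro i
        obtain ⟨c, -, hc⟩ := ih i
        refine ⟨b + r * c, ?_, fun j => ?_⟩ <;>
        · rw [pow_succ', mul_smul, hc, hnr]; congr 1; ring
    have hrs : IsSquare r := by
      set k := Nat.card (Subgroup.normalizer ((P : Subgroup G) : Set G)) with hk
      have hnk : n ^ k = 1 := orderOf_dvd_iff_pow_eq_one.mp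
        (Subgroup.orderOf_dvd_natCard _ hn)
      obtain ⟨c, -, hc⟩ := hiter k 0
      have h0 := hc 0
      have h1 := hc 1
      rw [hnk, one_smul, mul_zero, add_zero] at h0
      rw [hnk, one_smul, ← e.injective h0, zero_add, mul_one] at h1
      have hk2 : k = p * (p / 2) := by
        have hodd := hp.odd_of_ne_two hp2
        obtain ⟨m, hm⟩ := hodd
        have h2 : 2 * k = 2 * (p * (p / 2)) := by
          rw [hk, hN, show p / 2 = m by omega, show p - 1 = 2 * m by omega]; ring
        omega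
      rw [hk2, pow_mul, ZMod.pow_card] at h1
      exact (ZMod.euler_criterion p hr).mpr (e.injective h1).symm
    obtain ⟨u, hu⟩ := hrs
    have hu0 : u ≠ 0 := fun h => hr (by rw [hu, h, mul_zero])
    set m := g ^ (-b).val * n with hm
    have hsm : σ m = 1 := by
      have hmap : Equiv.Perm.sign (toPermHom G Ω m) =
          Equiv.Perm.sign (Equiv.mulLeft₀ u hu0 * Equiv.mulLeft₀ u hu0) :=
        Equiv.Perm.sign_eq_sign_of_equiv _ _ e.symm fun x => by
          obtain ⟨i, rfl⟩ := e.surjective x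
          show e.symm (m • e i) = u * (u * e.symm (e i))
          rw [hm, mul_smul, hnr, he, ZMod.natCast_val, ZMod.cast_id, Equiv.symm_apply_apply,
            Equiv.symm_apply_apply, hu]
          ring
      rw [hσ, MonoidHom.comp_apply, hmap, map_mul]
      exact Int.units_mul_self _
    rw [MonoidHom.mem_ker]
    rw [hm, map_mul, map_pow, hg, one_pow, one_mul] at hsm
    exact hsm
  have htop := Sylow.normalizer_sup_eq_top (N := σ.ker) (P.subtype hPK)
  have hmap : (((P.subtype hPK) : Subgroup σ.ker)).map σ.ker.subtype = (P : Subgroup G) := by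
    rw [Sylow.coe_subtype, Subgroup.map_subgroupOf_eq_of_le hPK]
  rw [hmap] at htop
  rw [eq_top_iff, ← htop]
  exact sup_le hNK le_rfl

/-- An index two overgroup: if it is three-transitive on an odd number of points, so is the subgroup. -/
theorem three_transitive_of_index_two {M Y : Type*} [Group M] [Finite M] [MulAction M Y] [Fintype Y]
    [DecidableEq Y] (H : Subgroup M) [H.Normal] (hH : H.index ≤ 2) (hodd : Odd (Fintype.card Y))
    (h2 : ∀ a b c d : Y, a ≠ b → c ≠ d → ∃ k ∈ H, k • a = c ∧ k • b = d)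
    (h3 : IsMultiplyPretransitive M Y 3) :
    ∀ a b c a' b' c' : Y, a ≠ b → a ≠ c → b ≠ c → a' ≠ b' → a' ≠ c' → b' ≠ c' →
      ∃ k ∈ H, k • a = a' ∧ k • b = b' ∧ k • c = c' := by
  classical
  intro a b c a' b' c' n1 n2 n3 n1' n2' n3'
  obtain ⟨k, hk, hka, hkb⟩ := h2 a b a' b' n1 n1'
  set S : Subgroup M := stabilizer M a' ⊓ stabilizer M b' with hS
  suffices hkey : ∀ y, y ≠ a' → y ≠ b' → ∃ j ∈ H, j ∈ S ∧ j • (k • c) = y by
    obtain ⟨j, hj, hjS, hjc⟩ := hkey c' n2'.symm n3'.symm
    have e1 : j • a' = a' := hjS.1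
    have e2 : j • b' = b' := hjS.2
    exact ⟨j * k, mul_mem hj hk, by rw [mul_smul, hka, e1], by rw [mul_smul, hkb, e2],
      by rw [mul_smul, hjc]⟩
  set x := k • c with hx
  have hxa : x ≠ a' := fun h => n2 (smul_left_cancel k (hka.trans h.symm))
  have hxb : x ≠ b' := fun h => n3 (smul_left_cancel k (hkb.trans h.symm))
  have hT : ∀ y, y ≠ a' → y ≠ b' → ∃ j ∈ S, j • x = y := by
    intro y hya hyb
    let f : Fin 3 ↪ Y := ⟨![a', b', x], by
      intro i j hij
      fin_cases i <;> fin_cases j <;>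
        simp_all [n1', Ne.symm n1', hxa.symm, hxb.symm]⟩
    let f' : Fin 3 ↪ Y := ⟨![a', b', y], by
      intro i j hij
      fin_cases i <;> fin_cases j <;>
        simp_all [n1', Ne.symm n1', hya.symm, hyb.symm]⟩
    obtain ⟨m, hm⟩ := h3.exists_smul_eq f f'
    exact ⟨m, ⟨DFunLike.congr_fun hm 0, DFunLike.congr_fun hm 1⟩, DFunLike.congr_fun hm 2⟩
  let O : Finset Y := Finset.univ.filter fun y => ∃ j ∈ H, j ∈ S ∧ j • x = y
  by_contra hall
  push Not at hall
  obtain ⟨z, hza, hzb, hz⟩ := hall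
  obtain ⟨m, hmS, hmz⟩ := hT z hza hzb
  have hmH : m ∉ H := fun h => hz m h hmS hmz
  have h2' : H.index = 2 := by
    have h0 : H.index ≠ 0 := Subgroup.index_ne_zero_of_finite
    rcases (by omega : H.index = 1 ∨ H.index = 2) with h | h
    · exact absurd (Subgroup.index_eq_one.mp h ▸ Subgroup.mem_top m) hmH
    · exact h
  have hprod : ∀ j ∉ H, j * m ∈ H ∧ m * j ∈ H ∧ m⁻¹ * j ∈ H := by
    intro j hj
    refine ⟨?_, ?_, ?_⟩ <;> rw [Subgroup.mul_mem_iff_of_index_two h2']
    · exact iff_of_false hj hmH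
    · exact iff_of_false hmH hj
    · exact iff_of_false (fun h => hmH (by simpa using inv_mem h)) hj
  have himg : (Finset.univ.filter fun y : Y => y ≠ a' ∧ y ≠ b') = O ∪ O.image (fun y => m • y) := by
    ext y
    simp only [Finset.mem_filter, Finset.mem_univ, true_and, Finset.mem_union, Finset.mem_image, O]
    constructor
    · rintro ⟨hya, hyb⟩
      obtain ⟨j, hjS, rfl⟩ := hT y hya hyb
      by_cases hjH : j ∈ H
      · exact Or.inl ⟨j, hjH, hjS, rfl⟩
      · exact Or.inr ⟨(m⁻¹ * j) • x, ⟨_, (hprod j hjH).2.2, mul_mem (inv_mem hmS) hjS, rfl⟩,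
          by rw [mul_smul, smul_inv_smul]⟩
    · have hfix : ∀ j ∈ S, ∀ u : Y, u ≠ a' → u ≠ b' → j • u ≠ a' ∧ j • u ≠ b' := fun j hj u hua hub =>
        ⟨fun h => hua (smul_left_cancel j (h.trans hj.1.symm)),
          fun h => hub (smul_left_cancel j (h.trans hj.2.symm))⟩
      rintro (⟨j, -, hjS, rfl⟩ | ⟨_, ⟨j, -, hjS, rfl⟩, rfl⟩)
      · exact hfix j hjS x hxa hxb
      · rw [← mul_smul]; exact hfix _ (mul_mem hmS hjS) x hxa hxb
  have hdisj : Disjoint O (O.image fun y => m • y) := by
    rw [Finset.disjoint_left]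
    intro y hy hy'
    simp only [Finset.mem_filter, Finset.mem_univ, true_and, Finset.mem_image, O] at hy hy'
    obtain ⟨i, hiH, hiS, hi⟩ := hy
    obtain ⟨_, ⟨j, hjH, hjS, rfl⟩, hj⟩ := hy'
    -- then `z` is in the orbit
    refine hz (m * (i⁻¹ * m * j)⁻¹) ?_ (mul_mem hmS (inv_mem (mul_mem (mul_mem (inv_mem hiS) hmS) hjS))) ?_
    · rw [Subgroup.mul_mem_iff_of_index_two h2']
      refine iff_of_false hmH fun h => hmH ?_
      have : i⁻¹ * m * j ∈ H := inv_mem_iff.mp h
      have h' := mul_mem (mul_mem hiH this) (inv_mem hjH)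
      simpa [mul_assoc] using h'
    · rw [mul_smul, inv_smul_eq_iff.mpr]
      · exact hmz
      · rw [mul_smul, mul_smul, hj, ← hi, inv_smul_smul]
  have hcard := congrArg Finset.card himg
  rw [Finset.card_union_of_disjoint hdisj, Finset.card_image_of_injective _ (MulAction.injective m)] at hcard
  have hset : (Finset.univ.filter fun y : Y => y ≠ a' ∧ y ≠ b') = (Finset.univ.erase a').erase b' := by
    ext y; simp [and_comm]
  rw [hset, Finset.card_erase_of_mem (Finset.mem_erase.mpr ⟨n1'.symm, Finset.mem_univ _⟩),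
    Finset.card_erase_of_mem (Finset.mem_univ _), Finset.card_univ] at hcard
  obtain ⟨t, ht⟩ := hodd
  have : 2 ≤ Fintype.card Y := Fintype.one_lt_card_iff.mpr ⟨a', b', n1'⟩
  omega

/-- `p = q + 2`: three-fold transitivity. -/
theorem twin_three_transitive (hcard : Nat.card Ω = p) (hns : ¬ Group.IsSolvable G) (P : Sylow p G)
    (hN : 2 * Nat.card (Subgroup.normalizer ((P : Subgroup G) : Set G)) = p * (p - 1))
    (q : ℕ) [Fact q.Prime] (hq5 : 5 < q) (hpq : p = q + 2) :
    ∀ a b c a' b' c' : Ω, a ≠ b → a ≠ c → b ≠ c → a' ≠ b' → a' ≠ c' → b' ≠ c' →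
      ∃ k : G, k • a = a' ∧ k • b = b' ∧ k • c = c' := by
  classical
  have hp := (Fact.out : p.Prime)
  have hq := (Fact.out : q.Prime)
  have hp2 : p ≠ 2 := by omega
  have hqodd : Odd q := hq.odd_of_ne_two (by omega)
  have hΩ : Fintype.card Ω = p := by rw [← Nat.card_eq_fintype_card, hcard]
  have h2t : IsMultiplyPretransitive G Ω 2 :=
    (CfsgLib.Muller.solvable_or_two_transitive (p := p) hcard).resolve_left hns
  have h2 : ∀ a b c d : Ω, a ≠ b → c ≠ d → ∃ k : G, k • a = c ∧ k • b = d := fun a b c d h h' =>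
    (MulAction.is_two_pretransitive_iff.mp h2t) h h'
  intro a b c a' b' c' n1 n2 n3 n1' n2' n3'
  rcases (show p % 4 = 1 ∨ p % 4 = 3 by
    have := hp.odd_of_ne_two hp2
    rw [Nat.odd_iff] at this; omega) with hp4 | hp4
  · have h3t : IsMultiplyPretransitive G Ω 3 := by
      refine three_transitive_of_even_normalizer hcard hns P ?_
      obtain ⟨m, hm⟩ : 4 ∣ p - 1 := by omega
      refine ⟨p * m, ?_⟩
      have : 2 * Nat.card (Subgroup.normalizer ((P : Subgroup G) : Set G)) = 2 * (p * m + p * m) := by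
        rw [hN, hm]; ring
      omega
    let f : Fin 3 ↪ Ω := ⟨![a, b, c], by
      intro i j hij
      fin_cases i <;> fin_cases j <;> simp_all [n1.symm, n2.symm, n3.symm]⟩
    let f' : Fin 3 ↪ Ω := ⟨![a', b', c'], by
      intro i j hij
      fin_cases i <;> fin_cases j <;> simp_all [n1'.symm, n2'.symm, n3'.symm]⟩
    obtain ⟨m, hm⟩ := h3t.exists_smul_eq f f'
    exact ⟨m, DFunLike.congr_fun hm 0, DFunLike.congr_fun hm 1, DFunLike.congr_fun hm 2⟩
  obtain ⟨g, e, -, -, he, hsq⟩ := exists_square_mults hcard P hN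
  obtain ⟨k, hka, hkb⟩ := h2 a b a' b' n1 n1'
  set U : Finset Ω := Finset.univ.erase a' with hU
  have hUc : U.card = q + 1 := by
    rw [hU, Finset.card_erase_of_mem (Finset.mem_univ _), Finset.card_univ, hΩ]; omega
  have htwo := CfsgLib.CoprimeRankThree.two_point_transitive (stabilizer G a') U b'
    (by simp [hU, n1'.symm]) (by rw [hUc]; exact hqodd.add_one) (by rw [hUc]; simpa using hq)
    (fun m hm x hx => by
      rw [hU, Finset.mem_erase] at hx ⊢
      exact ⟨fun h => hx.1 (smul_left_cancel m (h.trans hm.symm)), Finset.mem_univ _⟩)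
    (fun x hx => by
      rw [hU, Finset.mem_erase] at hx
      obtain ⟨m, h1, h2⟩ := h2 a' b' a' x n1' hx.1.symm
      exact ⟨m, h1, h2⟩)
    (by
      intro v₁ hv₁ v₂ hv₂ v₃ hv₃ m1 m2 m3 hne
      rw [hU, Finset.mem_erase] at hv₁ hv₂ hv₃
      set S := stabilizer G a' ⊓ stabilizer G b'
      let Q := orbitRel.Quotient ↥S Ω
      letI : Fintype Q := Fintype.ofFinite _
      let cl : Ω → Q := fun u => Quotient.mk _ u
      have hrel : ∀ x y, cl x = cl y → ∃ m ∈ stabilizer G a', m • b' = b' ∧ m • y = x := by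
        intro x y hxy
        obtain ⟨m, hm⟩ := Quotient.exact hxy
        exact ⟨m, m.2.1, m.2.2, hm⟩
      by_contra hno
      push Not at hno
      have ha : ∀ x, x ≠ a' → cl x ≠ cl a' := fun x hx h => by
        obtain ⟨m, hm, -, hmx⟩ := hrel _ _ h
        exact hx (hmx.symm.trans hm)
      have hb : ∀ x, x ≠ b' → cl x ≠ cl b' := fun x hx h => by
        obtain ⟨m, -, hm, hmx⟩ := hrel _ _ h
        exact hx (hmx.symm.trans hm)
      have e12 : cl v₁ ≠ cl v₂ := fun hh => by
        obtain ⟨m, hm, hmu, hmv⟩ := hrel v₂ v₁ hh.symm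
        exact hne m hm hmu hmv
      have e13 : cl v₁ ≠ cl v₃ := fun hh => by
        obtain ⟨m, hm, hmu, hmv⟩ := hrel v₃ v₁ hh.symm
        exact (hno m hm hmu).1 hmv
      have e23 : cl v₂ ≠ cl v₃ := fun hh => by
        obtain ⟨m, hm, hmu, hmv⟩ := hrel v₃ v₂ hh.symm
        exact (hno m hm hmu).2 hmv
      have hle := card_orbits_two_point_le hcard hns h2t hp4 g e he hsq a' b' n1'
      have hQ : Nat.card (orbitRel.Quotient ↥(stabilizer G a' ⊓ stabilizer G b') Ω) = Fintype.card Q :=
        Nat.card_eq_fintype_card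
      have := Finset.card_le_univ ({cl a', cl b', cl v₁, cl v₂, cl v₃} : Finset Q)
      rw [Finset.card_insert_of_notMem (by simp [ha b' n1'.symm |>.symm, (ha v₁ hv₁.1).symm,
          (ha v₂ hv₂.1).symm, (ha v₃ hv₃.1).symm]),
        Finset.card_insert_of_notMem (by simp [(hb v₁ m1).symm, (hb v₂ m2).symm, (hb v₃ m3).symm]),
        Finset.card_insert_of_notMem (by simp [e12, e13]),
        Finset.card_insert_of_notMem (by simp [e23]), Finset.card_singleton] at this
      omega)
    (by
      intro B hBU hbB hnt hout hblock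
      obtain ⟨v, hvB, hvb⟩ := hnt
      obtain ⟨v', hv'U, hv'B⟩ := hout
      have ha' : a' ∉ B := fun h => by simpa [hU] using hBU h
      exact no_point_stabilizer_block hcard hns P hN hp4 (by omega) a' b' v v' B ha' hbB hvB hvb hv'B
        (Finset.mem_erase.mp hv'U).1 hblock)
  obtain ⟨j, hj, hjb, hjc⟩ := htwo (k • c)
    (Finset.mem_erase.mpr ⟨fun h => n2 (smul_left_cancel k (hka.trans h.symm)), Finset.mem_univ _⟩)
    c' (Finset.mem_erase.mpr ⟨n2'.symm, Finset.mem_univ _⟩)
    (fun h => n3 (smul_left_cancel k (hkb.trans h.symm))) n3'.symm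
  exact ⟨j * k, by rw [mul_smul, hka]; exact hj, by rw [mul_smul, hkb, hjb], by rw [mul_smul, hjc]⟩

/-- A soluble group of prime degree `q = p - 2` cannot be the stabiliser of two points. -/
theorem twin_stabilizer_insoluble (P : Sylow p G)
    (hN : 2 * Nat.card (Subgroup.normalizer ((P : Subgroup G) : Set G)) = p * (p - 1))
    {q : ℕ} [Fact q.Prime] (hq5 : 5 < q) (hpq : p = q + 2)
    {H Y : Type*} [Group H] [Finite H] [MulAction H Y] [FaithfulSMul H Y] [IsPretransitive H Y]
    (hY : Nat.card Y = q) (hG : Nat.card G = p * ((p - 1) * Nat.card H)) :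
    ¬ Group.IsSolvable H := by
  classical
  intro hs
  have hp := (Fact.out : p.Prime)
  have hq := (Fact.out : q.Prime)
  have hqodd : Odd q := hq.odd_of_ne_two (by omega)
  have hqH : q ∣ Nat.card H := by
    obtain ⟨y⟩ : Nonempty Y := (Nat.card_pos_iff.mp (by omega : 0 < Nat.card Y)).1
    rw [← hY, ← index_stabilizer_of_transitive H y]
    exact Subgroup.index_dvd_card _
  obtain ⟨g', hg'⟩ := exists_prime_orderOf_dvd_card' q hqH
  obtain ⟨e', he'⟩ := exists_chart hY hg'
  have haff := fun k : H => affine_of_conj_mem he' k (conj_mem_of_solvable hY hs hg' k)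
  choose bb rr hrr hbr using haff
  let S : Subgroup H := stabilizer H (e' 0)
  have hb0 : ∀ k ∈ S, bb k = 0 := fun k hk => by
    have := hbr k 0
    rw [mem_stabilizer_iff.mp hk, mul_zero, add_zero] at this
    exact (e'.injective this).symm
  let χ : S →* (ZMod q)ˣ :=
    { toFun := fun k => Units.mk0 (rr k) (hrr k)
      map_one' := by
        apply Units.ext
        show rr ((1 : S) : H) = 1
        have h1 := hbr ((1 : S) : H) 1
        rw [hb0 _ (1 : S).2, Subgroup.coe_one, one_smul, zero_add, mul_one] at h1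
        exact (e'.injective h1).symm
      map_mul' := fun k k' => by
        apply Units.ext
        show rr ((k * k' : S) : H) = rr k * rr k'
        have h1 := hbr ((k * k' : S) : H) 1
        rw [hb0 _ (k * k').2, Subgroup.coe_mul, mul_smul, hbr, hbr, hb0 _ k.2, hb0 _ k'.2,
          zero_add, zero_add, zero_add, mul_one, mul_one] at h1
        exact (e'.injective h1).symm }
  have hχ : Function.Injective χ := fun k k' h => Subtype.ext (eq_of_smul_eq_smul (α := Y) fun u => by
    obtain ⟨i, rfl⟩ := e'.surjective u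
    have : rr (k : H) = rr (k' : H) := congrArg Units.val h
    rw [hbr, hbr, hb0 _ k.2, hb0 _ k'.2, this])
  have hd : Nat.card S ∣ q - 1 := by
    have := Subgroup.card_dvd_of_injective χ hχ
    rwa [Nat.card_eq_fintype_card (α := (ZMod q)ˣ), ZMod.card_units] at this
  have hHc : Nat.card H = q * Nat.card S := by
    have := (stabilizer H (e' 0)).index_mul_card
    rw [index_stabilizer_of_transitive H (e' 0), hY] at this
    exact this.symm
  set d := Nat.card S with hdd
  have hd0 : 0 < d := Nat.card_pos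
  rw [hHc] at hG
  have hn : Nat.card (Sylow p G) = 2 * (q * d) := by
    have h := (Subgroup.normalizer ((P : Subgroup G) : Set G)).index_mul_card
    have hidxP : Nat.card (Sylow p G) = (Subgroup.normalizer ((P : Subgroup G) : Set G)).index :=
      P.card_eq_index_normalizer
    rw [← hidxP, hG] at h
    have h' : p * (p - 1) * Nat.card (Sylow p G) = p * (p - 1) * (2 * (q * d)) := by
      calc p * (p - 1) * Nat.card (Sylow p G)
          = 2 * (Nat.card (Sylow p G) * Nat.card (Subgroup.normalizer ((P : Subgroup G) : Set G))) := by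
            rw [← hN]; ring
        _ = _ := by rw [h]; ring
    exact Nat.eq_of_mul_eq_mul_left (Nat.mul_pos hp.pos (by omega)) h'
  have hmod := card_sylow_modEq_one p G
  rw [hn, ← ZMod.natCast_eq_natCast_iff] at hmod
  have h4 : ((4 * d + 1 : ℕ) : ZMod p) = 0 := by
    have hqm : (q : ZMod p) = -2 := by
      have : ((q + 2 : ℕ) : ZMod p) = 0 := by rw [← hpq, ZMod.natCast_self]
      push_cast at this; linear_combination this
    push_cast at hmod ⊢
    rw [hqm] at hmod
    linear_combination -hmod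
  rw [ZMod.natCast_eq_zero_iff] at h4
  obtain ⟨k, hk⟩ := h4
  have hdle : d ≤ q - 1 := Nat.le_of_dvd (by omega) hd
  have hk4 : k < 4 := by
    by_contra hk4
    have : p * 4 ≤ p * k := Nat.mul_le_mul_left _ (by omega)
    omega
  have hpodd : p % 2 = 1 := by rw [hpq]; rw [Nat.odd_iff] at hqodd; omega
  obtain ⟨t, ht⟩ := hd
  have ht0 : t ≠ 0 := fun h => by rw [h, mul_zero] at ht; omega
  interval_cases k
  · omega
  · -- `4 d + 1 = p`
    have : t < 4 := by
      by_contra ht4
      have : d * 4 ≤ d * t := Nat.mul_le_mul_left _ (by omega)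
      omega
    have hp9 : p ≠ 9 := fun h => by rw [h] at hp; norm_num at hp
    interval_cases t <;> omega
  · omega
  · have : t < 2 := by
      by_contra ht4
      have : d * 2 ≤ d * t := Nat.mul_le_mul_left _ (by omega)
      omega
    have ht1 : t = 1 := by omega
    subst ht1
    have hq9 : q = 9 := by omega
    rw [hq9] at hq
    exact absurd hq (by norm_num)

/-- `p = q + 2`: five-fold transitivity. -/
theorem five_transitive_of_twin (hcard : Nat.card Ω = p) (hns : ¬ Group.IsSolvable G) (P : Sylow p G)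
    (hN : 2 * Nat.card (Subgroup.normalizer ((P : Subgroup G) : Set G)) = p * (p - 1))
    (q : ℕ) [Fact q.Prime] (hq5 : 5 < q) (hpq : p = q + 2) :
    IsMultiplyPretransitive G Ω 5 := by
  classical
  have hp := (Fact.out : p.Prime)
  have hq := (Fact.out : q.Prime)
  have hp2 : p ≠ 2 := by omega
  have hqodd : Odd q := hq.odd_of_ne_two (by omega)
  have hΩ : Fintype.card Ω = p := by rw [← Nat.card_eq_fintype_card, hcard]
  have h2t : IsMultiplyPretransitive G Ω 2 :=
    (CfsgLib.Muller.solvable_or_two_transitive (p := p) hcard).resolve_left hns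
  have h2 : ∀ a b c d : Ω, a ≠ b → c ≠ d → ∃ k : G, k • a = c ∧ k • b = d := fun a b c d h h' =>
    (MulAction.is_two_pretransitive_iff.mp h2t) h h'
  have h3 := twin_three_transitive hcard hns P hN q hq5 hpq
  -- two points and their stabilisers
  obtain ⟨α, β, hαβ⟩ := Fintype.one_lt_card_iff.mp (by rw [hΩ]; omega : 1 < Fintype.card Ω)
  let M : Subgroup G :=
    { carrier := {k | (k • α = α ∧ k • β = β) ∨ (k • α = β ∧ k • β = α)}
      one_mem' := Or.inl ⟨one_smul _ _, one_smul _ _⟩
      mul_mem' := by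
        rintro x y (⟨hx, hx'⟩ | ⟨hx, hx'⟩) (⟨hy, hy'⟩ | ⟨hy, hy'⟩) <;>
          simp [mul_smul, hx, hx', hy, hy']
      inv_mem' := by
        rintro x (⟨hx, hx'⟩ | ⟨hx, hx'⟩)
        · exact Or.inl ⟨inv_smul_eq_iff.mpr hx.symm, inv_smul_eq_iff.mpr hx'.symm⟩
        · exact Or.inr ⟨inv_smul_eq_iff.mpr hx'.symm, inv_smul_eq_iff.mpr hx.symm⟩ }
  let Y : SubMulAction M Ω :=
    { carrier := {u | u ≠ α ∧ u ≠ β}
      smul_mem' := by
        rintro ⟨k, hk⟩ u ⟨hu, hu'⟩
        show k • u ≠ α ∧ k • u ≠ β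
        rcases hk with ⟨h1, h2⟩ | ⟨h1, h2⟩
        · exact ⟨fun h => hu (smul_left_cancel k (h.trans h1.symm)),
            fun h => hu' (smul_left_cancel k (h.trans h2.symm))⟩
        · exact ⟨fun h => hu' (smul_left_cancel k (h.trans h2.symm)),
            fun h => hu (smul_left_cancel k (h.trans h1.symm))⟩ }
  letI : Fintype Y := Fintype.ofFinite _
  have hY : Nat.card Y = q := by
    have : Nat.card {u : Ω // u ≠ α ∧ u ≠ β} = q := by
      rw [Nat.card_eq_fintype_card, Fintype.card_subtype]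
      have : (Finset.univ.filter fun u : Ω => u ≠ α ∧ u ≠ β) = (Finset.univ.erase α).erase β := by
        ext u; simp [and_comm]
      rw [this, Finset.card_erase_of_mem (Finset.mem_erase.mpr ⟨hαβ.symm, Finset.mem_univ _⟩),
        Finset.card_erase_of_mem (Finset.mem_univ _), Finset.card_univ, hΩ]
      omega
    exact this
  let H : Subgroup M := (stabilizer G α ⊓ stabilizer G β).subgroupOf M
  have hHmem : ∀ k : M, k ∈ H ↔ (k : G) • α = α ∧ (k : G) • β = β := fun k => Iff.rfl
  obtain ⟨n₀, hn₀α, hn₀β⟩ := h2 α β β α hαβ hαβ.symm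
  have hidx : H.index = 2 := by
    rw [Subgroup.index_eq_two_iff]
    refine ⟨⟨n₀, Or.inr ⟨hn₀α, hn₀β⟩⟩, fun k => ?_⟩
    rw [hHmem, hHmem]
    rcases k.2 with ⟨h1, h2⟩ | ⟨h1, h2⟩
    · refine Or.inr ⟨⟨h1, h2⟩, fun h => ?_⟩
      have := h.1
      rw [Subgroup.coe_mul, mul_smul] at this
      exact hαβ (smul_left_cancel (k : G) (h1.trans (by rw [← this, hn₀α])))
    · refine Or.inl ⟨⟨?_, ?_⟩, fun h => hαβ (h.1.symm.trans h1)⟩
      · rw [Subgroup.coe_mul, mul_smul, hn₀α, h2]
      · rw [Subgroup.coe_mul, mul_smul, hn₀β, h1]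
  haveI : H.Normal := Subgroup.normal_of_index_eq_two hidx
  haveI hfH : FaithfulSMul H Y := ⟨fun {k k'} hk => Subtype.ext (Subtype.ext
    (eq_of_smul_eq_smul (α := Ω) fun u => by
      by_cases hu : u = α
      · subst hu; exact k.2.1.trans k'.2.1.symm
      by_cases hu' : u = β
      · subst hu'; exact k.2.2.trans k'.2.2.symm
      exact congrArg Subtype.val (hk ⟨u, hu, hu'⟩)))⟩
  haveI : IsPretransitive H Y := ⟨fun x y => by
    obtain ⟨k, h1, h2, h3⟩ := h3 α β x α β y hαβ x.2.1.symm x.2.2.symm hαβ y.2.1.symm y.2.2.symm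
    exact ⟨⟨⟨k, Or.inl ⟨h1, h2⟩⟩, ⟨h1, h2⟩⟩, Subtype.ext h3⟩⟩
  -- the order of the group
  have hG : Nat.card G = p * ((p - 1) * Nat.card H) := by
    let K : Subgroup G := stabilizer G α ⊓ stabilizer G β
    have hKH : Nat.card K = Nat.card H := by
      exact Nat.card_congr
        { toFun := fun k => ⟨⟨(k : G), Or.inl k.2⟩, k.2⟩
          invFun := fun k => ⟨((k : M) : G), k.2⟩
          left_inv := fun _ => rfl
          right_inv := fun _ => rfl }
    let f : G → {u : Ω × Ω // u.1 ≠ u.2} :=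
      fun k => ⟨(k • α, k • β), fun h => hαβ (smul_left_cancel k h)⟩
    have hsurj : Function.Surjective f := by
      rintro ⟨⟨a, b⟩, h⟩
      obtain ⟨k, hk, hk'⟩ := h2 α β a b hαβ h
      exact ⟨k, Subtype.ext (by simp [f, hk, hk'])⟩
    obtain ⟨r, hr⟩ := hsurj.hasRightInverse
    let φ : G ≃ {u : Ω × Ω // u.1 ≠ u.2} × K :=
      { toFun := fun k => (f k, ⟨(r (f k))⁻¹ * k, by
          have h := congrArg Subtype.val (hr (f k))
          simp [f, Prod.ext_iff] at h
          exact ⟨mem_stabilizer_iff.mpr (by rw [mul_smul, inv_smul_eq_iff, h.1]),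
            mem_stabilizer_iff.mpr (by rw [mul_smul, inv_smul_eq_iff, h.2])⟩⟩)
        invFun := fun u => r u.1 * u.2
        left_inv := fun k => by simp
        right_inv := fun u => by
          have h1 : f (r u.1 * u.2) = u.1 := by
            refine Eq.trans (Subtype.ext ?_) (hr u.1)
            have ha : (u.2 : G) • α = α := u.2.2.1
            have hb : (u.2 : G) • β = β := u.2.2.2
            simp [f, mul_smul, ha, hb]
          ext1
          · exact h1
          · exact Subtype.ext (by simp [h1]) }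
    rw [Nat.card_congr φ, Nat.card_prod, hKH]
    have : Nat.card {u : Ω × Ω // u.1 ≠ u.2} = p * (p - 1) := by
      rw [Nat.card_eq_fintype_card, Fintype.card_subtype]
      have : (Finset.univ.filter fun u : Ω × Ω => u.1 ≠ u.2) = Finset.univ.offDiag := by ext; simp
      rw [this, Finset.offDiag_card, Finset.card_univ, hΩ, Nat.mul_sub, mul_one]
    rw [this, mul_assoc]
  have hHns : ¬ Group.IsSolvable H := twin_stabilizer_insoluble P hN hq5 hpq hY hG
  have hH2 : IsMultiplyPretransitive H Y 2 :=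
    (CfsgLib.Muller.solvable_or_two_transitive (p := q) hY).resolve_left hHns
  -- the image of the setwise stabiliser
  let ρ : M →* Equiv.Perm Y := toPermHom M Y
  haveI : IsPretransitive ρ.range Y := ⟨fun x y => by
    obtain ⟨k, hk⟩ := exists_smul_eq H x y
    exact ⟨⟨ρ k, ⟨k, rfl⟩⟩, hk⟩⟩
  have hRns : ¬ Group.IsSolvable ρ.range := fun h =>
    hHns (solvable_of_solvable_injective (f := (ρ.rangeRestrict.comp H.subtype))
      (fun k k' hkk => eq_of_smul_eq_smul (α := Y) fun u =>
        congrArg (fun σ : ρ.range => (σ : Equiv.Perm Y) u) hkk))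
  obtain ⟨Q⟩ : Nonempty (Sylow q H) := inferInstance
  let Q₁ : Subgroup M := (Q : Subgroup H).map H.subtype
  have htop := Sylow.normalizer_sup_eq_top (N := H) Q
  obtain ⟨n, hnQ, hnH⟩ : ∃ n ∈ Subgroup.normalizer (Q₁ : Set M), n ∉ H := by
    by_contra hno
    push Not at hno
    have hle : Subgroup.normalizer (((Q : Subgroup H).map H.subtype : Subgroup M) : Set M) ⊔ H ≤ H :=
      sup_le hno le_rfl
    rw [htop, top_le_iff] at hle
    rw [hle, Subgroup.index_top] at hidx
    omega
  obtain ⟨hnα, hnβ⟩ : (n : G) • α = β ∧ (n : G) • β = α :=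
    n.2.resolve_left hnH
  have hsignY : Equiv.Perm.sign (ρ n) = -1 := by
    set τ : Equiv.Perm Ω := toPermHom G Ω (n : G) * Equiv.swap α β with hτ
    have hτα : τ α = α := by
      simp [hτ, Equiv.Perm.mul_apply, hnβ]
    have hτβ : τ β = β := by
      simp [hτ, Equiv.Perm.mul_apply, hnα]
    have hs : Equiv.Perm.sign τ = -1 := by
      rw [hτ, map_mul, even_of_half_normalizer hp2 hcard P hN, Equiv.Perm.sign_swap hαβ, one_mul]
    have hiff : ∀ x, (x ≠ α ∧ x ≠ β) ↔ (τ x ≠ α ∧ τ x ≠ β) := fun x => by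
      constructor
      · exact fun ⟨h1, h2⟩ => ⟨fun h => h1 (τ.injective (h.trans hτα.symm)),
          fun h => h2 (τ.injective (h.trans hτβ.symm))⟩
      · exact fun ⟨h1, h2⟩ => ⟨fun h => h1 (h ▸ hτα), fun h => h2 (h ▸ hτβ)⟩
    rw [← Equiv.Perm.sign_subtypePerm τ (p := fun x => x ≠ α ∧ x ≠ β) (fun x => (hiff x).symm)
      (fun x hx => by
        refine ⟨fun h => hx ?_, fun h => hx ?_⟩
        · rw [h, hτα]
        · rw [h, hτβ])] at hs
    rw [← hs]
    refine Equiv.Perm.sign_eq_sign_of_equiv _ _ (Equiv.subtypeEquivRight fun _ => Iff.rfl) fun x => ?_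
    refine Subtype.ext ?_
    show (n : G) • (x : Ω) = τ (x : Ω)
    simp [hτ, Equiv.Perm.mul_apply, Equiv.swap_apply_of_ne_of_ne x.2.1 x.2.2]
  have hR3 : IsMultiplyPretransitive ρ.range Y 3 := by
    have hqq : ¬ q ^ 2 ∣ Nat.card ρ.range := by
      intro h
      have h1 := h.trans (Subgroup.card_subgroup_dvd_card ρ.range)
      rw [Nat.card_perm, hY, ← Nat.mul_factorial_pred hq.ne_zero, pow_two] at h1
      have := hq.dvd_factorial.mp (Nat.dvd_of_mul_dvd_mul_left hq.pos h1)
      omega
    have hQcard : Nat.card Q = q := by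
      obtain ⟨k, hk, hkQ⟩ := exists_sylow_generator hY Q
      rw [show Nat.card Q = Nat.card (Q : Subgroup H) from rfl, hkQ, Nat.card_zpowers, hk]
    have hQρ : Nat.card (Q₁.map ρ.rangeRestrict : Subgroup ρ.range) = q := by
      have : Q₁.map ρ.rangeRestrict = (Q : Subgroup H).map (ρ.rangeRestrict.comp H.subtype) :=
        Subgroup.map_map _ _ _
      rw [this, Subgroup.card_map_of_injective (f := ρ.rangeRestrict.comp H.subtype)
        (fun k k' hkk => eq_of_smul_eq_smul (α := Y) fun u =>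
          congrArg (fun σ : ρ.range => (σ : Equiv.Perm Y) u) hkk)]
      exact hQcard
    have hfac : (Nat.card ρ.range).factorization q = 1 := by
      have h5 := hq.factorization_pos_of_dvd Nat.card_pos.ne'
        (hQρ ▸ Subgroup.card_subgroup_dvd_card (Q₁.map ρ.rangeRestrict))
      rw [Nat.Prime.pow_dvd_iff_le_factorization hq Nat.card_pos.ne'] at hqq
      omega
    let Q₂ : Sylow q ρ.range := Sylow.ofCard (Q₁.map ρ.rangeRestrict) (by rw [hfac, pow_one, hQρ])
    refine three_transitive_of_even_normalizer hY hRns Q₂ (even_iff_two_dvd.mpr ?_)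
    have hmem : ρ.rangeRestrict n ∈ Subgroup.normalizer
        ((Q₁.map ρ.rangeRestrict : Subgroup ρ.range) : Set ρ.range) := by
      exact Subgroup.le_normalizer_map ρ.rangeRestrict ⟨n, hnQ, rfl⟩
    have h2o : 2 ∣ orderOf (ρ.rangeRestrict n) := by
      rw [← even_iff_two_dvd, ← Nat.not_odd_iff_even]
      intro hodd
      have h1 : (ρ n) ^ orderOf (ρ.rangeRestrict n) = 1 :=
        congrArg Subtype.val (pow_orderOf_eq_one (ρ.rangeRestrict n))
      have h2 := congrArg Equiv.Perm.sign h1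
      rw [map_pow, hsignY, hodd.neg_one_pow, map_one] at h2
      exact absurd h2 (by decide)
    exact h2o.trans (Subgroup.orderOf_dvd_natCard _ hmem)
  have hM3 : IsMultiplyPretransitive M Y 3 := ⟨fun f f' => by
    obtain ⟨⟨_, k, rfl⟩, hk⟩ := hR3.exists_smul_eq f f'
    exact ⟨k, DFunLike.ext _ _ fun i => DFunLike.congr_fun hk i⟩⟩
  have hH3 := three_transitive_of_index_two H hidx.le (by rw [← Nat.card_eq_fintype_card, hY]; exact hqodd)
    (fun a b c d hab hcd => by
      obtain ⟨k, hk⟩ := (is_two_pretransitive_iff.mp hH2) hab hcd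
      exact ⟨k, k.2, hk⟩) hM3
  -- assemble
  refine ⟨fun f f' => ?_⟩
  have nf : ∀ (f : Fin 5 ↪ Ω) i j, i ≠ j → f i ≠ f j := fun f i j h hh => h (f.injective hh)
  obtain ⟨a, ha0, ha1⟩ := h2 (f 0) (f 1) α β (nf f 0 1 (by decide)) hαβ
  obtain ⟨b, hb0, hb1⟩ := h2 (f' 0) (f' 1) α β (nf f' 0 1 (by decide)) hαβ
  have hmem : ∀ (a : G) (f : Fin 5 ↪ Ω), a • f 0 = α → a • f 1 = β → ∀ i : Fin 5, i ≠ 0 → i ≠ 1 →
      a • f i ≠ α ∧ a • f i ≠ β := fun a f h0 h1 i hi0 hi1 =>
    ⟨fun h => nf f i 0 hi0 (smul_left_cancel a (h.trans h0.symm)),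
      fun h => nf f i 1 hi1 (smul_left_cancel a (h.trans h1.symm))⟩
  let pt : ∀ (a : G) (f : Fin 5 ↪ Ω), a • f 0 = α → a • f 1 = β → ∀ i : Fin 5, i ≠ 0 → i ≠ 1 → Y :=
    fun a f h0 h1 i hi0 hi1 => ⟨a • f i, hmem a f h0 h1 i hi0 hi1⟩
  obtain ⟨k, hk, hk2, hk3, hk4⟩ := hH3
    (pt a f ha0 ha1 2 (by decide) (by decide)) (pt a f ha0 ha1 3 (by decide) (by decide))
    (pt a f ha0 ha1 4 (by decide) (by decide)) (pt b f' hb0 hb1 2 (by decide) (by decide))
    (pt b f' hb0 hb1 3 (by decide) (by decide)) (pt b f' hb0 hb1 4 (by decide) (by decide))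
    (fun h => nf f 2 3 (by decide) (smul_left_cancel a (congrArg Subtype.val h)))
    (fun h => nf f 2 4 (by decide) (smul_left_cancel a (congrArg Subtype.val h)))
    (fun h => nf f 3 4 (by decide) (smul_left_cancel a (congrArg Subtype.val h)))
    (fun h => nf f' 2 3 (by decide) (smul_left_cancel b (congrArg Subtype.val h)))
    (fun h => nf f' 2 4 (by decide) (smul_left_cancel b (congrArg Subtype.val h)))
    (fun h => nf f' 3 4 (by decide) (smul_left_cancel b (congrArg Subtype.val h)))
  refine ⟨b⁻¹ * (k : G) * a, DFunLike.ext _ _ fun i => ?_⟩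
  rw [Function.Embedding.smul_apply, mul_smul, mul_smul, inv_smul_eq_iff]
  fin_cases i
  · show (k : G) • a • f 0 = b • f' 0
    rw [ha0, hb0]; exact ((hHmem k).mp hk).1
  · show (k : G) • a • f 1 = b • f' 1
    rw [ha1, hb1]; exact ((hHmem k).mp hk).2
  · exact congrArg Subtype.val hk2
  · exact congrArg Subtype.val hk3
  · exact congrArg Subtype.val hk4

end CfsgLib.PrimeDegree
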