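/-
Tits: sharply four-transitive groups have degree at most eleven.
-/
import Mathlib.GroupTheory.GroupAction.MultipleTransitivity
import Mathlib.GroupTheory.PGroup
import Mathlib.GroupTheory.SpecificGroups.Cyclic
import Mathlib.Data.Set.Card

set_option autoImplicit false

namespace CfsgLib.SharplyFour

open MulAction

variable {G Ω : Type*} [Group G] [MulAction G Ω]

theorem finite_ncard_le {s : Set Ω} {n : ℕ} (h : ∀ t : Finset Ω, (t : Set Ω) ⊆ s → t.card ≤ n) :
    s.Finite ∧ s.ncard ≤ n := by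
  have hfin : s.Finite := by
    by_contra hinf
    obtain ⟨t, ht, htc⟩ := Set.Infinite.exists_subset_card_eq hinf (n + 1)
    have := h t ht
    omega
  exact ⟨hfin, by rw [Set.ncard_eq_toFinset_card s hfin]; exact h _ (by simp)⟩

/-- Tits' bound. -/
theorem bound (h4 : IsMultiplyPretransitive G Ω 4)
    (hsharp : ∀ x : Fin 4 ↪ Ω, stabilizer G x = ⊥) (e : Fin 4 ↪ Ω) :
    Finite Ω ∧ Nat.card Ω ≤ 11 ∧ (Even (Nat.card Ω) → Nat.card Ω ≤ 6) := by
  classical
  -- four distinct points determine an element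
  have mk4 : ∀ p q r t : Ω, p ≠ q → p ≠ r → p ≠ t → q ≠ r → q ≠ t → r ≠ t →
      ∃ u : Fin 4 ↪ Ω, u 0 = p ∧ u 1 = q ∧ u 2 = r ∧ u 3 = t := by
    intro p q r t h1 h2 h3 h5 h6 h7
    refine ⟨⟨![p, q, r, t], ?_⟩, rfl, rfl, rfl, rfl⟩
    intro i j hij
    fin_cases i <;> fin_cases j <;>
      simp [h1, h2, h3, h5, h6, h7, h1.symm, h2.symm, h3.symm, h5.symm, h6.symm, h7.symm] at hij ⊢
  have fix4 : ∀ (g : G) (p q r t : Ω), p ≠ q → p ≠ r → p ≠ t → q ≠ r → q ≠ t → r ≠ t →
      g • p = p → g • q = q → g • r = r → g • t = t → g = 1 := by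
    intro g p q r t h1 h2 h3 h5 h6 h7 g1 g2 g3 g4
    obtain ⟨u, rfl, rfl, rfl, rfl⟩ := mk4 p q r t h1 h2 h3 h5 h6 h7
    rw [← Subgroup.mem_bot, ← hsharp u, mem_stabilizer_iff]
    ext i
    fin_cases i <;> assumption
  have move4 : ∀ (p q r t p' q' r' t' : Ω), p ≠ q → p ≠ r → p ≠ t → q ≠ r → q ≠ t → r ≠ t →
      p' ≠ q' → p' ≠ r' → p' ≠ t' → q' ≠ r' → q' ≠ t' → r' ≠ t' →
      ∃ g : G, g • p = p' ∧ g • q = q' ∧ g • r = r' ∧ g • t = t' := by
    intro p q r t p' q' r' t' h1 h2 h3 h5 h6 h7 k1 k2 k3 k5 k6 k7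
    obtain ⟨u, rfl, rfl, rfl, rfl⟩ := mk4 p q r t h1 h2 h3 h5 h6 h7
    obtain ⟨v, rfl, rfl, rfl, rfl⟩ := mk4 p' q' r' t' k1 k2 k3 k5 k6 k7
    obtain ⟨g, rfl⟩ := h4.exists_smul_eq u v
    exact ⟨g, rfl, rfl, rfl, rfl⟩
  have hfix3 : ∀ g : G, g ≠ 1 → ∀ t : Finset Ω, (∀ x ∈ t, g • x = x) → t.card ≤ 3 := by
    intro g hg t ht
    by_contra hlt
    obtain ⟨t', ht', hc⟩ := Finset.exists_subset_card_eq (show 4 ≤ t.card by omega)
    let c := t'.equivFinOfCardEq hc
    have hne : ∀ i j, i ≠ j → ((c.symm i : t') : Ω) ≠ (c.symm j : t') := fun i j h e =>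
      h (c.symm.injective (Subtype.ext e))
    exact hg (fix4 g _ _ _ _ (hne 0 1 (by decide)) (hne 0 2 (by decide)) (hne 0 3 (by decide))
      (hne 1 2 (by decide)) (hne 1 3 (by decide)) (hne 2 3 (by decide))
      (ht _ (ht' (c.symm 0).2)) (ht _ (ht' (c.symm 1).2)) (ht _ (ht' (c.symm 2).2))
      (ht _ (ht' (c.symm 3).2)))
  obtain ⟨p₁, p₂, p₃, p₄, h12, h13, h14, h23, h24, h34⟩ : ∃ a b c d : Ω,
      a ≠ b ∧ a ≠ c ∧ a ≠ d ∧ b ≠ c ∧ b ≠ d ∧ c ≠ d :=
    ⟨e 0, e 1, e 2, e 3, by simp, by simp, by simp, by simp, by simp, by simp⟩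
  obtain ⟨b, hb1, hb2, hb3, hb4⟩ :=
    move4 p₁ p₂ p₃ p₄ p₂ p₁ p₃ p₄ h12 h13 h14 h23 h24 h34 h12.symm h23 h24 h13 h14 h34
  have hb : b ≠ 1 := fun e => h12 (by rw [← hb1, e, one_smul])
  have hbb : b * b = 1 := fix4 _ p₁ p₂ p₃ p₄ h12 h13 h14 h23 h24 h34
    (by rw [mul_smul, hb1, hb2]) (by rw [mul_smul, hb2, hb1]) (by rw [mul_smul, hb3, hb3])
    (by rw [mul_smul, hb4, hb4])
  have hbb' : ∀ x : Ω, b • b • x = x := fun x => by rw [smul_smul, hbb, one_smul]
  let F : Set Ω := {x | b • x = x}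
  obtain ⟨hFfin, hF3⟩ : F.Finite ∧ F.ncard ≤ 3 :=
    finite_ncard_le fun t ht => hfix3 b hb t fun x hx => ht hx
  -- the involutions of the centralizer
  let J : Set G := {j | j • p₁ = p₁ ∧ j • p₂ = p₂ ∧ j * b = b * j ∧ j ≠ 1 ∧ j * j = 1}
  have hJF : ∀ j ∈ J, ∀ f ∈ F, j • f ∈ F := by
    intro j hj f hf
    show b • j • f = j • f
    rw [smul_smul, ← hj.2.2.1, mul_smul, show b • f = f from hf]
  have hcover : ∀ x : Ω, x ∉ F → x ≠ p₁ → x ≠ p₂ → ∃ j ∈ J, j • x = b • x := by
    intro x hx hx1 hx2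
    have hbx1 : b • x ≠ p₁ := fun e => hx2 (smul_left_cancel b (e.trans hb2.symm))
    have hbx2 : b • x ≠ p₂ := fun e => hx1 (smul_left_cancel b (e.trans hb1.symm))
    have hxb : x ≠ b • x := fun e => hx e.symm
    obtain ⟨j, j1, j2, j3, j4⟩ := move4 p₁ p₂ x (b • x) p₁ p₂ (b • x) x h12 hx1.symm hbx1.symm
      hx2.symm hbx2.symm hxb h12 hbx1.symm hx1.symm hbx2.symm hx2.symm hxb.symm
    have hj1 : j ≠ 1 := fun e => hxb (by rw [← j3, e, one_smul])
    have hjj : j * j = 1 := fix4 _ p₁ p₂ x (b • x) h12 hx1.symm hbx1.symm hx2.symm hbx2.symm hxb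
      (by rw [mul_smul, j1, j1]) (by rw [mul_smul, j2, j2]) (by rw [mul_smul, j3, j4])
      (by rw [mul_smul, j4, j3])
    have hcom : (b * j)⁻¹ * (j * b) = 1 := fix4 _ p₁ p₂ x (b • x) h12 hx1.symm hbx1.symm hx2.symm
      hbx2.symm hxb
      (by rw [mul_smul, mul_smul, hb1, j2, inv_smul_eq_iff, mul_smul, j1, hb1])
      (by rw [mul_smul, mul_smul, hb2, j1, inv_smul_eq_iff, mul_smul, j2, hb2])
      (by rw [mul_smul, mul_smul, j4, inv_smul_eq_iff, mul_smul, j3, hbb'])
      (by rw [mul_smul, mul_smul, hbb', j3, inv_smul_eq_iff, mul_smul, j4])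
    exact ⟨j, ⟨j1, j2, (inv_mul_eq_one.1 hcom).symm, hj1, hjj⟩, j3⟩
  -- an involution is determined by its action on two fixed points of `b`
  have hdet : ∀ j ∈ J, ∀ j' ∈ J, j • p₃ = j' • p₃ → j • p₄ = j' • p₄ → j = j' := by
    intro j hj j' hj' h3 h4'
    exact (inv_mul_eq_one.1 (fix4 (j'⁻¹ * j) p₁ p₂ p₃ p₄ h12 h13 h14 h23 h24 h34
      (by rw [mul_smul, hj.1, inv_smul_eq_iff, hj'.1])
      (by rw [mul_smul, hj.2.1, inv_smul_eq_iff, hj'.2.1])
      (by rw [mul_smul, h3, inv_smul_smul]) (by rw [mul_smul, h4', inv_smul_smul]))).symm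
  have hp3 : p₃ ∈ F := hb3
  have hp4 : p₄ ∈ F := hb4
  have hF2 : 2 ≤ F.ncard := by
    rw [← Set.ncard_pair h34]
    exact Set.ncard_le_ncard (Set.insert_subset hp3 (Set.singleton_subset_iff.2 hp4)) hFfin
  have hmoves : ∀ j ∈ J, j • p₃ ≠ p₃ ∨ j • p₄ ≠ p₄ := by
    intro j hj
    by_contra hno
    push Not at hno
    exact hj.2.2.2.1 (fix4 j p₁ p₂ p₃ p₄ h12 h13 h14 h23 h24 h34 hj.1 hj.2.1 hno.1 hno.2)
  have hjb : ∀ j ∈ J, (j * b : G) ≠ 1 := by
    intro j hj h
    have := congrArg (fun g : G => g • p₁) h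
    simp only [mul_smul, hb1, hj.2.1, one_smul] at this
    exact h12 this.symm
  have hxj : ∀ (j : G) (x : Ω), j * b = b * j → j • x = b • x → (j * b) • x = x := by
    intro j x hc hx
    rw [hc, mul_smul, hx, hbb']
  by_cases hF : F.ncard = 2
  · -- two fixed points
    have hFeq : F = {p₃, p₄} := (Set.eq_of_subset_of_ncard_le
      (Set.insert_subset hp3 (Set.singleton_subset_iff.2 hp4))
      (by rw [Set.ncard_pair h34, hF]) hFfin).symm
    have hJ : ∀ j ∈ J, j • p₃ = p₄ ∧ j • p₄ = p₃ := by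
      intro j hj
      have a3 := hJF j hj p₃ hp3
      have a4 := hJF j hj p₄ hp4
      rw [hFeq] at a3 a4
      simp only [Set.mem_insert_iff, Set.mem_singleton_iff] at a3 a4
      rcases a3 with a3 | a3 <;> rcases a4 with a4 | a4
      · exact absurd (smul_left_cancel j (a3.trans a4.symm)) h34
      · exact absurd (hmoves j hj) (by simp [a3, a4])
      · exact ⟨a3, a4⟩
      · exact absurd (smul_left_cancel j (a3.trans a4.symm)) h34
    let X : Set Ω := {x | x ∉ F ∧ x ≠ p₁ ∧ x ≠ p₂}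
    obtain ⟨hXfin, hX3⟩ : X.Finite ∧ X.ncard ≤ 3 := by
      refine finite_ncard_le fun t ht => ?_
      rcases t.eq_empty_or_nonempty with rfl | ⟨x₀, hx₀⟩
      · simp
      obtain ⟨j, hj, -⟩ := hcover x₀ (ht hx₀).1 (ht hx₀).2.1 (ht hx₀).2.2
      refine hfix3 (j * b) (hjb j hj) t fun x hx => ?_
      obtain ⟨j', hj', hj'x⟩ := hcover x (ht hx).1 (ht hx).2.1 (ht hx).2.2
      have : j' = j := hdet j' hj' j hj (by rw [(hJ j' hj').1, (hJ j hj).1])
        (by rw [(hJ j' hj').2, (hJ j hj).2])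
      exact hxj j x hj.2.2.1 (this ▸ hj'x)
    have huniv : (Set.univ : Set Ω) ⊆ (F ∪ {p₁, p₂}) ∪ X := by
      intro x _
      by_cases hxF : x ∈ F
      · exact Or.inl (Or.inl hxF)
      by_cases hx1 : x = p₁
      · exact Or.inl (Or.inr (Or.inl hx1))
      by_cases hx2 : x = p₂
      · exact Or.inl (Or.inr (Or.inr hx2))
      exact Or.inr ⟨hxF, hx1, hx2⟩
    have hufin : ((F ∪ {p₁, p₂}) ∪ X).Finite := (hFfin.union (Set.toFinite _)).union hXfin
    haveI : Finite Ω := Set.finite_univ_iff.1 (hufin.subset huniv)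
    have hle : Nat.card Ω ≤ 7 := by
      rw [← Set.ncard_univ]
      have h1 := Set.ncard_le_ncard huniv hufin
      have h2 := Set.ncard_union_le (F ∪ {p₁, p₂}) X
      have h3 := Set.ncard_union_le F {p₁, p₂}
      rw [Set.ncard_pair h12] at h3
      omega
    haveI : Fact (Nat.Prime 2) := ⟨Nat.prime_two⟩
    have hP : IsPGroup 2 (Subgroup.zpowers b) := IsPGroup.of_card (n := 1) (by
      rw [Nat.card_zpowers, pow_one, orderOf_eq_prime (by rw [pow_two, hbb]) hb])
    have hmod := hP.card_modEq_card_fixedPoints Ω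
    have hFc : Nat.card (fixedPoints (Subgroup.zpowers b) Ω) = 2 := by
      rw [← hF, ← Nat.card_coe_set_eq]
      refine Nat.card_congr (Equiv.subtypeEquivRight fun x =>
        ⟨fun hx => hx ⟨b, Subgroup.mem_zpowers b⟩, fun hx k => ?_⟩)
      obtain ⟨k, hk⟩ := k
      obtain ⟨i, rfl⟩ := Subgroup.mem_zpowers_iff.1 hk
      exact fixedBy_subset_fixedBy_zpow Ω b i hx
    rw [hFc] at hmod
    unfold Nat.ModEq at hmod
    exact ⟨inferInstance, by omega, fun _ => by omega⟩
  · -- three fixed points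
    have hF3' : F.ncard = 3 := by omega
    obtain ⟨p₅, hp5, h35, h45⟩ : ∃ p, p ∈ F ∧ p₃ ≠ p ∧ p₄ ≠ p := by
      obtain ⟨p, hp, hp'⟩ := Set.exists_mem_notMem_of_ncard_lt_ncard (s := {p₃, p₄}) (t := F)
        (by rw [Set.ncard_pair h34]; omega)
      simp only [Set.mem_insert_iff, Set.mem_singleton_iff, not_or] at hp'
      exact ⟨p, hp, Ne.symm hp'.1, Ne.symm hp'.2⟩
    have hFeq : F = {p₃, p₄, p₅} := (Set.eq_of_subset_of_ncard_le
      (Set.insert_subset hp3 (Set.insert_subset hp4 (Set.singleton_subset_iff.2 hp5)))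
      (by rw [hF3', Set.ncard_eq_three.2 ⟨p₃, p₄, p₅, h34, h35, h45, rfl⟩]) hFfin).symm
    have hfixone : ∀ j ∈ J, ∃ f ∈ F, j • f = f ∧ ∀ j' ∈ J, j' • f = f → j' = j := by
      -- the action of `j` on the other two points is forced
      have key : ∀ j ∈ J, ∀ (f u v : Ω), u ≠ v → u ≠ f → v ≠ f → F = {f, u, v} → j • f = f →
          j • u = v ∧ j • v = u := by
        intro j hj f u v huv huf hvf hFf hjf
        have hu : u ∈ F := hFf ▸ (by simp)
        have hv : v ∈ F := hFf ▸ (by simp)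
        have au := hJF j hj u hu
        rw [hFf] at au
        simp only [Set.mem_insert_iff, Set.mem_singleton_iff] at au
        rcases au with au | au | au
        · exact absurd (smul_left_cancel j (au.trans hjf.symm)) huf
        · exfalso
          have av := hJF j hj v hv
          rw [hFf] at av
          simp only [Set.mem_insert_iff, Set.mem_singleton_iff] at av
          rcases av with av | av | av
          · exact hvf (smul_left_cancel j (av.trans hjf.symm))
          · exact huv (smul_left_cancel j (au.trans av.symm))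
          · have hall : ∀ x ∈ F, j • x = x := by
              rw [hFf]
              rintro x (rfl | rfl | rfl) <;> assumption
            rcases hmoves j hj with h | h
            · exact h (hall p₃ hp3)
            · exact h (hall p₄ hp4)
        · refine ⟨au, ?_⟩
          have := congrArg (fun g : G => g • u) hj.2.2.2.2
          simp only [mul_smul, one_smul, au] at this
          exact this
      have hsame : ∀ j ∈ J, ∀ j' ∈ J, ∀ (f u v : Ω), u ≠ v → u ≠ f → v ≠ f → F = {f, u, v} →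
          j • f = f → j' • f = f → j' = j := by
        intro j hj j' hj' f u v huv huf hvf hFf hjf hjf'
        obtain ⟨a1, a2⟩ := key j hj f u v huv huf hvf hFf hjf
        obtain ⟨b1, b2⟩ := key j' hj' f u v huv huf hvf hFf hjf'
        have hall : ∀ x ∈ F, j' • x = j • x := by
          rw [hFf]
          rintro x (rfl | rfl | rfl)
          · rw [hjf, hjf']
          · rw [a1, b1]
          · rw [a2, b2]
        exact hdet j' hj' j hj (hall p₃ hp3) (hall p₄ hp4)
      intro j hj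
      have a3 := hJF j hj p₃ hp3
      rw [hFeq] at a3
      simp only [Set.mem_insert_iff, Set.mem_singleton_iff] at a3
      have hinv : ∀ x : Ω, j • j • x = x := fun x => by rw [smul_smul, hj.2.2.2.2, one_smul]
      rcases a3 with a3 | a3 | a3
      · exact ⟨p₃, hp3, a3, fun j' hj' h => hsame j hj j' hj' p₃ p₄ p₅ h45 h34.symm h35.symm hFeq a3 h⟩
      · have h4 : j • p₄ = p₃ := by rw [← a3, hinv]
        have h5 : j • p₅ = p₅ := by
          have a5 := hJF j hj p₅ hp5
          rw [hFeq] at a5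
          simp only [Set.mem_insert_iff, Set.mem_singleton_iff] at a5
          rcases a5 with a5 | a5 | a5
          · exact absurd (smul_left_cancel j (a5.trans h4.symm)) h45.symm
          · exact absurd (smul_left_cancel j (a5.trans a3.symm)) h35.symm
          · exact a5
        exact ⟨p₅, hp5, h5, fun j' hj' h => hsame j hj j' hj' p₅ p₃ p₄ h34 h35 h45
          (by rw [hFeq]; ext; simp; tauto) h5 h⟩
      · have h5 : j • p₅ = p₃ := by rw [← a3, hinv]
        have h4 : j • p₄ = p₄ := by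
          have a4 := hJF j hj p₄ hp4
          rw [hFeq] at a4
          simp only [Set.mem_insert_iff, Set.mem_singleton_iff] at a4
          rcases a4 with a4 | a4 | a4
          · exact absurd (smul_left_cancel j (a4.trans h5.symm)) h45
          · exact a4
          · exact absurd (smul_left_cancel j (a4.trans a3.symm)) h34.symm
        exact ⟨p₄, hp4, h4, fun j' hj' h => hsame j hj j' hj' p₄ p₃ p₅ h35 h34 h45.symm
          (by rw [hFeq]; ext; simp; tauto) h4 h⟩
    let X : Ω → Set Ω := fun f => {x | x ∉ F ∧ ∃ j ∈ J, j • f = f ∧ j • x = b • x}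
    have hX : ∀ f ∈ F, (X f).Finite ∧ (X f).ncard ≤ 2 := by
      intro f hf
      refine finite_ncard_le fun t ht => ?_
      rcases t.eq_empty_or_nonempty with rfl | ⟨x₀, hx₀⟩
      · simp
      obtain ⟨-, j₀, hj₀, hj₀f, -⟩ := ht hx₀
      obtain ⟨f', hf', hjf', huniq⟩ := hfixone j₀ hj₀
      have hff' : f = f' := by
        by_contra hne
        -- then `j₀` fixes all of `F`
        obtain ⟨g, hg, hg'⟩ := Set.exists_mem_notMem_of_ncard_lt_ncard (s := {f, f'}) (t := F)
          (by rw [Set.ncard_pair hne]; omega)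
        simp only [Set.mem_insert_iff, Set.mem_singleton_iff, not_or] at hg'
        have hall : F = {f, f', g} := (Set.eq_of_subset_of_ncard_le
          (Set.insert_subset hf (Set.insert_subset hf' (Set.singleton_subset_iff.2 hg)))
          (by rw [hF3', Set.ncard_eq_three.2 ⟨f, f', g, hne, Ne.symm hg'.1, Ne.symm hg'.2, rfl⟩])
          hFfin).symm
        have hgg : j₀ • g = g := by
          have ag := hJF j₀ hj₀ g hg
          rw [hall] at ag
          simp only [Set.mem_insert_iff, Set.mem_singleton_iff] at ag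
          rcases ag with ag | ag | ag
          · exact absurd (smul_left_cancel j₀ (ag.trans hj₀f.symm)) hg'.1
          · exact absurd (smul_left_cancel j₀ (ag.trans hjf'.symm)) hg'.2
          · exact ag
        have hall' : ∀ x ∈ F, j₀ • x = x := by
          rw [hall]
          rintro x (rfl | rfl | rfl) <;> assumption
        rcases hmoves j₀ hj₀ with h | h
        · exact h (hall' p₃ hp3)
        · exact h (hall' p₄ hp4)
      subst hff'
      have hle := hfix3 (j₀ * b) (hjb j₀ hj₀) (insert f t) (by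
        intro x hx
        rcases Finset.mem_insert.1 hx with rfl | hx
        · rw [mul_smul, show b • x = x from hf, hj₀f]
        · obtain ⟨-, j, hj, hjf, hjx⟩ := ht hx
          exact hxj j₀ x hj₀.2.2.1 (huniq j hj hjf ▸ hjx))
      rw [Finset.card_insert_of_notMem (fun h => (ht h).1 hf)] at hle
      omega
    have huniv : (Set.univ : Set Ω) ⊆ (F ∪ {p₁, p₂}) ∪ (X p₃ ∪ X p₄ ∪ X p₅) := by
      intro x _
      by_cases hxF : x ∈ F
      · exact Or.inl (Or.inl hxF)
      by_cases hx1 : x = p₁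
      · exact Or.inl (Or.inr (Or.inl hx1))
      by_cases hx2 : x = p₂
      · exact Or.inl (Or.inr (Or.inr hx2))
      obtain ⟨j, hj, hjx⟩ := hcover x hxF hx1 hx2
      obtain ⟨f, hf, hjf, -⟩ := hfixone j hj
      rw [hFeq] at hf
      rcases hf with rfl | rfl | rfl
      · exact Or.inr (Or.inl (Or.inl ⟨hxF, j, hj, hjf, hjx⟩))
      · exact Or.inr (Or.inl (Or.inr ⟨hxF, j, hj, hjf, hjx⟩))
      · exact Or.inr (Or.inr ⟨hxF, j, hj, hjf, hjx⟩)
    obtain ⟨f3, n3⟩ := hX p₃ hp3
    obtain ⟨f4, n4⟩ := hX p₄ hp4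
    obtain ⟨f5, n5⟩ := hX p₅ hp5
    have hufin : ((F ∪ {p₁, p₂}) ∪ (X p₃ ∪ X p₄ ∪ X p₅)).Finite :=
      (hFfin.union (Set.toFinite _)).union ((f3.union f4).union f5)
    haveI : Finite Ω := Set.finite_univ_iff.1 (hufin.subset huniv)
    have hle : Nat.card Ω ≤ 11 := by
      rw [← Set.ncard_univ]
      have a0 := Set.ncard_le_ncard huniv hufin
      have a1 := Set.ncard_union_le (F ∪ {p₁, p₂}) (X p₃ ∪ X p₄ ∪ X p₅)
      have a2 := Set.ncard_union_le F {p₁, p₂}
      have a3 := Set.ncard_union_le (X p₃ ∪ X p₄) (X p₅)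
      have a4 := Set.ncard_union_le (X p₃) (X p₄)
      rw [Set.ncard_pair h12] at a2
      omega
    refine ⟨inferInstance, hle, fun heven => absurd heven ?_⟩
    haveI : Fact (Nat.Prime 2) := ⟨Nat.prime_two⟩
    have hP : IsPGroup 2 (Subgroup.zpowers b) := IsPGroup.of_card (n := 1) (by
      rw [Nat.card_zpowers, pow_one, orderOf_eq_prime (by rw [pow_two, hbb]) hb])
    have hmod := hP.card_modEq_card_fixedPoints Ω
    have hFc : Nat.card (fixedPoints (Subgroup.zpowers b) Ω) = 3 := by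
      rw [← hF3', ← Nat.card_coe_set_eq]
      refine Nat.card_congr (Equiv.subtypeEquivRight fun x =>
        ⟨fun hx => hx ⟨b, Subgroup.mem_zpowers b⟩, fun hx k => ?_⟩)
      obtain ⟨k, hk⟩ := k
      obtain ⟨i, rfl⟩ := Subgroup.mem_zpowers_iff.1 hk
      exact fixedBy_subset_fixedBy_zpow Ω b i hx
    rw [hFc] at hmod
    unfold Nat.ModEq at hmod
    rw [Nat.even_iff]
    omega

end CfsgLib.SharplyFour
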