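import Mathlib

/-!
Small subgroups of `GL(2, n)` given by generators, with checks by the kernel.
-/

set_option autoImplicit false
set_option linter.style.haveILetI false

namespace CfsgLib.SmallMat

variable {n : ℕ}

/-- A 2×2 matrix as a tuple. -/
abbrev T (n : ℕ) := ZMod n × ZMod n × ZMod n × ZMod n

/-- Product of tuples. -/
def mul : T n → T n → T n
  | (a, b, c, d), (e, f, g, h) => (a * e + b * g, a * f + b * h, c * e + d * g, c * f + d * h)

/-- The unit tuple. -/
def one : T n := (1, 0, 0, 1)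

/-- The scalar tuple. -/
def scal (s : ZMod n) : T n := (s, 0, 0, s)

/-- The tuple of a matrix. -/
def toT (M : Matrix (Fin 2) (Fin 2) (ZMod n)) : T n := (M 0 0, M 0 1, M 1 0, M 1 1)

theorem toT_mul (M N : Matrix (Fin 2) (Fin 2) (ZMod n)) : toT (M * N) = mul (toT M) (toT N) := by
  simp [toT, mul, Matrix.mul_apply, Fin.sum_univ_two]

theorem toT_one : toT (1 : Matrix (Fin 2) (Fin 2) (ZMod n)) = one := by simp [toT, one]

theorem toT_injective : Function.Injective (toT (n := n)) := by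
  intro M N h
  simp only [toT, Prod.mk.injEq] at h
  obtain ⟨h1, h2, h3, h4⟩ := h
  ext i j
  fin_cases i <;> fin_cases j <;> assumption

/-- `L` starts with the unit and each later entry is an earlier one times a generator. -/
def IsGen (gs : List (T n)) (steps : List (ℕ × ℕ)) (L : List (T n)) : Bool :=
  decide (L.getD 0 one = one) && decide (L.length = steps.length + 1) &&
    (List.range steps.length).all fun k =>
      decide ((steps.getD k (0, 0)).1 ≤ k) &&
        decide (L.getD (k + 1) one = mul (L.getD (steps.getD k (0, 0)).1 one)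
          (gs.getD (steps.getD k (0, 0)).2 one))

/-- `det (M - 1) ≠ 0`. -/
def Free (x : T n) : Prop := (x.1 - 1) * (x.2.2.2 - 1) - x.2.1 * x.2.2.1 ≠ 0

instance (x : T n) : Decidable (Free x) := inferInstanceAs (Decidable (_ ≠ _))

variable [NeZero n]

theorem mem_of_build (G : Subgroup (Matrix.GeneralLinearGroup (Fin 2) (ZMod n))) (gs : List (T n))
    (hgs : ∀ t ∈ gs, ∃ g ∈ G, toT (g : Matrix (Fin 2) (Fin 2) (ZMod n)) = t)
    (steps : List (ℕ × ℕ)) (L : List (T n)) (hL : IsGen gs steps L = true) :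
    ∀ t ∈ L, ∃ g ∈ G, toT (g : Matrix (Fin 2) (Fin 2) (ZMod n)) = t := by
  simp only [IsGen, Bool.and_eq_true, decide_eq_true_eq, List.all_eq_true, List.mem_range] at hL
  obtain ⟨⟨h0, hlen⟩, hstep⟩ := hL
  have hgen : ∀ i, ∃ g ∈ G, toT (g : Matrix (Fin 2) (Fin 2) (ZMod n)) = gs.getD i one := by
    intro i
    rcases Nat.lt_or_ge i gs.length with h | h
    · rw [List.getD_eq_getElem _ _ h]
      exact hgs _ (List.getElem_mem h)
    · rw [List.getD_eq_default _ _ h]
      exact ⟨1, one_mem G, toT_one⟩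
  have key : ∀ k, k < L.length → ∃ g ∈ G, toT (g : Matrix (Fin 2) (Fin 2) (ZMod n)) = L.getD k one := by
    intro k
    induction k using Nat.strong_induction_on with
    | _ k ih =>
      intro hk
      rcases k with _ | k
      · exact ⟨1, one_mem G, toT_one.trans h0.symm⟩
      obtain ⟨h1, h2⟩ := hstep k (by omega)
      obtain ⟨a, ha, hae⟩ := ih _ (Nat.lt_succ_of_le h1) (by omega)
      obtain ⟨b, hb, hbe⟩ := hgen (steps.getD k (0, 0)).2
      exact ⟨a * b, mul_mem ha hb, by rw [Units.val_mul, toT_mul, hae, hbe, h2]⟩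
  intro t ht
  obtain ⟨k, hk, rfl⟩ := List.getElem_of_mem ht
  obtain ⟨g, hg, he⟩ := key k hk
  exact ⟨g, hg, he.trans (List.getD_eq_getElem _ _ hk)⟩

/-- The subgroup generated by `S` is read off a list closed under the generators. -/
theorem closure_spec (S : Set (Matrix.GeneralLinearGroup (Fin 2) (ZMod n))) (gs : List (T n))
    (hgs : ∀ t ∈ gs, ∃ g ∈ S, toT (g : Matrix (Fin 2) (Fin 2) (ZMod n)) = t)
    (hS : ∀ g ∈ S, toT (g : Matrix (Fin 2) (Fin 2) (ZMod n)) ∈ gs) (steps : List (ℕ × ℕ)) (L : List (T n))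
    (hL : IsGen gs steps L = true) (hone : one ∈ L)
    (hmul : ∀ x ∈ L, ∀ g ∈ gs, mul x g ∈ L) :
    ∀ g, g ∈ Subgroup.closure S ↔ toT (g : Matrix (Fin 2) (Fin 2) (ZMod n)) ∈ L := by
  intro g
  constructor
  · intro hg
    have hg' : g ∈ Submonoid.closure S := by
      rw [← Subgroup.closure_toSubmonoid_of_finite]
      exact hg
    induction hg' using Submonoid.closure_induction_right with
    | one => rwa [Units.val_one, toT_one]
    | mul_right x hx y hy ih =>
      rw [Units.val_mul, toT_mul]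
      exact hmul _ (ih (by
        have := Subgroup.le_closure_toSubmonoid S hx
        exact this)) _ (hS y hy)
  · intro hg
    obtain ⟨h, hh, he⟩ := mem_of_build (Subgroup.closure S) gs
      (fun t ht => (hgs t ht).imp fun g hg => ⟨Subgroup.subset_closure hg.1, hg.2⟩) steps L hL _ hg
    rwa [← Units.ext (toT_injective he)]

theorem card_of_spec (G : Subgroup (Matrix.GeneralLinearGroup (Fin 2) (ZMod n))) (L : List (T n))
    (h : ∀ g, g ∈ G ↔ toT (g : Matrix (Fin 2) (Fin 2) (ZMod n)) ∈ L)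
    (hall : ∀ t ∈ L, ∃ g ∈ G, toT (g : Matrix (Fin 2) (Fin 2) (ZMod n)) = t) (hnd : L.Nodup) :
    Nat.card G = L.length := by
  classical
  rw [← List.toFinset_card_of_nodup hnd, ← Nat.card_eq_finsetCard]
  refine Nat.card_eq_of_bijective (fun g => ⟨toT ((g : Matrix.GeneralLinearGroup (Fin 2) (ZMod n)) :
    Matrix (Fin 2) (Fin 2) (ZMod n)), List.mem_toFinset.2 ((h g).1 g.2)⟩) ⟨?_, ?_⟩
  · intro a b hab
    exact Subtype.ext (Units.ext (toT_injective (congrArg Subtype.val hab)))
  · rintro ⟨t, ht⟩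
    obtain ⟨g, hg, he⟩ := hall t (List.mem_toFinset.1 ht)
    exact ⟨⟨g, hg⟩, Subtype.ext he⟩

/-- A group of order `n ^ 2 - 1` without eigenvalue one is regular on nonzero vectors. -/
theorem regular [Fact n.Prime] (G : Subgroup (Matrix.GeneralLinearGroup (Fin 2) (ZMod n)))
    (hcard : Nat.card G = n ^ 2 - 1)
    (hfree : ∀ g ∈ G, g ≠ 1 → Free (toT (g : Matrix (Fin 2) (Fin 2) (ZMod n))))
    (v w : Fin 2 → ZMod n) (hv : v ≠ 0) (hw : w ≠ 0) :
    ∃! h : G, Matrix.mulVec ((h : Matrix.GeneralLinearGroup (Fin 2) (ZMod n)) :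
      Matrix (Fin 2) (Fin 2) (ZMod n)) v = w := by
  classical
  have hfix : ∀ g ∈ G, ∀ u : Fin 2 → ZMod n, u ≠ 0 →
      Matrix.mulVec (g : Matrix (Fin 2) (Fin 2) (ZMod n)) u = u → g = 1 := by
    intro g hg u hu he
    by_contra hne
    refine hfree g hg hne ?_
    have hdet : ((g : Matrix (Fin 2) (Fin 2) (ZMod n)) - 1).det = 0 :=
      Matrix.exists_mulVec_eq_zero_iff.1 ⟨u, hu, by rw [Matrix.sub_mulVec, he, Matrix.one_mulVec, sub_self]⟩
    rw [Matrix.det_fin_two] at hdet
    simpa [toT] using hdet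
  have hne : ∀ (g : Matrix.GeneralLinearGroup (Fin 2) (ZMod n)) (u : Fin 2 → ZMod n), u ≠ 0 →
      Matrix.mulVec (g : Matrix (Fin 2) (Fin 2) (ZMod n)) u ≠ 0 := by
    intro g u hu h
    refine hu ?_
    have h2 : Matrix.mulVec ((g⁻¹ * g : Matrix.GeneralLinearGroup (Fin 2) (ZMod n)) :
        Matrix (Fin 2) (Fin 2) (ZMod n)) u = 0 := by
      rw [Units.val_mul, ← Matrix.mulVec_mulVec, h, Matrix.mulVec_zero]
    rwa [inv_mul_cancel, Units.val_one, Matrix.one_mulVec] at h2
  let f : G → {u : Fin 2 → ZMod n // u ≠ 0} := fun g => ⟨_, hne g.1 v hv⟩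
  have hinj : Function.Injective f := by
    intro a b hab
    have h1 := congrArg Subtype.val hab
    simp only [f] at h1
    have h2 : (b.1)⁻¹ * a.1 = 1 := hfix _ (mul_mem (inv_mem b.2) a.2) v hv (by
      rw [Units.val_mul, ← Matrix.mulVec_mulVec, h1, Matrix.mulVec_mulVec, ← Units.val_mul,
        inv_mul_cancel, Units.val_one, Matrix.one_mulVec])
    exact (Subtype.ext (inv_mul_eq_one.1 h2)).symm
  haveI := Fintype.ofFinite G
  have hsurj : Function.Surjective f := by
    refine ((Fintype.bijective_iff_injective_and_card f).2 ⟨hinj, ?_⟩).2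
    rw [← Nat.card_eq_fintype_card, hcard, Fintype.card_subtype_compl, Fintype.card_subtype_eq,
      Fintype.card_pi_const, ZMod.card]
  obtain ⟨g, hg⟩ := hsurj ⟨w, hw⟩
  exact ⟨g, congrArg Subtype.val hg, fun b hb => hinj (Subtype.ext (hb.trans (congrArg Subtype.val hg).symm))⟩

end CfsgLib.SmallMat
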