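/-
Witt's construction of transitive extensions.
-/
import Mathlib.GroupTheory.GroupAction.MultipleTransitivity
import Mathlib.GroupTheory.GroupAction.FixingSubgroup
import Mathlib.GroupTheory.OrderOfElement
import Mathlib.Tactic.Group

set_option autoImplicit false

namespace CfsgLib.WittExtension

open MulAction Subgroup

variable {M α : Type*} [Group M] [Finite M] [MulAction M α]

omit [MulAction M α] in
theorem conj_inv_mem {A : Subgroup M} {s : M} (h : ∀ a ∈ A, s * a * s⁻¹ ∈ A) {a : M} (ha : a ∈ A) :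
    s⁻¹ * a * s ∈ A := by
  have hp : ∀ n : ℕ, ∀ a ∈ A, s ^ n * a * (s ^ n)⁻¹ ∈ A := by
    intro n
    induction n with
    | zero => intro a ha; simpa using ha
    | succ n ih =>
      intro a ha
      have := ih _ (h a ha)
      convert this using 1
      rw [pow_succ]; group
  obtain ⟨n, hn⟩ := (isOfFinOrder_of_finite s).mem_powers_iff_mem_zpowers.mpr
    (Subgroup.inv_mem _ (Subgroup.mem_zpowers s))
  have := hp n a ha
  rwa [show s ^ n = s⁻¹ from hn, inv_inv] at this

omit [MulAction M α] in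
/-- The double coset step. -/
theorem mem_or_mem_doubleCoset {A B : Subgroup M} {s u : M} (hAB : A ≤ B) (hu : u ∈ B)
    (hdec : ∀ b ∈ B, b ∈ A ∨ ∃ a ∈ A, ∃ a' ∈ A, b = a * u * a')
    (hs : ∀ a ∈ A, s * a * s⁻¹ ∈ A) (hs2 : s * s ∈ B) (hus : (u * s) ^ 3 ∈ B)
    {x : M} (hx : x ∈ closure ((B : Set M) ∪ {s})) :
    x ∈ B ∨ ∃ b ∈ B, ∃ b' ∈ B, x = b * s * b' := by
  have hsinv : s⁻¹ = s * (s * s)⁻¹ := by group
  have hsus : ∃ b ∈ B, ∃ b' ∈ B, s * u * s = b * s * b' := by
    refine ⟨u⁻¹ * (u * s) ^ 3, B.mul_mem (B.inv_mem hu) hus, (s * s)⁻¹ * u⁻¹,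
      B.mul_mem (B.inv_mem hs2) (B.inv_mem hu), ?_⟩
    simp only [pow_succ, pow_zero, one_mul]
    group
  -- left multiplication by `s`
  have hsbs : ∀ b ∈ B, s * b * s ∈ B ∨ ∃ c ∈ B, ∃ c' ∈ B, s * b * s = c * s * c' := by
    intro b hb
    rcases hdec b hb with ha | ⟨a, ha, a', ha', rfl⟩
    · left
      rw [show s * b * s = (s * b * s⁻¹) * (s * s) by group]
      exact B.mul_mem (hAB (hs b ha)) hs2
    · right
      obtain ⟨c, hc, c', hc', he⟩ := hsus
      refine ⟨(s * a * s⁻¹) * c, B.mul_mem (hAB (hs a ha)) hc, c' * (s⁻¹ * a' * s),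
        B.mul_mem hc' (hAB (conj_inv_mem hs ha')), ?_⟩
      calc s * (a * u * a') * s = (s * a * s⁻¹) * (s * u * s) * (s⁻¹ * a' * s) := by group
        _ = (s * a * s⁻¹) * c * s * (c' * (s⁻¹ * a' * s)) := by rw [he]; group
  induction hx using Subgroup.closure_induction_left with
  | one => exact Or.inl B.one_mem
  | mul_left g hg y _ ih =>
    rcases hg with hg | hg
    · rcases ih with h | ⟨b, hb, b', hb', rfl⟩
      · exact Or.inl (B.mul_mem hg h)
      · exact Or.inr ⟨g * b, B.mul_mem hg hb, b', hb', by group⟩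
    · rw [Set.mem_singleton_iff] at hg
      subst hg
      rcases ih with h | ⟨b, hb, b', hb', rfl⟩
      · exact Or.inr ⟨1, B.one_mem, y, h, by group⟩
      · rcases hsbs b hb with h | ⟨c, hc, c', hc', he⟩
        · exact Or.inl (by rw [show g * (b * g * b') = g * b * g * b' by group]; exact B.mul_mem h hb')
        · exact Or.inr ⟨c, hc, c' * b', B.mul_mem hc' hb', by
            rw [show g * (b * g * b') = g * b * g * b' by group, he]; group⟩
  | inv_mul_cancel g hg y _ ih =>
    rcases hg with hg | hg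
    · rcases ih with h | ⟨b, hb, b', hb', rfl⟩
      · exact Or.inl (B.mul_mem (B.inv_mem hg) h)
      · exact Or.inr ⟨g⁻¹ * b, B.mul_mem (B.inv_mem hg) hb, b', hb', by group⟩
    · rw [Set.mem_singleton_iff] at hg
      subst hg
      rw [hsinv]
      rcases ih with h | ⟨b, hb, b', hb', rfl⟩
      · exact Or.inr ⟨1, B.one_mem, (g * g)⁻¹ * y, B.mul_mem (B.inv_mem hs2) h, by group⟩
      · rcases hsbs ((g * g)⁻¹ * b) (B.mul_mem (B.inv_mem hs2) hb) with h | ⟨c, hc, c', hc', he⟩
        · refine Or.inl ?_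
          rw [show g * (g * g)⁻¹ * (b * g * b') = g * ((g * g)⁻¹ * b) * g * b' by group]
          exact B.mul_mem h hb'
        · exact Or.inr ⟨c, hc, c' * b', B.mul_mem hc' hb', by
            rw [show g * (g * g)⁻¹ * (b * g * b') = g * ((g * g)⁻¹ * b) * g * b' by group, he]; group⟩

/-- Witt's lemma. -/
theorem main (t : ℕ) (ht : 2 ≤ t) (q : ℕ → α)
    (hq : ∀ i j : ℕ, 1 ≤ i → i ≤ t → 1 ≤ j → j ≤ t → q i = q j → i = j) (G : Subgroup M)
    (hfix : ∀ g ∈ G, ∀ i : ℕ, 3 ≤ i → i ≤ t → g • q i = q i)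
    (h2 : ∀ a b c d : α, (∀ i, 3 ≤ i → i ≤ t → a ≠ q i ∧ b ≠ q i ∧ c ≠ q i ∧ d ≠ q i) → a ≠ b →
      c ≠ d → ∃ g ∈ G, g • a = c ∧ g • b = d)
    (s : ℕ → M) (hs1 : s 1 ∈ G) (hs1q : s 1 • q 1 = q 2 ∧ s 1 • q 2 = q 1)
    (hsq : ∀ i : ℕ, 2 ≤ i → i + 1 ≤ t → s i • q i = q (i + 1) ∧ s i • q (i + 1) = q i ∧
      ∀ j : ℕ, 1 ≤ j → j ≤ t → j ≠ i → j ≠ i + 1 → s i • q j = q j)
    (hsq2 : ∀ i : ℕ, 1 ≤ i → i + 1 ≤ t → s i ^ 2 ∈ G ⊓ stabilizer M (q 1) ⊓ stabilizer M (q 2))
    (hbraid : ∀ i : ℕ, 1 ≤ i → i + 2 ≤ t →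
      (s i * s (i + 1)) ^ 3 ∈ G ⊓ stabilizer M (q 1) ⊓ stabilizer M (q 2))
    (hcomm : ∀ i j : ℕ, 1 ≤ i → i + 2 ≤ j → j + 1 ≤ t →
      (s j * s i) ^ 2 ∈ G ⊓ stabilizer M (q 1) ⊓ stabilizer M (q 2))
    (hnorm : ∀ i : ℕ, 2 ≤ i → i + 1 ≤ t → ∀ g ∈ G ⊓ stabilizer M (q 2),
      s i * g * (s i)⁻¹ ∈ G ⊓ stabilizer M (q 2)) :
    (∀ x : ℕ → α, (∀ i j, 1 ≤ i → i ≤ t → 1 ≤ j → j ≤ t → x i = x j → i = j) →
      ∃ k ∈ closure ((G : Set M) ∪ {x | ∃ i : ℕ, 2 ≤ i ∧ i + 1 ≤ t ∧ x = s i}),
        ∀ i, 1 ≤ i → i ≤ t → k • x i = q i) ∧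
    ∀ k : M, (k ∈ closure ((G : Set M) ∪ {x | ∃ i : ℕ, 2 ≤ i ∧ i + 1 ≤ t ∧ x = s i}) ∧
      ∀ i, 1 ≤ i → i ≤ t → k • q i = q i) ↔ k ∈ G ⊓ stabilizer M (q 1) ⊓ stabilizer M (q 2) := by
  classical
  let H := G ⊓ stabilizer M (q 1) ⊓ stabilizer M (q 2)
  let K : ℕ → Subgroup M := fun m => if m ≤ 1 then G ⊓ stabilizer M (q 2) else
    closure ((G : Set M) ∪ {x | ∃ i : ℕ, 2 ≤ i ∧ i + 1 ≤ m ∧ x = s i})
  have hK1 : K 1 = G ⊓ stabilizer M (q 2) := if_pos le_rfl
  have hKeq : ∀ m, 2 ≤ m → K m = closure ((G : Set M) ∪ {x | ∃ i : ℕ, 2 ≤ i ∧ i + 1 ≤ m ∧ x = s i}) :=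
    fun m hm => if_neg (by omega)
  have hK2 : K 2 = G := by
    rw [hKeq 2 le_rfl]
    refine le_antisymm ((closure_le _).mpr (Set.union_subset subset_rfl ?_)) fun g hg =>
      subset_closure (Or.inl hg)
    rintro x ⟨i, h1, h2', -⟩
    omega
  have hKsucc : ∀ m, 2 ≤ m → K (m + 1) = closure ((K m : Set M) ∪ {s m}) := by
    intro m hm
    rw [hKeq _ (by omega), hKeq _ hm]
    refine le_antisymm ((closure_le _).mpr ?_) ((closure_le _).mpr ?_)
    · rintro x (hx | ⟨i, h1, h2', rfl⟩)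
      · exact subset_closure (Or.inl (subset_closure (Or.inl hx)))
      · rcases Nat.eq_or_lt_of_le (show i ≤ m by omega) with rfl | hlt
        · exact subset_closure (Or.inr rfl)
        · exact subset_closure (Or.inl (subset_closure (Or.inr ⟨i, h1, hlt, rfl⟩)))
    · rintro x (hx | hx)
      · refine (closure_mono (Set.union_subset_union_right _ ?_)) hx
        rintro y ⟨i, h1, h2', rfl⟩
        exact ⟨i, h1, by omega, rfl⟩
      · rw [Set.mem_singleton_iff] at hx
        exact subset_closure (Or.inr ⟨m, hm, le_rfl, hx⟩)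
  have hHK : ∀ m, 1 ≤ m → H ≤ K m := by
    intro m hm x hx
    rcases Nat.eq_or_lt_of_le hm with rfl | hlt
    · rw [hK1]; exact ⟨hx.1.1, hx.2⟩
    · rw [hKeq m hlt]; exact subset_closure (Or.inl hx.1.1)
  have hsK : ∀ m, 2 ≤ m → s (m - 1) ∈ K m := by
    intro m hm
    rcases Nat.eq_or_lt_of_le hm with rfl | hlt
    · rw [hK2]; exact hs1
    · rw [hKeq m hm]; exact subset_closure (Or.inr ⟨m - 1, by omega, by omega, rfl⟩)
  -- the invariant
  have key : ∀ m, 2 ≤ m → m ≤ t →
      (∀ k ∈ K m, ∀ j, m < j → j ≤ t → k • q j = q j) ∧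
      (K (m - 1) ≤ K m) ∧
      (∀ k ∈ K m, k ∈ K (m - 1) ∨ ∃ a ∈ K (m - 1), ∃ a' ∈ K (m - 1), k = a * s (m - 1) * a') ∧
      (∀ k ∈ K m, k • q m = q m → k ∈ K (m - 1)) ∧
      (∀ y : α, (∀ j, m < j → j ≤ t → y ≠ q j) → ∃ k ∈ K m, k • y = q m) ∧
      (∀ i, m + 1 ≤ i → i + 1 ≤ t → ∀ k ∈ K m, s i * k * (s i)⁻¹ ∈ K m) := by
    intro m hm
    induction m, hm using Nat.le_induction with
    | base =>
      intro _
      have hq1 : ∀ i, 3 ≤ i → i ≤ t → q 1 ≠ q i ∧ q 2 ≠ q i := fun i h1 h2' =>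
        ⟨fun e => by have := hq 1 i le_rfl (by omega) (by omega) h2' e; omega,
          fun e => by have := hq 2 i (by omega) ht (by omega) h2' e; omega⟩
      have h12 : q 1 ≠ q 2 := fun e => by have := hq 1 2 le_rfl (by omega) (by omega) ht e; omega
      have hdec : ∀ k ∈ G, k • q 2 ≠ q 2 →
          ∃ a ∈ G ⊓ stabilizer M (q 2), ∃ a' ∈ G ⊓ stabilizer M (q 2), k = a * s 1 * a' := by
        intro k hk hne
        obtain ⟨a, ha, ha1, ha2⟩ := h2 (q 1) (q 2) (k • q 2) (q 2) (fun i h1 h2' =>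
          ⟨(hq1 i h1 h2').1, (hq1 i h1 h2').2, fun e => (hq1 i h1 h2').2 (smul_left_cancel k
            (e.trans (hfix k hk i h1 h2').symm)), (hq1 i h1 h2').2⟩) h12 hne
        refine ⟨a, ⟨ha, ha2⟩, (s 1)⁻¹ * a⁻¹ * k, ⟨G.mul_mem (G.mul_mem (G.inv_mem hs1)
          (G.inv_mem ha)) hk, ?_⟩, by group⟩
        show ((s 1)⁻¹ * a⁻¹ * k) • q 2 = q 2
        rw [mul_smul, mul_smul, inv_smul_eq_iff.mpr ha1.symm, inv_smul_eq_iff, hs1q.2]
      rw [hK2, show 2 - 1 = 1 from rfl, hK1]
      refine ⟨fun k hk j h1 h2' => hfix k hk j h1 h2', inf_le_left, fun k hk => ?_,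
        fun k hk hkq => ⟨hk, hkq⟩, fun y hy => ?_, fun i hi hit k hk => ?_⟩
      · by_cases he : k • q 2 = q 2
        · exact Or.inl ⟨hk, he⟩
        · exact Or.inr (hdec k hk he)
      · by_cases he : y = q 2
        · exact ⟨1, G.one_mem, by rw [one_smul, he]⟩
        obtain ⟨g, hg, hg1, -⟩ := h2 y (q 2) (q 2) (q 1) (fun i h1 h2' =>
          ⟨hy i h1 h2', (hq1 i h1 h2').2, (hq1 i h1 h2').2, (hq1 i h1 h2').1⟩) he h12.symm
        exact ⟨g, hg, hg1⟩
      · by_cases he : k • q 2 = q 2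
        · exact (hnorm i (by omega) hit k ⟨hk, he⟩).1
        obtain ⟨a, ha, a', ha', rfl⟩ := hdec k hk he
        rw [show s i * (a * s 1 * a') * (s i)⁻¹ = (s i * a * (s i)⁻¹) * ((s i * s 1) ^ 2 * (s 1)⁻¹ *
          (s i ^ 2)⁻¹) * (s i * a' * (s i)⁻¹) by simp only [pow_succ, pow_zero, one_mul]; group]
        exact G.mul_mem (G.mul_mem (hnorm i (by omega) hit a ha).1
          (G.mul_mem (G.mul_mem (hcomm 1 i le_rfl (by omega) hit).1.1 (G.inv_mem hs1))
            (G.inv_mem (hsq2 i (by omega) hit).1.1))) (hnorm i (by omega) hit a' ha').1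
    | succ m hm ih =>
      intro hmt
      obtain ⟨hfixm, hle, hdec, hstab, htrans, hnor⟩ := ih (by omega)
      rw [Nat.add_sub_cancel]
      have hBle : K m ≤ K (m + 1) := by
        rw [hKsucc m hm]; exact fun x hx => subset_closure (Or.inl hx)
      have hsA : ∀ a ∈ K (m - 1), s m * a * (s m)⁻¹ ∈ K (m - 1) := by
        rcases Nat.eq_or_lt_of_le hm with rfl | hlt
        · rw [show 2 - 1 = 1 from rfl, hK1]; exact hnorm 2 le_rfl hmt
        · -- the previous step
          have hnor' : ∀ k ∈ K (m - 1), s m * k * (s m)⁻¹ ∈ K (m - 1) := by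
            intro k hk
            have hkm := hle hk
            -- `K (m-1)` is generated by `G` and the earlier generators
            rw [hKeq (m - 1) (by omega)] at hk ⊢
            induction hk using Subgroup.closure_induction with
            | mem x hx =>
              rcases hx with hx | ⟨i, h1, h2', rfl⟩
              · by_cases he : x • q 2 = q 2
                · exact subset_closure (Or.inl (hnorm m (by omega) hmt x ⟨hx, he⟩).1)
                · obtain ⟨a, ha, ha1, ha2⟩ := h2 (q 1) (q 2) (x • q 2) (q 2) (fun i h1 h2' => by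
                    have e1 : q 1 ≠ q i := fun e => by
                      have := hq 1 i le_rfl (by omega) (by omega) h2' e; omega
                    have e2 : q 2 ≠ q i := fun e => by
                      have := hq 2 i (by omega) ht (by omega) h2' e; omega
                    exact ⟨e1, e2, fun e => e2 (smul_left_cancel x
                      (e.trans (hfix x hx i h1 h2').symm)), e2⟩)
                    (fun e => by have := hq 1 2 le_rfl (by omega) (by omega) ht e; omega) he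
                  let a' := (s 1)⁻¹ * a⁻¹ * x
                  have ha' : a' ∈ G ⊓ stabilizer M (q 2) :=
                    ⟨G.mul_mem (G.mul_mem (G.inv_mem hs1) (G.inv_mem ha)) hx, by
                      show ((s 1)⁻¹ * a⁻¹ * x) • q 2 = q 2
                      rw [mul_smul, mul_smul, inv_smul_eq_iff.mpr ha1.symm, inv_smul_eq_iff, hs1q.2]⟩
                  rw [show s m * x * (s m)⁻¹ = (s m * a * (s m)⁻¹) * ((s m * s 1) ^ 2 * (s 1)⁻¹ *
                    (s m ^ 2)⁻¹) * (s m * a' * (s m)⁻¹) by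
                      simp only [a', pow_succ, pow_zero, one_mul]; group]
                  refine subset_closure (Or.inl ?_)
                  exact G.mul_mem (G.mul_mem (hnorm m (by omega) hmt a ⟨ha, ha2⟩).1
                    (G.mul_mem (G.mul_mem (hcomm 1 m le_rfl (by omega) hmt).1.1 (G.inv_mem hs1))
                      (G.inv_mem (hsq2 m (by omega) hmt).1.1))) (hnorm m (by omega) hmt a' ha').1
              · rw [show s m * s i * (s m)⁻¹ = (s m * s i) ^ 2 * (s i)⁻¹ * (s m ^ 2)⁻¹ by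
                  simp only [pow_succ, pow_zero, one_mul]; group]
                refine mul_mem (mul_mem ?_ (inv_mem (subset_closure (Or.inr ⟨i, h1, h2', rfl⟩))))
                  (inv_mem (subset_closure (Or.inl (hsq2 m (by omega) hmt).1.1)))
                exact subset_closure (Or.inl (hcomm i m (by omega) (by omega) hmt).1.1)
            | one => simp
            | mul x y hx hy ihx ihy =>
              have := mul_mem (ihx (hle (by rw [hKeq (m - 1) (by omega)]; exact hx)))
                (ihy (hle (by rw [hKeq (m - 1) (by omega)]; exact hy)))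
              convert this using 1
              group
            | inv x hx ihx =>
              have := inv_mem (ihx (hle (by rw [hKeq (m - 1) (by omega)]; exact hx)))
              convert this using 1
              group
          exact hnor'
      have hbr : (s (m - 1) * s m) ^ 3 ∈ K m := by
        have := hbraid (m - 1) (by omega) (by omega)
        rw [show m - 1 + 1 = m by omega] at this
        exact hHK m (by omega) this
      have hdec' : ∀ k ∈ K (m + 1), k ∈ K m ∨ ∃ b ∈ K m, ∃ b' ∈ K m, k = b * s m * b' := by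
        intro k hk
        rw [hKsucc m hm] at hk
        exact mem_or_mem_doubleCoset hle (hsK m hm) hdec hsA
          (by rw [← pow_two]; exact hHK m (by omega) (hsq2 m (by omega) hmt)) hbr hk
      have hqne : ∀ i j, 1 ≤ i → i ≤ t → 1 ≤ j → j ≤ t → i ≠ j → q i ≠ q j :=
        fun i j a b c d h e => h (hq i j a b c d e)
      refine ⟨fun k hk j h1 h2' => ?_, hBle, hdec', fun k hk hkq => ?_, fun y hy => ?_,
        fun i hi hit k hk => ?_⟩
      · rcases hdec' k hk with h | ⟨b, hb, b', hb', rfl⟩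
        · exact hfixm k h j (by omega) h2'
        · rw [mul_smul, mul_smul, hfixm b' hb' j (by omega) h2',
            (hsq m (by omega) hmt).2.2 j (by omega) h2' (by omega) (by omega),
            hfixm b hb j (by omega) h2']
      · rcases hdec' k hk with h | ⟨b, hb, b', hb', rfl⟩
        · exact h
        · exfalso
          rw [mul_smul, mul_smul, hfixm b' hb' (m + 1) (by omega) hmt, (hsq m (by omega) hmt).2.1]
            at hkq
          exact hqne m (m + 1) (by omega) (by omega) (by omega) hmt (by omega)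
            (smul_left_cancel b (hkq.trans (hfixm b hb (m + 1) (by omega) hmt).symm))
      · by_cases he : y = q (m + 1)
        · exact ⟨1, (K (m + 1)).one_mem, by rw [one_smul, he]⟩
        obtain ⟨k, hk, hky⟩ := htrans y (fun j h1 h2' => by
          rcases Nat.eq_or_lt_of_le (show m + 1 ≤ j by omega) with rfl | hlt
          · exact he
          · exact hy j hlt h2')
        refine ⟨s m * k, (K (m + 1)).mul_mem ?_ (hBle hk), by rw [mul_smul, hky, (hsq m (by omega) hmt).1]⟩
        rw [hKsucc m hm]; exact subset_closure (Or.inr rfl)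
      · have hmem : ∀ x ∈ K m, s i * x * (s i)⁻¹ ∈ K (m + 1) :=
          fun x hx => hBle (hnor i (by omega) hit x hx)
        have hss : s i * s m * (s i)⁻¹ ∈ K (m + 1) := by
          rw [show s i * s m * (s i)⁻¹ = (s i * s m) ^ 2 * (s m)⁻¹ * (s i ^ 2)⁻¹ by
            simp only [pow_succ, pow_zero, one_mul]; group]
          refine mul_mem (mul_mem (hHK _ (by omega) (hcomm m i (by omega) (by omega) hit)) (inv_mem ?_))
            (inv_mem (hHK _ (by omega) (hsq2 i (by omega) hit)))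
          rw [hKsucc m hm]; exact subset_closure (Or.inr rfl)
        rcases hdec' k hk with h | ⟨b, hb, b', hb', rfl⟩
        · exact hmem k h
        · rw [show s i * (b * s m * b') * (s i)⁻¹ =
            (s i * b * (s i)⁻¹) * (s i * s m * (s i)⁻¹) * (s i * b' * (s i)⁻¹) by group]
          exact mul_mem (mul_mem (hmem b hb) hss) (hmem b' hb')
  have hqne : ∀ i j, 1 ≤ i → i ≤ t → 1 ≤ j → j ≤ t → i ≠ j → q i ≠ q j :=
    fun i j a b c d h e => h (hq i j a b c d e)
  have hfixK : ∀ m, 1 ≤ m → m ≤ t → ∀ k ∈ K m, ∀ j, m < j → j ≤ t → k • q j = q j := by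
    intro m h1 h2' k hk j hj hjt
    rcases Nat.eq_or_lt_of_le h1 with rfl | hlt
    · rw [hK1] at hk
      rcases Nat.eq_or_lt_of_le (show 2 ≤ j by omega) with rfl | hlt'
      · exact hk.2
      · exact hfix k hk.1 j hlt' hjt
    · exact (key m hlt h2').1 k hk j hj hjt
  have htup : ∀ m, 1 ≤ m → m ≤ t → ∀ x : ℕ → α,
      (∀ i j, 1 ≤ i → i ≤ m → 1 ≤ j → j ≤ m → x i = x j → i = j) →
      (∀ i, 1 ≤ i → i ≤ m → ∀ j, m < j → j ≤ t → x i ≠ q j) →
      ∃ k ∈ K m, ∀ i, 1 ≤ i → i ≤ m → k • x i = q i := by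
    intro m hm
    induction m, hm using Nat.le_induction with
    | base =>
      intro _ x _ hx
      obtain ⟨g, hg, hg1, hg2⟩ := h2 (x 1) (q 2) (q 1) (q 2) (fun i h1 h2' =>
        ⟨hx 1 le_rfl le_rfl i (by omega) h2', hqne 2 i (by omega) ht (by omega) h2' (by omega),
          hqne 1 i le_rfl (by omega) (by omega) h2' (by omega),
          hqne 2 i (by omega) ht (by omega) h2' (by omega)⟩)
        (hx 1 le_rfl le_rfl 2 (by omega) ht) (hqne 1 2 le_rfl (by omega) (by omega) ht (by omega))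
      refine ⟨g, by rw [hK1]; exact ⟨hg, hg2⟩, fun i h1 h2' => ?_⟩
      rw [show i = 1 by omega]; exact hg1
    | succ m hm ih =>
      intro hmt x hinj hx
      obtain ⟨-, hle, -, -, htrans, -⟩ := key (m + 1) (by omega) hmt
      rw [Nat.add_sub_cancel] at hle
      obtain ⟨k₁, hk₁, hk₁x⟩ := htrans (x (m + 1)) (hx (m + 1) (by omega) le_rfl)
      obtain ⟨k₂, hk₂, hk₂x⟩ := ih (by omega) (fun i => k₁ • x i)
        (fun i j a b c d e => hinj i j a (by omega) c (by omega) (smul_left_cancel k₁ e))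
        (fun i a b j hj hjt e => by
          rcases Nat.eq_or_lt_of_le (show m + 1 ≤ j by omega) with rfl | hlt
          · have := hinj i (m + 1) a (by omega) (by omega) le_rfl
              (smul_left_cancel k₁ (e.trans hk₁x.symm))
            omega
          · exact hx i a (by omega) j hlt hjt (smul_left_cancel k₁
              (e.trans (hfixK (m + 1) (by omega) hmt k₁ hk₁ j hlt hjt).symm)))
      refine ⟨k₂ * k₁, mul_mem (hle hk₂) hk₁, fun i a b => ?_⟩
      rw [mul_smul]
      rcases Nat.eq_or_lt_of_le b with rfl | hlt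
      · rw [hk₁x]; exact hfixK m hm (by omega) k₂ hk₂ _ (by omega) hmt
      · exact hk₂x i a (by omega)
  have hstab : ∀ m, 1 ≤ m → m ≤ t → ∀ k ∈ K m, (∀ i, 1 ≤ i → i ≤ m → k • q i = q i) → k ∈ H := by
    intro m hm
    induction m, hm using Nat.le_induction with
    | base =>
      intro _ k hk h
      rw [hK1] at hk
      exact ⟨⟨hk.1, h 1 le_rfl le_rfl⟩, hk.2⟩
    | succ m hm ih =>
      intro hmt k hk h
      obtain ⟨-, -, -, hst, -, -⟩ := key (m + 1) (by omega) hmt
      refine ih (by omega) k ?_ fun i a b => h i a (by omega)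
      have := hst k hk (h _ (by omega) le_rfl)
      rwa [Nat.add_sub_cancel] at this
  rw [← hKeq t ht]
  refine ⟨fun x hx => htup t (by omega) le_rfl x hx (fun i _ _ j a b => by omega), fun k => ⟨fun h => ?_, fun h => ?_⟩⟩
  · exact hstab t (by omega) le_rfl k h.1 h.2
  · refine ⟨hHK t (by omega) h, fun i a b => ?_⟩
    rcases (show i = 1 ∨ i = 2 ∨ 3 ≤ i by omega) with rfl | rfl | h'
    · exact h.1.2
    · exact h.2
    · exact hfix k h.1.1 i h' b

end CfsgLib.WittExtension
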